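import Cfsg.Agent.Lib.Helper7.StemTwo

/-!
# Killing the 3-part of the kernel of a stem extension over an abelian Sylow 3-subgroup of rank 2

`ker_eq_bot_three_abelian`: `G` has order `9 m` with `3 ∤ m`, commuting elements `a, b` of order 3 generating a
subgroup of order at least 9, an element `t` inverting `a` and centralizing `b`, and an element `t'` inverting
`b`.  Then every finite stem extension of `G` with kernel of exponent 3 is trivial.
-/

set_option autoImplicit false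

namespace Cfsg.Agent.Lib.Helper7.Stem

open Subgroup

universe u v

variable {Γ : Type u} {G : Type v} [Group Γ] [Group G]

section cube

variable (σ : Γ →* G) (hc : σ.ker ≤ center Γ) (hexp : ∀ k ∈ σ.ker, k ^ 3 = 1)
include hc hexp

theorem cube_eq_of_map_eq {x x' : Γ} (h : σ x = σ x') : x ^ 3 = x' ^ 3 := by
  have hk : x⁻¹ * x' ∈ σ.ker := by
    rw [MonoidHom.mem_ker, map_mul, map_inv, h, inv_mul_cancel]
  have hcom : Commute x (x⁻¹ * x') := Subgroup.mem_center_iff.mp (hc hk) x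
  have e : x' = x * (x⁻¹ * x') := by group
  rw [e, hcom.mul_pow, hexp _ hk, mul_one]

theorem cube_eq_of_conj {x x' g : Γ} (hx : x ^ 3 ∈ σ.ker) (h : σ x' * σ g = σ g * σ x) :
    x' ^ 3 = x ^ 3 := by
  have h1 : σ x' = σ (g * x * g⁻¹) := by
    rw [map_mul, map_mul, map_inv, ← h]; group
  rw [cube_eq_of_map_eq σ hc hexp h1]
  have hcen := Subgroup.mem_center_iff.mp (hc hx) g
  have : (g * x * g⁻¹) ^ 3 = g * x ^ 3 * g⁻¹ := by
    rw [pow_succ, pow_two, pow_succ, pow_two]; group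
  rw [this, hcen]; group

/-- A lift of an element of order 3 that is conjugate to its inverse has order dividing 3. -/
theorem cube_eq_one_of_real {a t : G} (ha : a ^ 3 = 1) (hta : t * a = a * a * t) {a' : Γ}
    (ha' : σ a' = a) (hsurj : Function.Surjective σ) : a' ^ 3 = 1 := by
  obtain ⟨t', ht'⟩ := hsurj t
  have hker : a' ^ 3 ∈ σ.ker := by rw [MonoidHom.mem_ker, map_pow, ha', ha]
  have h1 : (a' * a') ^ 3 = a' ^ 3 :=
    cube_eq_of_conj σ hc hexp hker (g := t') (by rw [map_mul, ha', ht', hta])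
  have h2 : (a' * a') ^ 3 = a' ^ 3 * a' ^ 3 := by
    rw [← pow_two, ← pow_mul, ← pow_add]
  rw [h2] at h1
  exact mul_left_cancel (a := a' ^ 3) (by rw [h1, mul_one])

end cube

theorem ker_eq_bot_three_abelian [Finite Γ] [Finite G] (σ : Γ →* G) (hσ : Cfsg.IsStemExtension σ)
    (hexp : ∀ k ∈ σ.ker, k ^ 3 = 1) (a b t t' : G) (ha : a ^ 3 = 1) (hb : b ^ 3 = 1)
    (hab : a * b = b * a) (hta : t * a = a * a * t) (htb : t * b = b * t)
    (ht'b : t' * b = b * b * t')
    (hP : 9 ≤ Nat.card ↥(zpowers a ⊔ zpowers b))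
    (m : ℕ) (hG : Nat.card G = 9 * m) (hm : Nat.Coprime m 3) : σ.ker = ⊥ := by
  have hcen := hσ.2.1
  have hsurj := hσ.1
  obtain ⟨a', ha'⟩ := hsurj a
  obtain ⟨b', hb'⟩ := hsurj b
  obtain ⟨τ, hτ⟩ := hsurj t
  have ha3 : a' ^ 3 = 1 := cube_eq_one_of_real σ hcen hexp ha hta ha' hsurj
  have hb3 : b' ^ 3 = 1 := cube_eq_one_of_real σ hcen hexp hb ht'b hb' hsurj
  -- the lifts commute
  obtain ⟨κ, hκdef⟩ : ∃ κ, κ = a' * b' * a'⁻¹ * b'⁻¹ := ⟨_, rfl⟩
  have hκker : κ ∈ σ.ker := by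
    rw [hκdef, MonoidHom.mem_ker, map_mul, map_mul, map_mul, map_inv, map_inv, ha', hb', hab]
    group
  have hκc := Subgroup.mem_center_iff.mp (hcen hκker)
  have hrel : a' * b' = κ * b' * a' := by rw [hκdef]; group
  have hrel2 : a' * a' * b' = κ * κ * b' * (a' * a') := by
    calc a' * a' * b' = a' * (a' * b') := by group
      _ = a' * (κ * b' * a') := by rw [hrel]
      _ = (a' * κ) * b' * a' := by group
      _ = (κ * a') * b' * a' := by rw [hκc a']
      _ = κ * (a' * b') * a' := by group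
      _ = κ * (κ * b' * a') * a' := by rw [hrel]
      _ = κ * κ * b' * (a' * a') := by group
  -- conjugate the relation by `τ`
  have hk1 : (a' * a')⁻¹ * (τ * a' * τ⁻¹) ∈ σ.ker := by
    rw [MonoidHom.mem_ker, map_mul, map_inv, map_mul, map_mul, map_mul, map_inv, ha', hτ, hta]
    group
  have hk2 : b'⁻¹ * (τ * b' * τ⁻¹) ∈ σ.ker := by
    rw [MonoidHom.mem_ker, map_mul, map_inv, map_mul, map_mul, map_inv, hb', hτ, htb]
    group
  obtain ⟨k1, hk1def⟩ : ∃ k1, k1 = (a' * a')⁻¹ * (τ * a' * τ⁻¹) := ⟨_, rfl⟩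
  obtain ⟨k2, hk2def⟩ : ∃ k2, k2 = b'⁻¹ * (τ * b' * τ⁻¹) := ⟨_, rfl⟩
  rw [← hk1def] at hk1
  rw [← hk2def] at hk2
  have hk1c := Subgroup.mem_center_iff.mp (hcen hk1)
  have hk2c := Subgroup.mem_center_iff.mp (hcen hk2)
  have e1 : τ * a' * τ⁻¹ = a' * a' * k1 := by rw [hk1def]; group
  have e2 : τ * b' * τ⁻¹ = b' * k2 := by rw [hk2def]; group
  have hconj : (a' * a' * k1) * (b' * k2) = κ * (b' * k2) * (a' * a' * k1) := by
    rw [← e1, ← e2]
    calc τ * a' * τ⁻¹ * (τ * b' * τ⁻¹) = τ * (a' * b') * τ⁻¹ := by group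
      _ = τ * (κ * b' * a') * τ⁻¹ := by rw [hrel]
      _ = (τ * κ) * b' * a' * τ⁻¹ := by group
      _ = (κ * τ) * b' * a' * τ⁻¹ := by rw [hκc τ]
      _ = κ * (τ * b' * τ⁻¹) * (τ * a' * τ⁻¹) := by group
  have hconj2 : a' * a' * b' * (k1 * k2) = κ * b' * (a' * a') * (k1 * k2) := by
    calc a' * a' * b' * (k1 * k2) = a' * a' * (b' * k1) * k2 := by group
      _ = a' * a' * (k1 * b') * k2 := by rw [hk1c b']
      _ = (a' * a' * k1) * (b' * k2) := by group
      _ = κ * (b' * k2) * (a' * a' * k1) := hconj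
      _ = κ * b' * (k2 * (a' * a')) * k1 := by group
      _ = κ * b' * ((a' * a') * k2) * k1 := by rw [← hk2c (a' * a')]
      _ = κ * b' * (a' * a') * (k2 * k1) := by group
      _ = κ * b' * (a' * a') * (k1 * k2) := by rw [hk1c k2]
  have hκ1 : κ = 1 := by
    have h1 := mul_right_cancel hconj2
    rw [hrel2] at h1
    have h2 : κ * κ * (b' * (a' * a')) = κ * (b' * (a' * a')) := by
      calc κ * κ * (b' * (a' * a')) = κ * κ * b' * (a' * a') := by group
        _ = κ * b' * (a' * a') := h1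
        _ = κ * (b' * (a' * a')) := by group
    have h3 := mul_right_cancel h2
    exact mul_left_cancel (a := κ) (by rw [h3, mul_one])
  have hcomm : a' * b' = b' * a' := by rw [hrel, hκ1, one_mul]
  -- the complement
  set Q := zpowers a' ⊔ zpowers b' with hQ
  have hca : Nat.card ↥(zpowers a') ≤ 3 := by
    rw [Nat.card_zpowers]
    exact Nat.le_of_dvd (by norm_num) (orderOf_dvd_of_pow_eq_one ha3)
  have hb_norm : ∀ q ∈ zpowers a', b' * q * b'⁻¹ ∈ zpowers a' := by
    intro q hq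
    have hcq : Commute b' q := by
      obtain ⟨k, rfl⟩ := mem_zpowers_iff.mp hq
      exact (Commute.zpow_right (show Commute b' a' from hcomm.symm) k)
    have : b' * q * b'⁻¹ = q := by rw [hcq.eq]; group
    rw [this]; exact hq
  have hcQ : Nat.card ↥Q ≤ 3 * Nat.card ↥(zpowers a') :=
    card_sup_zpowers_le (by norm_num) (by rw [hb3]; exact one_mem _) hb_norm
  have hcQ9 : Nat.card ↥Q ≤ 9 := by omega
  have hmap : Q.map σ = zpowers a ⊔ zpowers b := by
    rw [hQ, Subgroup.map_sup, MonoidHom.map_zpowers, MonoidHom.map_zpowers, ha', hb']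
  have hcP : 9 ≤ Nat.card ↥(Q.map σ) := by rw [hmap]; exact hP
  have hQker : Q ⊓ σ.ker = ⊥ := inf_ker_eq_bot_of_card_le σ Q (hcQ9.trans hcP)
  have hcardP : Nat.card ↥(Q.map σ) = 9 := le_antisymm ((card_map_le σ Q).trans hcQ9) hcP
  have hidx : (Q.map σ).index = m := by
    have := (Q.map σ).card_mul_index
    rw [hcardP, hG] at this
    omega
  rw [eq_bot_iff]
  intro x hx
  rw [mem_bot]
  have h1 := pow_index_eq_one_of_compl σ hσ Q hQker x hx
  rw [hidx] at h1
  have h2 := hexp x hx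
  have h3 : orderOf x ∣ Nat.gcd m 3 := Nat.dvd_gcd (orderOf_dvd_of_pow_eq_one h1)
    (orderOf_dvd_of_pow_eq_one h2)
  rw [hm, Nat.dvd_one] at h3
  exact orderOf_eq_one_iff.mp h3

end Cfsg.Agent.Lib.Helper7.Stem
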