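import Cfsg.Agent.Lib.Helper7.StemThree

/-!
# Killing the 3-part of the kernel of a stem extension over an extraspecial Sylow 3-subgroup of order 27

`ker_eq_bot_three_extraspecial`: `G` has order `27 m` with `3 ∤ m`, elements `a, b` of order 3 whose commutator
`w` commutes with both, an element `t` inverting `a` and `b` and centralizing `w`, an element `t'` inverting `w`,
and `|⟨w, a, b⟩| ≥ 27`.  Then every finite stem extension of `G` with kernel of exponent 3 is trivial.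
-/

set_option autoImplicit false

namespace Cfsg.Agent.Lib.Helper7.Stem

open Subgroup

universe u v

variable {Γ : Type u} {G : Type v} [Group Γ] [Group G]

/-- If `x` and `y` commute up to a central element `c`, then `x⁻¹` and `y` commute up to `c⁻¹`. -/
theorem comm_inv_of_central {x y c : Γ} (hc : c ∈ center Γ) (h : x * y = c * y * x) :
    x⁻¹ * y = c⁻¹ * y * x⁻¹ := by
  have hc' := mem_center_iff.mp hc
  have h1 : y = x⁻¹ * c * y * x := by
    calc y = x⁻¹ * (x * y) := by group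
      _ = x⁻¹ * (c * y * x) := by rw [h]
      _ = x⁻¹ * c * y * x := by group
  calc x⁻¹ * y = c⁻¹ * (c * x⁻¹) * y := by group
    _ = c⁻¹ * (x⁻¹ * c) * y := by rw [hc' x⁻¹]
    _ = c⁻¹ * (x⁻¹ * c * y * x) * x⁻¹ := by group
    _ = c⁻¹ * y * x⁻¹ := by rw [← h1]

section comm

variable (σ : Γ →* G) (hc : σ.ker ≤ center Γ) (hexp : ∀ k ∈ σ.ker, k ^ 3 = 1)
include hc hexp

/-- Two lifts commuting modulo the kernel commute, as soon as some element inverts the first and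
centralizes the second, modulo the kernel. -/
theorem comm_of_inverting {x y τ : Γ} (hxy : σ x * σ y = σ y * σ x)
    (hτx : σ τ * σ x = (σ x)⁻¹ * σ τ) (hτy : σ τ * σ y = σ y * σ τ) : x * y = y * x := by
  -- the commutator
  obtain ⟨c, hcdef⟩ : ∃ c, c = x * y * x⁻¹ * y⁻¹ := ⟨_, rfl⟩
  have hcker : c ∈ σ.ker := by
    rw [hcdef, MonoidHom.mem_ker, map_mul, map_mul, map_mul, map_inv, map_inv, hxy]
    group
  have hcc := hc hcker
  have hcc' := mem_center_iff.mp hcc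
  have hrel : x * y = c * y * x := by rw [hcdef]; group
  have hrel' : x⁻¹ * y = c⁻¹ * y * x⁻¹ := comm_inv_of_central hcc hrel
  -- conjugates by `τ`
  obtain ⟨k, hkdef⟩ : ∃ k, k = x * (τ * x * τ⁻¹) := ⟨_, rfl⟩
  obtain ⟨l, hldef⟩ : ∃ l, l = y⁻¹ * (τ * y * τ⁻¹) := ⟨_, rfl⟩
  have hk : k ∈ σ.ker := by
    rw [hkdef, MonoidHom.mem_ker, map_mul, map_mul, map_mul, map_inv, hτx]
    group
  have hl : l ∈ σ.ker := by
    rw [hldef, MonoidHom.mem_ker, map_mul, map_inv, map_mul, map_mul, map_inv, hτy]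
    group
  have hk' := mem_center_iff.mp (hc hk)
  have hl' := mem_center_iff.mp (hc hl)
  have e1 : τ * x * τ⁻¹ = x⁻¹ * k := by rw [hkdef]; group
  have e2 : τ * y * τ⁻¹ = y * l := by rw [hldef]; group
  -- conjugate the relation
  have h1 : (x⁻¹ * k) * (y * l) = c * (y * l) * (x⁻¹ * k) := by
    rw [← e1, ← e2]
    calc τ * x * τ⁻¹ * (τ * y * τ⁻¹) = τ * (x * y) * τ⁻¹ := by group
      _ = τ * (c * y * x) * τ⁻¹ := by rw [hrel]
      _ = (τ * c) * y * x * τ⁻¹ := by group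
      _ = (c * τ) * y * x * τ⁻¹ := by rw [hcc' τ]
      _ = c * (τ * y * τ⁻¹) * (τ * x * τ⁻¹) := by group
  have h2 : x⁻¹ * y * (k * l) = c * y * x⁻¹ * (k * l) := by
    calc x⁻¹ * y * (k * l) = x⁻¹ * (y * k) * l := by group
      _ = x⁻¹ * (k * y) * l := by rw [hk' y]
      _ = (x⁻¹ * k) * (y * l) := by group
      _ = c * (y * l) * (x⁻¹ * k) := h1
      _ = c * y * (l * x⁻¹) * k := by group
      _ = c * y * (x⁻¹ * l) * k := by rw [hl' x⁻¹]
      _ = c * y * x⁻¹ * (l * k) := by group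
      _ = c * y * x⁻¹ * (k * l) := by rw [hl' k]
  have h3 : x⁻¹ * y = c * y * x⁻¹ := mul_right_cancel h2
  rw [hrel'] at h3
  have h4 : c⁻¹ = c := by
    have : c⁻¹ * (y * x⁻¹) = c * (y * x⁻¹) := by
      calc c⁻¹ * (y * x⁻¹) = c⁻¹ * y * x⁻¹ := by group
        _ = c * y * x⁻¹ := h3
        _ = c * (y * x⁻¹) := by group
    exact mul_right_cancel this
  have h5 : c * c = 1 := by
    calc c * c = c⁻¹ * c := by rw [h4]
      _ = 1 := inv_mul_cancel c
  have h6 : c = 1 := by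
    have h7 := hexp c hcker
    rw [pow_succ, pow_two, h5, one_mul] at h7
    exact h7
  rw [hrel, h6, one_mul]

end comm

theorem ker_eq_bot_three_extraspecial [Finite Γ] [Finite G] (σ : Γ →* G)
    (hσ : Cfsg.IsStemExtension σ) (hexp : ∀ k ∈ σ.ker, k ^ 3 = 1) (a b w t t' : G)
    (ha : a ^ 3 = 1) (hb : b ^ 3 = 1) (hw : w ^ 3 = 1) (hwdef : a * b = w * b * a)
    (haw : a * w = w * a) (hbw : b * w = w * b)
    (hta : t * a = a * a * t) (htb : t * b = b * b * t) (htw : t * w = w * t)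
    (ht'w : t' * w = w * w * t')
    (hP : 27 ≤ Nat.card ↥(zpowers w ⊔ zpowers a ⊔ zpowers b))
    (m : ℕ) (hG : Nat.card G = 27 * m) (hm : Nat.Coprime m 3) : σ.ker = ⊥ := by
  have hcen := hσ.2.1
  have hsurj := hσ.1
  obtain ⟨a', ha'⟩ := hsurj a
  obtain ⟨b', hb'⟩ := hsurj b
  obtain ⟨τ, hτ⟩ := hsurj t
  have ha3 : a' ^ 3 = 1 := cube_eq_one_of_real σ hcen hexp ha hta ha' hsurj
  have hb3 : b' ^ 3 = 1 := cube_eq_one_of_real σ hcen hexp hb htb hb' hsurj
  obtain ⟨w', hw'def⟩ : ∃ w', w' = a' * b' * a'⁻¹ * b'⁻¹ := ⟨_, rfl⟩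
  have hw' : σ w' = w := by
    rw [hw'def, map_mul, map_mul, map_mul, map_inv, map_inv, ha', hb', hwdef]
    group
  have hw3 : w' ^ 3 = 1 := cube_eq_one_of_real σ hcen hexp hw ht'w hw' hsurj
  have hainv : a⁻¹ = a * a := by
    apply inv_eq_of_mul_eq_one_right
    rw [← ha, pow_succ, pow_two, mul_assoc]
  have hbinv : b⁻¹ = b * b := by
    apply inv_eq_of_mul_eq_one_right
    rw [← hb, pow_succ, pow_two, mul_assoc]
  -- `w'` is central in `⟨a', b'⟩`
  have haw' : a' * w' = w' * a' :=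
    comm_of_inverting σ hcen hexp (τ := τ) (by rw [ha', hw', haw])
      (by rw [hτ, ha', hainv, hta]) (by rw [hτ, hw', htw])
  have hbw' : b' * w' = w' * b' :=
    comm_of_inverting σ hcen hexp (τ := τ) (by rw [hb', hw', hbw])
      (by rw [hτ, hb', hbinv, htb]) (by rw [hτ, hw', htw])
  -- the chain
  set Q0 := zpowers w' with hQ0
  set Q1 := Q0 ⊔ zpowers a' with hQ1
  set Q2 := Q1 ⊔ zpowers b' with hQ2
  have hc0 : Nat.card ↥Q0 ≤ 3 := by
    rw [hQ0, Nat.card_zpowers]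
    exact Nat.le_of_dvd (by norm_num) (orderOf_dvd_of_pow_eq_one hw3)
  have hw'Q0 : w' ∈ Q0 := mem_zpowers w'
  have ha'Q1 : a' ∈ Q1 := (le_sup_right : zpowers a' ≤ Q1) (mem_zpowers a')
  have hQ0Q1 : Q0 ≤ Q1 := le_sup_left
  have ha_norm : ∀ q ∈ Q0, a' * q * a'⁻¹ ∈ Q0 := by
    intro q hq
    have hcq : Commute a' q := by
      obtain ⟨k, rfl⟩ := mem_zpowers_iff.mp hq
      exact (Commute.zpow_right (show Commute a' w' from haw') k)
    have : a' * q * a'⁻¹ = q := by rw [hcq.eq]; group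
    rw [this]; exact hq
  have hc1 : Nat.card ↥Q1 ≤ 3 * Nat.card ↥Q0 :=
    card_sup_zpowers_le (by norm_num) (by rw [ha3]; exact one_mem _) ha_norm
  have hb_norm : ∀ q ∈ Q1, b' * q * b'⁻¹ ∈ Q1 := by
    apply conj_sup_zpowers_mem
    · intro q hq
      have hcq : Commute b' q := by
        obtain ⟨k, rfl⟩ := mem_zpowers_iff.mp hq
        exact (Commute.zpow_right (show Commute b' w' from hbw') k)
      have : b' * q * b'⁻¹ = q := by rw [hcq.eq]; group
      rw [this]; exact hQ0Q1 hq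
    · have e : b' * a' * b'⁻¹ = w'⁻¹ * a' := by rw [hw'def]; group
      rw [e]; exact Q1.mul_mem (Q1.inv_mem (hQ0Q1 hw'Q0)) ha'Q1
  have hc2 : Nat.card ↥Q2 ≤ 3 * Nat.card ↥Q1 :=
    card_sup_zpowers_le (by norm_num) (by rw [hb3]; exact one_mem _) hb_norm
  have hcQ : Nat.card ↥Q2 ≤ 27 := by omega
  have hmap : Q2.map σ = zpowers w ⊔ zpowers a ⊔ zpowers b := by
    rw [hQ2, hQ1, hQ0, Subgroup.map_sup, Subgroup.map_sup, MonoidHom.map_zpowers,
      MonoidHom.map_zpowers, MonoidHom.map_zpowers, ha', hb', hw']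
  have hcP : 27 ≤ Nat.card ↥(Q2.map σ) := by rw [hmap]; exact hP
  have hQker : Q2 ⊓ σ.ker = ⊥ := inf_ker_eq_bot_of_card_le σ Q2 (hcQ.trans hcP)
  have hcardP : Nat.card ↥(Q2.map σ) = 27 := le_antisymm ((card_map_le σ Q2).trans hcQ) hcP
  have hidx : (Q2.map σ).index = m := by
    have := (Q2.map σ).card_mul_index
    rw [hcardP, hG] at this
    omega
  rw [eq_bot_iff]
  intro x hx
  rw [mem_bot]
  have h1 := pow_index_eq_one_of_compl σ hσ Q2 hQker x hx
  rw [hidx] at h1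
  have h2 := hexp x hx
  have h3 : orderOf x ∣ Nat.gcd m 3 := Nat.dvd_gcd (orderOf_dvd_of_pow_eq_one h1)
    (orderOf_dvd_of_pow_eq_one h2)
  rw [hm, Nat.dvd_one] at h3
  exact orderOf_eq_one_iff.mp h3

end Cfsg.Agent.Lib.Helper7.Stem
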