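import Cfsg.Agent.Lib.Helper7.GolayBits
import Cfsg.Agent.Lib.Helper93.GolayAbstract

/-!
# Facts about the concrete `golayCode`: 4096 words, dimension 12, self-orthogonal, `IsGolayLike`,
octads form a Steiner system S(5,8,24).
-/

set_option autoImplicit false

namespace Cfsg.Agent.Lib.Helper7
open Cfsg
open Cfsg.Agent.Lib.Helper93 (IsGolayLike supp)

theorem supp_eq_support₂ (w : GolayPt → ZMod 2) : supp w = support₂ w := rfl

/-- The code has exactly 4096 words. -/
theorem golay_card : Nat.card golayCode = 4096 := by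
  have hbij : Function.Bijective
      (fun c : Fin 4096 => (⟨wordOf (enc c), wordOf_enc_mem c⟩ : golayCode)) := by
    constructor
    · intro c c' h
      have h1 : wordOf (enc c) = wordOf (enc c') := congrArg Subtype.val h
      have h2 := wordOf_injOn (enc_lt c) (enc_lt c') h1
      exact Fin.ext (enc_injOn c.isLt c'.isLt h2)
    · rintro ⟨w, hw⟩
      obtain ⟨c, hc, rfl⟩ := (mem_golayCode_iff w).mp hw
      exact ⟨⟨c, hc⟩, rfl⟩
  rw [← Nat.card_eq_of_bijective _ hbij]
  simp

/-- The code has dimension 12 (this is statement S0358). -/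
theorem golay_finrank : Module.finrank (ZMod 2) golayCode = 12 := by
  have h := Module.natCard_eq_pow_finrank (K := ZMod 2) (V := golayCode)
  rw [golay_card] at h
  have h2 : Nat.card (ZMod 2) = 2 := by simp
  rw [h2] at h
  have : (2 : ℕ) ^ 12 = 2 ^ Module.finrank (ZMod 2) golayCode := by
    rw [← h]; norm_num
  exact (Nat.pow_right_injective (le_refl 2) this).symm

/-- The code is self-orthogonal (this is statement S0362). -/
theorem golay_orth (v w : GolayPt → ZMod 2) (hv : v ∈ golayCode) (hw : w ∈ golayCode) :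
    ∑ i, v i * w i = 0 := by
  rw [Cfsg.Agent.Lib.Helper93.dot_eq_card_inter]
  have h1 := Cfsg.Agent.Lib.Helper93.card_supp_add v w
  obtain ⟨a, ha⟩ := golay_doubly_even hv
  obtain ⟨b, hb⟩ := golay_doubly_even hw
  obtain ⟨c, hc⟩ := golay_doubly_even (golayCode.add_mem hv hw)
  simp only [supp_eq_support₂] at h1 ⊢
  rw [ZMod.natCast_eq_zero_iff_even]
  exact ⟨a + b - c, by omega⟩

theorem golay_isGolayLike : IsGolayLike golayCode where
  card_pts := by decide
  finrank_eq := golay_finrank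
  orth := fun v hv w hw => golay_orth v w hv hw
  minwt := fun w hw h0 => golay_min_weight hw h0

theorem mem_octads_iff (o : Finset GolayPt) :
    o ∈ octads ↔ ∃ w ∈ golayCode, support₂ w = o ∧ o.card = 8 := by
  unfold octads wordsOfWeight supports
  simp only [Set.mem_ofPred_eq, Set.mem_image, SetLike.mem_coe]
  constructor
  · rintro ⟨⟨w, hw, rfl⟩, h8⟩
    exact ⟨w, hw, rfl, h8⟩
  · rintro ⟨w, hw, rfl, h8⟩
    exact ⟨⟨w, hw, rfl⟩, h8⟩

theorem mem_dodecads_iff (o : Finset GolayPt) :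
    o ∈ dodecads ↔ ∃ w ∈ golayCode, support₂ w = o ∧ o.card = 12 := by
  unfold dodecads wordsOfWeight supports
  simp only [Set.mem_ofPred_eq, Set.mem_image, SetLike.mem_coe]
  constructor
  · rintro ⟨⟨w, hw, rfl⟩, h8⟩
    exact ⟨w, hw, rfl, h8⟩
  · rintro ⟨w, hw, rfl, h8⟩
    exact ⟨⟨w, hw, rfl⟩, h8⟩

/-- The octads form a Steiner system S(5,8,24) (this is statement S0363). -/
theorem octads_steiner : IsSteinerSystem 5 8 octads := by
  refine ⟨fun b hb => ?_, fun s hs => ?_⟩
  · obtain ⟨w, _, _, h8⟩ := (mem_octads_iff b).mp hb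
    exact h8
  · obtain ⟨b, ⟨⟨c, hc, hcb, h8⟩, hsb⟩, huniq⟩ := golay_isGolayLike.steiner s hs
    refine ⟨b, ⟨(mem_octads_iff b).mpr ⟨c, hc, hcb, h8⟩, hsb⟩, ?_⟩
    rintro b' ⟨hb', hsb'⟩
    obtain ⟨c', hc', hcb', h8'⟩ := (mem_octads_iff b').mp hb'
    exact huniq b' ⟨⟨c', hc', hcb', h8'⟩, hsb'⟩

/-- Two octads sharing at least five points are equal. -/
theorem octad_eq_of_five {o o' : Finset GolayPt} (ho : o ∈ octads) (ho' : o' ∈ octads)
    (h : 5 ≤ (o ∩ o').card) : o = o' := by
  obtain ⟨s, hs, hs5⟩ := Finset.exists_subset_card_eq h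
  obtain ⟨b, _, huniq⟩ := octads_steiner.2 s hs5
  rw [huniq o ⟨ho, hs.trans Finset.inter_subset_left⟩,
    huniq o' ⟨ho', hs.trans Finset.inter_subset_right⟩]

end Cfsg.Agent.Lib.Helper7
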