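import Cfsg.Agent.Lib.Helper7.M24Mem
import Cfsg.Agent.Lib.Helper7.GolayFacts

/-!
# Elements of `M24` preserve the code, the octads and the dodecads; fixed-point propagation
-/

set_option autoImplicit false

namespace Cfsg.Agent.Lib.Helper7
open Cfsg
open scoped Pointwise

theorem support₂_injective {α : Type*} [Fintype α] :
    Function.Injective (support₂ : (α → ZMod 2) → Finset α) := by
  intro v w h
  funext i
  have : i ∈ support₂ v ↔ i ∈ support₂ w := by rw [h]
  simp only [support₂, Finset.mem_filter, Finset.mem_univ, true_and] at this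
  have hc : ∀ a : ZMod 2, a = 0 ∨ a = 1 := by decide
  rcases hc (v i) with hv | hv <;> rcases hc (w i) with hw | hw <;>
    simp_all

/-- `σ • s` for a permutation `σ` and a finset `s`, membership. -/
theorem mem_perm_smul_finset {α : Type*} [DecidableEq α] (σ : Equiv.Perm α) (s : Finset α)
    (p : α) : p ∈ σ • s ↔ σ.symm p ∈ s := by
  rw [Finset.mem_smul_finset]
  constructor
  · rintro ⟨q, hq, rfl⟩
    simpa using hq
  · intro h
    exact ⟨σ.symm p, h, by simp⟩

theorem apply_mem_perm_smul_finset {α : Type*} [DecidableEq α] (σ : Equiv.Perm α)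
    (s : Finset α) (p : α) : σ p ∈ σ • s ↔ p ∈ s := by
  rw [mem_perm_smul_finset]; simp

/-- Elements of `M24` map supports of code words to supports of code words. -/
theorem smul_mem_supports_of_mem_M24 {σ : Equiv.Perm GolayPt} (hσ : σ ∈ M24)
    {s : Finset GolayPt} (hs : s ∈ supports (golayCode : Set (GolayPt → ZMod 2))) :
    σ • s ∈ supports (golayCode : Set (GolayPt → ZMod 2)) := by
  have h : σ • supports (golayCode : Set (GolayPt → ZMod 2)) = supports (golayCode : Set _) :=
    MulAction.mem_stabilizer_iff.mp hσ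
  rw [← h]
  exact Set.smul_mem_smul_set hs

/-- Elements of `M24` preserve the code (as a set of words). -/
theorem permWord_mem_of_mem_M24 {σ : Equiv.Perm GolayPt} (hσ : σ ∈ M24)
    {w : GolayPt → ZMod 2} (hw : w ∈ golayCode) : permWord σ w ∈ golayCode := by
  have hinv : σ⁻¹ ∈ M24 := M24.inv_mem hσ
  have h1 : σ⁻¹ • support₂ w ∈ supports (golayCode : Set (GolayPt → ZMod 2)) :=
    smul_mem_supports_of_mem_M24 hinv ⟨w, hw, rfl⟩
  obtain ⟨v, hv, hvs⟩ := h1
  have h2 : support₂ (permWord σ w) = σ⁻¹ • support₂ w := by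
    rw [← support₂_comp_symm]
    rfl
  have : permWord σ w = v := support₂_injective (by rw [h2, hvs])
  rw [this]
  exact hv

theorem card_perm_smul_finset {α : Type*} [DecidableEq α] (σ : Equiv.Perm α) (s : Finset α) :
    (σ • s).card = s.card :=
  Finset.card_smul_finset σ s

theorem smul_mem_octads {σ : Equiv.Perm GolayPt} (hσ : σ ∈ M24) {o : Finset GolayPt}
    (ho : o ∈ octads) : σ • o ∈ octads := by
  refine ⟨smul_mem_supports_of_mem_M24 hσ ho.1, ?_⟩
  rw [card_perm_smul_finset]
  exact ho.2

theorem smul_mem_dodecads {σ : Equiv.Perm GolayPt} (hσ : σ ∈ M24) {o : Finset GolayPt}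
    (ho : o ∈ dodecads) : σ • o ∈ dodecads := by
  refine ⟨smul_mem_supports_of_mem_M24 hσ ho.1, ?_⟩
  rw [card_perm_smul_finset]
  exact ho.2

/-- An element of `M24` fixing five points of an octad pointwise fixes the octad setwise. -/
theorem smul_octad_eq_of_fixes {σ : Equiv.Perm GolayPt} (hσ : σ ∈ M24) {o : Finset GolayPt}
    (ho : o ∈ octads) {s : Finset GolayPt} (hso : s ⊆ o) (hs : 5 ≤ s.card)
    (hfix : ∀ p ∈ s, σ p = p) : σ • o = o := by
  apply octad_eq_of_five (smul_mem_octads hσ ho) ho
  refine le_trans hs (Finset.card_le_card ?_)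
  intro p hp
  rw [Finset.mem_inter]
  refine ⟨?_, hso hp⟩
  rw [← hfix p hp, apply_mem_perm_smul_finset]
  exact hso hp

/-- An element of `M24` mapping five points of an octad `o` into an octad `o'` maps `o` to `o'`. -/
theorem smul_octad_eq_of_maps {σ : Equiv.Perm GolayPt} (hσ : σ ∈ M24) {o o' : Finset GolayPt}
    (ho : o ∈ octads) (ho' : o' ∈ octads) {s : Finset GolayPt} (hso : s ⊆ o) (hs : 5 ≤ s.card)
    (hmap : ∀ p ∈ s, σ p ∈ o') : σ • o = o' := by
  apply octad_eq_of_five (smul_mem_octads hσ ho) ho'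
  have hcard : (σ • s).card = s.card := card_perm_smul_finset σ s
  refine le_trans (hcard ▸ hs) (Finset.card_le_card ?_)
  intro p hp
  rw [Finset.mem_smul_finset] at hp
  obtain ⟨q, hq, rfl⟩ := hp
  rw [Finset.mem_inter]
  exact ⟨(apply_mem_perm_smul_finset σ o q).mpr (hso hq), hmap q hq⟩

/-! ### Octad masks -/

/-- Computable test: `m` is the mask of an octad. -/
def isOctadMask (m : ℕ) : Bool := (enc (m % 4096) == m) && (pc m == 8)

/-- Computable test: `m` is the mask of a dodecad. -/
def isDodecadMask (m : ℕ) : Bool := (enc (m % 4096) == m) && (pc m == 12)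

theorem setOf_mem_supports {m : ℕ} (h : enc (m % 4096) = m) :
    setOf m ∈ supports (golayCode : Set (GolayPt → ZMod 2)) := by
  refine ⟨wordOf m, ?_, support₂_wordOf m⟩
  rw [← h]
  exact wordOf_enc_mem _

theorem setOf_mem_octads {m : ℕ} (h : isOctadMask m = true) : setOf m ∈ octads := by
  simp only [isOctadMask, Bool.and_eq_true, beq_iff_eq] at h
  exact ⟨setOf_mem_supports h.1, by rw [card_setOf, h.2]⟩

theorem setOf_mem_dodecads {m : ℕ} (h : isDodecadMask m = true) : setOf m ∈ dodecads := by
  simp only [isDodecadMask, Bool.and_eq_true, beq_iff_eq] at h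
  exact ⟨setOf_mem_supports h.1, by rw [card_setOf, h.2]⟩

/-! ### Fixed point propagation -/

/-- One propagation step: if both `o.1` and `o.2` are octads meeting the fixed set `F` in at
least five points and they have exactly one common point outside `F`, add that point. -/
def propStep (F : ℕ) (o : ℕ × ℕ) : ℕ :=
  if isOctadMask o.1 && isOctadMask o.2 && decide (5 ≤ pc (o.1 &&& F)) &&
      decide (5 ≤ pc (o.2 &&& F)) && (pc (o.1 &&& o.2 &&& (allMask ^^^ F)) == 1) then
    F ||| (o.1 &&& o.2 &&& (allMask ^^^ F))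
  else F

/-- Run a propagation certificate. -/
def propagate (F : ℕ) (cert : List (ℕ × ℕ)) : ℕ := cert.foldl propStep F

theorem mem_setOf_compl {F : ℕ} {p : GolayPt} : p ∈ setOf (allMask ^^^ F) ↔ p ∉ setOf F := by
  simp only [mem_setOf, Nat.testBit_xor, testBit_allMask (idx_lt p)]
  cases F.testBit (idx p) <;> simp

theorem propStep_sound {σ : Equiv.Perm GolayPt} (hσ : σ ∈ M24) (F : ℕ)
    (hF : ∀ p ∈ setOf F, σ p = p) (o : ℕ × ℕ) : ∀ p ∈ setOf (propStep F o), σ p = p := by
  unfold propStep
  split_ifs with h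
  · simp only [Bool.and_eq_true, decide_eq_true_eq, beq_iff_eq] at h
    obtain ⟨⟨⟨⟨h1, h2⟩, h3⟩, h4⟩, h5⟩ := h
    have hp1 : σ • setOf o.1 = setOf o.1 := by
      refine smul_octad_eq_of_fixes hσ (setOf_mem_octads h1) (s := setOf (o.1 &&& F)) ?_ ?_ ?_
      · rw [setOf_and]; exact Finset.inter_subset_left
      · rw [card_setOf]; exact h3
      · intro p hp; rw [setOf_and] at hp; exact hF p (Finset.mem_inter.mp hp).2
    have hp2 : σ • setOf o.2 = setOf o.2 := by
      refine smul_octad_eq_of_fixes hσ (setOf_mem_octads h2) (s := setOf (o.2 &&& F)) ?_ ?_ ?_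
      · rw [setOf_and]; exact Finset.inter_subset_left
      · rw [card_setOf]; exact h4
      · intro p hp; rw [setOf_and] at hp; exact hF p (Finset.mem_inter.mp hp).2
    rw [← card_setOf, Finset.card_eq_one] at h5
    obtain ⟨q, hq⟩ := h5
    have hqmem : q ∈ setOf (o.1 &&& o.2 &&& (allMask ^^^ F)) := by rw [hq]; simp
    have hσq : σ q ∈ setOf (o.1 &&& o.2 &&& (allMask ^^^ F)) := by
      rw [setOf_and, setOf_and, Finset.mem_inter, Finset.mem_inter] at hqmem ⊢
      obtain ⟨⟨hq1, hq2⟩, hq3⟩ := hqmem
      refine ⟨⟨?_, ?_⟩, ?_⟩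
      · rw [← hp1, apply_mem_perm_smul_finset]; exact hq1
      · rw [← hp2, apply_mem_perm_smul_finset]; exact hq2
      · rw [mem_setOf_compl] at hq3 ⊢
        intro hcon
        have := hF (σ q) hcon
        have : σ q = q := σ.injective this
        rw [this] at hcon
        exact hq3 hcon
    rw [hq, Finset.mem_singleton] at hσq
    intro p hp
    rw [setOf_or, Finset.mem_union] at hp
    rcases hp with hp | hp
    · exact hF p hp
    · rw [hq, Finset.mem_singleton] at hp
      rw [hp]; exact hσq
  · exact hF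

theorem propagate_sound {σ : Equiv.Perm GolayPt} (hσ : σ ∈ M24) (cert : List (ℕ × ℕ)) (F : ℕ)
    (hF : ∀ p ∈ setOf F, σ p = p) : ∀ p ∈ setOf (propagate F cert), σ p = p := by
  induction cert generalizing F with
  | nil => exact hF
  | cons o cert ih =>
    simp only [propagate, List.foldl_cons]
    exact ih (propStep F o) (propStep_sound hσ F hF o)

/-- If a propagation certificate reaches the full mask, the permutation is the identity. -/
theorem eq_one_of_propagate {σ : Equiv.Perm GolayPt} (hσ : σ ∈ M24) (cert : List (ℕ × ℕ))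
    (F : ℕ) (hF : ∀ p ∈ setOf F, σ p = p) (hall : propagate F cert = allMask) : σ = 1 := by
  refine Equiv.ext fun p => ?_
  have := propagate_sound hσ cert F hF p (by rw [hall, setOf_allMask]; exact Finset.mem_univ p)
  simpa using this

end Cfsg.Agent.Lib.Helper7
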