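import Cfsg.Agent.Lib.Helper7.Bits

/-!
# Straight-line programs of permutations of the 24 points, with lookup tables

A permutation `σ` of `GolayPt` is *matched* by a table `t : List ℕ` when
`idx (σ p) = t.getD (idx p) 0` for all points `p`.  Tables compose by `compT`, and a straight-line
program (a list of pairs `(i, j)`, meaning "append the product of entries `i` and `j`") is run both
on permutations (`runP`) and on tables (`runT`).
-/

set_option autoImplicit false

namespace Cfsg.Agent.Lib.Helper7
open Cfsg

/-- `t` is the table of `σ`. -/
def Matches (σ : Equiv.Perm GolayPt) (t : List ℕ) : Prop :=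
  ∀ p : GolayPt, idx (σ p) = t.getD (idx p) 0

/-- The identity table. -/
def idT : List ℕ := List.range 24

/-- Composition of tables: table of `σ₁ * σ₂` (apply `σ₂` first). -/
def compT (t1 t2 : List ℕ) : List ℕ := (List.range 24).map fun i => t1.getD (t2.getD i 0) 0

theorem getD_range {n i : ℕ} (h : i < n) : (List.range n).getD i 0 = i := by
  rw [List.getD_eq_getElem _ _ (by simpa using h)]
  simp

theorem matches_one : Matches 1 idT := by
  intro p
  simp only [Equiv.Perm.coe_one, id_eq, idT]
  rw [getD_range (idx_lt p)]

theorem getD_compT (t1 t2 : List ℕ) {i : ℕ} (h : i < 24) :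
    (compT t1 t2).getD i 0 = t1.getD (t2.getD i 0) 0 := by
  unfold compT
  rw [List.getD_eq_getElem _ _ (by simpa using h)]
  simp

theorem matches_mul {σ₁ σ₂ : Equiv.Perm GolayPt} {t1 t2 : List ℕ} (h1 : Matches σ₁ t1)
    (h2 : Matches σ₂ t2) : Matches (σ₁ * σ₂) (compT t1 t2) := by
  intro p
  rw [getD_compT _ _ (idx_lt p), Equiv.Perm.mul_apply, h1, h2]

/-- Run a program on permutations. -/
def runP : List (ℕ × ℕ) → List (Equiv.Perm GolayPt) → List (Equiv.Perm GolayPt)
  | [], st => st
  | (i, j) :: prog, st => runP prog (st ++ [st.getD i 1 * st.getD j 1])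

/-- Run a program on tables. -/
def runT : List (ℕ × ℕ) → List (List ℕ) → List (List ℕ)
  | [], st => st
  | (i, j) :: prog, st => runT prog (st ++ [compT (st.getD i idT) (st.getD j idT)])

theorem forall₂_getD {α β : Type*} {R : α → β → Prop} {l1 : List α} {l2 : List β}
    (h : List.Forall₂ R l1 l2) {d1 : α} {d2 : β} (hd : R d1 d2) (i : ℕ) :
    R (l1.getD i d1) (l2.getD i d2) := by
  induction h generalizing i with
  | nil => simpa using hd
  | cons hab _ ih =>
    cases i with
    | zero => simpa using hab
    | succ i => simpa using ih i

theorem forall₂_runP_runT (prog : List (ℕ × ℕ)) (stP : List (Equiv.Perm GolayPt))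
    (stT : List (List ℕ)) (h : List.Forall₂ Matches stP stT) :
    List.Forall₂ Matches (runP prog stP) (runT prog stT) := by
  induction prog generalizing stP stT with
  | nil => exact h
  | cons ij prog ih =>
    obtain ⟨i, j⟩ := ij
    simp only [runP, runT]
    apply ih
    apply List.rel_append h
    exact List.Forall₂.cons
      (matches_mul (forall₂_getD h matches_one i) (forall₂_getD h matches_one j)) List.Forall₂.nil

/-- Every entry produced by a program lies in any subgroup containing the initial entries. -/
theorem runP_mem (H : Subgroup (Equiv.Perm GolayPt)) (prog : List (ℕ × ℕ))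
    (st : List (Equiv.Perm GolayPt)) (h : ∀ g ∈ st, g ∈ H) : ∀ g ∈ runP prog st, g ∈ H := by
  induction prog generalizing st with
  | nil => exact h
  | cons ij prog ih =>
    obtain ⟨i, j⟩ := ij
    simp only [runP]
    apply ih
    intro g hg
    rw [List.mem_append, List.mem_singleton] at hg
    rcases hg with hg | rfl
    · exact h g hg
    · have hget : ∀ k, st.getD k 1 ∈ H := by
        intro k
        rw [List.getD_eq_getElem?_getD]
        cases hk : st[k]? with
        | none => simpa using H.one_mem
        | some g' =>
          simp only [Option.getD_some]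
          exact h g' (List.mem_of_getElem? hk)
      exact H.mul_mem (hget i) (hget j)

theorem getD_mem_of_forall {H : Subgroup (Equiv.Perm GolayPt)} {st : List (Equiv.Perm GolayPt)}
    (h : ∀ g ∈ st, g ∈ H) (k : ℕ) : st.getD k 1 ∈ H := by
  rw [List.getD_eq_getElem?_getD]
  cases hk : st[k]? with
  | none => simpa using H.one_mem
  | some g' =>
    simp only [Option.getD_some]
    exact h g' (List.mem_of_getElem? hk)

/-- Evaluating a matched permutation at a point via its table. -/
theorem matches_apply {σ : Equiv.Perm GolayPt} {t : List ℕ} (h : Matches σ t) {i j : ℕ}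
    (hi : i < 24) (hj : j < 24) (hij : t.getD i 0 = j) : σ (pt i) = pt j := by
  have := h (pt i)
  rw [idx_pt hi, hij] at this
  rw [← pt_idx (σ (pt i)), this]

end Cfsg.Agent.Lib.Helper7
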