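import Cfsg.Agent.Lib.Helper7.M24Chain

/-!
# `M24` is 5-transitive; orders of point stabilizers; transitivity on octads
-/

set_option autoImplicit false

namespace Cfsg.Agent.Lib.Helper7
open Cfsg
open scoped Pointwise

/-- Any `k ≤ 5` distinct points can be moved to the first `k` base points by an element of `M24`. -/
theorem exists_map_to_base : ∀ k ≤ 5, ∀ x : ℕ → GolayPt,
    (∀ a < k, ∀ b < k, x a = x b → a = b) → ∃ g ∈ M24, ∀ j < k, g (x j) = bp j := by
  intro k
  induction k with
  | zero => intro _ x _; exact ⟨1, M24.one_mem, fun j hj => absurd hj (by omega)⟩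
  | succ k ih =>
    intro hk x hx
    obtain ⟨g, hg, hgx⟩ := ih (by omega) x (fun a ha b hb => hx a (by omega) b (by omega))
    have hne : ∀ j < k, baseL.getD j 0 ≠ idx (g (x k)) := by
      intro j hj h
      have h1 : bp j = g (x k) := by
        show pt (baseL.getD j 0) = g (x k)
        rw [h, pt_idx]
      rw [← hgx j hj] at h1
      have := hx j (by omega) k (by omega) (g.injective h1)
      omega
    have hok := orbitOK_lt5_of_ne k (by omega) _ (idx_lt _) hne
    obtain ⟨u, hu, hufix, huq⟩ := exists_chain_elem (i := k) (by omega) (idx_lt (g (x k))) hok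
    rw [pt_idx] at huq
    refine ⟨u * g, M24.mul_mem (genH_le_M24 hu) hg, fun j hj => ?_⟩
    rw [Equiv.Perm.mul_apply]
    by_cases hjk : j < k
    · rw [hgx j hjk, hufix j hjk]
    · have : j = k := by omega
      subst this
      exact huq

/-- For any injective `x : Fin k → GolayPt`, `k ≤ 5`, some element of `M24` maps `x i` to the `i`-th
base point. -/
theorem exists_map_emb_to_base {k : ℕ} (hk : k ≤ 5) (x : Fin k ↪ GolayPt) :
    ∃ g ∈ M24, ∀ j : Fin k, g (x j) = bp j := by
  obtain ⟨g, hg, hgx⟩ := exists_map_to_base k hk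
    (fun j => if h : j < k then x ⟨j, h⟩ else none) (by
      intro a ha b hb hab
      simp only [ha, hb, dif_pos] at hab
      have := x.injective hab
      exact Fin.mk.inj_iff.mp this)
  refine ⟨g, hg, fun j => ?_⟩
  have := hgx j j.isLt
  simpa [j.isLt] using this

/-- Any two injective `k`-tuples, `k ≤ 5`, are conjugate under `M24`. -/
theorem exists_M24_map_emb {k : ℕ} (hk : k ≤ 5) (x y : Fin k ↪ GolayPt) :
    ∃ g ∈ M24, ∀ j : Fin k, g (x j) = y j := by
  obtain ⟨gx, hgx, hx⟩ := exists_map_emb_to_base hk x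
  obtain ⟨gy, hgy, hy⟩ := exists_map_emb_to_base hk y
  refine ⟨gy⁻¹ * gx, M24.mul_mem (M24.inv_mem hgy) hgx, fun j => ?_⟩
  rw [Equiv.Perm.mul_apply, hx j, ← hy j]
  simp

theorem M24_smul_def (g : M24) (p : GolayPt) : g • p = (g : Equiv.Perm GolayPt) p := rfl

/-- `M24` is `k`-transitive for `k ≤ 5`. -/
theorem M24_isMultiplyPretransitive {k : ℕ} (hk : k ≤ 5) :
    MulAction.IsMultiplyPretransitive M24 GolayPt k := by
  rw [MulAction.isMultiplyPretransitive_iff]
  intro x y
  obtain ⟨g, hg, hgxy⟩ := exists_M24_map_emb hk x y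
  refine ⟨⟨g, hg⟩, Function.Embedding.ext fun j => ?_⟩
  rw [Function.Embedding.smul_apply, M24_smul_def]
  exact hgxy j

theorem M24_isPretransitive : MulAction.IsPretransitive M24 GolayPt := by
  rw [← MulAction.is_one_pretransitive_iff]
  exact M24_isMultiplyPretransitive (by decide)

theorem card_GolayPt : Nat.card GolayPt = 24 := by
  rw [Nat.card_eq_fintype_card]; decide

/-- The order of a point stabilizer (this is statement S0376). -/
theorem card_stabilizer_M24 (p : GolayPt) : Nat.card (MulAction.stabilizer M24 p) = 10200960 := by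
  have := M24_isPretransitive
  have h1 := MulAction.index_stabilizer_of_transitive M24 p
  have h2 := Subgroup.card_mul_index (MulAction.stabilizer M24 p)
  rw [h1, card_GolayPt, card_M24] at h2
  omega

/-- Order of the pointwise stabilizer of a `k`-set, `k ≤ 5`. -/
theorem card_fixingSubgroup_M24_mul {k : ℕ} (hk : k ≤ 5) (s : Set GolayPt) (hs : s.ncard = k) :
    Nat.card (fixingSubgroup M24 s) * (24).factorial = 244823040 * (24 - k).factorial := by
  have h1 := (M24_isMultiplyPretransitive hk).index_of_fixingSubgroup_mul hs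
  have h2 := Subgroup.card_mul_index (fixingSubgroup M24 s)
  rw [card_GolayPt] at h1
  rw [card_M24] at h2
  rw [← h1, ← h2]
  ring

theorem fixingSubgroup_pair (p q : GolayPt) :
    fixingSubgroup M24 ({p, q} : Set GolayPt) =
      MulAction.stabilizer M24 p ⊓ MulAction.stabilizer M24 q := by
  ext g
  simp [mem_fixingSubgroup_iff, MulAction.mem_stabilizer_iff]

/-- The order of a two-point stabilizer (this is statement S0378). -/
theorem card_stabilizer_pair_M24 {p q : GolayPt} (hpq : p ≠ q) :
    Nat.card ↥(MulAction.stabilizer M24 p ⊓ MulAction.stabilizer M24 q) = 443520 := by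
  rw [← fixingSubgroup_pair]
  have h := card_fixingSubgroup_M24_mul (k := 2) (by decide) ({p, q} : Set GolayPt)
    (Set.ncard_pair hpq)
  have h24 : (24 : ℕ).factorial = 552 * (22 : ℕ).factorial := by
    rw [show (24 : ℕ) = 22 + 1 + 1 by rfl, Nat.factorial_succ, Nat.factorial_succ]; ring
  rw [h24, show (24 - 2 : ℕ) = 22 by rfl] at h
  have hpos : 0 < (22 : ℕ).factorial := Nat.factorial_pos _
  have : Nat.card (fixingSubgroup M24 ({p, q} : Set GolayPt)) * 552 = 244823040 := by
    apply Nat.eq_of_mul_eq_mul_right hpos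
    rw [← h]; ring
  omega

theorem fixingSubgroup_triple (p q r : GolayPt) :
    fixingSubgroup M24 ({p, q, r} : Set GolayPt) =
      MulAction.stabilizer M24 p ⊓ MulAction.stabilizer M24 q ⊓ MulAction.stabilizer M24 r := by
  ext g
  simp [mem_fixingSubgroup_iff, MulAction.mem_stabilizer_iff, and_assoc]

/-- The order of a three-point stabilizer. -/
theorem card_stabilizer_triple_M24 {p q r : GolayPt} (hpq : p ≠ q) (hpr : p ≠ r) (hqr : q ≠ r) :
    Nat.card ↥(MulAction.stabilizer M24 p ⊓ MulAction.stabilizer M24 q ⊓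
      MulAction.stabilizer M24 r) = 20160 := by
  rw [← fixingSubgroup_triple]
  have h := card_fixingSubgroup_M24_mul (k := 3) (by decide) ({p, q, r} : Set GolayPt)
    (Set.ncard_eq_three.mpr ⟨p, q, r, hpq, hpr, hqr, rfl⟩)
  have h24 : (24 : ℕ).factorial = 12144 * (21 : ℕ).factorial := by
    rw [show (24 : ℕ) = 21 + 1 + 1 + 1 by rfl, Nat.factorial_succ, Nat.factorial_succ,
      Nat.factorial_succ]; ring
  rw [h24, show (24 - 3 : ℕ) = 21 by rfl] at h
  have hpos : 0 < (21 : ℕ).factorial := Nat.factorial_pos _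
  have : Nat.card (fixingSubgroup M24 ({p, q, r} : Set GolayPt)) * 12144 = 244823040 := by
    apply Nat.eq_of_mul_eq_mul_right hpos
    rw [← h]; ring
  omega

/-! ### Transitivity on octads -/

theorem M24_smul_finset_def (g : M24) (s : Finset GolayPt) :
    g • s = (g : Equiv.Perm GolayPt) • s := rfl

/-- An injective 5-tuple inside a finset with at least five elements. -/
theorem exists_emb_of_five_le_card {s : Finset GolayPt} (hs : 5 ≤ s.card) :
    ∃ x : Fin 5 ↪ GolayPt, ∀ i, x i ∈ s := by
  obtain ⟨t, hts, ht⟩ := Finset.exists_subset_card_eq hs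
  let e := (Finset.equivFinOfCardEq ht).symm
  exact ⟨e.toEmbedding.trans (Function.Embedding.subtype _), fun i => hts (e i).2⟩

/-- `M24` is transitive on octads (this is statement S0367). -/
theorem exists_M24_smul_octad {o o' : Finset GolayPt} (ho : o ∈ octads) (ho' : o' ∈ octads) :
    ∃ g : M24, g • o = o' := by
  obtain ⟨x, hx⟩ := exists_emb_of_five_le_card (s := o) (by rw [ho.2]; decide)
  obtain ⟨y, hy⟩ := exists_emb_of_five_le_card (s := o') (by rw [ho'.2]; decide)
  obtain ⟨g, hg, hgxy⟩ := exists_M24_map_emb (le_refl 5) x y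
  refine ⟨⟨g, hg⟩, ?_⟩
  rw [M24_smul_finset_def]
  refine smul_octad_eq_of_maps hg ho ho' (s := Finset.univ.map x) ?_ ?_ ?_
  · intro p hp
    rw [Finset.mem_map] at hp
    obtain ⟨i, _, rfl⟩ := hp
    exact hx i
  · rw [Finset.card_map]; simp
  · intro p hp
    rw [Finset.mem_map] at hp
    obtain ⟨i, _, rfl⟩ := hp
    rw [hgxy i]
    exact hy i

end Cfsg.Agent.Lib.Helper7
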