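import Cfsg.Agent.Lib.Helper7.M12Data
import Cfsg.Agent.Lib.Helper7.M24Trans

/-!
# Octad pointwise stabilizers in `M24`; named chain elements and `mapsInto`
-/

set_option autoImplicit false

namespace Cfsg.Agent.Lib.Helper7
open Cfsg
open scoped Pointwise

/-! ### Named chain elements -/

/-- The chain element for level `i` and point `q`. -/
noncomputable def uP (i q : ℕ) : Equiv.Perm GolayPt :=
  chainP.getD ((lookupT.getD i []).getD q 0) 1

/-- The table of `uP i q`. -/
def uT (i q : ℕ) : List ℕ := chainT.getD ((lookupT.getD i []).getD q 0) idT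

theorem matches_uP (i q : ℕ) : Matches (uP i q) (uT i q) :=
  forall₂_getD chain_match matches_one _

theorem uP_mem_genH (i q : ℕ) : uP i q ∈ genH := chainP_mem_genH _

theorem uP_mem_M24 (i q : ℕ) : uP i q ∈ M24 := genH_le_M24 (uP_mem_genH i q)

/-- The product `uP 6 r * uP 5 q`. -/
noncomputable def wP (q r : ℕ) : Equiv.Perm GolayPt := uP 6 r * uP 5 q

theorem matches_wP (q r : ℕ) : Matches (wP q r) (wComp q r) :=
  matches_mul (matches_uP 6 r) (matches_uP 5 q)

theorem matches_wP' {q r : ℕ} (hq : q < 24) (hr : r < 24) (h5 : orbitOK 5 q = true)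
    (h6 : orbitOK 6 r = true) : Matches (wP q r) ((wT.getD q []).getD r []) := by
  rw [wT_eq q hq r hr h5 h6]
  exact matches_wP q r

theorem wP_mem_M24 (q r : ℕ) : wP q r ∈ M24 := M24.mul_mem (uP_mem_M24 6 r) (uP_mem_M24 5 q)

theorem eq_one_of_matches_idT {σ : Equiv.Perm GolayPt} (h : Matches σ idT) : σ = 1 := by
  refine Equiv.ext fun p => ?_
  have := h p
  rw [idT, getD_range (idx_lt p)] at this
  simpa using idx_injective this

/-- Evaluating a matched permutation: `idx (σ p)` from the table. -/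
theorem matches_idx {σ : Equiv.Perm GolayPt} {t : List ℕ} (h : Matches σ t) (p : GolayPt) :
    idx (σ p) = t.getD (idx p) 0 := h p

/-! ### `mapsInto` -/

theorem mapsInto_sound {σ : Equiv.Perm GolayPt} {t : List ℕ} (h : Matches σ t) {m m' : ℕ}
    (hm : mapsInto t m m' = true) : ∀ p ∈ setOf m, σ p ∈ setOf m' := by
  intro p hp
  rw [mem_setOf] at hp ⊢
  simp only [mapsInto, List.all_eq_true, List.mem_range, Bool.or_eq_true, Bool.not_eq_eq_eq_not,
    Bool.not_true] at hm
  rcases hm (idx p) (idx_lt p) with h1 | h1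
  · rw [hp] at h1; exact absurd h1 (by decide)
  · rw [h p]; exact h1

theorem mapsInto_complete {σ : Equiv.Perm GolayPt} {t : List ℕ} (h : Matches σ t) {m m' : ℕ}
    (hm : ∀ p ∈ setOf m, σ p ∈ setOf m') : mapsInto t m m' = true := by
  simp only [mapsInto, List.all_eq_true, List.mem_range, Bool.or_eq_true, Bool.not_eq_eq_eq_not,
    Bool.not_true]
  intro i hi
  by_cases hb : m.testBit i = true
  · right
    have := hm (pt i) (by rw [mem_setOf, idx_pt hi]; exact hb)
    rw [mem_setOf, h (pt i), idx_pt hi] at this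
    exact this
  · left; simpa using hb

theorem smul_setOf_eq_of_mapsInto {σ : Equiv.Perm GolayPt} {t : List ℕ} (h : Matches σ t)
    {m m' : ℕ} (hm : mapsInto t m m' = true) (hpc : pc m' ≤ pc m) : σ • setOf m = setOf m' := by
  apply Finset.eq_of_subset_of_card_le
  · intro p hp
    rw [Finset.mem_smul_finset] at hp
    obtain ⟨q, hq, rfl⟩ := hp
    exact mapsInto_sound h hm q hq
  · rw [card_perm_smul_finset, card_setOf, card_setOf]
    exact hpc

/-! ### The pointwise stabilizer of an octad -/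

/-- The pointwise stabilizer in `M24` of a finset of points. -/
def fixM24 (s : Finset GolayPt) : Subgroup (Equiv.Perm GolayPt) :=
  M24 ⊓ fixingSubgroup (Equiv.Perm GolayPt) (s : Set GolayPt)

theorem mem_fixM24 {s : Finset GolayPt} {g : Equiv.Perm GolayPt} :
    g ∈ fixM24 s ↔ g ∈ M24 ∧ ∀ p ∈ s, g p = p := by
  simp [fixM24, mem_fixingSubgroup_iff]

theorem bp_mem_octO : ∀ j < 7, j ≠ 5 → octO.testBit (baseL.getD j 0) = true := by decide

theorem bp_mem_setOf_octO {j : ℕ} (hj : j < 7) (hj5 : j ≠ 5) : bp j ∈ setOf octO := by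
  rw [mem_setOf]; unfold bp; rw [idx_pt (baseL_lt _)]; exact bp_mem_octO j hj hj5

/-- The explicit element of the pointwise stabilizer of `octO` mapping `pt q` to `pt 4`. -/
noncomputable def octStabElem (q : ℕ) : Equiv.Perm GolayPt := wP q ((uT 5 q).getD 5 0)

theorem octStabElem_spec {q : ℕ} (hq : q < 24) (h5 : orbitOK 5 q = true) :
    octStabElem q ∈ fixM24 (setOf octO) ∧ octStabElem q (pt q) = pt 4 ∧
      octStabElem q * octStabElem q = 1 := by
  have hchk := octStab_check q hq h5
  simp only [octStabOK, Bool.and_eq_true, List.all_eq_true, List.mem_range, Bool.or_eq_true,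
    Bool.not_eq_eq_eq_not, Bool.not_true, beq_iff_eq] at hchk
  obtain ⟨⟨⟨h6, hfix⟩, hq4⟩, hinv⟩ := hchk
  set r := (chainT.getD ((lookupT.getD 5 []).getD q 0) idT).getD 5 0 with hr
  have hr24 : r < 24 := by
    by_contra hcon
    have : orbitOK 6 r = false := by
      have : ∀ r, ¬ r < 24 → orbitOK 6 r = false := by
        intro r hr
        unfold orbitOK
        simp only [show ¬ (6 < 5) by decide, if_false, show ¬ (6 = 5) by decide, if_true]
        have : octO.testBit r = false := by
          apply Nat.testBit_lt_two_pow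
          calc octO < 2 ^ 24 := by decide
            _ ≤ 2 ^ r := Nat.pow_le_pow_right (by decide) (by omega)
        simp [this]
      exact this r hcon
    rw [this] at h6
    exact absurd h6 (by decide)
  have hm : Matches (octStabElem q) ((wT.getD q []).getD r []) := matches_wP' hq hr24 h5 h6
  refine ⟨mem_fixM24.mpr ⟨wP_mem_M24 _ _, ?_⟩, ?_, ?_⟩
  · intro p hp
    rw [mem_setOf] at hp
    rcases hfix (idx p) (idx_lt p) with h | h
    · rw [hp] at h; exact absurd h (by decide)
    · apply idx_injective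
      rw [hm p]; exact h
  · exact matches_apply hm hq (by decide) hq4
  · apply eq_one_of_matches_idT
    rw [← hinv]
    exact matches_mul hm hm

theorem fixM24_octO_le_Gst5 {g : Equiv.Perm GolayPt} (hg : g ∈ fixM24 (setOf octO)) :
    g ∈ M24 ∧ (∀ j < 5, g (bp j) = bp j) ∧ g (bp 6) = bp 6 := by
  rw [mem_fixM24] at hg
  exact ⟨hg.1, fun j hj => hg.2 _ (bp_mem_setOf_octO (by omega) (by omega)),
    hg.2 _ (bp_mem_setOf_octO (by decide) (by decide))⟩

theorem eq_one_of_mem_fixM24_octO {g : Equiv.Perm GolayPt} (hg : g ∈ fixM24 (setOf octO))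
    (h4 : g (bp 5) = bp 5) : g = 1 := by
  obtain ⟨hM, h5, h6⟩ := fixM24_octO_le_Gst5 hg
  apply eq_one_of_fixes_base hM
  intro j hj
  by_cases hj5 : j < 5
  · exact h5 j hj5
  · have : j = 5 ∨ j = 6 := by omega
    rcases this with rfl | rfl
    · exact h4
    · exact h6

theorem bp5_eq : bp 5 = pt 4 := rfl

/-- Every element of the pointwise stabilizer of `octO` is one of the explicit involutions. -/
theorem eq_octStabElem_of_mem {g : Equiv.Perm GolayPt} (hg : g ∈ fixM24 (setOf octO)) :
    ∃ q < 24, orbitOK 5 q = true ∧ g = octStabElem q := by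
  obtain ⟨hM, h5, _⟩ := fixM24_octO_le_Gst5 hg
  have hok := orbitOK_of_fixes hM (i := 5) (by decide) h5
  set q := idx (g (bp 5)) with hq
  have hq24 : q < 24 := idx_lt _
  obtain ⟨hmem, hmap, hinv⟩ := octStabElem_spec hq24 hok
  refine ⟨q, hq24, hok, ?_⟩
  have h1 : octStabElem q * g = 1 := by
    apply eq_one_of_mem_fixM24_octO ((fixM24 _).mul_mem hmem hg)
    have hpq : pt q = g (bp 5) := by rw [hq, pt_idx]
    rw [Equiv.Perm.mul_apply, ← hpq, hmap]
    rfl
  calc g = (octStabElem q * octStabElem q) * g := by rw [hinv, one_mul]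
    _ = octStabElem q * (octStabElem q * g) := by rw [mul_assoc]
    _ = octStabElem q := by rw [h1, mul_one]

theorem mul_self_of_mem_fixM24_octO {g : Equiv.Perm GolayPt} (hg : g ∈ fixM24 (setOf octO)) :
    g * g = 1 := by
  obtain ⟨q, hq, hok, rfl⟩ := eq_octStabElem_of_mem hg
  exact (octStabElem_spec hq hok).2.2

theorem card_fixM24_octO : Nat.card (fixM24 (setOf octO)) = 16 := by
  have h := card_eq_card_mul_card_inf_stabilizer (fixM24 (setOf octO)) (bp 5) (orbitSet 5)
    (by
      intro g hg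
      obtain ⟨hM, h5, _⟩ := fixM24_octO_le_Gst5 hg
      simp only [orbitSet, Finset.mem_filter, Finset.mem_univ, true_and, Equiv.Perm.smul_def]
      exact orbitOK_of_fixes hM (by decide) h5)
    (by
      intro q hq
      simp only [orbitSet, Finset.mem_filter, Finset.mem_univ, true_and] at hq
      obtain ⟨hmem, hmap, _⟩ := octStabElem_spec (idx_lt q) hq
      rw [pt_idx] at hmap
      exact ⟨_, hmem, hmap⟩)
  rw [h, card_orbitSet.2.2.2.2.2.1]
  have : fixM24 (setOf octO) ⊓ MulAction.stabilizer (Equiv.Perm GolayPt) (bp 5) = ⊥ := by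
    rw [eq_bot_iff]
    intro g hg
    rw [Subgroup.mem_inf, MulAction.mem_stabilizer_iff] at hg
    exact Subgroup.mem_bot.mpr (eq_one_of_mem_fixM24_octO hg.1 hg.2)
  rw [this]
  simp

/-- Conjugating pointwise stabilizers. -/
theorem conj_mem_fixM24 {σ : Equiv.Perm GolayPt} (hσ : σ ∈ M24) (s : Finset GolayPt)
    {g : Equiv.Perm GolayPt} : g ∈ fixM24 (σ • s) ↔ σ⁻¹ * g * σ ∈ fixM24 s := by
  simp only [mem_fixM24]
  constructor
  · rintro ⟨hg, hfix⟩
    refine ⟨M24.mul_mem (M24.mul_mem (M24.inv_mem hσ) hg) hσ, fun p hp => ?_⟩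
    simp only [Equiv.Perm.mul_apply]
    rw [hfix (σ p) ((apply_mem_perm_smul_finset σ s p).mpr hp)]
    simp
  · rintro ⟨hg, hfix⟩
    have hg' : g = σ * (σ⁻¹ * g * σ) * σ⁻¹ := by group
    refine ⟨hg' ▸ M24.mul_mem (M24.mul_mem hσ hg) (M24.inv_mem hσ), fun p hp => ?_⟩
    rw [mem_perm_smul_finset] at hp
    have := hfix _ hp
    simp only [Equiv.Perm.mul_apply, Equiv.Perm.inv_def] at this
    have h2 := congrArg σ this
    simpa using h2

/-- The equivalence between conjugate pointwise stabilizers. -/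
noncomputable def fixM24ConjEquiv {σ : Equiv.Perm GolayPt} (hσ : σ ∈ M24) (s : Finset GolayPt) :
    fixM24 (σ • s) ≃ fixM24 s where
  toFun g := ⟨σ⁻¹ * g * σ, (conj_mem_fixM24 hσ s).mp g.2⟩
  invFun h := ⟨σ * h * σ⁻¹, (conj_mem_fixM24 hσ s).mpr (by
    have : σ⁻¹ * (σ * (h : Equiv.Perm GolayPt) * σ⁻¹) * σ = h := by group
    rw [this]; exact h.2)⟩
  left_inv g := by apply Subtype.ext; simp only; group
  right_inv h := by apply Subtype.ext; simp only; group

/-- The pointwise stabilizer of an octad in `M24` has order 16 and exponent 2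
(this is statement S0381). -/
theorem fixM24_octad {o : Finset GolayPt} (ho : o ∈ octads) :
    Nat.card (fixM24 o) = 16 ∧ ∀ g ∈ fixM24 o, g * g = 1 := by
  obtain ⟨σ, hσ⟩ := exists_M24_smul_octad (setOf_mem_octads isOctadMask_octO) ho
  rw [M24_smul_finset_def] at hσ
  subst hσ
  refine ⟨?_, fun g hg => ?_⟩
  · rw [Nat.card_congr (fixM24ConjEquiv σ.2 (setOf octO)), card_fixM24_octO]
  · have h := mul_self_of_mem_fixM24_octO ((conj_mem_fixM24 σ.2 _).mp hg)
    have : g * g = (σ : Equiv.Perm GolayPt) * ((σ : Equiv.Perm GolayPt)⁻¹ * g * σ *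
        ((σ : Equiv.Perm GolayPt)⁻¹ * g * σ)) * (σ : Equiv.Perm GolayPt)⁻¹ := by group
    rw [this, h]; group

end Cfsg.Agent.Lib.Helper7
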