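import Cfsg.Prelude.Def_Sporadic_a

set_option autoImplicit false

namespace Cfsg.Agent.Lib.Helper7
open Cfsg
open scoped Pointwise

/-- The support of `w ∘ σ⁻¹` is the image of the support of `w` under `σ`. -/
theorem support₂_comp_symm {α : Type*} [Fintype α] [DecidableEq α] (σ : Equiv.Perm α)
    (w : α → ZMod 2) : support₂ (fun i => w (σ.symm i)) = σ • support₂ w := by
  ext i
  simp only [support₂, Finset.mem_filter, Finset.mem_univ, true_and, Finset.mem_smul_finset]
  constructor
  · intro h
    exact ⟨σ.symm i, h, by simp⟩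
  · rintro ⟨j, hj, rfl⟩
    simpa using hj

/-- The linear map `w ↦ w ∘ σ` on binary words. -/
def permWord {α : Type*} (σ : Equiv.Perm α) : (α → ZMod 2) →ₗ[ZMod 2] (α → ZMod 2) :=
  LinearMap.funLeft (ZMod 2) (ZMod 2) σ

@[simp] theorem permWord_apply {α : Type*} (σ : Equiv.Perm α) (w : α → ZMod 2) (i : α) :
    permWord σ w i = w (σ i) := rfl

theorem permWord_injective {α : Type*} (σ : Equiv.Perm α) : Function.Injective (permWord σ) := by
  intro v w h
  funext i
  have := congrFun h (σ.symm i)
  simpa using this

/-- If `w ↦ w ∘ σ` maps a finite submodule into itself, it maps it onto itself. -/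
theorem permWord_map_eq_of_le {α : Type*} [Finite α] (σ : Equiv.Perm α)
    (C : Submodule (ZMod 2) (α → ZMod 2)) (h : ∀ w ∈ C, permWord σ w ∈ C) :
    C.map (permWord σ) = C := by
  have hle : C.map (permWord σ) ≤ C := by
    rintro _ ⟨w, hw, rfl⟩
    exact h w hw
  have hfin : Set.Finite (C : Set (α → ZMod 2)) := Set.toFinite _
  have hcard : (C : Set (α → ZMod 2)).ncard ≤ ((C.map (permWord σ) : Submodule _ _) : Set (α → ZMod 2)).ncard := by
    rw [Submodule.map_coe]
    rw [Set.ncard_image_of_injective _ (permWord_injective σ)]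
  exact SetLike.coe_injective (Set.eq_of_subset_of_ncard_le hle hcard hfin)

/-- Criterion for membership in `M24`: `σ` preserves `golayCode` under precomposition
as soon as it does so on the generators. -/
theorem mem_M24_of_forall_qrWord (σ : Equiv.Perm GolayPt)
    (h : ∀ t : ZMod 23, (fun i => qrWord t (σ i)) ∈ golayCode) : σ ∈ M24 := by
  have h1 : ∀ w ∈ golayCode, permWord σ w ∈ golayCode := by
    intro w hw
    refine Submodule.span_induction (p := fun w _ => permWord σ w ∈ golayCode) ?_ ?_ ?_ ?_ hw
    · rintro x (⟨t, rfl⟩ | hx)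
      · exact h t
      · rw [Set.mem_singleton_iff] at hx
        subst hx
        have : permWord σ (1 : GolayPt → ZMod 2) = 1 := by
          funext i; rfl
        rw [this]
        exact Submodule.subset_span (Or.inr rfl)
    · simp
    · intro x y _ _ hx hy
      rw [map_add]
      exact golayCode.add_mem hx hy
    · intro a x _ hx
      rw [map_smul]
      exact golayCode.smul_mem a hx
  have h2 := permWord_map_eq_of_le σ golayCode h1
  -- now show σ ∈ stabilizer
  unfold M24 setSystemAut
  rw [MulAction.mem_stabilizer_iff]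
  -- σ • supports C = supports (C ∘ σ⁻¹); use σ⁻¹ version
  ext b
  simp only [Set.mem_smul_set, supports, Set.mem_image, SetLike.mem_coe]
  constructor
  · rintro ⟨_, ⟨w, hw, rfl⟩, rfl⟩
    -- σ • support w = support (w ∘ σ⁻¹), and w ∘ σ⁻¹ ∈ C since C = map
    refine ⟨fun i => w (σ.symm i), ?_, support₂_comp_symm σ w⟩
    rw [← h2] at hw
    obtain ⟨v, hv, rfl⟩ := hw
    have : (fun i => permWord σ v (σ.symm i)) = v := by
      funext i; simp
    rw [this]
    exact hv
  · rintro ⟨w, hw, rfl⟩
    refine ⟨support₂ (permWord σ w), ⟨permWord σ w, h1 w hw, rfl⟩, ?_⟩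
    rw [← support₂_comp_symm]
    congr 1
    funext i
    simp

end Cfsg.Agent.Lib.Helper7
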