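import Cfsg.Agent.Lib.Helper7.M24Data
import Cfsg.Agent.S0370
import Cfsg.Agent.S0372
import Cfsg.Agent.S0373

/-!
# The stabilizer chain of `M24`: generation, order, transitivity
-/

set_option autoImplicit false

namespace Cfsg.Agent.Lib.Helper7
open Cfsg
open scoped Pointwise

/-- The `i`-th base point. -/
def bp (i : ℕ) : GolayPt := pt (baseL.getD i 0)

/-- The subgroup generated by the three generators. -/
def genH : Subgroup (Equiv.Perm GolayPt) := Subgroup.closure {shiftPerm, projInv, cubeTwist}

theorem genH_le_M24 : genH ≤ M24 := by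
  unfold genH
  rw [Subgroup.closure_le]
  intro g hg
  rcases hg with rfl | rfl | rfl
  · exact Cfsg.Agent.S0370.result
  · exact Cfsg.Agent.S0372.result
  · exact Cfsg.Agent.S0373.result

theorem gensP_mem_genH : ∀ g ∈ gensP, g ∈ genH := by
  intro g hg
  unfold gensP at hg
  simp only [List.mem_cons, List.not_mem_nil, or_false] at hg
  apply Subgroup.subset_closure
  rcases hg with rfl | rfl | rfl <;> simp

theorem chainP_mem_genH (k : ℕ) : chainP.getD k 1 ∈ genH :=
  getD_mem_of_forall (runP_mem genH chainProg gensP gensP_mem_genH) k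

theorem baseL_lt : ∀ j, baseL.getD j 0 < 24 := by
  intro j
  by_cases hj : j < 7
  · revert j; decide
  · rw [List.getD_eq_default _ _ (by simp [baseL]; omega)]; decide

theorem baseL_inj : ∀ i < 7, ∀ j < i, baseL.getD i 0 ≠ baseL.getD j 0 := by decide

theorem bp_ne {i j : ℕ} (hi : i < 7) (hj : j < i) : bp i ≠ bp j := by
  intro h
  have := congrArg idx h
  simp only [bp, idx_pt (baseL_lt _)] at this
  exact baseL_inj i hi j hj this

/-- Existence of the chain elements. -/
theorem exists_chain_elem {i q : ℕ} (hi : i < 7) (hq : q < 24) (h : orbitOK i q = true) :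
    ∃ u ∈ genH, (∀ j < i, u (bp j) = bp j) ∧ u (pt q) = bp i := by
  have hgood := chain_check i hi q hq h
  generalize (lookupT.getD i []).getD q 0 = k at hgood
  have hm : Matches (chainP.getD k 1) (chainT.getD k idT) :=
    forall₂_getD chain_match matches_one k
  generalize chainT.getD k idT = t at hgood hm
  refine ⟨chainP.getD k 1, chainP_mem_genH k, ?_, ?_⟩
  · intro j hj
    simp only [goodT, Bool.and_eq_true, List.all_eq_true, List.mem_range, beq_iff_eq] at hgood
    unfold bp
    exact matches_apply hm (baseL_lt j) (baseL_lt j) (hgood.1 j hj)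
  · simp only [goodT, Bool.and_eq_true, beq_iff_eq] at hgood
    unfold bp
    exact matches_apply hm hq (baseL_lt i) hgood.2

/-! ### The basic orbits are upper bounds -/

set_option maxRecDepth 100000 in
theorem orbitOK_lt5_of_ne : ∀ i < 5, ∀ q < 24, (∀ j < i, baseL.getD j 0 ≠ q) →
    orbitOK i q = true := by
  decide +kernel

/-- Mask of the first five base points. -/
def base5Mask : ℕ := 0x80000f

theorem mem_base5 : ∀ q < 24, base5Mask.testBit q = true → ∃ j < 5, baseL.getD j 0 = q := by
  decide

theorem smul_octO_of_fixes {g : Equiv.Perm GolayPt} (hg : g ∈ M24)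
    (hfix : ∀ j < 5, g (bp j) = bp j) : g • setOf octO = setOf octO := by
  refine smul_octad_eq_of_fixes hg (setOf_mem_octads isOctadMask_octO)
    (s := setOf (octO &&& base5Mask)) ?_ ?_ ?_
  · rw [setOf_and]; exact Finset.inter_subset_left
  · rw [card_setOf]; decide
  · intro p hp
    rw [setOf_and, Finset.mem_inter, mem_setOf, mem_setOf] at hp
    obtain ⟨j, hj, hjq⟩ := mem_base5 (idx p) (idx_lt p) hp.2
    have : p = bp j := by
      unfold bp; rw [hjq, pt_idx]
    rw [this]; exact hfix j hj

theorem orbitOK_5 : ∀ q < 24, octO.testBit q = false → orbitOK 5 q = true := by decide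

theorem orbitOK_6 : ∀ q < 24, octO.testBit q = true → (∀ j < 5, baseL.getD j 0 ≠ q) →
    orbitOK 6 q = true := by decide +kernel

theorem idx_apply_ne_base {g : Equiv.Perm GolayPt} {i : ℕ} (hi : i < 7)
    (hfix : ∀ j < i, g (bp j) = bp j) : ∀ j < i, baseL.getD j 0 ≠ idx (g (bp i)) := by
  intro j hj h
  have h1 : bp j = g (bp i) := by
    show pt (baseL.getD j 0) = g (bp i)
    rw [h, pt_idx]
  rw [← hfix j hj] at h1
  exact bp_ne hi hj (g.injective h1).symm

/-- The image of the `i`-th base point under an element fixing the earlier base points lies in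
the `i`-th basic orbit. -/
theorem orbitOK_of_fixes {g : Equiv.Perm GolayPt} (hg : g ∈ M24) {i : ℕ} (hi : i < 7)
    (hfix : ∀ j < i, g (bp j) = bp j) : orbitOK i (idx (g (bp i))) = true := by
  have hne := idx_apply_ne_base hi hfix
  by_cases h5 : i < 5
  · exact orbitOK_lt5_of_ne i h5 _ (idx_lt _) hne
  · have hO := smul_octO_of_fixes hg (fun j hj => hfix j (by omega))
    have hmem : g (bp i) ∈ setOf octO ↔ bp i ∈ setOf octO := by
      rw [← apply_mem_perm_smul_finset g (setOf octO) (bp i), hO]
    have hi' : i = 5 ∨ i = 6 := by omega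
    rcases hi' with rfl | rfl
    · apply orbitOK_5 _ (idx_lt _)
      have : bp 5 ∉ setOf octO := by
        rw [mem_setOf]; unfold bp; rw [idx_pt (baseL_lt _)]; decide
      rw [← hmem, mem_setOf] at this
      simpa using this
    · apply orbitOK_6 _ (idx_lt _)
      · have : bp 6 ∈ setOf octO := by
          rw [mem_setOf]; unfold bp; rw [idx_pt (baseL_lt _)]; decide
        rw [← hmem, mem_setOf] at this
        exact this
      · intro j hj; exact hne j (by omega)

/-! ### Sifting: `M24` is generated by the three generators -/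

theorem mem_baseMask : ∀ q < 24, baseMask.testBit q = true → ∃ j < 7, baseL.getD j 0 = q := by
  decide

theorem eq_one_of_fixes_base {g : Equiv.Perm GolayPt} (hg : g ∈ M24)
    (hfix : ∀ j < 7, g (bp j) = bp j) : g = 1 := by
  refine eq_one_of_propagate hg baseCert baseMask ?_ propagate_baseCert
  intro p hp
  rw [mem_setOf] at hp
  obtain ⟨j, hj, hjq⟩ := mem_baseMask (idx p) (idx_lt p) hp
  have : p = bp j := by
    unfold bp; rw [hjq, pt_idx]
  rw [this]; exact hfix j hj

theorem sift_aux : ∀ k i : ℕ, i + k = 7 → ∀ g ∈ M24, (∀ j < i, g (bp j) = bp j) → g ∈ genH := by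
  intro k
  induction k with
  | zero =>
    intro i hi g hg hfix
    have : i = 7 := by omega
    subst this
    rw [eq_one_of_fixes_base hg hfix]
    exact genH.one_mem
  | succ k ih =>
    intro i hi g hg hfix
    have hi7 : i < 7 := by omega
    obtain ⟨u, hu, hufix, huq⟩ := exists_chain_elem hi7 (idx_lt (g (bp i)))
      (orbitOK_of_fixes hg hi7 hfix)
    rw [pt_idx] at huq
    have hug : u * g ∈ genH := by
      apply ih (i + 1) (by omega) (u * g) (M24.mul_mem (genH_le_M24 hu) hg)
      intro j hj
      rw [Equiv.Perm.mul_apply]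
      by_cases hji : j < i
      · rw [hfix j hji, hufix j hji]
      · have : j = i := by omega
        subst this
        exact huq
    have : g = u⁻¹ * (u * g) := by group
    rw [this]
    exact genH.mul_mem (genH.inv_mem hu) hug

/-- `M24` is generated by `x ↦ x + 1`, `projInv` and `cubeTwist`. -/
theorem genH_eq_M24 : genH = M24 :=
  le_antisymm genH_le_M24 fun g hg => sift_aux 7 0 (by omega) g hg (fun j hj => absurd hj (by omega))

/-! ### Counting -/

/-- General counting lemma (orbit–stabilizer with an explicit orbit and transversal). -/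
theorem card_eq_card_mul_card_inf_stabilizer {P α : Type*} [Group P] [MulAction P α]
    (K : Subgroup P) (b : α) (O : Finset α)
    (h1 : ∀ g ∈ K, g • b ∈ O) (h2 : ∀ q ∈ O, ∃ u ∈ K, u • q = b) :
    Nat.card K = O.card * Nat.card ↥(K ⊓ MulAction.stabilizer P b) := by
  have h2' : ∀ q : O, ∃ u : P, u ∈ K ∧ u • (q : α) = b := fun q => by
    obtain ⟨u, hu, huq⟩ := h2 q q.2
    exact ⟨u, hu, huq⟩
  choose u hu using h2'
  let L : Subgroup P := K ⊓ MulAction.stabilizer P b
  let e : K ≃ O × L :=
    { toFun := fun g => (⟨(g : P) • b, h1 g g.2⟩,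
        ⟨u ⟨(g : P) • b, h1 g g.2⟩ * g, by
          refine ⟨K.mul_mem (hu _).1 g.2, MulAction.mem_stabilizer_iff.mpr ?_⟩
          rw [mul_smul]
          exact (hu _).2⟩)
      invFun := fun ql => ⟨(u ql.1)⁻¹ * (ql.2 : P), K.mul_mem (K.inv_mem (hu _).1) ql.2.2.1⟩
      left_inv := by
        intro g
        apply Subtype.ext
        simp
      right_inv := by
        rintro ⟨q, l⟩
        have hl : (l : P) • b = b := MulAction.mem_stabilizer_iff.mp l.2.2
        have hq : ((u q)⁻¹ * (l : P)) • b = (q : α) := by
          rw [mul_smul, hl, inv_smul_eq_iff]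
          exact ((hu q).2).symm
        apply Prod.ext
        · apply Subtype.ext
          exact hq
        · apply Subtype.ext
          simp only
          have : (⟨((u q)⁻¹ * (l : P)) • b, h1 _ (K.mul_mem (K.inv_mem (hu _).1) l.2.1)⟩ : O) = q :=
            Subtype.ext hq
          rw [this]
          group }
  rw [Nat.card_congr e, Nat.card_prod, Nat.card_eq_fintype_card, Fintype.card_coe]

/-- The chain of stabilizers `Gst i = ` elements of `M24` fixing the first `i` base points. -/
def Gst : ℕ → Subgroup (Equiv.Perm GolayPt)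
  | 0 => M24
  | i + 1 => Gst i ⊓ MulAction.stabilizer (Equiv.Perm GolayPt) (bp i)

theorem mem_Gst {i : ℕ} {g : Equiv.Perm GolayPt} :
    g ∈ Gst i ↔ g ∈ M24 ∧ ∀ j < i, g (bp j) = bp j := by
  induction i with
  | zero => simp [Gst]
  | succ i ih =>
    simp only [Gst, Subgroup.mem_inf, ih, MulAction.mem_stabilizer_iff, Equiv.Perm.smul_def]
    constructor
    · rintro ⟨⟨hg, hfix⟩, hi⟩
      refine ⟨hg, fun j hj => ?_⟩
      by_cases hji : j < i
      · exact hfix j hji
      · have : j = i := by omega
        subst this; exact hi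
    · rintro ⟨hg, hfix⟩
      exact ⟨⟨hg, fun j hj => hfix j (by omega)⟩, hfix i (by omega)⟩

/-- The `i`-th basic orbit as a finset of points. -/
def orbitSet (i : ℕ) : Finset GolayPt := Finset.univ.filter fun p => orbitOK i (idx p) = true

theorem card_Gst_succ {i : ℕ} (hi : i < 7) :
    Nat.card (Gst i) = (orbitSet i).card * Nat.card (Gst (i + 1)) := by
  apply card_eq_card_mul_card_inf_stabilizer (Gst i) (bp i) (orbitSet i)
  · intro g hg
    rw [mem_Gst] at hg
    simp only [orbitSet, Finset.mem_filter, Finset.mem_univ, true_and, Equiv.Perm.smul_def]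
    exact orbitOK_of_fixes hg.1 hi hg.2
  · intro q hq
    simp only [orbitSet, Finset.mem_filter, Finset.mem_univ, true_and] at hq
    obtain ⟨u, hu, hufix, huq⟩ := exists_chain_elem hi (idx_lt q) hq
    rw [pt_idx] at huq
    exact ⟨u, mem_Gst.mpr ⟨genH_le_M24 hu, hufix⟩, huq⟩

theorem Gst_seven : Gst 7 = ⊥ := by
  rw [eq_bot_iff]
  intro g hg
  rw [mem_Gst] at hg
  rw [Subgroup.mem_bot]
  exact eq_one_of_fixes_base hg.1 hg.2

theorem card_orbitSet : (orbitSet 0).card = 24 ∧ (orbitSet 1).card = 23 ∧ (orbitSet 2).card = 22 ∧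
    (orbitSet 3).card = 21 ∧ (orbitSet 4).card = 20 ∧ (orbitSet 5).card = 16 ∧
    (orbitSet 6).card = 3 := by
  decide

theorem card_Gst_7 : Nat.card (Gst 7) = 1 := by
  rw [Gst_seven]; simp

theorem card_Gst_6 : Nat.card (Gst 6) = 3 := by
  rw [card_Gst_succ (by decide), card_Gst_7, card_orbitSet.2.2.2.2.2.2]

theorem card_Gst_5 : Nat.card (Gst 5) = 48 := by
  rw [card_Gst_succ (by decide), card_Gst_6, card_orbitSet.2.2.2.2.2.1]

theorem card_Gst_4 : Nat.card (Gst 4) = 960 := by
  rw [card_Gst_succ (by decide), card_Gst_5, card_orbitSet.2.2.2.2.1]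

theorem card_Gst_3 : Nat.card (Gst 3) = 20160 := by
  rw [card_Gst_succ (by decide), card_Gst_4, card_orbitSet.2.2.2.1]

theorem card_Gst_2 : Nat.card (Gst 2) = 443520 := by
  rw [card_Gst_succ (by decide), card_Gst_3, card_orbitSet.2.2.1]

theorem card_Gst_1 : Nat.card (Gst 1) = 10200960 := by
  rw [card_Gst_succ (by decide), card_Gst_2, card_orbitSet.2.1]

/-- The order of `M24` (this is statement S0364). -/
theorem card_M24 : Nat.card M24 = 244823040 := by
  have : Nat.card (Gst 0) = 244823040 := by
    rw [card_Gst_succ (by decide), card_Gst_1, card_orbitSet.1]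
  exact this

end Cfsg.Agent.Lib.Helper7
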