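import Cfsg.Agent.Lib.Helper7.M24OctStab

/-!
# Transitivity of `M24` on dodecads

-/

set_option autoImplicit false

namespace Cfsg.Agent.Lib.Helper7
open Cfsg
open scoped Pointwise

/-- The reference dodecad. -/
def d0 : Finset GolayPt := setOf d0Mask

theorem d0_mem_dodecads : d0 ∈ dodecads := setOf_mem_dodecads isDodecadMask_d0

/-! ### Transitivity on dodecads -/

theorem and_eq_of_setOf_subset {m n : ℕ} (hm : m < 2 ^ 24) (h : setOf m ⊆ setOf n) :
    n &&& m = m := by
  apply Nat.eq_of_testBit_eq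
  intro i
  rw [Nat.testBit_and]
  by_cases hi : i < 24
  · by_cases hb : m.testBit i = true
    · have : pt i ∈ setOf m := by rw [mem_setOf, idx_pt hi]; exact hb
      have := h this
      rw [mem_setOf, idx_pt hi] at this
      rw [this, hb]; rfl
    · simp only [Bool.not_eq_true] at hb
      rw [hb]; simp
  · have : m.testBit i = false := by
      apply Nat.testBit_lt_two_pow
      exact lt_of_lt_of_le hm (Nat.pow_le_pow_right (by decide) (by omega))
    rw [this]; simp

theorem setOf_base5 : ∀ p ∈ setOf 0x80000f, ∃ j < 5, p = bp j := by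
  intro p hp
  rw [mem_setOf] at hp
  obtain ⟨j, hj, hjq⟩ := mem_base5 (idx p) (idx_lt p) hp
  exact ⟨j, hj, by unfold bp; rw [hjq, pt_idx]⟩

/-- Every dodecad containing the first five base points can be mapped to `d0` by an element of
`M24` (fixing those five points). -/
theorem exists_map_dodecad_base5 {d : Finset GolayPt} (hd : d ∈ dodecads)
    (h5 : ∀ j < 5, bp j ∈ d) : ∃ g ∈ M24, g • d = d0 := by
  obtain ⟨w, hw, hws, hcard⟩ := (mem_dodecads_iff d).mp hd
  obtain ⟨c, hc, rfl⟩ := (mem_golayCode_iff w).mp hw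
  rw [support₂_wordOf] at hws
  subst hws
  rw [card_setOf] at hcard
  have hsub : setOf 0x80000f ⊆ setOf (enc c) := by
    intro p hp
    obtain ⟨j, hj, rfl⟩ := setOf_base5 p hp
    exact h5 j hj
  have hand : enc c &&& 0x80000f = 0x80000f := and_eq_of_setOf_subset (by decide) hsub
  have hfind := findW_dodecad c hc hcard hand
  simp only [findW, List.any_eq_true, List.mem_range, Bool.and_eq_true] at hfind
  obtain ⟨q, hq, r, hr, ⟨h5q, h6r⟩, hmaps⟩ := hfind
  refine ⟨wP q r, wP_mem_M24 q r, ?_⟩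
  apply smul_setOf_eq_of_mapsInto (matches_wP' hq hr h5q h6r) hmaps
  rw [hcard]; decide

/-- `M24` is transitive on dodecads: every dodecad can be mapped to `d0`. -/
theorem exists_map_dodecad {d : Finset GolayPt} (hd : d ∈ dodecads) : ∃ g ∈ M24, g • d = d0 := by
  obtain ⟨x, hx⟩ := exists_emb_of_five_le_card (s := d) (by rw [hd.2]; decide)
  obtain ⟨g1, hg1, hgx⟩ := exists_map_emb_to_base (le_refl 5) x
  obtain ⟨g2, hg2, hgd⟩ := exists_map_dodecad_base5 (smul_mem_dodecads hg1 hd) (by
    intro j hj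
    rw [← hgx ⟨j, hj⟩, apply_mem_perm_smul_finset]
    exact hx _)
  exact ⟨g2 * g1, M24.mul_mem hg2 hg1, by rw [mul_smul, hgd]⟩

/-- `M24` is transitive on dodecads (this is statement S0368). -/
theorem exists_M24_smul_dodecad {d d' : Finset GolayPt} (hd : d ∈ dodecads)
    (hd' : d' ∈ dodecads) : ∃ g : M24, g • d = d' := by
  obtain ⟨g, hg, hgd⟩ := exists_map_dodecad hd
  obtain ⟨g', hg', hgd'⟩ := exists_map_dodecad hd'
  refine ⟨⟨g'⁻¹ * g, M24.mul_mem (M24.inv_mem hg') hg⟩, ?_⟩
  rw [M24_smul_finset_def]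
  show (g'⁻¹ * g) • d = d'
  rw [mul_smul, hgd, ← hgd', inv_smul_smul]

end Cfsg.Agent.Lib.Helper7
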