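import Cfsg.Agent.Lib.Helper7.M24Dodecads

/-!
# The stabilizer of a dodecad (`M12`) and its point stabilizer (`M11`)
-/

set_option autoImplicit false

namespace Cfsg.Agent.Lib.Helper7
open Cfsg
open scoped Pointwise

/-- The setwise stabilizer in `M24` of a finset of points, as a subgroup of all permutations. -/
def stabM24 (s : Finset GolayPt) : Subgroup (Equiv.Perm GolayPt) :=
  M24 ⊓ MulAction.stabilizer (Equiv.Perm GolayPt) s

theorem mem_stabM24 {s : Finset GolayPt} {g : Equiv.Perm GolayPt} :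
    g ∈ stabM24 s ↔ g ∈ M24 ∧ g • s = s := by
  simp [stabM24, MulAction.mem_stabilizer_iff]

theorem apply_mem_of_mem_stabM24 {s : Finset GolayPt} {g : Equiv.Perm GolayPt}
    (hg : g ∈ stabM24 s) (p : GolayPt) : g p ∈ s ↔ p ∈ s := by
  rw [mem_stabM24] at hg
  conv_lhs => rw [← hg.2]
  exact apply_mem_perm_smul_finset g s p

/-- The stabilizer of the reference dodecad. -/
def H12 : Subgroup (Equiv.Perm GolayPt) := stabM24 d0

/-! ### Named elements of the second chain -/

theorem chainP_mem_genH' : ∀ g ∈ chainP, g ∈ genH :=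
  runP_mem genH chainProg gensP gensP_mem_genH

theorem chainP2_mem_genH (k : ℕ) : chainP2.getD k 1 ∈ genH :=
  getD_mem_of_forall (runP_mem genH chainProg2 chainP chainP_mem_genH') k

/-- The `M12`-chain element for level `i` and point `q`. -/
noncomputable def vP (i q : ℕ) : Equiv.Perm GolayPt :=
  chainP2.getD ((lookupM12.getD i []).getD q 0) 1

/-- The `M11`-chain element for level `i` and point `q`. -/
noncomputable def cP (i q : ℕ) : Equiv.Perm GolayPt :=
  chainP2.getD ((lookupM11.getD i []).getD q 0) 1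

theorem smul_d0_of_mapsInto {σ : Equiv.Perm GolayPt} {t : List ℕ} (h : Matches σ t)
    (hm : mapsInto t d0Mask d0Mask = true) : σ • d0 = d0 :=
  smul_setOf_eq_of_mapsInto h hm (le_refl _)

theorem vP_spec {i q : ℕ} (hi : i < 5) (hq : q < 24) (h : okM12 i q = true) :
    vP i q ∈ H12 ∧ (∀ j < i, vP i q (bp j) = bp j) ∧ vP i q (pt q) = bp i := by
  have hgood := chainM12_check i hi q hq h
  unfold vP
  generalize (lookupM12.getD i []).getD q 0 = k at hgood
  have hm : Matches (chainP2.getD k 1) (chainT2.getD k idT) :=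
    forall₂_getD chain2_match matches_one k
  have hmem : chainP2.getD k 1 ∈ M24 := genH_le_M24 (chainP2_mem_genH k)
  generalize chainT2.getD k idT = t at hgood hm
  simp only [goodM12, goodT, Bool.and_eq_true, List.all_eq_true, List.mem_range, beq_iff_eq]
    at hgood
  obtain ⟨⟨hfix, hmap⟩, hd0⟩ := hgood
  refine ⟨mem_stabM24.mpr ⟨hmem, smul_d0_of_mapsInto hm hd0⟩, ?_, ?_⟩
  · intro j hj
    unfold bp
    exact matches_apply hm (baseL_lt j) (baseL_lt j) (hfix j hj)
  · unfold bp
    exact matches_apply hm hq (baseL_lt i) hmap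

theorem baseC_lt : ∀ j, baseC.getD j 0 < 24 := by
  intro j
  by_cases hj : j < 3
  · revert j; decide
  · rw [List.getD_eq_default _ _ (by simp [baseC]; omega)]; decide

theorem cP_spec {i q : ℕ} (hi : i < 3) (hq : q < 24) (h : okM11 i q = true) :
    cP i q ∈ H12 ∧ cP i q (bp 0) = bp 0 ∧ (∀ j < i, cP i q (pt (baseC.getD j 0)) = pt (baseC.getD j 0)) ∧
      cP i q (pt q) = pt (baseC.getD i 0) := by
  have hgood := chainM11_check i hi q hq h
  unfold cP
  generalize (lookupM11.getD i []).getD q 0 = k at hgood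
  have hm : Matches (chainP2.getD k 1) (chainT2.getD k idT) :=
    forall₂_getD chain2_match matches_one k
  have hmem : chainP2.getD k 1 ∈ M24 := genH_le_M24 (chainP2_mem_genH k)
  generalize chainT2.getD k idT = t at hgood hm
  simp only [goodM11, Bool.and_eq_true, List.all_eq_true, List.mem_range, beq_iff_eq] at hgood
  obtain ⟨⟨⟨hfix, hmap⟩, hinf⟩, hd0⟩ := hgood
  refine ⟨mem_stabM24.mpr ⟨hmem, smul_d0_of_mapsInto hm hd0⟩, ?_, ?_, ?_⟩
  · exact matches_apply hm (i := 23) (j := 23) (by decide) (by decide) hinf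
  · intro j hj
    exact matches_apply hm (baseC_lt j) (baseC_lt j) (hfix j hj)
  · exact matches_apply hm hq (baseC_lt i) hmap

theorem uP_spec {i q : ℕ} (hi : i < 7) (hq : q < 24) (h : orbitOK i q = true) :
    (∀ j < i, uP i q (bp j) = bp j) ∧ uP i q (pt q) = bp i := by
  have hgood := chain_check i hi q hq h
  have hm := matches_uP i q
  unfold uP uT at *
  generalize (lookupT.getD i []).getD q 0 = k at hgood hm
  generalize chainT.getD k idT = t at hgood hm
  simp only [goodT, Bool.and_eq_true, List.all_eq_true, List.mem_range, beq_iff_eq] at hgood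
  refine ⟨fun j hj => ?_, ?_⟩
  · unfold bp
    exact matches_apply hm (baseL_lt j) (baseL_lt j) (hgood.1 j hj)
  · unfold bp
    exact matches_apply hm hq (baseL_lt i) hgood.2

/-! ### The chain of `H12` -/

/-- Elements of `H12` fixing the first `i` base points. -/
def Hs (i : ℕ) : Subgroup (Equiv.Perm GolayPt) := H12 ⊓ Gst i

theorem mem_Hs {i : ℕ} {g : Equiv.Perm GolayPt} :
    g ∈ Hs i ↔ g ∈ H12 ∧ ∀ j < i, g (bp j) = bp j := by
  unfold Hs
  rw [Subgroup.mem_inf, mem_Gst]
  constructor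
  · rintro ⟨h1, _, h2⟩; exact ⟨h1, h2⟩
  · rintro ⟨h1, h2⟩; exact ⟨h1, (mem_stabM24.mp h1).1, h2⟩

theorem Hs_succ (i : ℕ) :
    Hs (i + 1) = Hs i ⊓ MulAction.stabilizer (Equiv.Perm GolayPt) (bp i) := by
  unfold Hs
  rw [inf_assoc]
  rfl

theorem wT_4_5 : (wT.getD 4 []).getD 5 [] = idT := by decide +kernel

theorem Hs_five : Hs 5 = ⊥ := by
  rw [eq_bot_iff]
  intro g hg
  rw [mem_Hs] at hg
  obtain ⟨hH, hfix⟩ := hg
  have hM : g ∈ M24 := (mem_stabM24.mp hH).1
  rw [Subgroup.mem_bot]
  -- first sifting step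
  have hok5 := orbitOK_of_fixes hM (i := 5) (by decide) hfix
  set q := idx (g (bp 5)) with hq
  have hq24 : q < 24 := idx_lt _
  obtain ⟨hu5fix, hu5map⟩ := uP_spec (i := 5) (by decide) hq24 hok5
  have hg1M : uP 5 q * g ∈ M24 := M24.mul_mem (uP_mem_M24 5 q) hM
  have hg1fix : ∀ j < 6, (uP 5 q * g) (bp j) = bp j := by
    intro j hj
    rw [Equiv.Perm.mul_apply]
    by_cases hj5 : j < 5
    · rw [hfix j hj5, hu5fix j hj5]
    · have : j = 5 := by omega
      subst this
      have hpq : pt q = g (bp 5) := by rw [hq, pt_idx]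
      rw [← hpq, hu5map]
  -- second sifting step
  have hok6 := orbitOK_of_fixes hg1M (i := 6) (by decide) hg1fix
  set r := idx ((uP 5 q * g) (bp 6)) with hr
  have hr24 : r < 24 := idx_lt _
  obtain ⟨hu6fix, hu6map⟩ := uP_spec (i := 6) (by decide) hr24 hok6
  have hg2 : uP 6 r * (uP 5 q * g) = 1 := by
    apply eq_one_of_fixes_base (M24.mul_mem (uP_mem_M24 6 r) hg1M)
    intro j hj
    rw [Equiv.Perm.mul_apply]
    by_cases hj6 : j < 6
    · rw [hg1fix j hj6, hu6fix j hj6]
    · have : j = 6 := by omega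
      subst this
      have hpr : pt r = (uP 5 q * g) (bp 6) := by rw [hr, pt_idx]
      rw [← hpr, hu6map]
  have hw : wP q r * g = 1 := by
    unfold wP; rw [mul_assoc]; exact hg2
  have hwinv : wP q r = g⁻¹ := eq_inv_of_mul_eq_one_left hw
  have hwH : wP q r ∈ H12 := hwinv ▸ H12.inv_mem hH
  have hmaps : mapsInto ((wT.getD q []).getD r []) d0Mask d0Mask = true := by
    apply mapsInto_complete (matches_wP' hq24 hr24 hok5 hok6)
    intro p hp
    exact (apply_mem_of_mem_stabM24 hwH p).mpr hp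
  obtain ⟨hq4, hr5⟩ := w_preserves_d0 hq24 hr24 hok5 hok6 hmaps
  have hw1 : wP 4 5 = 1 := by
    apply eq_one_of_matches_idT
    rw [← wT_4_5]
    exact matches_wP' (by decide) (by decide) (by decide) (by decide)
  rw [hq4, hr5, hw1, one_mul] at hw
  exact hw

set_option maxRecDepth 100000 in
theorem okM12_of_ne : ∀ i < 5, ∀ q < 24, d0Mask.testBit q = true →
    (∀ j < i, baseL.getD j 0 ≠ q) → okM12 i q = true := by
  decide +kernel

/-- The `i`-th basic orbit of the `M12` chain as a finset. -/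
def orbitSetM12 (i : ℕ) : Finset GolayPt := Finset.univ.filter fun p => okM12 i (idx p) = true

theorem bp_mem_d0 : ∀ j < 5, d0Mask.testBit (baseL.getD j 0) = true := by decide

theorem bp_mem_d0' {j : ℕ} (hj : j < 5) : bp j ∈ d0 := by
  unfold d0 bp
  rw [mem_setOf, idx_pt (baseL_lt _)]
  exact bp_mem_d0 j hj

theorem okM12_of_mem_Hs {i : ℕ} (hi : i < 5) {g : Equiv.Perm GolayPt} (hg : g ∈ Hs i) :
    okM12 i (idx (g (bp i))) = true := by
  rw [mem_Hs] at hg
  apply okM12_of_ne i hi _ (idx_lt _)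
  · have : g (bp i) ∈ d0 := (apply_mem_of_mem_stabM24 hg.1 _).mpr (bp_mem_d0' hi)
    unfold d0 at this
    rwa [mem_setOf] at this
  · exact idx_apply_ne_base (by omega) hg.2

theorem card_Hs_succ {i : ℕ} (hi : i < 5) :
    Nat.card (Hs i) = (orbitSetM12 i).card * Nat.card (Hs (i + 1)) := by
  rw [Hs_succ]
  apply card_eq_card_mul_card_inf_stabilizer (Hs i) (bp i) (orbitSetM12 i)
  · intro g hg
    simp only [orbitSetM12, Finset.mem_filter, Finset.mem_univ, true_and, Equiv.Perm.smul_def]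
    exact okM12_of_mem_Hs hi hg
  · intro q hq
    simp only [orbitSetM12, Finset.mem_filter, Finset.mem_univ, true_and] at hq
    obtain ⟨hmem, hfix, hmap⟩ := vP_spec hi (idx_lt q) hq
    rw [pt_idx] at hmap
    exact ⟨_, mem_Hs.mpr ⟨hmem, hfix⟩, hmap⟩

theorem card_orbitSetM12 : (orbitSetM12 0).card = 12 ∧ (orbitSetM12 1).card = 11 ∧
    (orbitSetM12 2).card = 10 ∧ (orbitSetM12 3).card = 9 ∧ (orbitSetM12 4).card = 8 := by
  decide

theorem card_Hs_5 : Nat.card (Hs 5) = 1 := by rw [Hs_five]; simp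

theorem card_Hs_4 : Nat.card (Hs 4) = 8 := by
  rw [card_Hs_succ (by decide), card_Hs_5, card_orbitSetM12.2.2.2.2]

theorem card_Hs_3 : Nat.card (Hs 3) = 72 := by
  rw [card_Hs_succ (by decide), card_Hs_4, card_orbitSetM12.2.2.2.1]

theorem card_Hs_2 : Nat.card (Hs 2) = 720 := by
  rw [card_Hs_succ (by decide), card_Hs_3, card_orbitSetM12.2.2.1]

theorem card_Hs_1 : Nat.card (Hs 1) = 7920 := by
  rw [card_Hs_succ (by decide), card_Hs_2, card_orbitSetM12.2.1]

theorem card_Hs_0 : Nat.card (Hs 0) = 95040 := by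
  rw [card_Hs_succ (by decide), card_Hs_1, card_orbitSetM12.1]

theorem Hs_zero : Hs 0 = H12 := by
  unfold Hs
  have : Gst 0 = M24 := rfl
  rw [this]
  exact inf_eq_left.mpr inf_le_left

theorem card_H12 : Nat.card H12 = 95040 := by rw [← Hs_zero, card_Hs_0]

/-- Inside `H12`, any `k ≤ 5` distinct points of `d0` can be moved to the first `k` base points. -/
theorem exists_H12_map_to_base : ∀ k ≤ 5, ∀ x : ℕ → GolayPt,
    (∀ a < k, ∀ b < k, x a = x b → a = b) → (∀ j < k, x j ∈ d0) →
    ∃ g ∈ H12, ∀ j < k, g (x j) = bp j := by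
  intro k
  induction k with
  | zero => intro _ x _ _; exact ⟨1, H12.one_mem, fun j hj => absurd hj (by omega)⟩
  | succ k ih =>
    intro hk x hx hxd
    obtain ⟨g, hg, hgx⟩ := ih (by omega) x (fun a ha b hb => hx a (by omega) b (by omega))
      (fun j hj => hxd j (by omega))
    have hne : ∀ j < k, baseL.getD j 0 ≠ idx (g (x k)) := by
      intro j hj h
      have h1 : bp j = g (x k) := by
        show pt (baseL.getD j 0) = g (x k)
        rw [h, pt_idx]
      rw [← hgx j hj] at h1
      have := hx j (by omega) k (by omega) (g.injective h1)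
      omega
    have hmem : g (x k) ∈ d0 := (apply_mem_of_mem_stabM24 hg _).mpr (hxd k (by omega))
    have hok : okM12 k (idx (g (x k))) = true := by
      apply okM12_of_ne k (by omega) _ (idx_lt _) _ hne
      unfold d0 at hmem
      rwa [mem_setOf] at hmem
    obtain ⟨hv, hvfix, hvmap⟩ := vP_spec (i := k) (by omega) (idx_lt (g (x k))) hok
    rw [pt_idx] at hvmap
    refine ⟨vP k (idx (g (x k))) * g, H12.mul_mem hv hg, fun j hj => ?_⟩
    rw [Equiv.Perm.mul_apply]
    by_cases hjk : j < k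
    · rw [hgx j hjk, hvfix j hjk]
    · have : j = k := by omega
      subst this
      exact hvmap

theorem exists_H12_map_emb_to_base {k : ℕ} (hk : k ≤ 5) (x : Fin k ↪ GolayPt)
    (hx : ∀ i, x i ∈ d0) : ∃ g ∈ H12, ∀ j : Fin k, g (x j) = bp j := by
  obtain ⟨g, hg, hgx⟩ := exists_H12_map_to_base k hk
    (fun j => if h : j < k then x ⟨j, h⟩ else none) (by
      intro a ha b hb hab
      simp only [ha, hb, dif_pos] at hab
      have := x.injective hab
      exact Fin.mk.inj_iff.mp this) (by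
      intro j hj
      simp only [hj, dif_pos]
      exact hx _)
  refine ⟨g, hg, fun j => ?_⟩
  have := hgx j j.isLt
  simpa [j.isLt] using this

/-- An element of `H12` fixing five distinct points of `d0` is the identity. -/
theorem eq_one_of_H12_fixes {g : Equiv.Perm GolayPt} (hg : g ∈ H12) (x : Fin 5 ↪ GolayPt)
    (hx : ∀ i, x i ∈ d0) (hfix : ∀ i, g (x i) = x i) : g = 1 := by
  obtain ⟨a, ha, hax⟩ := exists_H12_map_emb_to_base (le_refl 5) x hx
  have hmem : a * g * a⁻¹ ∈ Hs 5 := by
    rw [mem_Hs]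
    refine ⟨H12.mul_mem (H12.mul_mem ha hg) (H12.inv_mem ha), fun j hj => ?_⟩
    have h1 : a⁻¹ (bp j) = x ⟨j, hj⟩ := by
      rw [← hax ⟨j, hj⟩]; simp
    simp only [Equiv.Perm.mul_apply]
    rw [h1, hfix, hax]
  rw [Hs_five, Subgroup.mem_bot] at hmem
  have : g = a⁻¹ * (a * g * a⁻¹) * a := by group
  rw [this, hmem]; group

/-! ### The point stabilizer `M11` acting on the complement -/

/-- The stabilizer in `H12` of the first base point `∞`. -/
def K11 : Subgroup (Equiv.Perm GolayPt) := Hs 1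

theorem mem_K11 {g : Equiv.Perm GolayPt} : g ∈ K11 ↔ g ∈ H12 ∧ g (bp 0) = bp 0 := by
  unfold K11
  rw [mem_Hs]
  constructor
  · rintro ⟨h1, h2⟩; exact ⟨h1, h2 0 (by decide)⟩
  · rintro ⟨h1, h2⟩
    refine ⟨h1, fun j hj => ?_⟩
    have : j = 0 := by omega
    subst this; exact h2

theorem card_K11 : Nat.card K11 = 7920 := card_Hs_1

set_option maxRecDepth 100000 in
theorem okM11_of_ne : ∀ i < 3, ∀ q < 24, d0Mask.testBit q = false →
    (∀ j < i, baseC.getD j 0 ≠ q) → okM11 i q = true := by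
  decide +kernel

/-- Inside `K11`, any `k ≤ 3` distinct points outside `d0` can be moved to the first `k` points
of `baseC`. -/
theorem exists_K11_map_to_baseC : ∀ k ≤ 3, ∀ x : ℕ → GolayPt,
    (∀ a < k, ∀ b < k, x a = x b → a = b) → (∀ j < k, x j ∉ d0) →
    ∃ g ∈ K11, ∀ j < k, g (x j) = pt (baseC.getD j 0) := by
  intro k
  induction k with
  | zero => intro _ x _ _; exact ⟨1, K11.one_mem, fun j hj => absurd hj (by omega)⟩
  | succ k ih =>
    intro hk x hx hxd
    obtain ⟨g, hg, hgx⟩ := ih (by omega) x (fun a ha b hb => hx a (by omega) b (by omega))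
      (fun j hj => hxd j (by omega))
    have hgH : g ∈ H12 := (mem_K11.mp hg).1
    have hne : ∀ j < k, baseC.getD j 0 ≠ idx (g (x k)) := by
      intro j hj h
      have h1 : pt (baseC.getD j 0) = g (x k) := by rw [h, pt_idx]
      rw [← hgx j hj] at h1
      have := hx j (by omega) k (by omega) (g.injective h1)
      omega
    have hmem : g (x k) ∉ d0 := fun h => hxd k (by omega) ((apply_mem_of_mem_stabM24 hgH _).mp h)
    have hok : okM11 k (idx (g (x k))) = true := by
      apply okM11_of_ne k (by omega) _ (idx_lt _) _ hne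
      unfold d0 at hmem
      rw [mem_setOf] at hmem
      simpa using hmem
    obtain ⟨hc, hcinf, hcfix, hcmap⟩ := cP_spec (i := k) (by omega) (idx_lt (g (x k))) hok
    rw [pt_idx] at hcmap
    refine ⟨cP k (idx (g (x k))) * g, K11.mul_mem (mem_K11.mpr ⟨hc, hcinf⟩) hg, fun j hj => ?_⟩
    rw [Equiv.Perm.mul_apply]
    by_cases hjk : j < k
    · rw [hgx j hjk, hcfix j hjk]
    · have : j = k := by omega
      subst this
      exact hcmap

theorem exists_K11_map_emb {x y : Fin 3 ↪ GolayPt} (hx : ∀ i, x i ∉ d0) (hy : ∀ i, y i ∉ d0) :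
    ∃ g ∈ K11, ∀ i, g (x i) = y i := by
  have key : ∀ z : Fin 3 ↪ GolayPt, (∀ i, z i ∉ d0) →
      ∃ g ∈ K11, ∀ j : Fin 3, g (z j) = pt (baseC.getD j 0) := by
    intro z hz
    obtain ⟨g, hg, hgz⟩ := exists_K11_map_to_baseC 3 (le_refl 3)
      (fun j => if h : j < 3 then z ⟨j, h⟩ else none) (by
        intro a ha b hb hab
        simp only [ha, hb, dif_pos] at hab
        have := z.injective hab
        exact Fin.mk.inj_iff.mp this) (by
        intro j hj
        simp only [hj, dif_pos]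
        exact hz _)
    refine ⟨g, hg, fun j => ?_⟩
    have := hgz j j.isLt
    simpa [j.isLt] using this
  obtain ⟨gx, hgx, hx'⟩ := key x hx
  obtain ⟨gy, hgy, hy'⟩ := key y hy
  refine ⟨gy⁻¹ * gx, K11.mul_mem (K11.inv_mem hgy) hgx, fun j => ?_⟩
  rw [Equiv.Perm.mul_apply, hx' j, ← hy' j]
  simp

end Cfsg.Agent.Lib.Helper7
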