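import Cfsg.Prelude.Def_Sporadic_a

set_option autoImplicit false

namespace Cfsg.Agent.Lib.Helper7
open Cfsg

theorem zmod2_cases (p : ZMod 2) : p = 0 ∨ p = 1 := by
  revert p; decide

theorem zmod2_ne_zero_iff (p : ZMod 2) : p ≠ 0 ↔ p = 1 := by
  revert p; decide

theorem zmod2_one_add_one : (1 + 1 : ZMod 2) = 0 := by decide

theorem zmod2_one_add_one_add_one : (1 + 1 + 1 : ZMod 2) = 1 := by decide

/-- Membership of a filter-set in `supports C` gives a word with pointwise description. -/
theorem exists_word_of_mem_supports {C : Set (GolayPt → ZMod 2)} {P : GolayPt → Prop}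
    [DecidablePred P] (h : (Finset.univ.filter P) ∈ supports C) :
    ∃ w ∈ C, ∀ i, w i = 1 ↔ P i := by
  obtain ⟨w, hw, hs⟩ := h
  refine ⟨w, hw, fun i => ?_⟩
  have := congrArg (fun s => i ∈ s) hs
  simp only [support₂, Finset.mem_filter, Finset.mem_univ, true_and, eq_iff_iff] at this
  rw [← zmod2_ne_zero_iff]
  exact this

theorem mem_supports_of_word {C : Set (GolayPt → ZMod 2)} {P : GolayPt → Prop}
    [DecidablePred P] (w : GolayPt → ZMod 2) (hw : w ∈ C) (h : ∀ i, w i = 1 ↔ P i) :
    (Finset.univ.filter P) ∈ supports C := by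
  refine ⟨w, hw, ?_⟩
  ext i
  simp only [support₂, Finset.mem_filter, Finset.mem_univ, true_and]
  rw [zmod2_ne_zero_iff]
  exact h i

theorem golay_one_mem : (1 : GolayPt → ZMod 2) ∈ golayCode :=
  Submodule.subset_span (Or.inr rfl)

theorem leechSet_zero_mem : (0 : GolayPt → ℤ) ∈ leechSet := by
  refine ⟨0, fun i => by simp, by simp, fun k => ?_⟩
  by_cases hk : (0 : ℤ) ≡ k [ZMOD 4]
  · refine mem_supports_of_word 1 golay_one_mem (fun i => ?_)
    simp [hk]
  · refine mem_supports_of_word 0 golayCode.zero_mem (fun i => ?_)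
    simp [hk]

theorem leechSet_neg_mem {x : GolayPt → ℤ} (hx : x ∈ leechSet) : -x ∈ leechSet := by
  obtain ⟨m, h1, h2, h3⟩ := hx
  refine ⟨-m, fun i => ?_, ?_, fun k => ?_⟩
  · have := h1 i
    simp only [Int.ModEq, Pi.neg_apply] at this ⊢
    omega
  · simp only [Int.ModEq, Pi.neg_apply, Finset.sum_neg_distrib] at h2 ⊢
    omega
  · obtain ⟨w, hw, hwi⟩ := exists_word_of_mem_supports (h3 (-k))
    refine mem_supports_of_word w hw (fun i => ?_)
    rw [hwi i]
    simp only [Int.ModEq, Pi.neg_apply]
    omega

theorem leechSet_add_mem {x y : GolayPt → ℤ} (hx : x ∈ leechSet) (hy : y ∈ leechSet) :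
    x + y ∈ leechSet := by
  obtain ⟨m, h1, h2, h3⟩ := hx
  obtain ⟨m', h1', h2', h3'⟩ := hy
  refine ⟨m + m', fun i => ?_, ?_, fun k => ?_⟩
  · have := h1 i
    have := h1' i
    simp only [Int.ModEq, Pi.add_apply] at *
    omega
  · simp only [Int.ModEq, Pi.add_apply, Finset.sum_add_distrib] at h2 h2' ⊢
    omega
  · obtain ⟨a, ha, hai⟩ := exists_word_of_mem_supports (h3 (m + 2))
    obtain ⟨b, hb, hbi⟩ := exists_word_of_mem_supports (h3' (m' + 2))
    by_cases hk : k ≡ m + m' [ZMOD 2]
    · by_cases hk4 : k ≡ m + m' [ZMOD 4]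
      · refine mem_supports_of_word (a + b + 1)
          (golayCode.add_mem (golayCode.add_mem ha hb) golay_one_mem) (fun i => ?_)
        have e1 := h1 i
        have e2 := h1' i
        have e3 := hai i
        have e4 := hbi i
        simp only [Pi.add_apply, Pi.one_apply]
        rcases zmod2_cases (a i) with h | h <;> rcases zmod2_cases (b i) with h' | h' <;>
          simp only [h, h', Int.ModEq] at * <;>
          simp [zmod2_one_add_one] at e3 e4 ⊢ <;> omega
      · refine mem_supports_of_word (a + b)
          (golayCode.add_mem ha hb) (fun i => ?_)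
        have e1 := h1 i
        have e2 := h1' i
        have e3 := hai i
        have e4 := hbi i
        simp only [Pi.add_apply]
        rcases zmod2_cases (a i) with h | h <;> rcases zmod2_cases (b i) with h' | h' <;>
          simp only [h, h', Int.ModEq] at * <;>
          simp [zmod2_one_add_one] at e3 e4 ⊢ <;> omega
    · refine mem_supports_of_word 0 golayCode.zero_mem (fun i => ?_)
      have e1 := h1 i
      have e2 := h1' i
      simp only [Int.ModEq, Pi.add_apply, Pi.zero_apply] at *
      constructor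
      · intro h; simp at h
      · intro h; omega

/-- `leechSet` as an additive subgroup. -/
def leechAddSubgroup : AddSubgroup (GolayPt → ℤ) where
  carrier := leechSet
  zero_mem' := leechSet_zero_mem
  add_mem' := leechSet_add_mem
  neg_mem' := leechSet_neg_mem

theorem coe_leechAddSubgroup : (leechAddSubgroup : Set (GolayPt → ℤ)) = leechSet := rfl

theorem leechLattice_eq : leechLattice = leechAddSubgroup := by
  unfold leechLattice
  rw [← coe_leechAddSubgroup]
  exact AddSubgroup.closure_eq _

theorem mem_leechLattice_iff (x : GolayPt → ℤ) : x ∈ leechLattice ↔ x ∈ leechSet := by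
  rw [leechLattice_eq]; rfl

end Cfsg.Agent.Lib.Helper7
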