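import Cfsg.Agent.Lib.Helper7.GolayBits
import Cfsg.Agent.Lib.Helper7.LeechSet

/-!
# Norms in the Leech lattice: divisibility by 16 and minimum norm 32
(`sqNorm` is 8 times the customary normalisation.)
-/

set_option autoImplicit false

namespace Cfsg.Agent.Lib.Helper7
open Cfsg

/-- Squares of odd integers modulo 16. -/
theorem sq_emod16_of_odd (x : ℤ) (hx : x % 2 = 1) :
    x ^ 2 % 16 = (15 + 2 * x + 4 * (if x ≡ 3 [ZMOD 4] then 1 else 0)) % 16 := by
  have hr : x % 16 = 1 ∨ x % 16 = 3 ∨ x % 16 = 5 ∨ x % 16 = 7 ∨ x % 16 = 9 ∨ x % 16 = 11 ∨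
      x % 16 = 13 ∨ x % 16 = 15 := by omega
  have key : ∀ r : ℤ, x % 16 = r % 16 → x ^ 2 % 16 = r ^ 2 % 16 := by
    intro r h
    exact (Int.ModEq.pow 2 h)
  simp only [Int.ModEq]
  rcases hr with h | h | h | h | h | h | h | h
  · rw [key 1 (by omega)]; split_ifs <;> omega
  · rw [key 3 (by omega)]; split_ifs <;> omega
  · rw [key 5 (by omega)]; split_ifs <;> omega
  · rw [key 7 (by omega)]; split_ifs <;> omega
  · rw [key 9 (by omega)]; split_ifs <;> omega
  · rw [key 11 (by omega)]; split_ifs <;> omega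
  · rw [key 13 (by omega)]; split_ifs <;> omega
  · rw [key 15 (by omega)]; split_ifs <;> omega

/-- Squares of even integers modulo 16. -/
theorem sq_emod16_of_even (x : ℤ) (hx : x % 2 = 0) :
    x ^ 2 % 16 = (4 * (if x ≡ 2 [ZMOD 4] then 1 else 0)) % 16 := by
  have hr : x % 16 = 0 ∨ x % 16 = 2 ∨ x % 16 = 4 ∨ x % 16 = 6 ∨ x % 16 = 8 ∨ x % 16 = 10 ∨
      x % 16 = 12 ∨ x % 16 = 14 := by omega
  have key : ∀ r : ℤ, x % 16 = r % 16 → x ^ 2 % 16 = r ^ 2 % 16 := by
    intro r h
    exact (Int.ModEq.pow 2 h)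
  simp only [Int.ModEq]
  rcases hr with h | h | h | h | h | h | h | h
  · rw [key 0 (by omega)]; split_ifs <;> omega
  · rw [key 2 (by omega)]; split_ifs <;> omega
  · rw [key 4 (by omega)]; split_ifs <;> omega
  · rw [key 6 (by omega)]; split_ifs <;> omega
  · rw [key 8 (by omega)]; split_ifs <;> omega
  · rw [key 10 (by omega)]; split_ifs <;> omega
  · rw [key 12 (by omega)]; split_ifs <;> omega
  · rw [key 14 (by omega)]; split_ifs <;> omega

/-- A filter-set lying in `supports golayCode` has cardinality divisible by 4. -/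
theorem four_dvd_card_of_mem_supports {s : Finset GolayPt}
    (h : s ∈ supports (golayCode : Set (GolayPt → ZMod 2))) : 4 ∣ s.card := by
  obtain ⟨w, hw, rfl⟩ := h
  exact golay_doubly_even hw

/-- A nonempty set lying in `supports golayCode` has at least 8 elements. -/
theorem eight_le_card_of_mem_supports {s : Finset GolayPt}
    (h : s ∈ supports (golayCode : Set (GolayPt → ZMod 2))) (hne : s.Nonempty) : 8 ≤ s.card := by
  obtain ⟨w, hw, rfl⟩ := h
  refine golay_min_weight hw ?_
  rintro rfl
  obtain ⟨i, hi⟩ := hne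
  simp [support₂] at hi

theorem sum_indicator_eq_card (P : GolayPt → Prop) [DecidablePred P] :
    (∑ i : GolayPt, (if P i then (1 : ℤ) else 0)) = ((Finset.univ.filter P).card : ℤ) := by
  rw [Finset.sum_boole]

/-- Every vector of `leechSet` has `sqNorm` divisible by 16. -/
theorem sqNorm_dvd_of_mem_leechSet {x : GolayPt → ℤ} (hx : x ∈ leechSet) : (16 : ℤ) ∣ sqNorm x := by
  obtain ⟨m, h1, h2, h3⟩ := hx
  apply Int.dvd_of_emod_eq_zero
  unfold sqNorm
  rw [Finset.sum_int_mod]
  have hcard : (Finset.univ : Finset GolayPt).card = 24 := by decide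
  rcases Int.emod_two_eq_zero_or_one m with hm | hm
  · -- even case
    have hpt : ∀ i, x i ^ 2 % 16 = (4 * (if x i ≡ 2 [ZMOD 4] then 1 else 0)) % 16 := by
      intro i
      apply sq_emod16_of_even
      have := h1 i
      simp only [Int.ModEq] at this
      omega
    simp only [hpt]
    rw [← Finset.sum_int_mod, ← Finset.mul_sum, sum_indicator_eq_card]
    obtain ⟨t, ht⟩ := four_dvd_card_of_mem_supports (h3 2)
    rw [ht]
    push_cast
    omega
  · -- odd case
    have hpt : ∀ i, x i ^ 2 % 16 = (15 + 2 * x i + 4 * (if x i ≡ 3 [ZMOD 4] then 1 else 0)) % 16 := by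
      intro i
      apply sq_emod16_of_odd
      have := h1 i
      simp only [Int.ModEq] at this
      omega
    simp only [hpt]
    rw [← Finset.sum_int_mod, Finset.sum_add_distrib, Finset.sum_add_distrib, ← Finset.mul_sum,
      ← Finset.mul_sum, sum_indicator_eq_card]
    obtain ⟨t, ht⟩ := four_dvd_card_of_mem_supports (h3 3)
    rw [ht]
    simp only [Finset.sum_const, hcard, Int.ModEq, nsmul_eq_mul] at h2 ⊢
    push_cast
    omega

theorem sqNorm_dvd_of_mem_leechLattice {x : GolayPt → ℤ} (hx : x ∈ leechLattice) :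
    (16 : ℤ) ∣ sqNorm x :=
  sqNorm_dvd_of_mem_leechSet ((mem_leechLattice_iff x).mp hx)

theorem sqNorm_nonneg' (x : GolayPt → ℤ) : 0 ≤ sqNorm x :=
  Finset.sum_nonneg fun i _ => sq_nonneg (x i)

/-- Every nonzero vector of `leechSet` has `sqNorm` at least 32. -/
theorem sqNorm_ge_of_mem_leechSet {x : GolayPt → ℤ} (hx : x ∈ leechSet) (h0 : x ≠ 0) :
    32 ≤ sqNorm x := by
  have h16 := sqNorm_dvd_of_mem_leechSet hx
  obtain ⟨m, h1, h2, h3⟩ := hx
  have hcard : (Finset.univ : Finset GolayPt).card = 24 := by decide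
  rcases Int.emod_two_eq_zero_or_one m with hm | hm
  · -- even case
    by_cases hS : (Finset.univ.filter fun i => x i ≡ 2 [ZMOD 4]).Nonempty
    · have h8 := eight_le_card_of_mem_supports (h3 2) hS
      have hle : ∑ i ∈ (Finset.univ.filter fun i => x i ≡ 2 [ZMOD 4]), (4 : ℤ) ≤ sqNorm x := by
        unfold sqNorm
        refine le_trans (Finset.sum_le_sum (f := fun _ => (4 : ℤ)) (g := fun i => x i ^ 2) ?_)
          (Finset.sum_le_sum_of_subset_of_nonneg (Finset.filter_subset _ _)
            (fun i _ _ => sq_nonneg (x i)))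
        intro i hi
        have hi' : x i % 4 = 2 % 4 := (Finset.mem_filter.mp hi).2
        have h2' : (2 : ℤ) ≤ |x i| := by
          rcases abs_cases (x i) with ⟨h, _⟩ | ⟨h, _⟩ <;> omega
        calc (4 : ℤ) = 2 ^ 2 := by norm_num
          _ ≤ |x i| ^ 2 := by gcongr
          _ = x i ^ 2 := sq_abs (x i)
      rw [Finset.sum_const, nsmul_eq_mul] at hle
      have h8' : (8 : ℤ) ≤ ((Finset.univ.filter fun i => x i ≡ 2 [ZMOD 4]).card : ℤ) := by
        exact_mod_cast h8
      generalize ((Finset.univ.filter fun i => x i ≡ 2 [ZMOD 4]).card : ℤ) = n at hle h8'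
      omega
    · -- all coordinates divisible by 4
      rw [Finset.not_nonempty_iff_eq_empty] at hS
      have h4 : ∀ i, x i % 4 = 0 := by
        intro i
        have hi : i ∉ (Finset.univ.filter fun i => x i ≡ 2 [ZMOD 4]) := by rw [hS]; simp
        have hi' : ¬ (x i % 4 = 2 % 4) := fun h => hi (Finset.mem_filter.mpr ⟨Finset.mem_univ i, h⟩)
        have := h1 i
        simp only [Int.ModEq] at this
        omega
      obtain ⟨j, hj⟩ : ∃ j, x j ≠ 0 := by
        by_contra hcon
        push Not at hcon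
        exact h0 (funext hcon)
      have hsplit : sqNorm x = x j ^ 2 + ∑ i ∈ Finset.univ.erase j, x i ^ 2 := by
        unfold sqNorm
        exact (Finset.add_sum_erase _ (fun i => x i ^ 2) (Finset.mem_univ j)).symm
      have hsq16 : ∀ i, x i ≠ 0 → 16 ≤ x i ^ 2 := by
        intro i hi
        have h4' : (4 : ℤ) ≤ |x i| := by
          have := h4 i
          rcases abs_cases (x i) with ⟨h, _⟩ | ⟨h, _⟩ <;> omega
        calc (16 : ℤ) = 4 ^ 2 := by norm_num
          _ ≤ |x i| ^ 2 := by gcongr
          _ = x i ^ 2 := sq_abs (x i)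
      by_cases hother : ∃ i, i ≠ j ∧ x i ≠ 0
      · obtain ⟨i, hij, hi⟩ := hother
        have hmem : i ∈ Finset.univ.erase j := Finset.mem_erase.mpr ⟨hij, Finset.mem_univ i⟩
        have := Finset.single_le_sum (f := fun i => x i ^ 2) (fun i _ => sq_nonneg (x i)) hmem
        have := hsq16 i hi
        have := hsq16 j hj
        omega
      · push Not at hother
        have hsum : ∑ i, x i = x j := by
          apply Finset.sum_eq_single j
          · intro i _ hij; exact hother i hij
          · intro h; exact absurd (Finset.mem_univ j) h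
        rw [hsum] at h2
        simp only [Int.ModEq] at h2
        have h8' : (8 : ℤ) ≤ |x j| := by
          rcases abs_cases (x j) with ⟨h, _⟩ | ⟨h, _⟩ <;> omega
        have : (64 : ℤ) ≤ x j ^ 2 := by
          calc (64 : ℤ) = 8 ^ 2 := by norm_num
            _ ≤ |x j| ^ 2 := by gcongr
            _ = x j ^ 2 := sq_abs (x j)
        have hnn : 0 ≤ ∑ i ∈ Finset.univ.erase j, x i ^ 2 :=
          Finset.sum_nonneg fun i _ => sq_nonneg (x i)
        omega
  · -- odd case: every coordinate is odd, so the norm is at least 24, and divisible by 16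
    have hge : (24 : ℤ) ≤ sqNorm x := by
      unfold sqNorm
      have : ∀ i ∈ (Finset.univ : Finset GolayPt), (1 : ℤ) ≤ x i ^ 2 := by
        intro i _
        have := h1 i
        simp only [Int.ModEq] at this
        have hne : x i ≠ 0 := by intro h; rw [h] at this; omega
        have h1' : (1 : ℤ) ≤ |x i| := by
          rcases abs_cases (x i) with ⟨h, _⟩ | ⟨h, _⟩ <;> omega
        calc (1 : ℤ) = 1 ^ 2 := by norm_num
          _ ≤ |x i| ^ 2 := by gcongr
          _ = x i ^ 2 := sq_abs (x i)
      have := Finset.sum_le_sum this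
      simpa [hcard] using this
    obtain ⟨k, hk⟩ := h16
    omega

theorem sqNorm_ge_of_mem_leechLattice {x : GolayPt → ℤ} (hx : x ∈ leechLattice) (h0 : x ≠ 0) :
    32 ≤ sqNorm x :=
  sqNorm_ge_of_mem_leechSet ((mem_leechLattice_iff x).mp hx) h0

end Cfsg.Agent.Lib.Helper7
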