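import Cfsg.Agent.Lib.Helper7.SimpleMathieu

/-!
# Simplicity of `M22`, `M12`, `M11` for arbitrary points / dodecads
-/

set_option autoImplicit false

namespace Cfsg.Agent.Lib.Helper7
open Cfsg
open scoped Pointwise

/-- A two-point stabilizer in `M24` is simple (this is statement S0379). -/
theorem isSimpleGroup_stabilizer_pair_M24 {p q : GolayPt} (hpq : p ≠ q) :
    IsSimpleGroup ↥(MulAction.stabilizer M24 p ⊓ MulAction.stabilizer M24 q) := by
  let Y : Subgroup (Equiv.Perm GolayPt) :=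
    M24 ⊓ (MulAction.stabilizer (Equiv.Perm GolayPt) p ⊓
      MulAction.stabilizer (Equiv.Perm GolayPt) q)
  have hY : ∀ x : Equiv.Perm GolayPt, x ∈ Y ↔ x ∈ M24 ∧ x p = p ∧ x q = q := fun x => by
    simp only [Y, Subgroup.mem_inf]
    exact Iff.rfl
  have e1 : ↥(MulAction.stabilizer M24 p ⊓ MulAction.stabilizer M24 q) ≃* ↥Y :=
    subgroupEquivOfMem _ _ inf_le_left (fun x => by
      rw [hY, Subgroup.mem_inf, MulAction.mem_stabilizer_iff, MulAction.mem_stabilizer_iff]
      exact ⟨fun h => ⟨x.2, h.1, h.2⟩, fun h => ⟨h.2.1, h.2.2⟩⟩)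
  obtain ⟨ρ, hρ, hρp⟩ := exists_map_to_base 2 (by decide) (fun j => if j = 0 then p else q)
    (fun a ha b hb h => by
      by_cases ha0 : a = 0 <;> by_cases hb0 : b = 0
      · omega
      · simp only [if_pos ha0, if_neg hb0] at h; exact absurd h hpq
      · simp only [if_neg ha0, if_pos hb0] at h; exact absurd h.symm hpq
      · omega)
  have hρp' : ρ p = bp 0 := by simpa using hρp 0 (by decide)
  have hρq' : ρ q = bp 1 := by simpa using hρp 1 (by decide)
  have e2 : ↥Y ≃* ↥(Gst 2) :=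
    conjSubgroupEquiv ρ⁻¹ _ _ (fun x => by
      rw [inv_inv, mem_Gst, hY]
      constructor
      · rintro ⟨hx, hxp, hxq⟩
        refine ⟨M24.mul_mem (M24.mul_mem hρ hx) (M24.inv_mem hρ), fun j hj => ?_⟩
        have : j = 0 ∨ j = 1 := by omega
        rcases this with rfl | rfl
        · rw [← hρp', conj_apply_eq_iff]; exact hxp
        · rw [← hρq', conj_apply_eq_iff]; exact hxq
      · rintro ⟨hx, hfix⟩
        have hx' : x = ρ⁻¹ * (ρ * x * ρ⁻¹) * ρ := by group
        refine ⟨hx' ▸ M24.mul_mem (M24.mul_mem (M24.inv_mem hρ) hx) hρ, ?_, ?_⟩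
        · have := hfix 0 (by decide)
          rw [← hρp', conj_apply_eq_iff] at this
          exact this
        · have := hfix 1 (by decide)
          rw [← hρq', conj_apply_eq_iff] at this
          exact this)
  have := isSimpleGroup_Gst2
  exact (e1.trans e2).isSimpleGroup

/-- The stabilizer of a dodecad in `M24` is simple (this is statement S0383). -/
theorem isSimpleGroup_stabilizer_dodecad {d : Finset GolayPt} (hd : d ∈ dodecads) :
    IsSimpleGroup (MulAction.stabilizer M24 d) := by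
  have e1 : MulAction.stabilizer M24 d ≃* ↥(stabM24 d) :=
    subgroupEquivOfMem _ _ inf_le_left (fun x => by
      rw [mem_stabM24, MulAction.mem_stabilizer_iff]
      exact ⟨fun h => ⟨x.2, h⟩, fun h => h.2⟩)
  obtain ⟨ρ, hρ, hρd⟩ := exists_map_dodecad hd
  have e2 : ↥(stabM24 d) ≃* ↥H12 :=
    conjSubgroupEquiv ρ⁻¹ _ _ (fun x => by
      rw [inv_inv, conj_mem_stabM24 hρ d, hρd]
      rfl)
  have := isSimpleGroup_H12
  exact (e1.trans e2).isSimpleGroup

/-- The stabilizer of a dodecad and a point on it is simple (this is statement S0388). -/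
theorem isSimpleGroup_stabilizer_dodecad_point {d : Finset GolayPt} (hd : d ∈ dodecads)
    {p : GolayPt} (hp : p ∈ d) :
    IsSimpleGroup ↥(MulAction.stabilizer M24 d ⊓ MulAction.stabilizer M24 p) := by
  have e1 : ↥(MulAction.stabilizer M24 d ⊓ MulAction.stabilizer M24 p) ≃* ↥(stabM24Pt d p) :=
    subgroupEquivOfMem _ _ (inf_le_left.trans inf_le_left) (fun x => by
      rw [mem_stabM24Pt, mem_stabM24, Subgroup.mem_inf, MulAction.mem_stabilizer_iff,
        MulAction.mem_stabilizer_iff]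
      exact ⟨fun h => ⟨⟨x.2, h.1⟩, h.2⟩, fun h => ⟨h.1.2, h.2⟩⟩)
  obtain ⟨ρ, hρ, hρd, hρp⟩ := exists_map_dodecad_point hd hp
  have e2 : ↥(stabM24Pt d p) ≃* ↥K11 :=
    conjSubgroupEquiv ρ⁻¹ _ _ (fun x => by
      rw [inv_inv, conj_mem_stabM24Pt hρ d p, hρd, hρp, stabM24Pt_d0])
  have := isSimpleGroup_K11
  exact (e1.trans e2).isSimpleGroup

end Cfsg.Agent.Lib.Helper7
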