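import Cfsg.Agent.Lib.Helper7.StemStep
import Cfsg.Agent.Lib.Helper66.SchurBasic

/-!
# Stem extensions: cyclic subgroups and the reduction to kernels of prime exponent
-/

set_option autoImplicit false

namespace Cfsg.Agent.Lib.Helper7.Stem

open Subgroup
open scoped commutatorElement

universe u v

section cyclic

variable {Γ : Type u} {G : Type v} [Group Γ] [Group G]

/-- Transfer for a cyclic subgroup: kernel elements of a stem extension have order dividing the index of
any cyclic subgroup. -/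
theorem pow_index_eq_one_of_cyclic [Finite G] (σ : Γ →* G) (hσ : Cfsg.IsStemExtension σ)
    (A : Subgroup G) [IsCyclic ↥A] (a : Γ) (ha : a ∈ σ.ker) : a ^ A.index = 1 := by
  obtain ⟨h, hc⟩ := Cfsg.Agent.Lib.Helper66.pow_index_mem_commutator_comap σ hσ.1 hσ.2.1 hσ.2.2 A a ha
  have hker : (σ.subgroupComap A).ker ≤ center ↥(A.comap σ) := by
    intro x hx
    rw [MonoidHom.mem_ker] at hx
    have hx' : σ x.1 = 1 := congrArg Subtype.val hx
    have hxc : x.1 ∈ center Γ := hσ.2.1 (MonoidHom.mem_ker.mpr hx')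
    rw [Subgroup.mem_center_iff]
    intro g
    exact Subtype.ext (Subgroup.mem_center_iff.mp hxc g.1)
  have hcommP : ∀ x y : ↥(A.comap σ), x * y = y * x := by
    have := MonoidHom.isMulCommutative_of_isCyclic_of_ker_le_center (σ.subgroupComap A) hker
    exact fun x y => mul_comm' x y
  have hcb : commutator ↥(A.comap σ) = ⊥ := by
    rw [commutator_eq_closure, Subgroup.closure_eq_bot_iff]
    rintro x ⟨p, q, rfl⟩
    rw [Set.mem_singleton_iff, commutatorElement_def, hcommP p q]
    group
  rw [hcb, mem_bot] at hc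
  exact congrArg Subtype.val hc

end cyclic

section reduce

variable {Γ : Type u} {G : Type u} [Group Γ] [Group G]

/-- The quotient of a stem extension by a subgroup of its kernel is a stem extension. -/
theorem isStemExtension_lift (σ : Γ →* G) (hσ : Cfsg.IsStemExtension σ) (K₀ : Subgroup Γ)
    [K₀.Normal] (h : K₀ ≤ σ.ker) : Cfsg.IsStemExtension (QuotientGroup.lift K₀ σ h) := by
  refine ⟨?_, ?_, ?_⟩
  · intro g
    obtain ⟨x, rfl⟩ := hσ.1 g
    exact ⟨QuotientGroup.mk x, rfl⟩
  · intro x hx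
    induction x using QuotientGroup.induction_on with
    | H x =>
      rw [MonoidHom.mem_ker, QuotientGroup.lift_mk] at hx
      have hc := hσ.2.1 (MonoidHom.mem_ker.mpr hx)
      rw [Subgroup.mem_center_iff]
      intro y
      induction y using QuotientGroup.induction_on with
      | H y =>
        rw [← QuotientGroup.mk_mul, ← QuotientGroup.mk_mul, Subgroup.mem_center_iff.mp hc y]
  · intro x hx
    induction x using QuotientGroup.induction_on with
    | H x =>
      rw [MonoidHom.mem_ker, QuotientGroup.lift_mk] at hx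
      have hc : x ∈ commutator Γ := hσ.2.2 (MonoidHom.mem_ker.mpr hx)
      have hmap : (commutator Γ).map (QuotientGroup.mk' K₀) = commutator (Γ ⧸ K₀) := by
        rw [commutator_def, commutator_def, Subgroup.map_commutator,
          Subgroup.map_top_of_surjective _ (QuotientGroup.mk'_surjective K₀)]
      rw [← hmap]
      exact ⟨x, hc, rfl⟩

/-- To kill the `p`-torsion of the kernels of all finite stem extensions of `G`, it suffices to treat
the stem extensions whose kernel has exponent `p`. -/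
theorem eq_one_of_exponent_reduction (p : ℕ)
    (H : ∀ (Δ : Type u) [Group Δ] [Finite Δ] (τ : Δ →* G), Cfsg.IsStemExtension τ →
      (∀ k ∈ τ.ker, k ^ p = 1) → τ.ker = ⊥)
    [Finite Γ] (σ : Γ →* G) (hσ : Cfsg.IsStemExtension σ) (z : Γ) (hz : z ∈ σ.ker)
    (hzp : z ^ p = 1) : z = 1 := by
  classical
  -- the subgroup of `p`-th powers of kernel elements
  let K₀ : Subgroup Γ :=
    { carrier := {x | ∃ k ∈ σ.ker, x = k ^ p}
      one_mem' := ⟨1, σ.ker.one_mem, by simp⟩
      mul_mem' := by
        rintro _ _ ⟨k, hk, rfl⟩ ⟨l, hl, rfl⟩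
        refine ⟨k * l, σ.ker.mul_mem hk hl, ?_⟩
        have hc : Commute k l := (Subgroup.mem_center_iff.mp (hσ.2.1 hk) l).symm
        exact (hc.mul_pow p).symm
      inv_mem' := by
        rintro _ ⟨k, hk, rfl⟩
        exact ⟨k⁻¹, σ.ker.inv_mem hk, by rw [inv_pow]⟩ }
  have hK₀ker : K₀ ≤ σ.ker := by
    rintro _ ⟨k, hk, rfl⟩
    exact σ.ker.pow_mem hk p
  have : K₀.Normal := by
    refine ⟨?_⟩
    intro n hn g
    have hc := hσ.2.1 (hK₀ker hn)
    have : g * n * g⁻¹ = n := by
      rw [Subgroup.mem_center_iff.mp hc g]; group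
    rw [this]; exact hn
  have hstem := isStemExtension_lift σ hσ K₀ hK₀ker
  have hexp : ∀ k ∈ (QuotientGroup.lift K₀ σ hK₀ker).ker, k ^ p = 1 := by
    intro k hk
    induction k using QuotientGroup.induction_on with
    | H k =>
      rw [MonoidHom.mem_ker, QuotientGroup.lift_mk] at hk
      rw [← QuotientGroup.mk_pow, QuotientGroup.eq_one_iff]
      exact ⟨k, MonoidHom.mem_ker.mpr hk, rfl⟩
  have hbot := H (Γ ⧸ K₀) (QuotientGroup.lift K₀ σ hK₀ker) hstem hexp
  -- hence every kernel element is a `p`-th power of a kernel element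
  have hsurj : ∀ k ∈ σ.ker, ∃ l ∈ σ.ker, k = l ^ p := by
    intro k hk
    have : (QuotientGroup.mk k : Γ ⧸ K₀) ∈ (QuotientGroup.lift K₀ σ hK₀ker).ker := by
      rw [MonoidHom.mem_ker, QuotientGroup.lift_mk]; exact MonoidHom.mem_ker.mp hk
    rw [hbot, mem_bot, QuotientGroup.eq_one_iff] at this
    exact this
  -- the `p`-th power map on the (finite) kernel is surjective, hence injective
  let f : ↥σ.ker → ↥σ.ker := fun k => ⟨(k : Γ) ^ p, σ.ker.pow_mem k.2 p⟩
  have hfs : Function.Surjective f := by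
    rintro ⟨k, hk⟩
    obtain ⟨l, hl, rfl⟩ := hsurj k hk
    exact ⟨⟨l, hl⟩, rfl⟩
  have hfi : Function.Injective f := Finite.injective_iff_surjective.mpr hfs
  have h1 : f ⟨z, hz⟩ = f 1 := by
    apply Subtype.ext
    show z ^ p = (1 : Γ) ^ p
    rw [hzp, one_pow]
  exact congrArg Subtype.val (hfi h1)

end reduce

section final

variable {G : Type u} [Group G]

/-- A cyclic subgroup of index prime to `p` kills the kernels of exponent `p`. -/
theorem ker_eq_bot_of_cyclic {Γ : Type u} [Group Γ] [Finite G] (σ : Γ →* G)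
    (hσ : Cfsg.IsStemExtension σ) (p : ℕ) (hexp : ∀ k ∈ σ.ker, k ^ p = 1)
    (A : Subgroup G) [IsCyclic ↥A] (hcop : Nat.Coprime A.index p) : σ.ker = ⊥ := by
  rw [eq_bot_iff]
  intro x hx
  rw [mem_bot]
  have h1 := pow_index_eq_one_of_cyclic σ hσ A x hx
  have h2 := hexp x hx
  have h3 : orderOf x ∣ Nat.gcd A.index p :=
    Nat.dvd_gcd (orderOf_dvd_of_pow_eq_one h1) (orderOf_dvd_of_pow_eq_one h2)
  rw [hcop, Nat.dvd_one] at h3
  exact orderOf_eq_one_iff.mp h3

/-- An element of prime order `p` with `p² ∤ |G|` kills the kernels of exponent `p`. -/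
theorem ker_eq_bot_of_orderOf {Γ : Type u} [Group Γ] [Finite G] (σ : Γ →* G)
    (hσ : Cfsg.IsStemExtension σ) (p : ℕ) (hexp : ∀ k ∈ σ.ker, k ^ p = 1)
    (e : G) (he : orderOf e = p) (m : ℕ) (hG : Nat.card G = p * m) (hp : 0 < p)
    (hm : Nat.Coprime m p) : σ.ker = ⊥ := by
  apply ker_eq_bot_of_cyclic σ hσ p hexp (Subgroup.zpowers e)
  have h1 := (Subgroup.zpowers e).card_mul_index
  rw [Nat.card_zpowers, he, hG] at h1
  have : (Subgroup.zpowers e).index = m := Nat.eq_of_mul_eq_mul_left hp h1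
  rw [this]; exact hm

/-- Primes not dividing `|G|` do not occur in the kernels. -/
theorem ker_eq_bot_of_coprime_card {Γ : Type u} [Group Γ] [Finite G] (σ : Γ →* G)
    (hσ : Cfsg.IsStemExtension σ) (p : ℕ) (hexp : ∀ k ∈ σ.ker, k ^ p = 1)
    (hcop : Nat.Coprime (Nat.card G) p) : σ.ker = ⊥ := by
  apply ker_eq_bot_of_cyclic σ hσ p hexp (⊥ : Subgroup G)
  rw [Subgroup.index_bot]; exact hcop

/-- If, for every prime `p`, the finite stem extensions of `G` with kernel of exponent `p` are trivial, then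
the Schur multiplier of `G` is trivial. -/
theorem hasCyclicSchurMultiplier_one_of_primes [Finite G]
    (H : ∀ p : ℕ, p.Prime → ∀ (Δ : Type u) [Group Δ] [Finite Δ] (τ : Δ →* G),
      Cfsg.IsStemExtension τ → (∀ k ∈ τ.ker, k ^ p = 1) → τ.ker = ⊥) :
    Cfsg.HasCyclicSchurMultiplier G 1 := by
  apply Cfsg.Agent.Lib.Helper66.hasCyclicSchurMultiplier_one_of
  intro Γ _ _ σ hσ
  rw [eq_bot_iff]
  intro x hx
  rw [mem_bot]
  by_contra hx1
  have hord : orderOf x ≠ 1 := fun h => hx1 (orderOf_eq_one_iff.mp h)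
  have hpos : 0 < orderOf x := orderOf_pos x
  set p := (orderOf x).minFac with hp
  have hpp : p.Prime := Nat.minFac_prime hord
  have hpd : p ∣ orderOf x := Nat.minFac_dvd _
  set w := x ^ (orderOf x / p) with hw
  have hwo : orderOf w = p := orderOf_pow_orderOf_div hpos.ne' hpd
  have hwk : w ∈ σ.ker := σ.ker.pow_mem hx _
  have hwp : w ^ p = 1 := by rw [← hwo]; exact pow_orderOf_eq_one w
  have := eq_one_of_exponent_reduction p (H p hpp) σ hσ w hwk hwp
  rw [this, orderOf_one] at hwo
  exact hpp.one_lt.ne hwo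

end final

end Cfsg.Agent.Lib.Helper7.Stem
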