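import Cfsg.Agent.Lib.Helper7.M12Chain

/-!
# `M12` and `M11` for an arbitrary dodecad (and point of it)
-/

set_option autoImplicit false

namespace Cfsg.Agent.Lib.Helper7
open Cfsg
open scoped Pointwise

theorem conj_mem_stabM24 {ρ : Equiv.Perm GolayPt} (hρ : ρ ∈ M24) (s : Finset GolayPt)
    {h : Equiv.Perm GolayPt} : h ∈ stabM24 s ↔ ρ * h * ρ⁻¹ ∈ stabM24 (ρ • s) := by
  simp only [mem_stabM24]
  constructor
  · rintro ⟨hM, hs⟩
    refine ⟨M24.mul_mem (M24.mul_mem hρ hM) (M24.inv_mem hρ), ?_⟩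
    rw [mul_smul, mul_smul, inv_smul_smul, hs]
  · rintro ⟨hM, hs⟩
    have hh : h = ρ⁻¹ * (ρ * h * ρ⁻¹) * ρ := by group
    refine ⟨hh ▸ M24.mul_mem (M24.mul_mem (M24.inv_mem hρ) hM) hρ, ?_⟩
    rw [mul_smul, mul_smul, inv_smul_smul] at hs
    exact smul_left_cancel ρ hs

theorem conj_apply_eq_iff (ρ h : Equiv.Perm GolayPt) (p : GolayPt) :
    (ρ * h * ρ⁻¹) (ρ p) = ρ p ↔ h p = p := by
  simp [Equiv.Perm.mul_apply]

/-- For a dodecad `d` and a point `p ∈ d`, an element of `M24` mapping `d` to `d0` and `p` to `∞`. -/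
theorem exists_map_dodecad_point {d : Finset GolayPt} (hd : d ∈ dodecads) {p : GolayPt}
    (hp : p ∈ d) : ∃ ρ ∈ M24, ρ • d = d0 ∧ ρ p = bp 0 := by
  obtain ⟨ρ, hρ, hρd⟩ := exists_map_dodecad hd
  have hρp : ρ p ∈ d0 := by rw [← hρd, apply_mem_perm_smul_finset]; exact hp
  have hok : okM12 0 (idx (ρ p)) = true := by
    apply okM12_of_ne 0 (by decide) _ (idx_lt _)
    · unfold d0 at hρp; rwa [mem_setOf] at hρp
    · intro j hj; omega
  obtain ⟨hv, _, hvmap⟩ := vP_spec (i := 0) (by decide) (idx_lt (ρ p)) hok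
  rw [pt_idx] at hvmap
  refine ⟨vP 0 (idx (ρ p)) * ρ, M24.mul_mem (mem_stabM24.mp hv).1 hρ, ?_, ?_⟩
  · rw [mul_smul, hρd]; exact (mem_stabM24.mp hv).2
  · rw [Equiv.Perm.mul_apply]; exact hvmap

/-- The equivalence between the stabilizers of `s` and of `ρ • s`. -/
noncomputable def stabM24ConjEquiv {ρ : Equiv.Perm GolayPt} (hρ : ρ ∈ M24) (s : Finset GolayPt) :
    stabM24 s ≃ stabM24 (ρ • s) where
  toFun h := ⟨ρ * h * ρ⁻¹, (conj_mem_stabM24 hρ s).mp h.2⟩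
  invFun g := ⟨ρ⁻¹ * g * ρ, (conj_mem_stabM24 hρ s).mpr (by
    have : ρ * (ρ⁻¹ * (g : Equiv.Perm GolayPt) * ρ) * ρ⁻¹ = g := by group
    rw [this]; exact g.2)⟩
  left_inv h := by apply Subtype.ext; simp only; group
  right_inv g := by apply Subtype.ext; simp only; group

/-- The order of the stabilizer of a dodecad. -/
theorem card_stabM24_dodecad {d : Finset GolayPt} (hd : d ∈ dodecads) :
    Nat.card (stabM24 d) = 95040 := by
  obtain ⟨ρ, hρ, hρd⟩ := exists_map_dodecad hd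
  rw [Nat.card_congr (stabM24ConjEquiv hρ d), hρd]
  exact card_H12

/-- The stabilizer of a dodecad and a point of it. -/
def stabM24Pt (d : Finset GolayPt) (p : GolayPt) : Subgroup (Equiv.Perm GolayPt) :=
  stabM24 d ⊓ MulAction.stabilizer (Equiv.Perm GolayPt) p

theorem mem_stabM24Pt {d : Finset GolayPt} {p : GolayPt} {g : Equiv.Perm GolayPt} :
    g ∈ stabM24Pt d p ↔ g ∈ stabM24 d ∧ g p = p := by
  simp [stabM24Pt, MulAction.mem_stabilizer_iff]

theorem conj_mem_stabM24Pt {ρ : Equiv.Perm GolayPt} (hρ : ρ ∈ M24) (d : Finset GolayPt)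
    (p : GolayPt) {h : Equiv.Perm GolayPt} :
    h ∈ stabM24Pt d p ↔ ρ * h * ρ⁻¹ ∈ stabM24Pt (ρ • d) (ρ p) := by
  rw [mem_stabM24Pt, mem_stabM24Pt, conj_mem_stabM24 hρ d, conj_apply_eq_iff]

theorem stabM24Pt_d0 : stabM24Pt d0 (bp 0) = K11 := by
  ext g
  rw [mem_stabM24Pt, mem_K11]
  rfl

noncomputable def stabM24PtConjEquiv {ρ : Equiv.Perm GolayPt} (hρ : ρ ∈ M24) (d : Finset GolayPt)
    (p : GolayPt) : stabM24Pt d p ≃ stabM24Pt (ρ • d) (ρ p) where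
  toFun h := ⟨ρ * h * ρ⁻¹, (conj_mem_stabM24Pt hρ d p).mp h.2⟩
  invFun g := ⟨ρ⁻¹ * g * ρ, (conj_mem_stabM24Pt hρ d p).mpr (by
    have : ρ * (ρ⁻¹ * (g : Equiv.Perm GolayPt) * ρ) * ρ⁻¹ = g := by group
    rw [this]; exact g.2)⟩
  left_inv h := by apply Subtype.ext; simp only; group
  right_inv g := by apply Subtype.ext; simp only; group

/-- The order of the stabilizer of a dodecad and a point of it. -/
theorem card_stabM24Pt {d : Finset GolayPt} (hd : d ∈ dodecads) {p : GolayPt} (hp : p ∈ d) :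
    Nat.card (stabM24Pt d p) = 7920 := by
  obtain ⟨ρ, hρ, hρd, hρp⟩ := exists_map_dodecad_point hd hp
  rw [Nat.card_congr (stabM24PtConjEquiv hρ d p), hρd, hρp, stabM24Pt_d0]
  exact card_K11

/-- The stabilizer of a dodecad is sharply 5-transitive on it. -/
theorem existsUnique_stabM24_map {d : Finset GolayPt} (hd : d ∈ dodecads)
    (x y : Fin 5 ↪ GolayPt) (hx : ∀ i, x i ∈ d) (hy : ∀ i, y i ∈ d) :
    ∃! g : Equiv.Perm GolayPt, g ∈ stabM24 d ∧ ∀ i, g (x i) = y i := by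
  obtain ⟨ρ, hρ, hρd⟩ := exists_map_dodecad hd
  -- transport the tuples
  let x' : Fin 5 ↪ GolayPt := x.trans ρ.toEmbedding
  let y' : Fin 5 ↪ GolayPt := y.trans ρ.toEmbedding
  have hx' : ∀ i, x' i ∈ d0 := fun i => by
    show ρ (x i) ∈ d0
    rw [← hρd, apply_mem_perm_smul_finset]; exact hx i
  have hy' : ∀ i, y' i ∈ d0 := fun i => by
    show ρ (y i) ∈ d0
    rw [← hρd, apply_mem_perm_smul_finset]; exact hy i
  obtain ⟨a, ha, hax⟩ := exists_H12_map_emb_to_base (le_refl 5) x' hx'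
  obtain ⟨b, hb, hby⟩ := exists_H12_map_emb_to_base (le_refl 5) y' hy'
  have hg0 : b⁻¹ * a ∈ H12 := H12.mul_mem (H12.inv_mem hb) ha
  have hg0map : ∀ i, (b⁻¹ * a) (x' i) = y' i := fun i => by
    rw [Equiv.Perm.mul_apply, hax i, ← hby i]; simp
  have hmem : ρ⁻¹ * (b⁻¹ * a) * ρ ∈ stabM24 d := by
    rw [conj_mem_stabM24 hρ d, hρd]
    have : ρ * (ρ⁻¹ * (b⁻¹ * a) * ρ) * ρ⁻¹ = b⁻¹ * a := by group
    rw [this]; exact hg0
  have hg1map : ∀ i, (ρ⁻¹ * (b⁻¹ * a) * ρ) (x i) = y i := fun i => by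
    have h2 : (b⁻¹ * a) (ρ (x i)) = ρ (y i) := hg0map i
    rw [Equiv.Perm.mul_apply, Equiv.Perm.mul_apply, h2]
    simp
  refine ⟨ρ⁻¹ * (b⁻¹ * a) * ρ, ⟨hmem, hg1map⟩, ?_⟩
  · rintro g ⟨hg, hgmap⟩
    -- g'⁻¹ g fixes x pointwise
    set g1 := ρ⁻¹ * (b⁻¹ * a) * ρ with hg1
    have hfix : ∀ i, (g1⁻¹ * g) (x i) = x i := fun i => by
      rw [Equiv.Perm.mul_apply, hgmap i, ← hg1map i]
      simp
    have hmem2 : g1⁻¹ * g ∈ stabM24 d := (stabM24 d).mul_mem ((stabM24 d).inv_mem hmem) hg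
    have hconj : ρ * (g1⁻¹ * g) * ρ⁻¹ ∈ H12 := by
      have := (conj_mem_stabM24 hρ d).mp hmem2
      rwa [hρd] at this
    have hone : ρ * (g1⁻¹ * g) * ρ⁻¹ = 1 := by
      apply eq_one_of_H12_fixes hconj x' hx'
      intro i
      show (ρ * (g1⁻¹ * g) * ρ⁻¹) (ρ (x i)) = ρ (x i)
      rw [conj_apply_eq_iff]; exact hfix i
    have : g1⁻¹ * g = 1 := by
      have h3 : g1⁻¹ * g = ρ⁻¹ * (ρ * (g1⁻¹ * g) * ρ⁻¹) * ρ := by group
      rw [h3, hone]; group
    exact (inv_mul_eq_one.mp this).symm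

/-- The stabilizer of a dodecad and a point of it is 3-transitive on the complement of the
dodecad. -/
theorem exists_stabM24Pt_map {d : Finset GolayPt} (hd : d ∈ dodecads) {p : GolayPt} (hp : p ∈ d)
    (x y : Fin 3 ↪ GolayPt) (hx : ∀ i, x i ∉ d) (hy : ∀ i, y i ∉ d) :
    ∃ g ∈ stabM24Pt d p, ∀ i, g (x i) = y i := by
  obtain ⟨ρ, hρ, hρd, hρp⟩ := exists_map_dodecad_point hd hp
  let x' : Fin 3 ↪ GolayPt := x.trans ρ.toEmbedding
  let y' : Fin 3 ↪ GolayPt := y.trans ρ.toEmbedding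
  have hx' : ∀ i, x' i ∉ d0 := fun i => by
    show ρ (x i) ∉ d0
    rw [← hρd, apply_mem_perm_smul_finset]; exact hx i
  have hy' : ∀ i, y' i ∉ d0 := fun i => by
    show ρ (y i) ∉ d0
    rw [← hρd, apply_mem_perm_smul_finset]; exact hy i
  obtain ⟨g0, hg0, hg0map⟩ := exists_K11_map_emb hx' hy'
  refine ⟨ρ⁻¹ * g0 * ρ, ?_, fun i => ?_⟩
  · rw [conj_mem_stabM24Pt hρ d p, hρd, hρp, stabM24Pt_d0]
    have : ρ * (ρ⁻¹ * g0 * ρ) * ρ⁻¹ = g0 := by group
    rw [this]; exact hg0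
  · have h2 : g0 (ρ (x i)) = ρ (y i) := hg0map i
    simp only [Equiv.Perm.mul_apply]
    rw [h2]; simp

/-! ### Bridges to subgroups of `↥M24` -/

/-- The stabilizer of a finset in `↥M24` versus `stabM24`. -/
noncomputable def stabilizerEquivStabM24 (s : Finset GolayPt) :
    MulAction.stabilizer M24 s ≃ stabM24 s where
  toFun g := ⟨(g : M24), mem_stabM24.mpr ⟨(g : M24).2, MulAction.mem_stabilizer_iff.mp g.2⟩⟩
  invFun h := ⟨⟨h, (mem_stabM24.mp h.2).1⟩, MulAction.mem_stabilizer_iff.mpr (mem_stabM24.mp h.2).2⟩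
  left_inv g := rfl
  right_inv h := rfl

/-- The order of the stabilizer of a dodecad (this is statement S0382). -/
theorem card_stabilizer_dodecad {d : Finset GolayPt} (hd : d ∈ dodecads) :
    Nat.card (MulAction.stabilizer M24 d) = 95040 := by
  rw [Nat.card_congr (stabilizerEquivStabM24 d)]
  exact card_stabM24_dodecad hd

noncomputable def stabilizerPtEquivStabM24Pt (d : Finset GolayPt) (p : GolayPt) :
    ↥(MulAction.stabilizer M24 d ⊓ MulAction.stabilizer M24 p) ≃ stabM24Pt d p where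
  toFun g := ⟨(g : M24), mem_stabM24Pt.mpr ⟨mem_stabM24.mpr ⟨(g : M24).2,
    MulAction.mem_stabilizer_iff.mp g.2.1⟩, MulAction.mem_stabilizer_iff.mp g.2.2⟩⟩
  invFun h := ⟨⟨h, (mem_stabM24.mp (mem_stabM24Pt.mp h.2).1).1⟩,
    ⟨MulAction.mem_stabilizer_iff.mpr (mem_stabM24.mp (mem_stabM24Pt.mp h.2).1).2,
      MulAction.mem_stabilizer_iff.mpr (mem_stabM24Pt.mp h.2).2⟩⟩
  left_inv g := rfl
  right_inv h := rfl

/-- The order of the stabilizer of a dodecad and one of its points (this is statement S0387). -/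
theorem card_stabilizer_dodecad_point {d : Finset GolayPt} (hd : d ∈ dodecads) {p : GolayPt}
    (hp : p ∈ d) :
    Nat.card ↥(MulAction.stabilizer M24 d ⊓ MulAction.stabilizer M24 p) = 7920 := by
  rw [Nat.card_congr (stabilizerPtEquivStabM24Pt d p)]
  exact card_stabM24Pt hd hp

end Cfsg.Agent.Lib.Helper7
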