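import Mathlib

/-!
# Abstract lemmas for simplicity proofs of multiply transitive groups

* `exists_mem_normal_smul_eq`: a non-trivial normal subgroup of a group acting faithfully and
  2-transitively on an invariant set `s` is transitive on `s`;
* `mem_normal_of_pow_prime_eq_one`: if `p ∣ |N|`, `p² ∤ |G|` then `N ⊴ G` contains every element
  of order `p`;
* `isSimpleGroup_of_prime_gen`: simplicity from a prime `p ∣ |s|`, `p² ∤ |G|` and an element of
  order `p` whose normal closure is everything;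
* `isSimpleGroup_of_two_transitive`: simplicity from a simple point stabilizer when two primes
  divide `|s|`.
-/

set_option autoImplicit false

namespace Cfsg.Agent.Lib.Helper7

section
variable {G Ω : Type*} [Group G] [MulAction G Ω]

/-- A non-trivial normal subgroup of a group acting faithfully and 2-transitively on an invariant
set `s` is transitive on `s`. -/
theorem exists_mem_normal_smul_eq (s : Set Ω)
    (h2 : ∀ a ∈ s, ∀ b ∈ s, ∀ c ∈ s, ∀ d ∈ s, a ≠ b → c ≠ d → ∃ g : G, g • a = c ∧ g • b = d)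
    (hs : ∀ g : G, ∀ a ∈ s, g • a ∈ s)
    (hf : ∀ g : G, (∀ a ∈ s, g • a = a) → g = 1)
    (N : Subgroup G) [hN : N.Normal] (hN1 : N ≠ ⊥) :
    ∀ a ∈ s, ∀ b ∈ s, ∃ n ∈ N, n • a = b := by
  intro a ha b hb
  by_cases hab : a = b
  · exact ⟨1, N.one_mem, by rw [one_smul, hab]⟩
  obtain ⟨x, hx1⟩ := (Subgroup.ne_bot_iff_exists_ne_one (H := N)).mp hN1
  have hx : (x : G) ∈ N := x.2
  have hx1' : (x : G) ≠ 1 := fun h => hx1 (Subtype.ext h)
  have : ∃ c ∈ s, (x : G) • c ≠ c := by
    by_contra hcon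
    push Not at hcon
    exact hx1' (hf x hcon)
  obtain ⟨c, hc, hxc⟩ := this
  obtain ⟨g, hga, hgb⟩ := h2 c hc ((x : G) • c) (hs x c hc) a ha b hb (Ne.symm hxc) hab
  refine ⟨g * x * g⁻¹, hN.conj_mem x hx g, ?_⟩
  rw [mul_smul, mul_smul, ← hga, inv_smul_smul, hgb]

/-- If a subgroup is transitive on an invariant set `s`, then `|s|` divides its order. -/
theorem ncard_dvd_card_of_transitive [Finite G] (s : Set Ω) (N : Subgroup G)
    (hs : ∀ n ∈ N, ∀ a ∈ s, n • a ∈ s) (ht : ∀ a ∈ s, ∀ b ∈ s, ∃ n ∈ N, n • a = b)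
    (hne : s.Nonempty) : s.ncard ∣ Nat.card N := by
  obtain ⟨a, ha⟩ := hne
  have horb : MulAction.orbit N a = s := by
    ext b
    constructor
    · rintro ⟨n, rfl⟩
      exact hs n n.2 a ha
    · intro hb
      obtain ⟨n, hn, hnb⟩ := ht a ha b hb
      exact ⟨⟨n, hn⟩, hnb⟩
  have h1 : (MulAction.stabilizer N a).index = (MulAction.orbit N a).ncard :=
    MulAction.index_stabilizer N a
  rw [← horb, ← h1]
  exact Subgroup.index_dvd_card _

/-- If `p ∣ |N|` and `p² ∤ |G|`, the normal subgroup `N` contains every element of order `p`. -/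
theorem mem_normal_of_pow_prime_eq_one [Finite G] (N : Subgroup G) [N.Normal] (p : ℕ)
    (hp : p.Prime) (hpN : p ∣ Nat.card N) (hp2 : ¬ p ^ 2 ∣ Nat.card G) (a : G) (ha : a ^ p = 1) :
    a ∈ N := by
  have hcard : Nat.card G = Nat.card (G ⧸ N) * Nat.card N :=
    Subgroup.card_eq_card_quotient_mul_card_subgroup N
  have hcop : Nat.Coprime p (Nat.card (G ⧸ N)) := by
    rw [hp.coprime_iff_not_dvd]
    intro hdvd
    apply hp2
    rw [hcard, sq]
    exact Nat.mul_dvd_mul hdvd hpN
  have h1 : (QuotientGroup.mk a : G ⧸ N) ^ p = 1 := by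
    rw [← QuotientGroup.mk_pow, ha]; rfl
  have h2 : (QuotientGroup.mk a : G ⧸ N) ^ Nat.card (G ⧸ N) = 1 := pow_card_eq_one'
  have h3 := pow_gcd_eq_one.mpr ⟨h1, h2⟩
  rw [Nat.Coprime.gcd_eq_one hcop, pow_one] at h3
  exact (QuotientGroup.eq_one_iff a).mp h3

/-- Simplicity of a group acting faithfully and 2-transitively on `s`, when a prime `p` divides
`|s|` exactly once in `|G|` and some element of order `p` normally generates `G`. -/
theorem isSimpleGroup_of_prime_gen [Finite G] [Nontrivial G] (s : Set Ω)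
    (h2 : ∀ a ∈ s, ∀ b ∈ s, ∀ c ∈ s, ∀ d ∈ s, a ≠ b → c ≠ d → ∃ g : G, g • a = c ∧ g • b = d)
    (hs : ∀ g : G, ∀ a ∈ s, g • a ∈ s)
    (hf : ∀ g : G, (∀ a ∈ s, g • a = a) → g = 1)
    (hne : s.Nonempty) (p : ℕ) (hp : p.Prime) (hps : p ∣ s.ncard) (hp2 : ¬ p ^ 2 ∣ Nat.card G)
    (a : G) (ha : a ^ p = 1)
    (hgen : ∀ N : Subgroup G, N.Normal → a ∈ N → N = ⊤) : IsSimpleGroup G := by
  refine ⟨fun N hN => ?_⟩
  by_cases hN1 : N = ⊥
  · exact Or.inl hN1
  · right
    apply hgen N hN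
    have ht := exists_mem_normal_smul_eq s h2 hs hf N hN1
    have hdvd := ncard_dvd_card_of_transitive s N (fun n _ a ha => hs n a ha) ht hne
    exact mem_normal_of_pow_prime_eq_one N p hp (hps.trans hdvd) hp2 a ha

/-- Simplicity of a group acting faithfully and 2-transitively on `s` with a simple point
stabilizer, when two distinct primes divide `|s|`. -/
theorem isSimpleGroup_of_two_transitive [Finite G] (s : Set Ω)
    (h2 : ∀ a ∈ s, ∀ b ∈ s, ∀ c ∈ s, ∀ d ∈ s, a ≠ b → c ≠ d → ∃ g : G, g • a = c ∧ g • b = d)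
    (hs : ∀ g : G, ∀ a ∈ s, g • a ∈ s)
    (hf : ∀ g : G, (∀ a ∈ s, g • a = a) → g = 1)
    (a : Ω) (ha : a ∈ s) (hsimple : IsSimpleGroup (MulAction.stabilizer G a))
    (p q : ℕ) (hp : p.Prime) (hq : q.Prime) (hpq : p ≠ q) (hps : p ∣ s.ncard)
    (hqs : q ∣ s.ncard) : IsSimpleGroup G := by
  have : Nontrivial G := by
    obtain ⟨x, y, hxy⟩ := hsimple.toNontrivial
    exact ⟨⟨x, y, fun h => hxy (Subtype.ext h)⟩⟩
  refine ⟨fun N hN => ?_⟩
  by_cases hN1 : N = ⊥
  · exact Or.inl hN1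
  right
  have ht := exists_mem_normal_smul_eq s h2 hs hf N hN1
  have hdvd := ncard_dvd_card_of_transitive s N (fun n _ a ha => hs n a ha) ht ⟨a, ha⟩
  set H := MulAction.stabilizer G a with hH
  rcases hsimple.eq_bot_or_eq_top_of_normal (N.subgroupOf H) inferInstance with hbot | htop
  · exfalso
    rw [Subgroup.subgroupOf_eq_bot] at hbot
    have hfree : ∀ x ∈ N, x • a = a → x = 1 := fun x hx hxa =>
      Subgroup.disjoint_def.mp hbot hx (MulAction.mem_stabilizer_iff.mpr hxa)
    have : Fact p.Prime := ⟨hp⟩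
    have : Fact q.Prime := ⟨hq⟩
    obtain ⟨x, hx⟩ := exists_prime_orderOf_dvd_card' (G := N) p (hps.trans hdvd)
    obtain ⟨y, hy⟩ := exists_prime_orderOf_dvd_card' (G := N) q (hqs.trans hdvd)
    have hx1 : (x : G) ≠ 1 := by
      intro h
      have : x = 1 := Subtype.ext h
      rw [this, orderOf_one] at hx
      exact hp.one_lt.ne hx
    have hy1 : (y : G) ≠ 1 := by
      intro h
      have : y = 1 := Subtype.ext h
      rw [this, orderOf_one] at hy
      exact hq.one_lt.ne hy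
    have hxa : a ≠ (x : G) • a := fun h => hx1 (hfree x x.2 h.symm)
    have hya : a ≠ (y : G) • a := fun h => hy1 (hfree y y.2 h.symm)
    obtain ⟨g, hga, hgx⟩ := h2 a ha _ (hs x a ha) a ha _ (hs y a ha) hxa hya
    have hmem : (y : G)⁻¹ * (g * x * g⁻¹) ∈ N := N.mul_mem (N.inv_mem y.2) (hN.conj_mem x x.2 g)
    have hfix : ((y : G)⁻¹ * (g * x * g⁻¹)) • a = a := by
      have hga' : g⁻¹ • a = a := by rw [inv_smul_eq_iff, hga]
      rw [mul_smul, mul_smul, mul_smul, hga', hgx, inv_smul_smul]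
    have hconj := hfree _ hmem hfix
    rw [inv_mul_eq_one] at hconj
    have hord : orderOf (y : G) = orderOf (x : G) := by
      rw [hconj]
      exact MulEquiv.orderOf_eq (MulAut.conj g) (x : G)
    rw [Subgroup.orderOf_coe, Subgroup.orderOf_coe, hx, hy] at hord
    exact hpq hord.symm
  · rw [Subgroup.subgroupOf_eq_top] at htop
    rw [eq_top_iff]
    intro g _
    obtain ⟨n, hn, hna⟩ := ht a ha (g • a) (hs g a ha)
    have hmem : n⁻¹ * g ∈ H := by
      rw [hH, MulAction.mem_stabilizer_iff, mul_smul, ← hna, inv_smul_smul]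
    have : g = n * (n⁻¹ * g) := by group
    rw [this]
    exact N.mul_mem hn (htop hmem)

end

end Cfsg.Agent.Lib.Helper7
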