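import Cfsg.Agent.Lib.Helper7.SimpleGen
import Cfsg.Agent.Lib.Helper7.SimpleLemmas
import Cfsg.Agent.Lib.Helper7.M24Trans
import Cfsg.Agent.Lib.Helper7.M12General

/-!
# Simplicity of the Mathieu groups `M11`, `M12`, `M22`, `M23`, `M24`
-/

set_option autoImplicit false

namespace Cfsg.Agent.Lib.Helper7
open Cfsg
open scoped Pointwise

/-! ### Bridges -/

/-- A subgroup `L` of `↥K` is isomorphic to the corresponding subgroup of the ambient group. -/
def subgroupEquivOfMem {P : Type*} [Group P] {K : Subgroup P} (L : Subgroup K)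
    (Y : Subgroup P) (hYK : Y ≤ K) (h : ∀ x : K, x ∈ L ↔ (x : P) ∈ Y) : L ≃* Y where
  toFun l := ⟨((l : K) : P), (h _).mp l.2⟩
  invFun y := ⟨⟨y, hYK y.2⟩, (h _).mpr y.2⟩
  left_inv _ := rfl
  right_inv _ := rfl
  map_mul' _ _ := rfl

/-- Conjugate subgroups are isomorphic. -/
def conjSubgroupEquiv {P : Type*} [Group P] (ρ : P) (X Y : Subgroup P)
    (h : ∀ x, x ∈ Y ↔ ρ⁻¹ * x * ρ ∈ X) : Y ≃* X where
  toFun y := ⟨ρ⁻¹ * y * ρ, (h y).mp y.2⟩
  invFun x := ⟨ρ * x * ρ⁻¹, (h _).mpr (by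
    have : ρ⁻¹ * (ρ * (x : P) * ρ⁻¹) * ρ = x := by group
    rw [this]; exact x.2)⟩
  left_inv y := by apply Subtype.ext; simp only; group
  right_inv x := by apply Subtype.ext; simp only; group
  map_mul' y1 y2 := by apply Subtype.ext; simp only [Subgroup.coe_mul]; group

/-! ### Wrappers of the abstract lemmas for permutation groups of the 24 points -/

theorem isSimpleGroup_subgroup_of_prime_gen (X : Subgroup (Equiv.Perm GolayPt))
    (s : Finset GolayPt)
    (h2 : ∀ a ∈ s, ∀ b ∈ s, ∀ c ∈ s, ∀ d ∈ s, a ≠ b → c ≠ d → ∃ g ∈ X, g a = c ∧ g b = d)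
    (hs : ∀ g ∈ X, ∀ a ∈ s, g a ∈ s)
    (hf : ∀ g ∈ X, (∀ a ∈ s, g a = a) → g = 1)
    (p : ℕ) (hp : p.Prime) (hps : p ∣ s.card) (hs0 : s.Nonempty) (hp2 : ¬ p ^ 2 ∣ Nat.card X)
    (a c : Equiv.Perm GolayPt) (haX : a ∈ X) (hcX : c ∈ X) (ha : a ^ p = 1) (ha1 : a ≠ 1)
    (hgen : ∀ K : Subgroup (Equiv.Perm GolayPt), K ≤ X → a ∈ K → c * a * c⁻¹ ∈ K → X ≤ K) :
    IsSimpleGroup X := by
  have : Nontrivial X := ⟨⟨⟨a, haX⟩, 1, fun h => ha1 (congrArg Subtype.val h)⟩⟩
  refine isSimpleGroup_of_prime_gen (G := X) (Ω := GolayPt) (s : Set GolayPt) ?_ ?_ ?_ ?_ p hp ?_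
    hp2 ⟨a, haX⟩ (Subtype.ext ha) ?_
  · intro a' ha' b' hb' c' hc' d' hd' hab hcd
    obtain ⟨g, hg, h1, h2'⟩ := h2 a' ha' b' hb' c' hc' d' hd' hab hcd
    exact ⟨⟨g, hg⟩, h1, h2'⟩
  · intro g a' ha'
    exact hs g g.2 a' ha'
  · intro g hg
    exact Subtype.ext (hf g g.2 hg)
  · exact hs0
  · rw [Set.ncard_coe_finset]; exact hps
  · intro N hN haN
    have hK : X ≤ N.map X.subtype := by
      apply hgen _ (Subgroup.map_subtype_le N)
      · exact ⟨⟨a, haX⟩, haN, rfl⟩
      · exact ⟨⟨c, hcX⟩ * ⟨a, haX⟩ * ⟨c, hcX⟩⁻¹, hN.conj_mem _ haN _, rfl⟩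
    rw [eq_top_iff]
    intro x _
    obtain ⟨y, hy, hyx⟩ := hK x.2
    have : y = x := Subtype.ext hyx
    rwa [← this]

theorem isSimpleGroup_subgroup_of_two_transitive (X : Subgroup (Equiv.Perm GolayPt))
    (s : Finset GolayPt)
    (h2 : ∀ a ∈ s, ∀ b ∈ s, ∀ c ∈ s, ∀ d ∈ s, a ≠ b → c ≠ d → ∃ g ∈ X, g a = c ∧ g b = d)
    (hs : ∀ g ∈ X, ∀ a ∈ s, g a ∈ s)
    (hf : ∀ g ∈ X, (∀ a ∈ s, g a = a) → g = 1)
    (a : GolayPt) (ha : a ∈ s)
    (hsimple : IsSimpleGroup ↥(X ⊓ MulAction.stabilizer (Equiv.Perm GolayPt) a))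
    (p q : ℕ) (hp : p.Prime) (hq : q.Prime) (hpq : p ≠ q) (hps : p ∣ s.card) (hqs : q ∣ s.card) :
    IsSimpleGroup X := by
  refine isSimpleGroup_of_two_transitive (G := X) (Ω := GolayPt) (s : Set GolayPt) ?_ ?_ ?_ a ha ?_
    p q hp hq hpq ?_ ?_
  · intro a' ha' b' hb' c' hc' d' hd' hab hcd
    obtain ⟨g, hg, h1, h2'⟩ := h2 a' ha' b' hb' c' hc' d' hd' hab hcd
    exact ⟨⟨g, hg⟩, h1, h2'⟩
  · intro g a' ha'
    exact hs g g.2 a' ha'
  · intro g hg
    exact Subtype.ext (hf g g.2 hg)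
  · have e : MulAction.stabilizer X a ≃* ↥(X ⊓ MulAction.stabilizer (Equiv.Perm GolayPt) a) :=
      subgroupEquivOfMem _ _ inf_le_left (fun x => by
        rw [MulAction.mem_stabilizer_iff, Subgroup.mem_inf, MulAction.mem_stabilizer_iff]
        exact ⟨fun h => ⟨x.2, h⟩, fun h => h.2⟩)
    exact e.isSimpleGroup
  · rw [Set.ncard_coe_finset]; exact hps
  · rw [Set.ncard_coe_finset]; exact hqs

/-! ### Powers and tables -/

/-- Table of a power. -/
def powT (t : List ℕ) : ℕ → List ℕ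
  | 0 => idT
  | n + 1 => compT t (powT t n)

theorem matches_pow {σ : Equiv.Perm GolayPt} {t : List ℕ} (h : Matches σ t) (n : ℕ) :
    Matches (σ ^ n) (powT t n) := by
  induction n with
  | zero => simpa [powT] using matches_one
  | succ n ih => rw [pow_succ']; exact matches_mul h ih

theorem pow_eq_one_of_powT {σ : Equiv.Perm GolayPt} {t : List ℕ} (h : Matches σ t) (n : ℕ)
    (hn : powT t n = idT) : σ ^ n = 1 :=
  eq_one_of_matches_idT (hn ▸ matches_pow h n)

theorem ne_one_of_table {σ : Equiv.Perm GolayPt} {t : List ℕ} (h : Matches σ t)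
    (hn : t ≠ idT) (hlen : t.length = 24) : σ ≠ 1 := by
  intro h1
  apply hn
  apply List.ext_getElem (by rw [hlen]; rfl)
  intro i hi1 hi2
  have hi : i < 24 := by rw [hlen] at hi1; exact hi1
  have := h (pt i)
  rw [h1, idx_pt hi] at this
  simp only [Equiv.Perm.coe_one, id_eq, idx_pt hi] at this
  rw [List.getD_eq_getElem _ _ hi1] at this
  rw [← this]
  simp [idT]

theorem a23_pow : a23 ^ 23 = 1 := pow_eq_one_of_powT matches_a23 23 (by decide +kernel)
theorem a22_pow : a22 ^ 11 = 1 := pow_eq_one_of_powT matches_a22 11 (by decide +kernel)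
theorem a11_pow : a11 ^ 11 = 1 := pow_eq_one_of_powT matches_a11 11 (by decide +kernel)

theorem a23_ne : a23 ≠ 1 := ne_one_of_table matches_a23 (by decide +kernel) (by decide +kernel)
theorem a22_ne : a22 ≠ 1 := ne_one_of_table matches_a22 (by decide +kernel) (by decide +kernel)
theorem a11_ne : a11 ≠ 1 := ne_one_of_table matches_a11 (by decide +kernel) (by decide +kernel)

/-! ### Memberships -/

theorem bp_inj {i j : ℕ} (hi : i < 7) (hj : j < 7) (h : bp i = bp j) : i = j := by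
  rcases Nat.lt_trichotomy i j with hlt | heq | hgt
  · exact absurd h.symm (bp_ne hj hlt)
  · exact heq
  · exact absurd h (bp_ne hi hgt)

theorem a23_mem : a23 ∈ Gst 1 := by
  rw [mem_Gst]
  refine ⟨Cfsg.Agent.S0370.result, fun j hj => ?_⟩
  have : j = 0 := by omega
  subst this
  exact matches_apply matches_a23 (i := 23) (j := 23) (by decide) (by decide) (by decide)

theorem c23_mem : c23 ∈ Gst 1 := by
  rw [mem_Gst]
  refine ⟨Cfsg.Agent.S0373.result, fun j hj => ?_⟩
  have : j = 0 := by omega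
  subst this
  exact matches_apply matches_c23 (i := 23) (j := 23) (by decide) (by decide) (by decide)

theorem a22_mem : a22 ∈ Gst 2 := by
  rw [mem_Gst]
  exact ⟨uP_mem_M24 2 4, (uP_spec (i := 2) (q := 4) (by decide) (by decide) (by decide)).1⟩

theorem c22_mem : c22 ∈ Gst 2 := by
  rw [mem_Gst]
  exact ⟨uP_mem_M24 2 2, (uP_spec (i := 2) (q := 2) (by decide) (by decide) (by decide)).1⟩

theorem a11_mem : a11 ∈ K11 := by
  rw [mem_K11]
  have := cP_spec (i := 1) (q := 10) (by decide) (by decide) (by decide)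
  exact ⟨this.1, this.2.1⟩

theorem c11_mem : c11 ∈ K11 := by
  rw [mem_K11]
  have := vP_spec (i := 1) (q := 1) (by decide) (by decide) (by decide)
  exact ⟨this.1, this.2.1 0 (by decide)⟩

/-! ### Double transitivity -/

/-- From "any `i0 + 2` distinct points of `S` can be moved to the first base points" to double
transitivity of the stabilizer of the first `i0` base points on the remaining points of `S`. -/
theorem exists_map_pair (G : Subgroup (Equiv.Perm GolayPt)) (S : Set GolayPt) (i0 : ℕ)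
    (hi0 : i0 + 2 ≤ 7)
    (hbase : ∀ x : ℕ → GolayPt, (∀ a < i0 + 2, ∀ b < i0 + 2, x a = x b → a = b) →
      (∀ j < i0 + 2, x j ∈ S) → ∃ g ∈ G, ∀ j < i0 + 2, g (x j) = bp j)
    (hbS : ∀ j < i0, bp j ∈ S)
    {a b c d : GolayPt} (ha : a ∈ S) (hb : b ∈ S) (hc : c ∈ S) (hd : d ∈ S)
    (ha' : ∀ j < i0, a ≠ bp j) (hb' : ∀ j < i0, b ≠ bp j) (hc' : ∀ j < i0, c ≠ bp j)
    (hd' : ∀ j < i0, d ≠ bp j) (hab : a ≠ b) (hcd : c ≠ d) :
    ∃ g ∈ G, (∀ j < i0, g (bp j) = bp j) ∧ g a = c ∧ g b = d := by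
  have key : ∀ a b : GolayPt, a ∈ S → b ∈ S → (∀ j < i0, a ≠ bp j) → (∀ j < i0, b ≠ bp j) →
      a ≠ b → ∃ g ∈ G, (∀ j < i0, g (bp j) = bp j) ∧ g a = bp i0 ∧ g b = bp (i0 + 1) := by
    intro a b ha hb ha' hb' hab
    let x : ℕ → GolayPt := fun j => if j < i0 then bp j else if j = i0 then a else b
    have hx0 : ∀ j < i0, x j = bp j := fun j hj => by simp only [x, if_pos hj]
    have hx1 : x i0 = a := by simp only [x, lt_irrefl, if_false, if_true]
    have hx2 : x (i0 + 1) = b := by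
      have h1 : ¬ (i0 + 1 < i0) := by omega
      have h2 : ¬ (i0 + 1 = i0) := by omega
      simp only [x, if_neg h1, if_neg h2]
    obtain ⟨g, hg, hgx⟩ := hbase x (by
      intro m hm n hn h
      simp only [x] at h
      by_cases hm0 : m < i0
      · by_cases hn0 : n < i0
        · rw [if_pos hm0, if_pos hn0] at h; exact bp_inj (by omega) (by omega) h
        · rw [if_pos hm0, if_neg hn0] at h
          by_cases hn1 : n = i0
          · rw [if_pos hn1] at h; exact absurd h.symm (ha' m hm0)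
          · rw [if_neg hn1] at h; exact absurd h.symm (hb' m hm0)
      · by_cases hn0 : n < i0
        · rw [if_neg hm0, if_pos hn0] at h
          by_cases hm1 : m = i0
          · rw [if_pos hm1] at h; exact absurd h (ha' n hn0)
          · rw [if_neg hm1] at h; exact absurd h (hb' n hn0)
        · rw [if_neg hm0, if_neg hn0] at h
          by_cases hm1 : m = i0 <;> by_cases hn1 : n = i0
          · omega
          · rw [if_pos hm1, if_neg hn1] at h; exact absurd h hab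
          · rw [if_neg hm1, if_pos hn1] at h; exact absurd h.symm hab
          · omega) (by
      intro j hj
      simp only [x]
      split_ifs with h1 h2
      · exact hbS j h1
      · exact ha
      · exact hb)
    refine ⟨g, hg, fun j hj => ?_, ?_, ?_⟩
    · have := hgx j (by omega)
      rwa [hx0 j hj] at this
    · have := hgx i0 (by omega)
      rwa [hx1] at this
    · have := hgx (i0 + 1) (by omega)
      rwa [hx2] at this
  obtain ⟨g1, hg1, hfix1, h1a, h1b⟩ := key a b ha hb ha' hb' hab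
  obtain ⟨g2, hg2, hfix2, h2c, h2d⟩ := key c d hc hd hc' hd' hcd
  refine ⟨g2⁻¹ * g1, G.mul_mem (G.inv_mem hg2) hg1, fun j hj => ?_, ?_, ?_⟩
  · rw [Equiv.Perm.mul_apply, hfix1 j hj, Equiv.Perm.inv_eq_iff_eq, hfix2 j hj]
  · rw [Equiv.Perm.mul_apply, h1a, Equiv.Perm.inv_eq_iff_eq, h2c]
  · rw [Equiv.Perm.mul_apply, h1b, Equiv.Perm.inv_eq_iff_eq, h2d]

/-- The points different from the first `i0` base points. -/
def restPts (i0 : ℕ) : Finset GolayPt := Finset.univ.filter fun p => ∀ j < i0, p ≠ bp j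

theorem mem_restPts {i0 : ℕ} {p : GolayPt} : p ∈ restPts i0 ↔ ∀ j < i0, p ≠ bp j := by
  simp [restPts]

/-- `Gst i0` is doubly transitive on the remaining points (`i0 ≤ 3`). -/
theorem Gst_two_transitive (i0 : ℕ) (hi0 : i0 ≤ 3) :
    ∀ a ∈ restPts i0, ∀ b ∈ restPts i0, ∀ c ∈ restPts i0, ∀ d ∈ restPts i0, a ≠ b → c ≠ d →
      ∃ g ∈ Gst i0, g a = c ∧ g b = d := by
  intro a ha b hb c hc d hd hab hcd
  rw [mem_restPts] at ha hb hc hd
  obtain ⟨g, hg, hfix, h1, h2⟩ := exists_map_pair M24 Set.univ i0 (by omega)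
    (fun x hx _ => exists_map_to_base (i0 + 2) (by omega) x hx) (fun _ _ => Set.mem_univ _)
    (Set.mem_univ a) (Set.mem_univ b) (Set.mem_univ c) (Set.mem_univ d) ha hb hc hd hab hcd
  exact ⟨g, mem_Gst.mpr ⟨hg, hfix⟩, h1, h2⟩

theorem Gst_apply_mem_restPts {i0 : ℕ} {g : Equiv.Perm GolayPt} (hg : g ∈ Gst i0) :
    ∀ a ∈ restPts i0, g a ∈ restPts i0 := by
  intro a ha
  rw [mem_restPts] at ha ⊢
  intro j hj h
  rw [mem_Gst] at hg
  rw [← hg.2 j hj] at h
  exact ha j hj (g.injective h)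

theorem Gst_faithful {i0 : ℕ} {g : Equiv.Perm GolayPt} (hg : g ∈ Gst i0)
    (h : ∀ a ∈ restPts i0, g a = a) : g = 1 := by
  refine Equiv.ext fun p => ?_
  by_cases hp : p ∈ restPts i0
  · exact h p hp
  · rw [mem_restPts] at hp
    push Not at hp
    obtain ⟨j, hj, rfl⟩ := hp
    exact (mem_Gst.mp hg).2 j hj

/-! ### Simplicity of `M23` and `M22` (as subgroups of all permutations) -/

theorem isSimpleGroup_Gst1 : IsSimpleGroup ↥(Gst 1) := by
  refine isSimpleGroup_subgroup_of_prime_gen (Gst 1) (restPts 1) (Gst_two_transitive 1 (by decide))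
    (fun g hg => Gst_apply_mem_restPts hg) (fun g hg => Gst_faithful hg) 23 (by norm_num)
    (by decide) (by decide) (by rw [card_Gst_1]; norm_num) a23 c23 a23_mem c23_mem a23_pow a23_ne ?_
  intro K hK ha hc
  exact Gst1_le_of_mem K (hK.trans (fun g hg => (mem_Gst.mp hg).1)) ha hc

theorem isSimpleGroup_Gst2 : IsSimpleGroup ↥(Gst 2) := by
  refine isSimpleGroup_subgroup_of_prime_gen (Gst 2) (restPts 2) (Gst_two_transitive 2 (by decide))
    (fun g hg => Gst_apply_mem_restPts hg) (fun g hg => Gst_faithful hg) 11 (by norm_num)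
    (by decide) (by decide) (by rw [card_Gst_2]; norm_num) a22 c22 a22_mem c22_mem a22_pow a22_ne ?_
  intro K hK ha hc
  exact Gst2_le_of_mem K (hK.trans (fun g hg => (mem_Gst.mp hg).1)) ha hc

/-! ### Simplicity of `M11` and `M12` (for the reference dodecad) -/

/-- The points of `d0` other than `∞`. -/
def d0Rest : Finset GolayPt := d0.erase (bp 0)

theorem H12_two_transitive (i0 : ℕ) (hi0 : i0 ≤ 3) {a b c d : GolayPt}
    (ha : a ∈ d0) (hb : b ∈ d0) (hc : c ∈ d0) (hd : d ∈ d0)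
    (ha' : ∀ j < i0, a ≠ bp j) (hb' : ∀ j < i0, b ≠ bp j) (hc' : ∀ j < i0, c ≠ bp j)
    (hd' : ∀ j < i0, d ≠ bp j) (hab : a ≠ b) (hcd : c ≠ d) :
    ∃ g ∈ H12, (∀ j < i0, g (bp j) = bp j) ∧ g a = c ∧ g b = d :=
  exists_map_pair H12 (d0 : Set GolayPt) i0 (by omega)
    (fun x hx hxS => exists_H12_map_to_base (i0 + 2) (by omega) x hx hxS)
    (fun j hj => bp_mem_d0' (by omega)) ha hb hc hd ha' hb' hc' hd' hab hcd

theorem eq_one_of_H12_fixes_d0 {g : Equiv.Perm GolayPt} (hg : g ∈ H12)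
    (h : ∀ a ∈ d0, g a = a) : g = 1 := by
  have : g ∈ Hs 5 := mem_Hs.mpr ⟨hg, fun j hj => h _ (bp_mem_d0' hj)⟩
  rw [Hs_five, Subgroup.mem_bot] at this
  exact this

theorem isSimpleGroup_K11 : IsSimpleGroup ↥K11 := by
  have hmem : ∀ p, p ∈ d0Rest ↔ p ≠ bp 0 ∧ p ∈ d0 := fun p => by simp [d0Rest]
  refine isSimpleGroup_subgroup_of_prime_gen K11 d0Rest ?_ ?_ ?_ 11 (by norm_num)
    (by decide) (by decide) (by rw [card_K11]; norm_num) a11 c11 a11_mem c11_mem a11_pow a11_ne ?_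
  · intro a ha b hb c hc d hd hab hcd
    rw [hmem] at ha hb hc hd
    have h1 : ∀ p : GolayPt, p ≠ bp 0 → ∀ j < 1, p ≠ bp j := by
      intro p hp j hj
      have : j = 0 := by omega
      subst this; exact hp
    obtain ⟨g, hg, hfix, hga, hgb⟩ := H12_two_transitive 1 (by decide) ha.2 hb.2 hc.2 hd.2
      (h1 a ha.1) (h1 b hb.1) (h1 c hc.1) (h1 d hd.1) hab hcd
    exact ⟨g, mem_K11.mpr ⟨hg, hfix 0 (by decide)⟩, hga, hgb⟩
  · intro g hg a ha
    rw [hmem] at ha ⊢
    rw [mem_K11] at hg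
    refine ⟨fun h => ha.1 (g.injective (h.trans hg.2.symm)), ?_⟩
    exact (apply_mem_of_mem_stabM24 hg.1 a).mpr ha.2
  · intro g hg h
    rw [mem_K11] at hg
    apply eq_one_of_H12_fixes_d0 hg.1
    intro a ha
    by_cases ha0 : a = bp 0
    · rw [ha0]; exact hg.2
    · exact h a ((hmem a).mpr ⟨ha0, ha⟩)
  · intro K hK ha hc
    exact K11_le_of_mem K (hK.trans (fun g hg => (mem_K11.mp hg).1)) ha hc

theorem H12_inf_stabilizer : H12 ⊓ MulAction.stabilizer (Equiv.Perm GolayPt) (bp 0) = K11 := by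
  ext g
  rw [Subgroup.mem_inf, MulAction.mem_stabilizer_iff, mem_K11]
  rfl

theorem isSimpleGroup_H12 : IsSimpleGroup ↥H12 := by
  refine isSimpleGroup_subgroup_of_two_transitive H12 d0 ?_ ?_ ?_ (bp 0) (bp_mem_d0' (by decide))
    ?_ 2 3 (by norm_num) (by norm_num) (by decide) (by decide) (by decide)
  · intro a ha b hb c hc d hd hab hcd
    obtain ⟨g, hg, _, hga, hgb⟩ := H12_two_transitive 0 (by decide) ha hb hc hd
      (fun j hj => absurd hj (by omega)) (fun j hj => absurd hj (by omega))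
      (fun j hj => absurd hj (by omega)) (fun j hj => absurd hj (by omega)) hab hcd
    exact ⟨g, hg, hga, hgb⟩
  · intro g hg a ha
    exact (apply_mem_of_mem_stabM24 hg a).mpr ha
  · intro g hg h
    exact eq_one_of_H12_fixes_d0 hg h
  · rw [H12_inf_stabilizer]
    exact isSimpleGroup_K11

/-! ### Simplicity of `M24` -/

theorem M24_inf_stabilizer : M24 ⊓ MulAction.stabilizer (Equiv.Perm GolayPt) (bp 0) = Gst 1 := rfl

theorem isSimpleGroup_M24 : IsSimpleGroup ↥M24 := by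
  refine isSimpleGroup_subgroup_of_two_transitive M24 Finset.univ ?_ ?_ ?_ (bp 0)
    (Finset.mem_univ _) ?_ 2 3 (by norm_num) (by norm_num) (by decide) (by decide) (by decide)
  · intro a _ b _ c _ d _ hab hcd
    have h0 : ∀ p : GolayPt, p ∈ restPts 0 := fun p => mem_restPts.mpr (fun j hj => absurd hj (by omega))
    obtain ⟨g, hg, hga, hgb⟩ := Gst_two_transitive 0 (by decide) a (h0 a) b (h0 b) c (h0 c) d (h0 d)
      hab hcd
    exact ⟨g, hg, hga, hgb⟩
  · intro g _ a _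
    exact Finset.mem_univ _
  · intro g _ h
    exact Equiv.ext fun p => h p (Finset.mem_univ _)
  · rw [M24_inf_stabilizer]
    exact isSimpleGroup_Gst1

/-! ### The statements for arbitrary points and dodecads -/

/-- A point stabilizer in `M24` is simple (this is statement S0377). -/
theorem isSimpleGroup_stabilizer_M24 (p : GolayPt) :
    IsSimpleGroup (MulAction.stabilizer M24 p) := by
  have e1 : MulAction.stabilizer M24 p ≃*
      ↥(M24 ⊓ MulAction.stabilizer (Equiv.Perm GolayPt) p) :=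
    subgroupEquivOfMem _ _ inf_le_left (fun x => by
      rw [MulAction.mem_stabilizer_iff, Subgroup.mem_inf, MulAction.mem_stabilizer_iff]
      exact ⟨fun h => ⟨x.2, h⟩, fun h => h.2⟩)
  obtain ⟨ρ, hρ, hρp⟩ := exists_map_to_base 1 (by decide) (fun _ => p)
    (fun a ha b hb _ => by omega)
  have hρp' : ρ p = bp 0 := hρp 0 (by decide)
  have e2 : ↥(M24 ⊓ MulAction.stabilizer (Equiv.Perm GolayPt) p) ≃* ↥(Gst 1) :=
    conjSubgroupEquiv ρ⁻¹ _ _ (fun x => by
      rw [inv_inv, mem_Gst, Subgroup.mem_inf]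
      constructor
      · rintro ⟨hx, hxp⟩
        have hxp' : x p = p := MulAction.mem_stabilizer_iff.mp hxp
        refine ⟨M24.mul_mem (M24.mul_mem hρ hx) (M24.inv_mem hρ), fun j hj => ?_⟩
        have : j = 0 := by omega
        subst this
        rw [← hρp', conj_apply_eq_iff]; exact hxp'
      · rintro ⟨hx, hfix⟩
        have hx' : x = ρ⁻¹ * (ρ * x * ρ⁻¹) * ρ := by group
        refine ⟨hx' ▸ M24.mul_mem (M24.mul_mem (M24.inv_mem hρ) hx) hρ,
          MulAction.mem_stabilizer_iff.mpr ?_⟩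
        have := hfix 0 (by decide)
        rw [← hρp', conj_apply_eq_iff] at this
        exact this)
  have := isSimpleGroup_Gst1
  exact (e1.trans e2).isSimpleGroup

end Cfsg.Agent.Lib.Helper7
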