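import Cfsg.Agent.Lib.Helper7.M22Norm11

/-!
# The normalizer of `⟨n5P⟩` in `M22 = Gst 2` has order 20

The elements of `Gst 4` (960 of them) are enumerated as products of three chain elements; those
normalizing `⟨n5P⟩` number 10, and the normalizer in `Gst 2` permutes the two remaining fixed points
`1`, `2` of `n5P`.
-/

set_option autoImplicit false

namespace Cfsg.Agent.Lib.Helper7
open Cfsg
open scoped Pointwise

/-! ### Named chain elements: specification and sifting -/

theorem uP_spec5 {i q : ℕ} (hi : i < 7) (hq : q < 24) (h : orbitOK i q = true) :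
    (∀ j < i, uP i q (bp j) = bp j) ∧ uP i q (pt q) = bp i := by
  have hgood := chain_check i hi q hq h
  have hm : Matches (uP i q) (uT i q) := matches_uP i q
  unfold uT at hm
  generalize chainT.getD ((lookupT.getD i []).getD q 0) idT = t at hgood hm
  constructor
  · intro j hj
    simp only [goodT, Bool.and_eq_true, List.all_eq_true, List.mem_range, beq_iff_eq] at hgood
    unfold bp
    exact matches_apply hm (baseL_lt j) (baseL_lt j) (hgood.1 j hj)
  · simp only [goodT, Bool.and_eq_true, beq_iff_eq] at hgood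
    unfold bp
    exact matches_apply hm hq (baseL_lt i) hgood.2

theorem sift_step {i : ℕ} (hi : i < 7) {g : Equiv.Perm GolayPt} (hg : g ∈ Gst i) :
    ∃ q < 24, orbitOK i q = true ∧ uP i q * g ∈ Gst (i + 1) := by
  rw [mem_Gst] at hg
  have hok := orbitOK_of_fixes hg.1 hi hg.2
  refine ⟨idx (g (bp i)), idx_lt _, hok, ?_⟩
  obtain ⟨hfix, hmap⟩ := uP_spec5 hi (idx_lt (g (bp i))) hok
  rw [pt_idx] at hmap
  rw [mem_Gst]
  refine ⟨M24.mul_mem (uP_mem_M24 _ _) hg.1, ?_⟩
  intro j hj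
  rw [Equiv.Perm.mul_apply]
  by_cases hji : j < i
  · rw [hg.2 j hji, hfix j hji]
  · have : j = i := by omega
    subst this
    exact hmap

/-- Every element of `Gst 4` is the inverse of a product of three chain elements. -/
theorem Gst4_inv_eq {g : Equiv.Perm GolayPt} (hg : g ∈ Gst 4) :
    ∃ q4 < 24, ∃ q5 < 24, ∃ q6 < 24, orbitOK 4 q4 = true ∧ orbitOK 5 q5 = true ∧
      orbitOK 6 q6 = true ∧ g⁻¹ = uP 6 q6 * (uP 5 q5 * uP 4 q4) := by
  obtain ⟨q4, h4, ok4, hg5⟩ := sift_step (by decide) hg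
  obtain ⟨q5, h5, ok5, hg6⟩ := sift_step (by decide) hg5
  obtain ⟨q6, h6, ok6, hg7⟩ := sift_step (by decide) hg6
  refine ⟨q4, h4, q5, h5, q6, h6, ok4, ok5, ok6, ?_⟩
  rw [Gst_seven, Subgroup.mem_bot] at hg7
  rw [eq_comm, ← mul_eq_one_iff_eq_inv, mul_assoc, mul_assoc]
  exact hg7

/-- The table of `uP 6 q6 * (uP 5 q5 * uP 4 q4)`. -/
def w3T (q4 q5 q6 : ℕ) : List ℕ := compT (uT 6 q6) (compT (uT 5 q5) (uT 4 q4))

theorem matches_w3 (q4 q5 q6 : ℕ) : Matches (uP 6 q6 * (uP 5 q5 * uP 4 q4)) (w3T q4 q5 q6) :=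
  matches_mul (matches_uP 6 q6) (matches_mul (matches_uP 5 q5) (matches_uP 4 q4))

/-! ### The test -/

/-- The table `T` conjugates `n5T` to one of its powers. -/
def testB (T : List ℕ) : Bool :=
  (List.range 5).any fun k => decide (k ≠ 0) &&
    (List.range 24).all fun i => (compT T n5T).getD i 0 == (compT (powTb n5T k) T).getD i 0

/-- The triples passing the test. -/
def passB : List (ℕ × ℕ × ℕ) :=
  (List.range 24).flatMap fun q4 => if orbitOK 4 q4 = true then
    (List.range 24).flatMap fun q5 => if orbitOK 5 q5 = true then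
      (List.range 24).filterMap fun q6 =>
        if orbitOK 6 q6 = true ∧ testB (w3T q4 q5 q6) = true then some (q4, q5, q6) else none
    else []
  else []

theorem passB_length : passB.length = 10 := by decide +kernel

theorem mem_passB {q4 q5 q6 : ℕ} (h4 : q4 < 24) (h5 : q5 < 24) (h6 : q6 < 24)
    (ok4 : orbitOK 4 q4 = true) (ok5 : orbitOK 5 q5 = true) (ok6 : orbitOK 6 q6 = true)
    (ht : testB (w3T q4 q5 q6) = true) : (q4, q5, q6) ∈ passB := by
  unfold passB
  rw [List.mem_flatMap]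
  refine ⟨q4, List.mem_range.mpr h4, ?_⟩
  rw [if_pos ok4, List.mem_flatMap]
  refine ⟨q5, List.mem_range.mpr h5, ?_⟩
  rw [if_pos ok5, List.mem_filterMap]
  refine ⟨q6, List.mem_range.mpr h6, ?_⟩
  rw [if_pos ⟨ok6, ht⟩]

/-- An element normalizing `⟨n5P⟩` conjugates `n5P` to `n5P ^ k` with `1 ≤ k ≤ 4`. -/
theorem exists_pow_of_normalizes5 {g : Equiv.Perm GolayPt}
    (h : g * n5P * g⁻¹ ∈ Subgroup.zpowers n5P) :
    ∃ k : ℕ, 1 ≤ k ∧ k ≤ 4 ∧ g * n5P = n5P ^ k * g := by
  obtain ⟨z, hz⟩ := Subgroup.mem_zpowers_iff.mp h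
  have h5 : (orderOf n5P : ℤ) = 5 := by rw [orderOf_n5]; rfl
  have hz' : n5P ^ (z % 5) = g * n5P * g⁻¹ := by
    rw [← hz, ← h5, zpow_mod_orderOf]
  have hnn : 0 ≤ z % 5 := Int.emod_nonneg _ (by norm_num)
  have hlt : z % 5 < 5 := Int.emod_lt_of_pos _ (by norm_num)
  obtain ⟨k, hk⟩ := Int.eq_ofNat_of_zero_le hnn
  rw [hk, zpow_natCast] at hz'
  have hk5 : k < 5 := by omega
  refine ⟨k, ?_, by omega, ?_⟩
  · by_contra h0
    have : k = 0 := by omega
    subst this
    rw [pow_zero] at hz'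
    have : n5P = 1 := by
      have h2 : g * n5P * g⁻¹ = 1 := hz'.symm
      have h3 : g * n5P = g := by
        rw [mul_inv_eq_iff_eq_mul, one_mul] at h2
        exact h2
      exact mul_left_cancel (a := g) (by rw [h3, mul_one])
    exact n5_ne_one this
  · rw [hz', inv_mul_cancel_right]

theorem testB_of_rel {g : Equiv.Perm GolayPt} {T : List ℕ} (hm : Matches g T) {k : ℕ}
    (hk1 : 1 ≤ k) (hk4 : k ≤ 4) (h : g * n5P = n5P ^ k * g) : testB T = true := by
  unfold testB
  rw [List.any_eq_true]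
  refine ⟨k, List.mem_range.mpr (by omega), ?_⟩
  rw [Bool.and_eq_true, decide_eq_true_eq, List.all_eq_true]
  refine ⟨by omega, ?_⟩
  intro i hi
  rw [List.mem_range] at hi
  rw [beq_iff_eq]
  have h1 := matches_pt (matches_mul hm matches_n5) hi
  have h2 := matches_pt (matches_mul (matches_powTb matches_n5 k) hm) hi
  rw [← h1, ← h2, h]

/-- The normalizer of `⟨n5P⟩` in `Gst 4`. -/
def N10 : Subgroup (Equiv.Perm GolayPt) :=
  Subgroup.normalizer (Subgroup.zpowers n5P : Set (Equiv.Perm GolayPt)) ⊓ Gst 4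

theorem exists_passB (g : N10) : ∃ q ∈ passB,
    (g : Equiv.Perm GolayPt) = uP 6 q.2.2 * (uP 5 q.2.1 * uP 4 q.1) := by
  have hginv : (g : Equiv.Perm GolayPt)⁻¹ ∈ N10 := N10.inv_mem g.2
  unfold N10 at hginv
  rw [Subgroup.mem_inf] at hginv
  obtain ⟨q4, h4, q5, h5, q6, h6, ok4, ok5, ok6, heq⟩ := Gst4_inv_eq hginv.2
  rw [inv_inv] at heq
  have hg := g.2
  unfold N10 at hg
  rw [Subgroup.mem_inf] at hg
  obtain ⟨k, hk1, hk4, hrel⟩ :=
    exists_pow_of_normalizes5 (conj_mem_of_mem_normalizer hg.1 (Subgroup.mem_zpowers _))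
  refine ⟨(q4, q5, q6), mem_passB h4 h5 h6 ok4 ok5 ok6 ?_, heq⟩
  refine testB_of_rel (g := (g : Equiv.Perm GolayPt)) ?_ hk1 hk4 hrel
  rw [heq]
  exact matches_w3 q4 q5 q6

theorem card_N10_le : Nat.card N10 ≤ 10 := by
  choose φ hφ hφ' using exists_passB
  let ψ : N10 → {x // x ∈ passB.toFinset} := fun g => ⟨φ g, List.mem_toFinset.mpr (hφ g)⟩
  have hinj : Function.Injective ψ := by
    intro g g' hgg
    have h1 : φ g = φ g' := congrArg Subtype.val hgg
    apply Subtype.ext
    rw [hφ' g, hφ' g', h1]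
  calc Nat.card N10 ≤ Nat.card {x // x ∈ passB.toFinset} := Nat.card_le_card_of_injective ψ hinj
    _ = passB.toFinset.card := by rw [Nat.card_eq_fintype_card, Fintype.card_coe]
    _ ≤ passB.length := List.toFinset_card_le _
    _ = 10 := passB_length

/-! ### From `Gst 4` to `Gst 2` -/

/-- The normalizer of `⟨n5P⟩` in `Gst 2`. -/
def N20 : Subgroup (Equiv.Perm GolayPt) :=
  Subgroup.normalizer (Subgroup.zpowers n5P : Set (Equiv.Perm GolayPt)) ⊓ Gst 2

theorem n5_pow_fixed : ∀ k, 1 ≤ k → k ≤ 4 → ∀ i < 24, (powTb n5T k).getD i 0 = i →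
    i = 23 ∨ i = 0 ∨ i = 1 ∨ i = 2 := by decide +kernel

/-- An element of `N20` maps a fixed point of `n5P` to a fixed point of `n5P`. -/
theorem N20_maps_fixed {g : Equiv.Perm GolayPt} (hg : g ∈ N20) {i : ℕ} (hi : i < 24)
    (hfix : n5T.getD i 0 = i) :
    idxFun g i = 23 ∨ idxFun g i = 0 ∨ idxFun g i = 1 ∨ idxFun g i = 2 := by
  unfold N20 at hg
  rw [Subgroup.mem_inf] at hg
  obtain ⟨k, hk1, hk4, hrel⟩ :=
    exists_pow_of_normalizes5 (conj_mem_of_mem_normalizer hg.1 (Subgroup.mem_zpowers _))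
  apply n5_pow_fixed k hk1 hk4 _ (idxFun_lt g i)
  have hn : n5P (pt i) = pt i := fixes_of_matches matches_n5 hi hfix
  have h1 : (n5P ^ k) (g (pt i)) = g (pt i) := by
    rw [← Equiv.Perm.mul_apply, ← hrel, Equiv.Perm.mul_apply, hn]
  have h2 := (matches_powTb matches_n5 k) (g (pt i))
  rw [h1] at h2
  exact h2.symm

theorem N20_fixes {g : Equiv.Perm GolayPt} (hg : g ∈ N20) :
    idxFun g 23 = 23 ∧ idxFun g 0 = 0 := by
  unfold N20 at hg
  rw [Subgroup.mem_inf, mem_Gst] at hg
  constructor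
  · have h' : g (pt 23) = pt 23 := hg.2.2 0 (by decide)
    show idx (g (pt 23)) = 23
    rw [h']; rfl
  · have h' : g (pt 0) = pt 0 := hg.2.2 1 (by decide)
    show idx (g (pt 0)) = 0
    rw [h']; rfl

theorem N20_apply_one {g : Equiv.Perm GolayPt} (hg : g ∈ N20) :
    idxFun g 1 = 1 ∨ idxFun g 1 = 2 := by
  obtain ⟨h23, h0⟩ := N20_fixes hg
  have h1 := idxFun_ne_of_ne (g := g) (i := 1) (j := 23) (by decide) (by decide) (by decide)
  have h2 := idxFun_ne_of_ne (g := g) (i := 1) (j := 0) (by decide) (by decide) (by decide)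
  rw [h23] at h1; rw [h0] at h2
  rcases N20_maps_fixed hg (i := 1) (by decide) (by decide) with h | h | h | h
  · exact absurd h h1
  · exact absurd h h2
  · exact Or.inl h
  · exact Or.inr h

theorem N20_apply_two {g : Equiv.Perm GolayPt} (hg : g ∈ N20) :
    idxFun g 2 = 1 ∨ idxFun g 2 = 2 := by
  obtain ⟨h23, h0⟩ := N20_fixes hg
  have h1 := idxFun_ne_of_ne (g := g) (i := 2) (j := 23) (by decide) (by decide) (by decide)
  have h2 := idxFun_ne_of_ne (g := g) (i := 2) (j := 0) (by decide) (by decide) (by decide)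
  rw [h23] at h1; rw [h0] at h2
  rcases N20_maps_fixed hg (i := 2) (by decide) (by decide) with h | h | h | h
  · exact absurd h h1
  · exact absurd h h2
  · exact Or.inl h
  · exact Or.inr h

theorem eq_pt_of_idxFun {g : Equiv.Perm GolayPt} {i j : ℕ} (h : idxFun g i = j) :
    g (pt i) = pt j := by
  unfold idxFun at h
  rw [← h, pt_idx]

theorem n5_mem_N20 : n5P ∈ N20 := by
  unfold N20
  rw [Subgroup.mem_inf]
  exact ⟨Subgroup.le_normalizer (Subgroup.mem_zpowers _), n5_mem_Gst2⟩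

theorem m4_mem_N20 : m4P ∈ N20 := by
  unfold N20
  rw [Subgroup.mem_inf]
  exact ⟨mem_normalizer_zpowers_of_conj m4_conj_n5, m4_mem_Gst2⟩

theorem card_N20_le : Nat.card N20 ≤ 20 := by
  have h := card_eq_card_mul_card_inf_stabilizer N20 (pt 1) ({pt 1, pt 2} : Finset GolayPt)
    (by
      intro g hg
      rw [Finset.mem_insert, Finset.mem_singleton, Equiv.Perm.smul_def]
      rcases N20_apply_one hg with h | h
      · exact Or.inl (eq_pt_of_idxFun h)
      · exact Or.inr (eq_pt_of_idxFun h))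
    (by
      intro q hq
      rw [Finset.mem_insert, Finset.mem_singleton] at hq
      rcases hq with rfl | rfl
      · exact ⟨1, N20.one_mem, rfl⟩
      · refine ⟨m4P, m4_mem_N20, ?_⟩
        rw [Equiv.Perm.smul_def]
        exact matches_apply matches_m4 (by decide) (by decide) (by decide))
  have hcard : ({pt 1, pt 2} : Finset GolayPt).card = 2 := by decide
  rw [h, hcard]
  have hle : N20 ⊓ MulAction.stabilizer (Equiv.Perm GolayPt) (pt 1) ≤ N10 := by
    intro g hg
    rw [Subgroup.mem_inf, MulAction.mem_stabilizer_iff, Equiv.Perm.smul_def] at hg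
    obtain ⟨hgN, hg1⟩ := hg
    have hgN' := hgN
    unfold N20 at hgN'
    rw [Subgroup.mem_inf, mem_Gst] at hgN'
    unfold N10
    rw [Subgroup.mem_inf, mem_Gst]
    refine ⟨hgN'.1, hgN'.2.1, ?_⟩
    intro j hj
    have hj' : j = 0 ∨ j = 1 ∨ j = 2 ∨ j = 3 := by omega
    rcases hj' with rfl | rfl | rfl | rfl
    · exact hgN'.2.2 0 (by decide)
    · exact hgN'.2.2 1 (by decide)
    · exact hg1
    · show g (pt 2) = pt 2
      rcases N20_apply_two hgN with h | h
      · exfalso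
        have h2 : g (pt 2) = pt 1 := eq_pt_of_idxFun h
        have : pt 2 = pt 1 := g.injective (h2.trans hg1.symm)
        exact absurd this (by decide)
      · exact eq_pt_of_idxFun h
  have := Subgroup.card_le_of_le hle
  have := card_N10_le
  omega

theorem card_N20 : Nat.card N20 = 20 := by
  apply le_antisymm card_N20_le
  have h5 : 5 ∣ Nat.card N20 := by
    have := orderOf_dvd_natCard (⟨n5P, n5_mem_N20⟩ : N20)
    rwa [Subgroup.orderOf_mk, orderOf_n5] at this
  have h4 : 4 ∣ Nat.card N20 := by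
    have := orderOf_dvd_natCard (⟨m4P, m4_mem_N20⟩ : N20)
    rwa [Subgroup.orderOf_mk, orderOf_m4] at this
  have h20 : 20 ∣ Nat.card N20 :=
    Nat.Coprime.mul_dvd_of_dvd_of_dvd (by norm_num : Nat.Coprime 4 5) h4 h5
  exact Nat.le_of_dvd Nat.card_pos h20

end Cfsg.Agent.Lib.Helper7
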