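import Mathlib

/-!
# Counting with Sylow subgroups of prime order inside subgroups

Generic lemmas (Mathlib only): if `Q ≤ X` has prime order `p` and `p ^ 2` does not divide `|X|`, then
the index of `N_X(Q)` in `X` is `≡ 1 (mod p)`; and two elements of order `p` of such a group generate
conjugate subgroups.
-/

set_option autoImplicit false

namespace Cfsg.Agent.Lib.Helper7

open Subgroup
open scoped Pointwise

/-- A subgroup of prime order `p` of a finite group whose order is not divisible by `p ^ 2` is a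
Sylow `p`-subgroup. -/
theorem exists_sylow_eq_of_card_prime {G : Type*} [Group G] [Finite G] {p : ℕ} [Fact p.Prime]
    (hp2 : ¬ p ^ 2 ∣ Nat.card G) (P : Subgroup G) (hP : Nat.card P = p) :
    ∃ S : Sylow p G, (S : Subgroup G) = P := by
  have hPg : IsPGroup p P := IsPGroup.of_card (n := 1) (by rw [hP, pow_one])
  obtain ⟨S, hS⟩ := hPg.exists_le_sylow
  refine ⟨S, ?_⟩
  symm
  apply Subgroup.eq_of_le_of_card_ge hS
  obtain ⟨k, hk⟩ := IsPGroup.iff_card.mp S.isPGroup'
  have hdvd : p ^ k ∣ Nat.card G := hk ▸ Subgroup.card_subgroup_dvd_card _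
  have hk1 : k ≤ 1 := by
    by_contra h
    push Not at h
    exact hp2 ((pow_dvd_pow p h).trans hdvd)
  rw [hP, hk]
  calc p ^ k ≤ p ^ 1 := Nat.pow_le_pow_right (Fact.out : p.Prime).pos hk1
    _ = p := pow_one p

/-- Sylow counting for a subgroup `Q` of prime order inside `X`. -/
theorem relIndex_normalizer_modEq_one {Γ : Type*} [Group Γ] (X Q : Subgroup Γ) [Finite X]
    {p : ℕ} [Fact p.Prime] (hQX : Q ≤ X) (hQ : Nat.card Q = p) (hp2 : ¬ p ^ 2 ∣ Nat.card X) :
    (normalizer (Q : Set Γ)).relIndex X ≡ 1 [MOD p] := by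
  have hP : Nat.card (Q.subgroupOf X) = p := by
    rw [← hQ]
    exact Nat.card_congr (Subgroup.subgroupOfEquivOfLe hQX).toEquiv
  obtain ⟨S, hS⟩ := exists_sylow_eq_of_card_prime hp2 (Q.subgroupOf X) hP
  have h1 := card_sylow_modEq_one p X
  rw [S.card_eq_index_normalizer] at h1
  change (normalizer ((S : Subgroup ↥X) : Set ↥X)).index ≡ 1 [MOD p] at h1
  rw [hS, ← subgroupOf_normalizer_eq hQX] at h1
  exact h1

theorem card_inf_normalizer_mul_relIndex {Γ : Type*} [Group Γ] (X Q : Subgroup Γ) :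
    Nat.card ↥(normalizer (Q : Set Γ) ⊓ X) * (normalizer (Q : Set Γ)).relIndex X = Nat.card X := by
  rw [← inf_relIndex_right (normalizer (Q : Set Γ)) X, ← relIndex_bot_left,
    relIndex_mul_relIndex _ _ _ bot_le inf_le_right, relIndex_bot_left]

/-- Sylow conjugacy for elements of prime order `p` in a finite subgroup `M` whose order is not
divisible by `p ^ 2`. -/
theorem exists_conj_mem_zpowers {Γ : Type*} [Group Γ] (M : Subgroup Γ) [Finite M] {p : ℕ}
    [Fact p.Prime] (hp2 : ¬ p ^ 2 ∣ Nat.card M) {x s : Γ} (hx : x ∈ M) (hs : s ∈ M)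
    (ox : orderOf x = p) (os : orderOf s = p) : ∃ h ∈ M, h * s * h⁻¹ ∈ zpowers x := by
  set x' : M := ⟨x, hx⟩ with hx'
  set s' : M := ⟨s, hs⟩ with hs'
  have ox' : orderOf x' = p := by rw [← ox, ← Subgroup.orderOf_coe x']
  have os' : orderOf s' = p := by rw [← os, ← Subgroup.orderOf_coe s']
  obtain ⟨S1, hS1⟩ := exists_sylow_eq_of_card_prime hp2 (zpowers x') (by rw [Nat.card_zpowers, ox'])
  obtain ⟨S2, hS2⟩ := exists_sylow_eq_of_card_prime hp2 (zpowers s') (by rw [Nat.card_zpowers, os'])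
  obtain ⟨g, hg⟩ := MulAction.exists_smul_eq M S2 S1
  refine ⟨g, g.2, ?_⟩
  have h1 : MulAut.conj g • s' ∈ MulAut.conj g • (S2 : Subgroup M) :=
    Subgroup.smul_mem_pointwise_smul _ _ _ (by rw [hS2]; exact mem_zpowers s')
  rw [← Sylow.coe_subgroup_smul, hg, hS1, MulAut.smul_def, MulAut.conj_apply] at h1
  obtain ⟨k, hk⟩ := mem_zpowers_iff.mp h1
  rw [mem_zpowers_iff]
  refine ⟨k, ?_⟩
  have := congrArg (Subtype.val) hk
  simpa using this

end Cfsg.Agent.Lib.Helper7
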