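import Cfsg.Agent.Lib.Helper7.M22NormData
import Cfsg.Agent.Lib.Helper7.SylowCount

/-!
# The normalizer of `⟨s11P⟩` in `M22 = Gst 2` has order 55

An element `g` of `Gst 2` normalizing `⟨s11P⟩` satisfies `g s = s ^ k g`, so it is determined by `k`
and the images of the two orbit representatives `1`, `2`; the 4840 candidates are filtered by one
octad test in the kernel, leaving 55.
-/

set_option autoImplicit false

namespace Cfsg.Agent.Lib.Helper7
open Cfsg
open scoped Pointwise

/-! ### Images of masks under functions on indices -/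

/-- The mask of the image of the list `l` under `F`. -/
def imgList (F : ℕ → ℕ) (l : List ℕ) : ℕ := l.foldl (fun acc i => acc ||| (1 <<< F i)) 0

theorem testBit_foldl_or (F : ℕ → ℕ) (l : List ℕ) (acc j : ℕ) :
    (l.foldl (fun acc i => acc ||| (1 <<< F i)) acc).testBit j = true ↔
      acc.testBit j = true ∨ ∃ i ∈ l, F i = j := by
  induction l generalizing acc with
  | nil => simp
  | cons x l ih =>
    rw [List.foldl_cons, ih]
    simp only [Nat.testBit_or, Bool.or_eq_true, List.mem_cons, exists_eq_or_imp,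
      Nat.one_shiftLeft, Nat.testBit_two_pow, decide_eq_true_eq]
    tauto

theorem testBit_imgList (F : ℕ → ℕ) (l : List ℕ) (j : ℕ) :
    (imgList F l).testBit j = true ↔ ∃ i ∈ l, F i = j := by
  unfold imgList
  rw [testBit_foldl_or]
  simp

theorem foldl_or_lt (F : ℕ → ℕ) (l : List ℕ) (acc : ℕ) (hacc : acc < 2 ^ 24)
    (hF : ∀ i ∈ l, F i < 24) : l.foldl (fun acc i => acc ||| (1 <<< F i)) acc < 2 ^ 24 := by
  induction l generalizing acc with
  | nil => simpa using hacc
  | cons x l ih =>
    rw [List.foldl_cons]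
    apply ih
    · apply Nat.or_lt_two_pow hacc
      rw [Nat.one_shiftLeft]
      exact Nat.pow_lt_pow_right (by decide) (hF x List.mem_cons_self)
    · intro i hi
      exact hF i (List.mem_cons_of_mem _ hi)

theorem imgList_lt (F : ℕ → ℕ) (l : List ℕ) (hF : ∀ i ∈ l, F i < 24) : imgList F l < 2 ^ 24 :=
  foldl_or_lt F l 0 (by decide) hF

theorem imgList_congr {F F' : ℕ → ℕ} {l : List ℕ} (h : ∀ i ∈ l, F i = F' i) :
    imgList F l = imgList F' l := by
  unfold imgList
  generalize (0 : ℕ) = acc
  induction l generalizing acc with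
  | nil => rfl
  | cons x l ih =>
    rw [List.foldl_cons, List.foldl_cons, h x List.mem_cons_self]
    exact ih (fun i hi => h i (List.mem_cons_of_mem _ hi)) _

/-- Converse of `setOf_mem_octads`. -/
theorem isOctadMask_of_mem {m : ℕ} (hm : m < 2 ^ 24) (h : setOf m ∈ octads) :
    isOctadMask m = true := by
  obtain ⟨w, hw, hws, h8⟩ := (mem_octads_iff _).mp h
  obtain ⟨c, hc, rfl⟩ := (mem_golayCode_iff w).mp hw
  rw [support₂_wordOf] at hws
  have hmc : enc c = m := setOf_injOn (enc_lt c) hm hws
  simp only [isOctadMask, Bool.and_eq_true, beq_iff_eq]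
  refine ⟨?_, ?_⟩
  · rw [← hmc, enc_mod c hc]
  · rw [← card_setOf, h8]

/-- The index function of a permutation. -/
def idxFun (g : Equiv.Perm GolayPt) (i : ℕ) : ℕ := idx (g (pt i))

theorem idxFun_lt (g : Equiv.Perm GolayPt) (i : ℕ) : idxFun g i < 24 := idx_lt _

theorem setOf_imgList (g : Equiv.Perm GolayPt) (l : List ℕ) (m : ℕ) (hl : ∀ i ∈ l, i < 24)
    (hm : ∀ i < 24, m.testBit i = true ↔ i ∈ l) : setOf (imgList (idxFun g) l) = g • setOf m := by
  ext p
  rw [mem_setOf, testBit_imgList, mem_perm_smul_finset, mem_setOf, hm _ (idx_lt _)]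
  constructor
  · rintro ⟨i, hi, hip⟩
    have : g (pt i) = p := idx_injective hip
    rw [← this]
    simp only [Equiv.symm_apply_apply]
    rw [idx_pt (hl i hi)]
    exact hi
  · intro h
    refine ⟨_, h, ?_⟩
    unfold idxFun
    rw [pt_idx]
    simp

theorem isOctadMask_imgList {g : Equiv.Perm GolayPt} (hg : g ∈ M24) (l : List ℕ) (m : ℕ)
    (hl : ∀ i ∈ l, i < 24) (hm : ∀ i < 24, m.testBit i = true ↔ i ∈ l)
    (ho : isOctadMask m = true) : isOctadMask (imgList (idxFun g) l) = true := by
  apply isOctadMask_of_mem (imgList_lt _ _ fun i _ => idxFun_lt g i)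
  rw [setOf_imgList g l m hl hm]
  exact smul_mem_octads hg (setOf_mem_octads ho)

/-! ### The candidates -/

/-- The action of `s11P` on indices. -/
def fS (i : ℕ) : ℕ := s11T.getD i 0

/-- Discrete logarithms: `i = fS^[j] r` with `r = 2` if the flag is set and `r = 1` otherwise. -/
def dlogT : List (ℕ × Bool) :=
  [(0, false), (0, false), (0, true), (1, false), (6, false), (10, true), (9, true), (2, false),
   (6, true), (4, false), (7, true), (4, true), (5, false), (9, false), (3, true), (1, true),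
   (5, true), (8, false), (7, false), (3, false), (10, false), (8, true), (2, true), (0, false)]

/-- The candidate determined by the exponent `k` and the images `a`, `b` of `1`, `2`. -/
def candA (k a b : ℕ) (i : ℕ) : ℕ :=
  if i = 23 then 23 else if i = 0 then 0 else
    fS^[(k * (dlogT.getD i (0, false)).1) % 11] (if (dlogT.getD i (0, false)).2 then b else a)

/-- The points of the test octad. -/
def testPts : List ℕ := [7, 10, 16, 17, 18, 19, 21, 23]

/-- The test octad. -/
def testMask : ℕ := 0xaf0480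

/-- The octad test. -/
def testA (k a b : ℕ) : Bool := isOctadMask (imgList (candA k a b) testPts)

/-- The candidates passing the test. -/
def passA : List (ℕ × ℕ × ℕ) :=
  (List.range 11).flatMap fun k => if k = 0 then [] else
    (List.range 23).flatMap fun a => if a = 0 then [] else
      (List.range 23).filterMap fun b => if b ≠ 0 ∧ testA k a b = true then some (k, a, b) else none

theorem passA_length : passA.length = 55 := by decide +kernel

theorem mem_passA {k a b : ℕ} (hk : 1 ≤ k ∧ k ≤ 10) (ha : 1 ≤ a ∧ a ≤ 22) (hb : 1 ≤ b ∧ b ≤ 22)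
    (ht : testA k a b = true) : (k, a, b) ∈ passA := by
  unfold passA
  rw [List.mem_flatMap]
  refine ⟨k, List.mem_range.mpr (by omega), ?_⟩
  rw [if_neg (by omega), List.mem_flatMap]
  refine ⟨a, List.mem_range.mpr (by omega), ?_⟩
  rw [if_neg (by omega), List.mem_filterMap]
  refine ⟨b, List.mem_range.mpr (by omega), ?_⟩
  rw [if_pos ⟨by omega, ht⟩]

theorem fS_lt : ∀ i < 24, fS i < 24 := by decide

theorem fS_iter_lt (j : ℕ) : ∀ i < 24, fS^[j] i < 24 := by
  induction j with
  | zero => intro i hi; simpa using hi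
  | succ j ih =>
    intro i hi
    rw [Function.iterate_succ_apply']
    exact fS_lt _ (ih i hi)

theorem fS_periodic : ∀ i < 24, fS^[11] i = i := by decide

theorem dlogT_spec : ∀ i < 24, i ≠ 23 → i ≠ 0 →
    fS^[(dlogT.getD i (0, false)).1] (if (dlogT.getD i (0, false)).2 then 2 else 1) = i := by
  decide

theorem testMask_spec : ∀ i < 24, testMask.testBit i = true ↔ i ∈ testPts := by decide

theorem testPts_lt : ∀ i ∈ testPts, i < 24 := by decide

theorem isOctadMask_testMask : isOctadMask testMask = true := by decide +kernel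

/-! ### The glue -/

theorem idx_s11 (p : GolayPt) : idx (s11P p) = fS (idx p) := matches_s11 p

theorem idx_s11_pow (k : ℕ) (p : GolayPt) : idx ((s11P ^ k) p) = fS^[k] (idx p) := by
  induction k with
  | zero => simp
  | succ k ih =>
    rw [pow_succ', Equiv.Perm.mul_apply, idx_s11, ih, Function.iterate_succ_apply']

theorem s11_pt {i : ℕ} (hi : i < 24) : s11P (pt i) = pt (fS i) := by
  apply idx_injective
  rw [idx_s11, idx_pt hi, idx_pt (fS_lt i hi)]

/-- An element normalizing `⟨s11P⟩` conjugates `s11P` to `s11P ^ k` with `1 ≤ k ≤ 10`. -/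
theorem exists_pow_of_normalizes {g : Equiv.Perm GolayPt}
    (h : g * s11P * g⁻¹ ∈ Subgroup.zpowers s11P) :
    ∃ k : ℕ, 1 ≤ k ∧ k ≤ 10 ∧ g * s11P = s11P ^ k * g := by
  obtain ⟨z, hz⟩ := Subgroup.mem_zpowers_iff.mp h
  have h11 : (orderOf s11P : ℤ) = 11 := by rw [orderOf_s11]; rfl
  have hz' : s11P ^ (z % 11) = g * s11P * g⁻¹ := by
    rw [← hz, ← h11, zpow_mod_orderOf]
  have hnn : 0 ≤ z % 11 := Int.emod_nonneg _ (by norm_num)
  have hlt : z % 11 < 11 := Int.emod_lt_of_pos _ (by norm_num)
  obtain ⟨k, hk⟩ := Int.eq_ofNat_of_zero_le hnn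
  rw [hk, zpow_natCast] at hz'
  have hk11 : k < 11 := by omega
  refine ⟨k, ?_, by omega, ?_⟩
  · by_contra h0
    have : k = 0 := by omega
    subst this
    rw [pow_zero] at hz'
    have : s11P = 1 := by
      have h2 : g * s11P * g⁻¹ = 1 := hz'.symm
      have h3 : g * s11P = g := by
        rw [mul_inv_eq_iff_eq_mul, one_mul] at h2
        exact h2
      exact mul_left_cancel (a := g) (by rw [h3, mul_one])
    exact s11_ne_one this
  · rw [hz', inv_mul_cancel_right]

/-- The key relation on index functions. -/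
theorem idxFun_rel {g : Equiv.Perm GolayPt} {k : ℕ} (h : g * s11P = s11P ^ k * g) :
    ∀ i < 24, idxFun g (fS i) = fS^[k] (idxFun g i) := by
  intro i hi
  unfold idxFun
  rw [← s11_pt hi, ← Equiv.Perm.mul_apply, h, Equiv.Perm.mul_apply, idx_s11_pow]

theorem idxFun_iter {g : Equiv.Perm GolayPt} {k : ℕ} (h : g * s11P = s11P ^ k * g) (j : ℕ) :
    ∀ i < 24, idxFun g (fS^[j] i) = fS^[(k * j) % 11] (idxFun g i) := by
  have key : ∀ j, ∀ i < 24, idxFun g (fS^[j] i) = fS^[k * j] (idxFun g i) := by
    intro j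
    induction j with
    | zero => intro i _; simp
    | succ j ih =>
      intro i hi
      rw [Function.iterate_succ_apply', idxFun_rel h _ (fS_iter_lt j i hi), ih i hi,
        ← Function.iterate_add_apply, Nat.mul_succ, Nat.add_comm]
  intro i hi
  rw [key j i hi]
  have hper : Function.IsPeriodicPt fS 11 (idxFun g i) := fS_periodic _ (idxFun_lt g i)
  exact (hper.iterate_mod_apply (k * j)).symm

theorem idxFun_eq_candA {g : Equiv.Perm GolayPt} (hg : g ∈ Gst 2) {k : ℕ}
    (h : g * s11P = s11P ^ k * g) :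
    ∀ i < 24, idxFun g i = candA k (idxFun g 1) (idxFun g 2) i := by
  rw [mem_Gst] at hg
  intro i hi
  unfold candA
  by_cases h23 : i = 23
  · subst h23
    rw [if_pos rfl]
    have := hg.2 0 (by decide)
    show idx (g (pt 23)) = 23
    have h' : g (pt 23) = pt 23 := this
    rw [h']; rfl
  · rw [if_neg h23]
    by_cases h0 : i = 0
    · subst h0
      rw [if_pos rfl]
      have h' : g (pt 0) = pt 0 := hg.2 1 (by decide)
      show idx (g (pt 0)) = 0
      rw [h']; rfl
    · rw [if_neg h0]
      have hd := dlogT_spec i hi h23 h0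
      generalize dlogT.getD i (0, false) = jc at hd
      obtain ⟨j, c⟩ := jc
      simp only at hd ⊢
      cases c
      · simp only [Bool.false_eq_true, if_false] at hd ⊢
        rw [← idxFun_iter h j 1 (by decide), hd]
      · simp only [if_true] at hd ⊢
        rw [← idxFun_iter h j 2 (by decide), hd]

theorem idxFun_ne_of_ne {g : Equiv.Perm GolayPt} {i j : ℕ} (hi : i < 24) (hj : j < 24)
    (hij : i ≠ j) : idxFun g i ≠ idxFun g j := by
  intro h
  apply hij
  have h1 : pt i = pt j := g.injective (idx_injective h)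
  have := congrArg idx h1
  rwa [idx_pt hi, idx_pt hj] at this

/-- Every element of `Gst 2` normalizing `⟨s11P⟩` is one of the 55 candidates. -/
theorem exists_passA {g : Equiv.Perm GolayPt} (hg : g ∈ Gst 2)
    (h : g * s11P * g⁻¹ ∈ Subgroup.zpowers s11P) :
    ∃ kab ∈ passA, ∀ i < 24, idxFun g i = candA kab.1 kab.2.1 kab.2.2 i := by
  obtain ⟨k, hk1, hk10, hrel⟩ := exists_pow_of_normalizes h
  have hcand := idxFun_eq_candA hg hrel
  have hg' := mem_Gst.mp hg
  have h23 : idxFun g 23 = 23 := by
    have h' : g (pt 23) = pt 23 := hg'.2 0 (by decide)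
    show idx (g (pt 23)) = 23
    rw [h']; rfl
  have h0 : idxFun g 0 = 0 := by
    have h' : g (pt 0) = pt 0 := hg'.2 1 (by decide)
    show idx (g (pt 0)) = 0
    rw [h']; rfl
  have ha : 1 ≤ idxFun g 1 ∧ idxFun g 1 ≤ 22 := by
    have h1 := idxFun_ne_of_ne (g := g) (i := 1) (j := 23) (by decide) (by decide) (by decide)
    have h2 := idxFun_ne_of_ne (g := g) (i := 1) (j := 0) (by decide) (by decide) (by decide)
    have h3 := idxFun_lt g 1
    rw [h23] at h1; rw [h0] at h2
    omega
  have hb : 1 ≤ idxFun g 2 ∧ idxFun g 2 ≤ 22 := by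
    have h1 := idxFun_ne_of_ne (g := g) (i := 2) (j := 23) (by decide) (by decide) (by decide)
    have h2 := idxFun_ne_of_ne (g := g) (i := 2) (j := 0) (by decide) (by decide) (by decide)
    have h3 := idxFun_lt g 2
    rw [h23] at h1; rw [h0] at h2
    omega
  refine ⟨(k, idxFun g 1, idxFun g 2), mem_passA ⟨hk1, hk10⟩ ha hb ?_, hcand⟩
  unfold testA
  rw [← imgList_congr (F := idxFun g) (fun i hi => hcand i (testPts_lt i hi))]
  exact isOctadMask_imgList hg'.1 testPts testMask testPts_lt testMask_spec isOctadMask_testMask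

/-- The normalizer of `⟨s11P⟩` in `Gst 2`. -/
def N55 : Subgroup (Equiv.Perm GolayPt) :=
  Subgroup.normalizer (Subgroup.zpowers s11P : Set (Equiv.Perm GolayPt)) ⊓ Gst 2

theorem conj_mem_of_mem_normalizer {G : Type*} [Group G] {H : Subgroup G} {g x : G}
    (hg : g ∈ Subgroup.normalizer (H : Set G)) (hx : x ∈ H) : g * x * g⁻¹ ∈ H :=
  (Subgroup.mem_normalizer_iff.mp hg x).mp hx

theorem eq_of_idxFun_eq {g g' : Equiv.Perm GolayPt} (h : ∀ i < 24, idxFun g i = idxFun g' i) :
    g = g' := by
  refine Equiv.ext fun p => idx_injective ?_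
  have := h (idx p) (idx_lt p)
  unfold idxFun at this
  rwa [pt_idx] at this

theorem card_N55_le : Nat.card N55 ≤ 55 := by
  have hex : ∀ g : N55, ∃ kab ∈ passA,
      ∀ i < 24, idxFun (g : Equiv.Perm GolayPt) i = candA kab.1 kab.2.1 kab.2.2 i := by
    intro g
    have hg := g.2
    unfold N55 at hg
    rw [Subgroup.mem_inf] at hg
    exact exists_passA hg.2 (conj_mem_of_mem_normalizer hg.1 (Subgroup.mem_zpowers _))
  choose φ hφ hφ' using hex
  let ψ : N55 → {x // x ∈ passA.toFinset} := fun g => ⟨φ g, List.mem_toFinset.mpr (hφ g)⟩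
  have hinj : Function.Injective ψ := by
    intro g g' hgg
    have h1 : φ g = φ g' := congrArg Subtype.val hgg
    apply Subtype.ext
    apply eq_of_idxFun_eq
    intro i hi
    rw [hφ' g i hi, hφ' g' i hi, h1]
  calc Nat.card N55 ≤ Nat.card {x // x ∈ passA.toFinset} := Nat.card_le_card_of_injective ψ hinj
    _ = passA.toFinset.card := by rw [Nat.card_eq_fintype_card, Fintype.card_coe]
    _ ≤ passA.length := List.toFinset_card_le _
    _ = 55 := passA_length

theorem s11_mem_N55 : s11P ∈ N55 := by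
  unfold N55
  rw [Subgroup.mem_inf]
  exact ⟨Subgroup.le_normalizer (Subgroup.mem_zpowers _), s11_mem_Gst2⟩

theorem mem_normalizer_zpowers_of_conj {G : Type*} [Group G] [Finite G] {g x : G} {k : ℕ}
    (h : g * x * g⁻¹ = x ^ k) : g ∈ Subgroup.normalizer (Subgroup.zpowers x : Set G) := by
  have hle : (Subgroup.zpowers x).map (MulAut.conj g).toMonoidHom ≤ Subgroup.zpowers x := by
    rw [MonoidHom.map_zpowers, Subgroup.zpowers_le]
    show g * x * g⁻¹ ∈ _
    rw [h]
    exact Subgroup.pow_mem _ (Subgroup.mem_zpowers x) k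
  have heq : (Subgroup.zpowers x).map (MulAut.conj g).toMonoidHom = Subgroup.zpowers x := by
    apply Subgroup.eq_of_le_of_card_ge hle
    rw [Subgroup.card_map_of_injective (MulAut.conj g).injective]
  rw [Subgroup.mem_normalizer_iff_map_conj_eq]
  exact heq

theorem n5_mem_N55 : n5P ∈ N55 := by
  unfold N55
  rw [Subgroup.mem_inf]
  exact ⟨mem_normalizer_zpowers_of_conj n5_conj_s11, n5_mem_Gst2⟩

theorem card_N55 : Nat.card N55 = 55 := by
  apply le_antisymm card_N55_le
  have h11 : 11 ∣ Nat.card N55 := by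
    have := orderOf_dvd_natCard (⟨s11P, s11_mem_N55⟩ : N55)
    rwa [Subgroup.orderOf_mk, orderOf_s11] at this
  have h5 : 5 ∣ Nat.card N55 := by
    have := orderOf_dvd_natCard (⟨n5P, n5_mem_N55⟩ : N55)
    rwa [Subgroup.orderOf_mk, orderOf_n5] at this
  have h55 : 55 ∣ Nat.card N55 :=
    Nat.Coprime.mul_dvd_of_dvd_of_dvd (by norm_num : Nat.Coprime 5 11) h5 h11
  exact Nat.le_of_dvd Nat.card_pos h55

end Cfsg.Agent.Lib.Helper7
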