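/-
helper7, project ASCHU (helper70's sheet part 2): module ASCHU-[NO23].
`GU_3(2)` has order `2³·3⁴`, hence is solvable (Burnside), so a perfect subgroup is trivial.
-/
import Mathlib
import Cfsg.Prelude.Def_GeometricClasses
import Cfsg.Agent.Lib.Helper99.AschDefs
import Cfsg.Agent.Lib.Helper70.AschU.Defs
import Cfsg.Agent.Lib.Helper5.UnitaryGroup
import Cfsg.Agent.S0144

set_option autoImplicit false

namespace Cfsg.Agent.Lib.Helper7.AschUNo23

open Cfsg
open scoped MatrixGroups

variable {F : Type*} [Field F] [Fintype F]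

theorem card_GU_three_two (hF : Fintype.card F = 2 ^ 2) : Nat.card (GU 3 F 2) = 2 ^ 3 * 3 ^ 4 := by
  rw [Cfsg.Agent.Lib.Helper5.card_GU hF 3]
  decide

/-- a perfect solvable subgroup is trivial -/
theorem eq_bot_of_perfect_of_solvable {G : Type*} [Group G] (A : Subgroup G) (hsolv : Group.IsSolvable A)
    (hperf : ⁅A, A⁆ = A) : A = ⊥ := by
  by_contra hne
  have : Nontrivial A := (Subgroup.nontrivial_iff_ne_bot A).mpr hne
  have hlt := Group.IsSolvable.commutator_lt_top_of_nontrivial A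
  apply hlt.ne
  apply Subgroup.map_injective A.subtype_injective
  rw [Subgroup.map_subtype_commutator, hperf, ← MonoidHom.range_eq_map, Subgroup.range_subtype]

end Cfsg.Agent.Lib.Helper7.AschUNo23

namespace Cfsg.Agent.Lib.Helper70.AschU

open Cfsg Cfsg.Geo Cfsg.Agent.Lib.Helper7.AschUNo23
open scoped MatrixGroups Matrix

variable {F : Type*} [Field F] [Fintype F]

/-- ASCHU-[NO23] -/
theorem perfect_le_GU_three_two (hF : Fintype.card F = 2 ^ 2) (A : Subgroup (GL (Fin 3) F)) (hA : A ≤ GU 3 F 2)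
    (hperf : ⁅A, A⁆ = A) : A = ⊥ := by
  have hdvd : Nat.card A ∣ 2 ^ 3 * 3 ^ 4 := by
    rw [← card_GU_three_two hF]
    exact Subgroup.card_dvd_of_le hA
  obtain ⟨a', b', hab⟩ := Cfsg.Agent.S0144.dvd_form Nat.prime_two Nat.prime_three hdvd
  have hsolv : Group.IsSolvable A :=
    Cfsg.Agent.S0144.result 2 3 a' b' Nat.prime_two Nat.prime_three hab
  exact eq_bot_of_perfect_of_solvable A hsolv hperf

end Cfsg.Agent.Lib.Helper70.AschU
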