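/-
helper7, project ASCHU, module ASCHU-[GU32-NORM], computational part: a model `K4` of the field with four
elements and a kernel-checked enumeration of the 648 matrices with orthonormal columns (hermitian form
`Σ x_i y_i²`): for each of them `G X = R G` and `G Y = R' G` for suitable monomial matrices `R, R'` of the
shape `ω^a' X^b' Y^c'`.
-/
import Mathlib

set_option autoImplicit false

namespace Cfsg.Agent.Lib.Helper7.GU32

/-- the field with four elements: `0, 1, ω, ω²` -/
inductive K4 | z | o | w | v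
  deriving DecidableEq

namespace K4

def add : K4 → K4 → K4
  | z, y => y
  | o, z => o | o, o => z | o, w => v | o, v => w
  | w, z => w | w, o => v | w, w => z | w, v => o
  | v, z => v | v, o => w | v, w => o | v, v => z

def mul : K4 → K4 → K4
  | z, _ => z
  | o, y => y
  | w, z => z | w, o => w | w, w => v | w, v => o
  | v, z => z | v, o => v | v, w => o | v, v => w

def sq : K4 → K4
  | z => z | o => o | w => v | v => w

end K4

open K4

def all4 (p : K4 → Bool) : Bool := p z && p o && p w && p v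

theorem all4_iff (p : K4 → Bool) : all4 p = true ↔ ∀ x, p x = true := by
  unfold all4
  constructor
  · intro h x
    simp only [Bool.and_eq_true] at h
    cases x
    · exact h.1.1.1
    · exact h.1.1.2
    · exact h.1.2
    · exact h.2
  · intro h
    simp [h]

def all3 (p : Fin 3 → Bool) : Bool := p 0 && p 1 && p 2

theorem all3_iff (p : Fin 3 → Bool) : all3 p = true ↔ ∀ x, p x = true := by
  unfold all3
  constructor
  · intro h x
    simp only [Bool.and_eq_true] at h
    fin_cases x
    · exact h.1.1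
    · exact h.1.2
    · exact h.2
  · intro h
    simp [h]

def any3 (p : Fin 3 → Bool) : Bool := p 0 || p 1 || p 2

theorem any3_iff (p : Fin 3 → Bool) : any3 p = true ↔ ∃ x, p x = true := by
  unfold any3
  constructor
  · intro h
    simp only [Bool.or_eq_true] at h
    rcases h with (h | h) | h
    · exact ⟨0, h⟩
    · exact ⟨1, h⟩
    · exact ⟨2, h⟩
  · rintro ⟨x, hx⟩
    fin_cases x <;> simp_all

abbrev M3 := Fin 3 → Fin 3 → K4

def wpow : Fin 3 → K4
  | 0 => o | 1 => w | 2 => v

/-- hermitian product of columns `i`, `j` of `G` -/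
def cdot (G : M3) (i j : Fin 3) : K4 :=
  add (add (mul (G 0 i) (sq (G 0 j))) (mul (G 1 i) (sq (G 1 j)))) (mul (G 2 i) (sq (G 2 j)))

def mk (a0 a1 a2 b0 b1 b2 c0 c1 c2 : K4) : M3 := fun i j =>
  match i, j with
  | 0, 0 => a0 | 1, 0 => a1 | 2, 0 => a2
  | 0, 1 => b0 | 1, 1 => b1 | 2, 1 => b2
  | 0, 2 => c0 | 1, 2 => c1 | 2, 2 => c2

def leafOne (G : M3) (a b c : Fin 3) : Bool :=
  any3 fun c' => any3 fun a' => any3 fun b' => all3 fun i => all3 fun j =>
    decide (mul (G i (j - c)) (wpow (a + b * (j - c))) = mul (wpow (a' + b' * i)) (G (i + c') j))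

def leaf (G : M3) : Bool := leafOne G 0 1 0 && leafOne G 0 0 1

def imp (p q : Bool) : Bool := !p || q

theorem imp_iff (p q : Bool) : imp p q = true ↔ (p = true → q = true) := by
  cases p <;> cases q <;> simp [imp]

def chk : Bool :=
  all4 fun a0 => all4 fun a1 => all4 fun a2 =>
    imp (decide (add (add (mul a0 (sq a0)) (mul a1 (sq a1))) (mul a2 (sq a2)) = o))
    (all4 fun b0 => all4 fun b1 => all4 fun b2 =>
      imp (decide (add (add (mul b0 (sq b0)) (mul b1 (sq b1))) (mul b2 (sq b2)) = o) &&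
        decide (add (add (mul a0 (sq b0)) (mul a1 (sq b1))) (mul a2 (sq b2)) = z))
      (all4 fun c0 => all4 fun c1 => all4 fun c2 =>
        imp (decide (add (add (mul c0 (sq c0)) (mul c1 (sq c1))) (mul c2 (sq c2)) = o) &&
          decide (add (add (mul a0 (sq c0)) (mul a1 (sq c1))) (mul a2 (sq c2)) = z) &&
          decide (add (add (mul b0 (sq c0)) (mul b1 (sq c1))) (mul b2 (sq c2)) = z))
        (leaf (mk a0 a1 a2 b0 b1 b2 c0 c1 c2))))

set_option maxRecDepth 100000 in
theorem chk_true : chk = true := by decide +kernel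

/-- the columns of `G` are orthonormal for the hermitian product -/
def Unit3 (G : M3) : Prop :=
  cdot G 0 0 = o ∧ cdot G 1 1 = o ∧ cdot G 0 1 = z ∧ cdot G 2 2 = o ∧ cdot G 0 2 = z ∧ cdot G 1 2 = z

theorem mk_eta (G : M3) : mk (G 0 0) (G 1 0) (G 2 0) (G 0 1) (G 1 1) (G 2 1) (G 0 2) (G 1 2) (G 2 2) = G := by
  funext i j
  fin_cases i <;> fin_cases j <;> rfl

theorem leaf_of_unit3 (G : M3) (hG : Unit3 G) : leaf G = true := by
  obtain ⟨h00, h11, h01, h22, h02, h12⟩ := hG
  have h := chk_true
  unfold chk at h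
  rw [all4_iff] at h
  have h := h (G 0 0)
  rw [all4_iff] at h
  have h := h (G 1 0)
  rw [all4_iff] at h
  have h := h (G 2 0)
  rw [imp_iff] at h
  have h := h (by rw [decide_eq_true_eq]; exact h00)
  rw [all4_iff] at h
  have h := h (G 0 1)
  rw [all4_iff] at h
  have h := h (G 1 1)
  rw [all4_iff] at h
  have h := h (G 2 1)
  rw [imp_iff] at h
  have h := h (by rw [Bool.and_eq_true, decide_eq_true_eq, decide_eq_true_eq]; exact ⟨h11, h01⟩)
  rw [all4_iff] at h
  have h := h (G 0 2)
  rw [all4_iff] at h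
  have h := h (G 1 2)
  rw [all4_iff] at h
  have h := h (G 2 2)
  rw [imp_iff] at h
  have h := h (by
    rw [Bool.and_eq_true, Bool.and_eq_true, decide_eq_true_eq, decide_eq_true_eq, decide_eq_true_eq]
    exact ⟨⟨h22, h02⟩, h12⟩)
  rw [mk_eta] at h
  exact h

theorem leafOne_spec (G : M3) (a b c : Fin 3) (h : leafOne G a b c = true) :
    ∃ a' b' c' : Fin 3, ∀ i j : Fin 3,
      mul (G i (j - c)) (wpow (a + b * (j - c))) = mul (wpow (a' + b' * i)) (G (i + c') j) := by
  unfold leafOne at h
  rw [any3_iff] at h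
  obtain ⟨c', h⟩ := h
  rw [any3_iff] at h
  obtain ⟨a', h⟩ := h
  rw [any3_iff] at h
  obtain ⟨b', h⟩ := h
  refine ⟨a', b', c', fun i j => ?_⟩
  rw [all3_iff] at h
  have h := h i
  rw [all3_iff] at h
  have h := h j
  rw [decide_eq_true_eq] at h
  exact h

theorem model_X (G : M3) (hG : Unit3 G) :
    ∃ a' b' c' : Fin 3, ∀ i j : Fin 3,
      mul (G i j) (wpow j) = mul (wpow (a' + b' * i)) (G (i + c') j) := by
  have h := leaf_of_unit3 G hG
  unfold leaf at h
  rw [Bool.and_eq_true] at h
  obtain ⟨a', b', c', h'⟩ := leafOne_spec G 0 1 0 h.1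
  refine ⟨a', b', c', fun i j => ?_⟩
  have := h' i j
  simpa using this

theorem model_Y (G : M3) (hG : Unit3 G) :
    ∃ a' b' c' : Fin 3, ∀ i j : Fin 3,
      G i (j - 1) = mul (wpow (a' + b' * i)) (G (i + c') j) := by
  have h := leaf_of_unit3 G hG
  unfold leaf at h
  rw [Bool.and_eq_true] at h
  obtain ⟨a', b', c', h'⟩ := leafOne_spec G 0 0 1 h.2
  refine ⟨a', b', c', fun i j => ?_⟩
  have := h' i j
  have hm : ∀ x : K4, mul x o = x := by intro x; cases x <;> rfl
  simpa [wpow, hm] using this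

end Cfsg.Agent.Lib.Helper7.GU32
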