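/-
helper7, project ASCHU (helper70's sheet part 2, section F): the definitions `X3`, `Y3`, `R3set`
(verbatim from the sheet) for the extraspecial group `3^{1+2}` in `GL_3(F)`.
-/
import Mathlib

set_option autoImplicit false

namespace Cfsg.Agent.Lib.Helper70.AschU

open scoped Matrix

variable {F : Type*} [Field F]

/-- the extraspecial group `3^{1+2}` in `GL_3(F)`, `ω` a primitive cube root of unity: generated by `diag(1, ω, ω²)`, the cyclic
permutation matrix and `ω • 1`. -/
def X3 (ω : F) : Matrix (Fin 3) (Fin 3) F := Matrix.diagonal ![1, ω, ω ^ 2]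

def Y3 : Matrix (Fin 3) (Fin 3) F := Matrix.of ![![0, 1, 0], ![0, 0, 1], ![1, 0, 0]]

/-- the set `{ω^a X^b Y^c}` of matrices of `3^{1+2}` -/
def R3set (ω : F) : Set (Matrix (Fin 3) (Fin 3) F) :=
  {m | ∃ a b c : ℕ, m = ω ^ a • (X3 ω ^ b * Y3 ^ c)}

end Cfsg.Agent.Lib.Helper70.AschU
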