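/-
helper7, project ASCHU (helper70's sheet part 2): module ASCHU-[GU32-NORM].
`GU_3(2)` normalises the extraspecial group `3^{1+2} = {ω^a X^b Y^c}`.
Method: `F` has four elements `0, 1, ω, ω²`; the 648 unitary matrices are enumerated in the model
`K4` (file `AschUGU32Model`, kernel `decide`), where the conjugates of `X` and `Y` are found; the result
is transported to `F` entrywise, and `R3set` is closed under products.
-/
import Mathlib
import Cfsg.Prelude.Def_GeometricClasses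
import Cfsg.Agent.Lib.Helper70.AschU.Defs
import Cfsg.Agent.Lib.Helper7.AschUR3Defs
import Cfsg.Agent.Lib.Helper7.AschUGU32Model

set_option autoImplicit false

namespace Cfsg.Agent.Lib.Helper7.GU32

open Cfsg Cfsg.Agent.Lib.Helper70.AschU K4
open scoped Matrix MatrixGroups

variable {F : Type*} [Field F]

section basic

variable [Fintype F]

theorem pow_four_eq (hF : Fintype.card F = 2 ^ 2) (x : F) : x ^ 4 = x := by
  have := FiniteField.pow_card x
  rw [hF] at this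
  norm_num at this
  exact this

theorem two_eq_zero (hF : Fintype.card F = 2 ^ 2) : (2 : F) = 0 := by
  have h2 := pow_four_eq hF (2 : F)
  have h3 := pow_four_eq hF (3 : F)
  linear_combination 2 * h3 - 11 * h2

theorem elem_cases (hF : Fintype.card F = 2 ^ 2) (ω : F) (hω : ω ^ 2 + ω + 1 = 0) (x : F) :
    x = 0 ∨ x = 1 ∨ x = ω ∨ x = ω ^ 2 := by
  have hx := pow_four_eq hF x
  have h : x * (x - 1) * (x - ω) * (x - ω ^ 2) = 0 := by
    linear_combination hx + (ω - 1 - x) * (x ^ 2 - x) * hω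
  rcases mul_eq_zero.mp h with h | h
  · rcases mul_eq_zero.mp h with h | h
    · rcases mul_eq_zero.mp h with h | h
      · exact Or.inl h
      · exact Or.inr (Or.inl (sub_eq_zero.mp h))
    · exact Or.inr (Or.inr (Or.inl (sub_eq_zero.mp h)))
  · exact Or.inr (Or.inr (Or.inr (sub_eq_zero.mp h)))

end basic

/-- the value of a model element in `F` -/
def val (ω : F) : K4 → F
  | .z => 0 | .o => 1 | .w => ω | .v => ω ^ 2

theorem omega_cube (ω : F) (hω : ω ^ 2 + ω + 1 = 0) : ω ^ 3 = 1 := by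
  linear_combination (ω - 1) * hω

theorem val_add (h2 : (2 : F) = 0) (ω : F) (hω : ω ^ 2 + ω + 1 = 0) (x y : K4) :
    val ω (add x y) = val ω x + val ω y := by
  cases x <;> cases y <;> simp only [K4.add, val, add_zero, zero_add]
  · linear_combination -h2
  · linear_combination hω - (ω + 1) * h2
  · linear_combination -hω + ω * h2
  · linear_combination hω - (ω + 1) * h2
  · linear_combination -ω * h2
  · linear_combination -hω + h2
  · linear_combination -hω + ω * h2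
  · linear_combination -hω + h2
  · linear_combination -ω ^ 2 * h2

theorem val_mul (ω : F) (hω : ω ^ 2 + ω + 1 = 0) (x y : K4) :
    val ω (mul x y) = val ω x * val ω y := by
  cases x <;> cases y <;> simp only [K4.mul, val, mul_zero, zero_mul, mul_one, one_mul]
  · ring
  · linear_combination -(ω - 1) * hω
  · linear_combination -(ω - 1) * hω
  · linear_combination -ω * (ω - 1) * hω

theorem val_sq (ω : F) (hω : ω ^ 2 + ω + 1 = 0) (x : K4) :
    val ω (sq x) = val ω x ^ 2 := by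
  cases x <;> simp only [K4.sq, val]
  · ring
  · ring
  · linear_combination -ω * (ω - 1) * hω

theorem val_inj (h2 : (2 : F) = 0) (ω : F) (hω : ω ^ 2 + ω + 1 = 0) {x y : K4}
    (h : val ω x = val ω y) : x = y := by
  have h10 : (1 : F) ≠ 0 := one_ne_zero
  have hω0 : ω ≠ 0 := by
    intro h0; apply h10; rw [h0] at hω; linear_combination hω
  have hω1 : ω ≠ 1 := by
    intro h1; apply h10; rw [h1] at hω; linear_combination hω - h2
  have hv0 : ω ^ 2 ≠ 0 := pow_ne_zero 2 hω0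
  have hv1 : ω ^ 2 ≠ 1 := by
    intro h1; apply hω0; linear_combination hω - h1 - h2
  have hvw : ω ^ 2 ≠ ω := by
    intro h1
    have : ω * (ω - 1) = 0 := by linear_combination h1
    rcases mul_eq_zero.mp this with h | h
    · exact hω0 h
    · exact hω1 (sub_eq_zero.mp h)
  cases x <;> cases y <;> simp only [val] at h <;> first | rfl | (exfalso; first | exact h10 h | exact h10 h.symm | exact hω0 h | exact hω0 h.symm | exact hω1 h | exact hω1 h.symm | exact hv0 h | exact hv0 h.symm | exact hv1 h | exact hv1 h.symm | exact hvw h | exact hvw h.symm)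

theorem val_surj [Fintype F] (hF : Fintype.card F = 2 ^ 2) (ω : F) (hω : ω ^ 2 + ω + 1 = 0) (x : F) :
    ∃ k : K4, val ω k = x := by
  rcases elem_cases hF ω hω x with h | h | h | h
  · exact ⟨.z, h.symm⟩
  · exact ⟨.o, h.symm⟩
  · exact ⟨.w, h.symm⟩
  · exact ⟨.v, h.symm⟩

theorem val_wpow (ω : F) (k : Fin 3) : val ω (wpow k) = ω ^ (k : ℕ) := by
  fin_cases k <;> simp [wpow, val]

theorem pow_eq_pow_mod (ω : F) (hω3 : ω ^ 3 = 1) (n : ℕ) : ω ^ n = ω ^ (n % 3) := by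
  conv_lhs => rw [← Nat.div_add_mod n 3, pow_add, pow_mul, hω3, one_pow, one_mul]

theorem val_wpow_cast (ω : F) (hω3 : ω ^ 3 = 1) (n : ℕ) : val ω (wpow (Fin.ofNat 3 n)) = ω ^ n := by
  rw [val_wpow, Fin.val_ofNat, ← pow_eq_pow_mod ω hω3]

/-! ### entries of the elements of `R3set` -/

theorem X3_eq (ω : F) : X3 ω = Matrix.diagonal (fun i : Fin 3 => ω ^ (i : ℕ)) := by
  unfold X3
  congr 1
  funext i
  fin_cases i <;> simp

theorem X3_pow (ω : F) (b : ℕ) : X3 ω ^ b = Matrix.diagonal (fun i : Fin 3 => ω ^ (b * (i : ℕ))) := by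
  rw [X3_eq, Matrix.diagonal_pow]
  congr 1
  funext i
  simp only [Pi.pow_apply]
  rw [← pow_mul, mul_comm]

theorem Y3_apply (i j : Fin 3) : (Y3 : Matrix (Fin 3) (Fin 3) F) i j = if j = i + 1 then 1 else 0 := by
  fin_cases i <;> fin_cases j <;> simp [Y3]

theorem ofNat_succ (c : ℕ) : Fin.ofNat 3 (c + 1) = Fin.ofNat 3 c + 1 := by
  apply Fin.ext
  simp [Fin.val_add, Nat.add_mod]

theorem Y3_pow_apply (c : ℕ) (i j : Fin 3) :
    ((Y3 : Matrix (Fin 3) (Fin 3) F) ^ c) i j = if j = i + Fin.ofNat 3 c then 1 else 0 := by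
  induction c generalizing i j with
  | zero =>
    have : Fin.ofNat 3 0 = 0 := rfl
    rw [pow_zero, Matrix.one_apply, this, add_zero]
    simp only [eq_comm]
  | succ c ih =>
    rw [pow_succ, Matrix.mul_apply]
    simp only [ih, Y3_apply]
    rw [Finset.sum_eq_single (i + Fin.ofNat 3 c)]
    · simp only [if_true, one_mul]
      congr 1
      rw [ofNat_succ, add_assoc]
    · intro k _ hk
      rw [if_neg hk, zero_mul]
    · intro h; exact absurd (Finset.mem_univ _) h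

theorem R3_apply (ω : F) (a b c : ℕ) (i j : Fin 3) :
    (ω ^ a • (X3 ω ^ b * (Y3 : Matrix (Fin 3) (Fin 3) F) ^ c)) i j =
      if j = i + Fin.ofNat 3 c then ω ^ (a + b * (i : ℕ)) else 0 := by
  rw [Matrix.smul_apply, X3_pow, Matrix.diagonal_mul, Y3_pow_apply, smul_eq_mul]
  split_ifs
  · rw [mul_one, pow_add]
  · rw [mul_zero, mul_zero]

theorem mul_R3_apply (ω : F) (M : Matrix (Fin 3) (Fin 3) F) (a b c : ℕ) (i j : Fin 3) :
    (M * (ω ^ a • (X3 ω ^ b * (Y3 : Matrix (Fin 3) (Fin 3) F) ^ c))) i j =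
      M i (j - Fin.ofNat 3 c) * ω ^ (a + b * ((j - Fin.ofNat 3 c : Fin 3) : ℕ)) := by
  rw [Matrix.mul_apply]
  simp only [R3_apply]
  rw [Finset.sum_eq_single (j - Fin.ofNat 3 c)]
  · rw [if_pos (by rw [sub_add_cancel])]
  · intro k _ hk
    rw [if_neg, mul_zero]
    intro h
    apply hk
    rw [h, add_sub_cancel_right]
  · intro h; exact absurd (Finset.mem_univ _) h

theorem R3_mul_apply (ω : F) (M : Matrix (Fin 3) (Fin 3) F) (a b c : ℕ) (i j : Fin 3) :
    ((ω ^ a • (X3 ω ^ b * (Y3 : Matrix (Fin 3) (Fin 3) F) ^ c)) * M) i j =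
      ω ^ (a + b * (i : ℕ)) * M (i + Fin.ofNat 3 c) j := by
  rw [Matrix.mul_apply]
  simp only [R3_apply]
  rw [Finset.sum_eq_single (i + Fin.ofNat 3 c)]
  · rw [if_pos rfl]
  · intro k _ hk
    rw [if_neg hk, zero_mul]
  · intro h; exact absurd (Finset.mem_univ _) h


/-! ### `R3set` is closed under products -/

theorem ofNat_add (c c' : ℕ) : Fin.ofNat 3 (c + c') = Fin.ofNat 3 c + Fin.ofNat 3 c' := by
  apply Fin.ext
  simp [Fin.val_add, Nat.add_mod]

theorem ofNat_val (c : Fin 3) : Fin.ofNat 3 (c : ℕ) = c := by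
  apply Fin.ext
  simp

theorem one_mem_R3set (ω : F) : (1 : Matrix (Fin 3) (Fin 3) F) ∈ R3set ω :=
  ⟨0, 0, 0, by simp⟩

theorem mul_mem_R3set (ω : F) (hω3 : ω ^ 3 = 1) {m₁ m₂ : Matrix (Fin 3) (Fin 3) F}
    (h₁ : m₁ ∈ R3set ω) (h₂ : m₂ ∈ R3set ω) : m₁ * m₂ ∈ R3set ω := by
  obtain ⟨a, b, c, rfl⟩ := h₁
  obtain ⟨a', b', c', rfl⟩ := h₂
  refine ⟨a + a' + b' * c, b + b', c + c', ?_⟩
  ext i j
  rw [R3_mul_apply, R3_apply, R3_apply, ofNat_add, add_assoc]
  split_ifs with h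
  · have hb : (ω ^ b') ^ 3 = 1 := by rw [← pow_mul, mul_comm, pow_mul, hω3, one_pow]
    have e1 : ω ^ (b' * ((i + Fin.ofNat 3 c : Fin 3) : ℕ)) = ω ^ (b' * ((i : ℕ) + c)) := by
      rw [pow_mul, pow_mul, pow_eq_pow_mod (ω ^ b') hb, pow_eq_pow_mod (ω ^ b') hb ((i : ℕ) + c)]
      congr 1
      rw [Fin.val_add, Fin.val_ofNat]
      omega
    rw [pow_add ω a', e1, ← pow_add, ← pow_add]
    congr 1
    ring
  · rw [mul_zero]

theorem pow_mem_R3set (ω : F) (hω3 : ω ^ 3 = 1) {m : Matrix (Fin 3) (Fin 3) F}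
    (h : m ∈ R3set ω) (n : ℕ) : m ^ n ∈ R3set ω := by
  induction n with
  | zero => rw [pow_zero]; exact one_mem_R3set ω
  | succ n ih => rw [pow_succ]; exact mul_mem_R3set ω hω3 ih h

theorem smul_mem_R3set (ω : F) {m : Matrix (Fin 3) (Fin 3) F} (h : m ∈ R3set ω) (n : ℕ) :
    ω ^ n • m ∈ R3set ω := by
  obtain ⟨a, b, c, rfl⟩ := h
  exact ⟨n + a, b, c, by rw [smul_smul, ← pow_add]⟩

theorem conj_formula (ω : F) (g : GL (Fin 3) F) (a b c : ℕ) :
    (g : Matrix (Fin 3) (Fin 3) F) * (ω ^ a • (X3 ω ^ b * Y3 ^ c)) *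
        ((g⁻¹ : GL (Fin 3) F) : Matrix (Fin 3) (Fin 3) F) =
      ω ^ a • (((g : Matrix (Fin 3) (Fin 3) F) * X3 ω *
          ((g⁻¹ : GL (Fin 3) F) : Matrix (Fin 3) (Fin 3) F)) ^ b *
        ((g : Matrix (Fin 3) (Fin 3) F) * Y3 *
          ((g⁻¹ : GL (Fin 3) F) : Matrix (Fin 3) (Fin 3) F)) ^ c) := by
  rw [Units.conj_pow, Units.conj_pow, Matrix.mul_smul, Matrix.smul_mul]
  congr 1
  simp only [Matrix.mul_assoc]
  rw [Units.inv_mul_cancel_left]

/-! ### unitarity in coordinates -/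

theorem col_dot (g : GL (Fin 3) F) (hg : g ∈ GU 3 F 2) (i j : Fin 3) :
    (g : Matrix (Fin 3) (Fin 3) F) 0 i * (g : Matrix (Fin 3) (Fin 3) F) 0 j ^ 2 +
      (g : Matrix (Fin 3) (Fin 3) F) 1 i * (g : Matrix (Fin 3) (Fin 3) F) 1 j ^ 2 +
      (g : Matrix (Fin 3) (Fin 3) F) 2 i * (g : Matrix (Fin 3) (Fin 3) F) 2 j ^ 2 =
      if i = j then 1 else 0 := by
  have h := (mem_GU_iff.mp hg) (Pi.single i 1) (Pi.single j 1)
  rw [Matrix.mulVec_single_one, Matrix.mulVec_single_one] at h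
  simp only [hermForm, Fin.sum_univ_three, Matrix.col_apply] at h
  rw [h]
  fin_cases i <;> fin_cases j <;> simp

theorem unit3_of_mem_GU (h2 : (2 : F) = 0) (ω : F) (hω : ω ^ 2 + ω + 1 = 0) (g : GL (Fin 3) F)
    (hg : g ∈ GU 3 F 2) (G : M3) (hG : ∀ i j, val ω (G i j) = (g : Matrix (Fin 3) (Fin 3) F) i j) :
    Unit3 G := by
  have key : ∀ i j : Fin 3, val ω (cdot G i j) = if i = j then 1 else 0 := by
    intro i j
    unfold cdot
    rw [val_add h2 ω hω, val_add h2 ω hω, val_mul ω hω, val_mul ω hω, val_mul ω hω, val_sq ω hω,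
      val_sq ω hω, val_sq ω hω, hG, hG, hG, hG, hG, hG]
    exact col_dot g hg i j
  refine ⟨?_, ?_, ?_, ?_, ?_, ?_⟩
  · apply val_inj h2 ω hω; rw [key]; simp [val]
  · apply val_inj h2 ω hω; rw [key]; simp [val]
  · apply val_inj h2 ω hω; rw [key]; simp [val]
  · apply val_inj h2 ω hω; rw [key]; simp [val]
  · apply val_inj h2 ω hω; rw [key]; simp [val]
  · apply val_inj h2 ω hω; rw [key]; simp [val]

theorem pow_fin_eq (ω : F) (hω3 : ω ^ 3 = 1) (x y i : Fin 3) :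
    ω ^ ((x + y * i : Fin 3) : ℕ) = ω ^ ((x : ℕ) + (y : ℕ) * (i : ℕ)) := by
  rw [pow_eq_pow_mod ω hω3 ((x : ℕ) + (y : ℕ) * (i : ℕ))]
  congr 1
  rw [Fin.val_add, Fin.val_mul]
  simp [Nat.add_mod]

theorem conj_X_mem [Fintype F] (hF : Fintype.card F = 2 ^ 2) (ω : F) (hω : ω ^ 2 + ω + 1 = 0)
    (g : GL (Fin 3) F) (hg : g ∈ GU 3 F 2) :
    (g : Matrix (Fin 3) (Fin 3) F) * X3 ω * ((g⁻¹ : GL (Fin 3) F) : Matrix (Fin 3) (Fin 3) F) ∈
      R3set ω := by
  have h2 := two_eq_zero hF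
  have hω3 := omega_cube ω hω
  choose G hG using fun i j => val_surj hF ω hω ((g : Matrix (Fin 3) (Fin 3) F) i j)
  have hU := unit3_of_mem_GU h2 ω hω g hg G hG
  obtain ⟨a', b', c', h⟩ := model_X G hU
  have key : (g : Matrix (Fin 3) (Fin 3) F) * X3 ω =
      (ω ^ (a' : ℕ) • (X3 ω ^ (b' : ℕ) * Y3 ^ (c' : ℕ))) * (g : Matrix (Fin 3) (Fin 3) F) := by
    ext i j
    rw [R3_mul_apply, ofNat_val, X3_eq, Matrix.mul_diagonal, ← pow_fin_eq ω hω3, ← val_wpow,
      ← val_wpow, ← hG, ← hG, ← val_mul ω hω, ← val_mul ω hω, h i j]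
  rw [key, Matrix.mul_assoc, Units.mul_inv, Matrix.mul_one]
  exact ⟨_, _, _, rfl⟩

theorem conj_Y_mem [Fintype F] (hF : Fintype.card F = 2 ^ 2) (ω : F) (hω : ω ^ 2 + ω + 1 = 0)
    (g : GL (Fin 3) F) (hg : g ∈ GU 3 F 2) :
    (g : Matrix (Fin 3) (Fin 3) F) * Y3 * ((g⁻¹ : GL (Fin 3) F) : Matrix (Fin 3) (Fin 3) F) ∈
      R3set ω := by
  have h2 := two_eq_zero hF
  have hω3 := omega_cube ω hω
  choose G hG using fun i j => val_surj hF ω hω ((g : Matrix (Fin 3) (Fin 3) F) i j)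
  have hU := unit3_of_mem_GU h2 ω hω g hg G hG
  obtain ⟨a', b', c', h⟩ := model_Y G hU
  have hY : (Y3 : Matrix (Fin 3) (Fin 3) F) = ω ^ 0 • (X3 ω ^ 0 * Y3 ^ 1) := by simp
  have key : (g : Matrix (Fin 3) (Fin 3) F) * Y3 =
      (ω ^ (a' : ℕ) • (X3 ω ^ (b' : ℕ) * Y3 ^ (c' : ℕ))) * (g : Matrix (Fin 3) (Fin 3) F) := by
    ext i j
    rw [R3_mul_apply, ofNat_val]
    conv_lhs => rw [hY, mul_R3_apply]
    have h1 : Fin.ofNat 3 1 = 1 := rfl
    rw [h1, zero_mul, add_zero, pow_zero, mul_one, ← pow_fin_eq ω hω3, ← val_wpow,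
      ← hG, ← hG, ← val_mul ω hω, h i j]
  rw [key, Matrix.mul_assoc, Units.mul_inv, Matrix.mul_one]
  exact ⟨_, _, _, rfl⟩

end Cfsg.Agent.Lib.Helper7.GU32

namespace Cfsg.Agent.Lib.Helper70.AschU

open Cfsg Cfsg.Agent.Lib.Helper7.GU32
open scoped Matrix MatrixGroups

variable {F : Type*} [Field F] [Fintype F]

/-- ASCHU-[GU32-NORM] -/
theorem conj_mem_R3set (hF : Fintype.card F = 2 ^ 2) (ω : F) (hω : ω ^ 2 + ω + 1 = 0) (g : GL (Fin 3) F)
    (hg : g ∈ GU 3 F 2) (m : Matrix (Fin 3) (Fin 3) F) (hm : m ∈ R3set ω) :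
    (g : Matrix (Fin 3) (Fin 3) F) * m * ((g⁻¹ : GL (Fin 3) F) : Matrix (Fin 3) (Fin 3) F) ∈ R3set ω := by
  obtain ⟨a, b, c, rfl⟩ := hm
  have hω3 := omega_cube ω hω
  rw [conj_formula]
  exact smul_mem_R3set ω (mul_mem_R3set ω hω3 (pow_mem_R3set ω hω3 (conj_X_mem hF ω hω g hg) b)
    (pow_mem_R3set ω hω3 (conj_Y_mem hF ω hω g hg) c)) a

end Cfsg.Agent.Lib.Helper70.AschU
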