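/-
helper7: S2751 (Goldschmidt bound, helper68's sheet AmalBSHEET.md), module GSB-[P3] (hedge):
`Za_le_Qb` (`Z_x ≤ Q_y` for `x ~ y`, `y` of β-type) and `minB_two` (critical distance `≥ 2`).
Self-contained over GSB-[P2a] (helper19); contains its own copy of [THREE] (`exists_three_of_normal`).
Sub-namespace `Cfsg.Agent.Lib.Helper68.AmalB.H7` (no clash with copies in `Helper68.AmalB`).
-/
import Mathlib
import Cfsg.Prelude.Def_Amalgam
import Cfsg.Agent.Lib.Helper12.AmalVTQuot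
import Cfsg.Agent.Lib.Helper68.AmalBDefs
import Cfsg.Agent.Lib.Helper68.AmalBTools
import Cfsg.Agent.Lib.Helper19.AmalBP2a

set_option autoImplicit false

namespace Cfsg.Agent.Lib.Helper68.AmalB.H7

open Cfsg Cfsg.Agent.Lib.Helper12.Amal Cfsg.Agent.Lib.Helper68.AmalD Cfsg.Agent.Lib.Helper68.AmalW

variable {G : Type*} [Group G] {P₁ P₂ : Subgroup G}

/-- **[THREE]** a normal subgroup of `G_x` not inside `Q_x` contains an element of order `3`
(exact statement of the sheet) -/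
theorem exists_three_of_normal (hW : BaseW P₁ P₂) {x : CosetVertex P₁ P₂} {N : Subgroup G}
    (hN : N ≤ Gv x) (hnorm : Gv x ≤ Subgroup.normalizer (N : Set G)) (hNQ : ¬ N ≤ Qv x) :
    ∃ d ∈ N, d ∉ Qv x ∧ d * d * d = 1 := by
  have hfin : Finite ↥(Gv x) := hW.fin x
  have hfinN : Finite ↥N :=
    Finite.of_injective (Subgroup.inclusion hN) (Subgroup.inclusion_injective _)
  by_cases h3 : 3 ∣ Nat.card ↥N
  · have : Fact (Nat.Prime 3) := ⟨Nat.prime_three⟩
    obtain ⟨d, hd⟩ := exists_prime_orderOf_dvd_card' 3 h3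
    have hd' : orderOf (d : G) = 3 := by rw [Subgroup.orderOf_coe]; exact hd
    refine ⟨d.1, d.2, ?_, ?_⟩
    · intro hdQ
      obtain ⟨k, hk⟩ := (hW.Q_two x) ⟨d.1, hdQ⟩
      have h1 : (d.1) ^ (2 ^ k) = 1 := by
        have := congrArg Subtype.val hk
        simpa using this
      have hdvd : orderOf (d.1) ∣ 2 ^ k := orderOf_dvd_of_pow_eq_one h1
      rw [hd'] at hdvd
      have := Nat.Prime.dvd_of_dvd_pow Nat.prime_three hdvd
      omega
    · have h1 : (d.1) ^ 3 = 1 := by rw [← hd']; exact pow_orderOf_eq_one _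
      rw [← h1, pow_succ, pow_two]
  · exfalso
    apply hNQ
    apply Cfsg.Agent.Lib.Helper12.Amal.VTQ.le_Qof hN hnorm
    have hdvd : Nat.card ↥N ∣ Nat.card ↥(Gv x) := Subgroup.card_dvd_of_le hN
    rw [hW.card_G x] at hdvd
    have hfinQ : Finite ↥(Qv x) :=
      Finite.of_injective (Subgroup.inclusion (Q_le_G hW x)) (Subgroup.inclusion_injective _)
    obtain ⟨k, hk⟩ := IsPGroup.iff_card.1 (hW.Q_two x)
    rw [hk] at hdvd
    have hcop : Nat.Coprime (Nat.card ↥N) 3 :=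
      (Nat.Coprime.symm ((Nat.Prime.coprime_iff_not_dvd Nat.prime_three).2 h3))
    have h6 : 6 * 2 ^ k = 3 * 2 ^ (k + 1) := by rw [pow_succ]; ring
    rw [h6] at hdvd
    have hdvd2 : Nat.card ↥N ∣ 2 ^ (k + 1) := hcop.dvd_of_dvd_mul_left hdvd
    obtain ⟨m, -, hm⟩ := (Nat.dvd_prime_pow Nat.prime_two).1 hdvd2
    exact IsPGroup.of_card hm

/-- **[P3]** `Z_x ≤ Q_y` for `x ~ y`, `y` of β-type (exact statement of the sheet) -/
theorem Za_le_Qb (hB : BaseB P₁ P₂) {x y : CosetVertex P₁ P₂}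
    (hxy : (cosetGraph P₁ P₂).Adj x y) (hy : IsB y) : Zv x ≤ Qv y := by
  have hW := hB.W
  by_contra hcon
  obtain ⟨a, ha, haQ⟩ := SetLike.not_le_iff_exists.1 hcon
  -- `Z_y` is central in `G_y`
  have hcent : ∀ ζ ∈ Zv y, ∀ g ∈ Gv y, g * ζ = ζ * g := fun ζ hζ g hg =>
    Subgroup.mem_centralizer_iff.1 (hy hζ) g hg
  -- the subgroup `N` of the elements of `G_y` acting trivially on `Q_y / Z_y`
  let N : Subgroup G :=
    { carrier := {g | g ∈ Gv y ∧ ∀ q ∈ Qv y, g * q * g⁻¹ * q⁻¹ ∈ Zv y}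
      one_mem' := by
        refine ⟨Subgroup.one_mem _, fun q _ => ?_⟩
        have : (1 : G) * q * 1⁻¹ * q⁻¹ = 1 := by group
        rw [this]
        exact Subgroup.one_mem _
      mul_mem' := by
        rintro g g' ⟨hg, h1⟩ ⟨hg', h2⟩
        refine ⟨Subgroup.mul_mem _ hg hg', fun q hq => ?_⟩
        have e : g * g' * q * (g * g')⁻¹ * q⁻¹
            = (g * (g' * q * g'⁻¹ * q⁻¹) * g⁻¹) * (g * q * g⁻¹ * q⁻¹) := by group
        rw [e]
        exact Subgroup.mul_mem _ (Z_conj hW hg (h2 q hq)) (h1 q hq)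
      inv_mem' := by
        rintro g ⟨hg, h1⟩
        refine ⟨Subgroup.inv_mem _ hg, fun q hq => ?_⟩
        have hq' : g⁻¹ * q * g ∈ Qv y := by
          have := Q_conj hW (Subgroup.inv_mem _ hg) hq
          simpa using this
        have e : g⁻¹ * q * g⁻¹⁻¹ * q⁻¹
            = (g * (g⁻¹ * q * g) * g⁻¹ * (g⁻¹ * q * g)⁻¹)⁻¹ := by group
        rw [e]
        exact Subgroup.inv_mem _ (h1 _ hq') }
  have hNle : N ≤ Gv y := fun g hg => hg.1
  have hNnorm : Gv y ≤ Subgroup.normalizer (N : Set G) := by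
    apply le_normalizer_of_forall
    rintro h hh n ⟨hn, h1⟩
    refine ⟨Subgroup.mul_mem _ (Subgroup.mul_mem _ hh hn) (Subgroup.inv_mem _ hh), fun q hq => ?_⟩
    have hq' : h⁻¹ * q * h ∈ Qv y := by
      have := Q_conj hW (Subgroup.inv_mem _ hh) hq
      simpa using this
    have e : h * n * h⁻¹ * q * (h * n * h⁻¹)⁻¹ * q⁻¹
        = h * (n * (h⁻¹ * q * h) * n⁻¹ * (h⁻¹ * q * h)⁻¹) * h⁻¹ := by group
    rw [e]
    exact Z_conj hW hh (h1 _ hq')
  have haG : a ∈ Gv y := Q_le_G_adj hW hxy (hW.Z_le_Q x ha)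
  have haN : a ∈ N := by
    refine ⟨haG, fun q hq => ?_⟩
    have h1 := hW.comm_inf x y hxy q a (Q_le_T' hW hxy hq) ha
    have e : a * q * a⁻¹ * q⁻¹ = (q * a * q⁻¹ * a⁻¹)⁻¹ := by group
    rw [e]
    exact Subgroup.inv_mem _ h1.2
  have hNQ : ¬ N ≤ Qv y := fun h => haQ (h haN)
  obtain ⟨d, hdN, hdQ, hd3⟩ := exists_three_of_normal hW hNle hNnorm hNQ
  have hdG : d ∈ Gv y := hdN.1
  apply hdQ
  apply hW.char2 y
  refine ⟨hdG, ?_⟩
  show d ∈ Subgroup.centralizer ((Qv y : Subgroup G) : Set G)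
  rw [Subgroup.mem_centralizer_iff]
  intro q hq
  have hζ : d * q * d⁻¹ * q⁻¹ ∈ Zv y := hdN.2 q hq
  have hζ2 := hW.Z_sq y _ hζ
  have hζd := hcent _ hζ d hdG
  have h1 : d * q * d⁻¹ = (d * q * d⁻¹ * q⁻¹) * q := by group
  have h2 : d * (d * q * d⁻¹) * d⁻¹ = q := by
    calc d * (d * q * d⁻¹) * d⁻¹
        = d * ((d * q * d⁻¹ * q⁻¹) * q) * d⁻¹ := by rw [← h1]
      _ = (d * (d * q * d⁻¹ * q⁻¹)) * q * d⁻¹ := by group
      _ = ((d * q * d⁻¹ * q⁻¹) * d) * q * d⁻¹ := by rw [hζd]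
      _ = (d * q * d⁻¹ * q⁻¹) * (d * q * d⁻¹) := by group
      _ = (d * q * d⁻¹ * q⁻¹) * ((d * q * d⁻¹ * q⁻¹) * q) := by rw [← h1]
      _ = ((d * q * d⁻¹ * q⁻¹) * (d * q * d⁻¹ * q⁻¹)) * q := by group
      _ = q := by rw [hζ2, one_mul]
  have hinv : d⁻¹ = d * d := by
    apply inv_eq_of_mul_eq_one_right
    rw [← mul_assoc]
    exact hd3
  have h3 : d⁻¹ * q * d = q := by
    have e : d * (d * q * d⁻¹) * d⁻¹ = (d * d) * q * (d * d)⁻¹ := by group
    rw [e, ← hinv, inv_inv] at h2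
    exact h2
  calc q * d = d * (d⁻¹ * q * d) := by group
    _ = d * q := by rw [h3]

/-- **[P3]** the critical distance is at least `2` (exact statement of the sheet) -/
theorem minB_two (hB : BaseB P₁ P₂) : MinB P₁ P₂ 2 := by
  have hW := hB.W
  intro x y h
  by_contra hlt
  have hlt' : (cosetGraph P₁ P₂).dist x y < 2 := by omega
  have hcases : (cosetGraph P₁ P₂).dist x y = 0 ∨ (cosetGraph P₁ P₂).dist x y = 1 := by omega
  rcases hcases with h0 | h1
  · have hxy : x = y := (SimpleGraph.Reachable.dist_eq_zero_iff (hW.conn x y)).1 h0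
    subst hxy
    exact h (hW.Z_le_Q x)
  · have hadj : (cosetGraph P₁ P₂).Adj x y := SimpleGraph.dist_eq_one_iff_adj.1 h1
    by_cases hy : IsB y
    · exact h (Za_le_Qb hB hadj hy)
    · have hx : IsB x := (hB.adj_type x y hadj).2 hy
      exact h ((Zb_le hB hadj.symm hx).trans (hW.Z_le_Q y))

end Cfsg.Agent.Lib.Helper68.AmalB.H7
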