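import Mathlib

/-!
# Involutions of `C_G(P)` inject into the cosets of `P` (module [INVOL] of S1022)

For an abelian Sylow `p`-subgroup `P` (`p` odd) and an involution `v` of `C = C_G(P)`, with `N = N_G(P)`:
`|N| · |P| ≤ (|C| - |P|) · |N ∩ C_G(v)|`.
-/

set_option autoImplicit false

namespace Cfsg.Agent.Lib.Helper7.S1022

open Finset

theorem s1022_card_normalizer_le {G : Type*} [Group G] [Finite G] {p : ℕ} [Fact p.Prime]
    (hp2 : p ≠ 2) (P : Sylow p G)
    (hPC : (P : Subgroup G) ≤ Subgroup.centralizer ((P : Subgroup G) : Set G)) (v : G)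
    (hvC : v ∈ Subgroup.centralizer ((P : Subgroup G) : Set G)) (hv : orderOf v = 2) :
    Nat.card (Subgroup.normalizer ((P : Subgroup G) : Set G)) * Nat.card (P : Subgroup G) ≤
      (Nat.card (Subgroup.centralizer ((P : Subgroup G) : Set G)) - Nat.card (P : Subgroup G)) *
        Nat.card ((Subgroup.normalizer ((P : Subgroup G) : Set G) ⊓
          Subgroup.centralizer ({v} : Set G) : Subgroup G)) := by
  classical
  have : Fintype G := Fintype.ofFinite G
  set N : Subgroup G := Subgroup.normalizer ((P : Subgroup G) : Set G) with hNdef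
  set C : Subgroup G := Subgroup.centralizer ((P : Subgroup G) : Set G) with hCdef
  set D : Subgroup G := N ⊓ Subgroup.centralizer ({v} : Set G) with hDdef
  -- finsets
  let Nf : Finset G := univ.filter (· ∈ N)
  let Cf : Finset G := univ.filter (· ∈ C)
  let Pf : Finset G := univ.filter (· ∈ (P : Subgroup G))
  let Df : Finset G := univ.filter (· ∈ D)
  let Tf : Finset G := univ.filter (fun t => t ∈ C ∧ t * t = 1 ∧ t ≠ 1)
  have hcardsub : ∀ H : Subgroup G, Nat.card H = (univ.filter (· ∈ H)).card := by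
    intro H
    rw [Nat.card_eq_fintype_card, Fintype.card_subtype]
  have hNc : Nat.card N = Nf.card := hcardsub N
  have hCc : Nat.card C = Cf.card := hcardsub C
  have hPc : Nat.card (P : Subgroup G) = Pf.card := hcardsub P
  have hDc : Nat.card D = Df.card := hcardsub D
  rw [hNc, hCc, hPc, hDc]
  -- facts on `v`
  have hv2 : v * v = 1 := by
    have := pow_orderOf_eq_one v
    rwa [hv, pow_two] at this
  have hv1 : v ≠ 1 := by
    rintro rfl
    rw [orderOf_one] at hv
    exact absurd hv (by decide)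
  -- (a)
  have hodd : ∀ y ∈ (P : Subgroup G), y * y = 1 → y = 1 := by
    intro y hy hyy
    obtain ⟨k, hk⟩ := P.2 ⟨y, hy⟩
    have hk' : y ^ (p ^ k) = 1 := by
      have := congrArg Subtype.val hk
      simpa using this
    have h1 : orderOf y ∣ p ^ k := orderOf_dvd_of_pow_eq_one hk'
    have h2 : orderOf y ∣ 2 := orderOf_dvd_of_pow_eq_one (by rw [pow_two]; exact hyy)
    have hcop : Nat.Coprime (p ^ k) 2 :=
      Nat.Coprime.pow_left k ((Nat.coprime_primes (Fact.out : p.Prime) Nat.prime_two).mpr hp2)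
    have : orderOf y ∣ 1 := by
      have := Nat.dvd_gcd h1 h2
      rwa [hcop.gcd_eq_one] at this
    exact orderOf_eq_one_iff.mp (Nat.dvd_one.mp this)
  have hTC : ∀ t ∈ insert (1 : G) Tf, t ∈ C ∧ t * t = 1 := by
    intro t ht
    rw [Finset.mem_insert] at ht
    rcases ht with rfl | ht
    · exact ⟨C.one_mem, by simp⟩
    · have := (Finset.mem_filter.mp ht).2
      exact ⟨this.1, this.2.1⟩
  have ha : ((insert (1 : G) Tf) ×ˢ Pf).card ≤ Cf.card := by
    apply Finset.card_le_card_of_injOn (fun tx => tx.1 * tx.2)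
    · rintro ⟨t, x⟩ htx
      have htx' := Finset.mem_product.mp (Finset.mem_coe.mp htx)
      have ht := hTC t htx'.1
      have hx : x ∈ (P : Subgroup G) := (Finset.mem_filter.mp htx'.2).2
      exact Finset.mem_coe.mpr (Finset.mem_filter.mpr ⟨Finset.mem_univ _, C.mul_mem ht.1 (hPC hx)⟩)
    · rintro ⟨t, x⟩ htx ⟨t', x'⟩ htx' heq
      have h1 := Finset.mem_product.mp (Finset.mem_coe.mp htx)
      have h2 := Finset.mem_product.mp (Finset.mem_coe.mp htx')
      have ht := hTC t h1.1
      have ht' := hTC t' h2.1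
      have hx : x ∈ (P : Subgroup G) := (Finset.mem_filter.mp h1.2).2
      have hx' : x' ∈ (P : Subgroup G) := (Finset.mem_filter.mp h2.2).2
      have heq' : t * x = t' * x' := heq
      set y := x * x'⁻¹ with hy
      have hyP : y ∈ (P : Subgroup G) := (P : Subgroup G).mul_mem hx ((P : Subgroup G).inv_mem hx')
      have ht'y : t' = t * y := by
        rw [hy, ← mul_assoc, heq', mul_assoc, mul_inv_cancel, mul_one]
      have hcomm : y * t = t * y := (Subgroup.mem_centralizer_iff.mp ht.1) y hyP
      have hyy : y * y = 1 := by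
        have h3 : t' * t' = 1 := ht'.2
        rw [ht'y] at h3
        calc y * y = (t * t) * (y * y) := by rw [ht.2, one_mul]
          _ = t * (t * y) * y := by group
          _ = t * (y * t) * y := by rw [hcomm]
          _ = (t * y) * (t * y) := by group
          _ = 1 := h3
      have hy1 : y = 1 := hodd y hyP hyy
      have hxx' : x = x' := by
        have : x * x'⁻¹ = 1 := hy1
        exact mul_inv_eq_one.mp this
      have htt' : t = t' := by rw [ht'y, hy1, mul_one]
      rw [htt', hxx']
  have ha' : (Tf.card + 1) * Pf.card ≤ Cf.card := by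
    have h1 : (1 : G) ∉ Tf := by
      intro h
      exact (Finset.mem_filter.mp h).2.2.2 rfl
    rw [Finset.card_product, Finset.card_insert_of_notMem h1] at ha
    exact ha
  -- (b)
  let f : G → G := fun n => n * v * n⁻¹
  have hfT : ∀ n ∈ Nf, f n ∈ Tf := by
    intro n hn
    have hnN : n ∈ N := (Finset.mem_filter.mp hn).2
    simp only [Tf, Finset.mem_filter, Finset.mem_univ, true_and]
    refine ⟨?_, ?_, ?_⟩
    · rw [Subgroup.mem_centralizer_iff]
      intro x hx
      have hx' : n⁻¹ * x * n ∈ (P : Subgroup G) :=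
        ((Subgroup.mem_set_normalizer_iff''.mp hnN) x).mp hx
      have hc : (n⁻¹ * x * n) * v = v * (n⁻¹ * x * n) :=
        (Subgroup.mem_centralizer_iff.mp hvC) _ hx'
      show x * (n * v * n⁻¹) = n * v * n⁻¹ * x
      calc x * (n * v * n⁻¹) = n * ((n⁻¹ * x * n) * v) * n⁻¹ := by group
        _ = n * (v * (n⁻¹ * x * n)) * n⁻¹ := by rw [hc]
        _ = n * v * n⁻¹ * x := by group
    · show n * v * n⁻¹ * (n * v * n⁻¹) = 1
      calc n * v * n⁻¹ * (n * v * n⁻¹) = n * (v * v) * n⁻¹ := by group
        _ = 1 := by rw [hv2]; group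
    · show n * v * n⁻¹ ≠ 1
      intro h
      apply hv1
      have : v = n⁻¹ * (n * v * n⁻¹) * n := by group
      rw [this, h]
      group
  have hb : Nf.card ≤ Df.card * (Nf.image f).card := by
    apply Finset.card_le_mul_card_image
    intro a ha
    obtain ⟨n₀, hn₀, rfl⟩ := Finset.mem_image.mp ha
    have hn₀N : n₀ ∈ N := (Finset.mem_filter.mp hn₀).2
    apply Finset.card_le_card_of_injOn (fun n => n₀⁻¹ * n)
    · intro n hn
      have hn' := Finset.mem_filter.mp (Finset.mem_coe.mp hn)
      have hnN : n ∈ N := (Finset.mem_filter.mp hn'.1).2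
      have hfn : n * v * n⁻¹ = n₀ * v * n₀⁻¹ := hn'.2
      have hmemD : n₀⁻¹ * n ∈ D := by
        refine Subgroup.mem_inf.mpr ⟨N.mul_mem (N.inv_mem hn₀N) hnN, ?_⟩
        rw [Subgroup.mem_centralizer_singleton_iff]
        calc n₀⁻¹ * n * v = n₀⁻¹ * (n * v * n⁻¹) * n := by group
          _ = n₀⁻¹ * (n₀ * v * n₀⁻¹) * n := by rw [hfn]
          _ = v * (n₀⁻¹ * n) := by group
      exact Finset.mem_coe.mpr (Finset.mem_filter.mpr ⟨Finset.mem_univ _, hmemD⟩)
    · intro n _ n' _ h
      exact mul_left_cancel h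
  have hb' : Nf.card ≤ Df.card * Tf.card := by
    refine hb.trans (Nat.mul_le_mul_left _ (Finset.card_le_card ?_))
    intro a ha
    obtain ⟨n, hn, rfl⟩ := Finset.mem_image.mp ha
    exact hfT n hn
  -- combine
  have h1 : Tf.card * Pf.card ≤ Cf.card - Pf.card := by
    have : Tf.card * Pf.card + Pf.card ≤ Cf.card := by
      calc Tf.card * Pf.card + Pf.card = (Tf.card + 1) * Pf.card := by ring
        _ ≤ Cf.card := ha'
    omega
  calc Nf.card * Pf.card ≤ (Df.card * Tf.card) * Pf.card := Nat.mul_le_mul_right _ hb'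
    _ = (Tf.card * Pf.card) * Df.card := by ring
    _ ≤ (Cf.card - Pf.card) * Df.card := Nat.mul_le_mul_right _ h1

end Cfsg.Agent.Lib.Helper7.S1022
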