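import Mathlib

/-!
# Two permutation lemmas on the action on Sylow subgroups (modules [PERM] of S1022)

* `s1022_smul_eq_of_centralizes`: an element `k` of prime order `q` centralizing a Sylow `p`-subgroup `P` fixes
  every Sylow `p`-subgroup, provided the number of Sylow `p`-subgroups is the only `f ≤ n_p` with `f ≡ 1 (p)` and
  `f ≡ n_p (q)`.
* `s1022_eq_one_of_smul_eq`: in a simple group with more than one Sylow `p`-subgroup, an element fixing all
  Sylow `p`-subgroups is trivial.
-/

set_option autoImplicit false

namespace Cfsg.Agent.Lib.Helper7.S1022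

open MulAction

theorem s1022_eq_one_of_smul_eq {G : Type*} [Group G] [Finite G] [IsSimpleGroup G] {p : ℕ}
    [Fact p.Prime] (hn : Nat.card (Sylow p G) ≠ 1) (k : G) (hk : ∀ Q : Sylow p G, k • Q = Q) :
    k = 1 := by
  let K : Subgroup G := (MulAction.toPermHom G (Sylow p G)).ker
  have hkK : k ∈ K := by
    rw [MonoidHom.mem_ker]
    ext Q
    simp [hk Q]
  have hKn : K.Normal := MonoidHom.normal_ker _
  rcases hKn.eq_bot_or_eq_top with h | h
  · rw [h, Subgroup.mem_bot] at hkK
    exact hkK
  · exfalso
    apply hn
    have hall : ∀ (g : G) (Q : Sylow p G), g • Q = Q := by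
      intro g Q
      have hg : g ∈ K := by rw [h]; trivial
      rw [MonoidHom.mem_ker] at hg
      have := congrArg (fun e : Equiv.Perm (Sylow p G) => e Q) hg
      simpa using this
    have hsub : Subsingleton (Sylow p G) := ⟨fun P Q => by
      obtain ⟨g, hg⟩ := MulAction.exists_smul_eq G P Q
      rw [← hg, hall]⟩
    exact Nat.card_unique

theorem s1022_smul_eq_of_centralizes {G : Type*} [Group G] [Finite G] {p q : ℕ} [Fact p.Prime]
    [Fact q.Prime] (P : Sylow p G) (k : G) (hk : orderOf k = q)
    (hkc : k ∈ Subgroup.centralizer ((P : Subgroup G) : Set G))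
    (har : ∀ f : ℕ, f ≤ Nat.card (Sylow p G) → f % p = 1 →
      f % q = Nat.card (Sylow p G) % q → f = Nat.card (Sylow p G)) :
    ∀ Q : Sylow p G, k • Q = Q := by
  classical
  -- the set of Sylow subgroups fixed by `k`
  let F : Set (Sylow p G) := {Q | k • Q = Q}
  have hq : IsPGroup q (Subgroup.zpowers k) := by
    apply IsPGroup.of_card (n := 1)
    rw [Nat.card_zpowers, hk, pow_one]
  have hFfix : MulAction.fixedPoints (Subgroup.zpowers k) (Sylow p G) = F := by
    ext Q
    constructor
    · intro h
      exact h ⟨k, Subgroup.mem_zpowers k⟩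
    · rintro h ⟨g, hg⟩
      have h1 : k ∈ MulAction.stabilizer G Q := h
      have h2 : g ∈ MulAction.stabilizer G Q :=
        (Subgroup.zpowers_le.mpr h1) hg
      exact h2
  have hmodq : Nat.card (Sylow p G) ≡ Nat.card F [MOD q] := by
    have := hq.card_modEq_card_fixedPoints (Sylow p G)
    rwa [hFfix] at this
  -- `P` acts on `F`
  let S : SubMulAction ↥(P : Subgroup G) (Sylow p G) :=
    { carrier := F
      smul_mem' := by
        rintro ⟨c, hc⟩ Q hQ
        show k • ((⟨c, hc⟩ : ↥(P : Subgroup G)) • Q) = (⟨c, hc⟩ : ↥(P : Subgroup G)) • Q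
        have hcomm : c * k = k * c := (Subgroup.mem_centralizer_iff.mp hkc) c hc
        have hQ' : k • Q = Q := hQ
        rw [Subgroup.smul_def, smul_smul, ← hcomm, ← smul_smul, hQ'] }
  have hPF : P ∈ F := by
    show k • P = P
    rw [Sylow.smul_eq_iff_mem_normalizer]
    exact Subgroup.centralizer_le_normalizer _ hkc
  have hfixS : MulAction.fixedPoints ↥(P : Subgroup G) ↥S = {⟨P, hPF⟩} := by
    ext x
    rw [Set.mem_singleton_iff]
    constructor
    · intro hx
      have hx' : x.1 ∈ MulAction.fixedPoints ↥(P : Subgroup G) (Sylow p G) := by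
        intro c
        have := hx c
        exact congrArg Subtype.val this
      rw [P.2.sylow_mem_fixedPoints_iff] at hx'
      have : (x.1 : Subgroup G) = P := P.3 x.1.2 hx'
      apply Subtype.ext
      exact Sylow.ext this
    · rintro rfl c
      apply Subtype.ext
      show c • P = P
      have : P ∈ MulAction.fixedPoints ↥(P : Subgroup G) (Sylow p G) := by
        rw [P.2.sylow_mem_fixedPoints_iff]
      exact this c
  have hmodp : Nat.card ↥S ≡ 1 [MOD p] := by
    have := P.2.card_modEq_card_fixedPoints ↥S
    rw [hfixS] at this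
    simpa using this
  have hSF : Nat.card ↥S = Nat.card F := rfl
  have hle : Nat.card F ≤ Nat.card (Sylow p G) := by
    have := Nat.card_le_card_of_injective (fun x : F => (x : Sylow p G)) Subtype.val_injective
    exact this
  have hp1 : 1 < p := (Fact.out : p.Prime).one_lt
  have hcard : Nat.card F = Nat.card (Sylow p G) := by
    apply har _ hle
    · rw [← hSF]
      have := hmodp
      unfold Nat.ModEq at this
      rw [this, Nat.mod_eq_of_lt hp1]
    · exact hmodq.symm
  -- hence `F` is everything
  intro Q
  have hFuniv : F = Set.univ := by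
    apply Set.eq_univ_of_forall
    by_contra hne
    rw [not_forall] at hne
    obtain ⟨R, hR⟩ := hne
    have hlt : Nat.card F < Nat.card (Sylow p G) := by
      have h1 : F.ncard < (Set.univ : Set (Sylow p G)).ncard :=
        Set.ncard_lt_ncard (Set.ssubset_univ_iff.mpr (fun h => hR (h ▸ trivial)))
      rw [Set.ncard_univ] at h1
      rwa [Nat.card_coe_set_eq]
    omega
  have : Q ∈ F := by rw [hFuniv]; trivial
  exact this

end Cfsg.Agent.Lib.Helper7.S1022
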