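import Cfsg.Agent.Lib.Helper7.GolayFacts

/-!
# Octads and dodecads: intersection sizes, hexads of a dodecad form a Steiner system S(5,6,12)
-/

set_option autoImplicit false

namespace Cfsg.Agent.Lib.Helper7
open Cfsg

/-- An octad meets a dodecad in 2, 4 or 6 points. -/
theorem card_octad_inter_dodecad {o d : Finset GolayPt} (ho : o ∈ octads) (hd : d ∈ dodecads) :
    (o ∩ d).card = 2 ∨ (o ∩ d).card = 4 ∨ (o ∩ d).card = 6 := by
  obtain ⟨v, hv, rfl, hv8⟩ := (mem_octads_iff o).mp ho
  obtain ⟨w, hw, rfl, hw12⟩ := (mem_dodecads_iff d).mp hd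
  have h1 := Cfsg.Agent.Lib.Helper93.card_supp_add v w
  simp only [supp_eq_support₂] at h1
  have h2 := golay_weight (golayCode.add_mem hv hw)
  rw [← card_support₂_eq_hammingNorm] at h2
  have h3 : (support₂ v ∩ support₂ w).card ≤ 8 := by
    rw [← hv8]; exact Finset.card_le_card Finset.inter_subset_left
  rcases h2 with h | h | h | h | h <;> omega

/-- The complement of a dodecad is a dodecad. -/
theorem compl_mem_dodecads {d : Finset GolayPt} (hd : d ∈ dodecads) : dᶜ ∈ dodecads := by
  obtain ⟨w, hw, rfl, hw12⟩ := (mem_dodecads_iff d).mp hd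
  rw [mem_dodecads_iff]
  refine ⟨w + 1, golayCode.add_mem hw golay_one_mem', ?_, ?_⟩
  · ext i
    simp only [support₂, Finset.mem_filter, Finset.mem_univ, true_and, Pi.add_apply, Pi.one_apply,
      Finset.mem_compl, not_not]
    have hc : ∀ a : ZMod 2, a + 1 ≠ 0 ↔ a = 0 := by decide
    exact hc (w i)
  · rw [Finset.card_compl, hw12]; decide

theorem card_inter_compl_octad {o d : Finset GolayPt} (ho : o ∈ octads) :
    (o ∩ dᶜ).card = 8 - (o ∩ d).card := by
  have h1 : (o ∩ d).card + (o ∩ dᶜ).card = o.card := by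
    rw [← Finset.card_union_of_disjoint]
    · congr 1
      ext x; simp only [Finset.mem_union, Finset.mem_inter, Finset.mem_compl]; tauto
    · rw [Finset.disjoint_left]
      intro x hx hx'
      simp only [Finset.mem_inter, Finset.mem_compl] at hx hx'
      exact hx'.2 hx.2
  have h2 : o.card = 8 := ho.2
  omega

/-- The hexads of a dodecad `d`: intersections with `d` of octads meeting `d` in six points, as
subsets of the subtype of `d`. -/
def hexads (d : Finset GolayPt) : Set (Finset {p : GolayPt // p ∈ d}) :=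
  {h | ∃ o ∈ octads, (o ∩ d).card = 6 ∧ h = Finset.subtype (fun p => p ∈ d) o}

theorem card_subtype_eq_card_inter (o d : Finset GolayPt) :
    (Finset.subtype (fun p => p ∈ d) o).card = (o ∩ d).card := by
  rw [Finset.card_subtype, Finset.filter_mem_eq_inter]

/-- The hexads of a dodecad form a Steiner system S(5,6,12) (this is statement S0385). -/
theorem hexads_steiner {d : Finset GolayPt} (hd : d ∈ dodecads) :
    IsSteinerSystem 5 6 (hexads d) := by
  refine ⟨?_, ?_⟩
  · rintro h ⟨o, _, h6, rfl⟩
    rw [card_subtype_eq_card_inter, h6]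
  · intro s hs
    set s' : Finset GolayPt := s.map (Function.Embedding.subtype _) with hs'
    have hs'card : s'.card = 5 := by rw [hs', Finset.card_map, hs]
    have hs'd : s' ⊆ d := by
      intro x hx
      rw [hs', Finset.mem_map] at hx
      obtain ⟨a, _, rfl⟩ := hx
      exact a.2
    obtain ⟨o, ⟨ho, hso⟩, huniq⟩ := octads_steiner.2 s' hs'card
    have h5 : 5 ≤ (o ∩ d).card := by
      rw [← hs'card]; exact Finset.card_le_card (Finset.subset_inter hso hs'd)
    have h6 : (o ∩ d).card = 6 := by
      rcases card_octad_inter_dodecad ho hd with h | h | h <;> omega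
    refine ⟨Finset.subtype (fun p => p ∈ d) o, ⟨⟨o, ho, h6, rfl⟩, ?_⟩, ?_⟩
    · intro a ha
      rw [Finset.mem_subtype]
      apply hso
      rw [hs', Finset.mem_map]
      exact ⟨a, ha, rfl⟩
    · rintro h' ⟨⟨o', ho', _, rfl⟩, hsh'⟩
      have : o' = o := by
        apply huniq o' ⟨ho', ?_⟩
        intro x hx
        rw [hs', Finset.mem_map] at hx
        obtain ⟨a, ha, rfl⟩ := hx
        have := hsh' ha
        rwa [Finset.mem_subtype] at this
      rw [this]

end Cfsg.Agent.Lib.Helper7
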