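import Cfsg.Agent.Lib.Helper7.Hexads
import Cfsg.Agent.S0350
import Cfsg.Agent.S0360

/-!
# Numbers of octads meeting a dodecad in 6, 2, 4 points: 132, 132, 495
-/

set_option autoImplicit false

namespace Cfsg.Agent.Lib.Helper7
open Cfsg

/-- Octads meeting `d` in exactly `k` points. -/
def octadsMeeting (d : Finset GolayPt) (k : ℕ) : Set (Finset GolayPt) :=
  {o | o ∈ octads ∧ (o ∩ d).card = k}

theorem hexads_eq_image (d : Finset GolayPt) :
    hexads d = (fun o => Finset.subtype (fun p => p ∈ d) o) '' octadsMeeting d 6 := by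
  ext h
  simp only [hexads, octadsMeeting, Set.mem_ofPred_eq, Set.mem_image]
  constructor
  · rintro ⟨o, ho, h6, rfl⟩; exact ⟨o, ⟨ho, h6⟩, rfl⟩
  · rintro ⟨o, ⟨ho, h6⟩, rfl⟩; exact ⟨o, ho, h6, rfl⟩

theorem subtype_injOn (d : Finset GolayPt) :
    Set.InjOn (fun o => Finset.subtype (fun p => p ∈ d) o) (octadsMeeting d 6) := by
  rintro o ⟨ho, h6⟩ o' ⟨ho', _⟩ heq
  simp only at heq
  apply octad_eq_of_five ho ho'
  have hsub : o ∩ d ⊆ o ∩ o' := by
    intro x hx
    rw [Finset.mem_inter] at hx ⊢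
    refine ⟨hx.1, ?_⟩
    have h1 : (⟨x, hx.2⟩ : {p // p ∈ d}) ∈ Finset.subtype (fun p => p ∈ d) o := by
      rw [Finset.mem_subtype]; exact hx.1
    rw [heq, Finset.mem_subtype] at h1
    exact h1
  have := Finset.card_le_card hsub
  omega

theorem ncard_octadsMeeting_six {d : Finset GolayPt} (hd : d ∈ dodecads) :
    (octadsMeeting d 6).ncard = 132 := by
  have h1 := Cfsg.Agent.S0350.result (hexads_steiner hd)
  rw [Fintype.card_coe, hd.2] at h1
  have h2 : (hexads d).ncard = (octadsMeeting d 6).ncard := by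
    rw [hexads_eq_image, (subtype_injOn d).ncard_image]
  rw [h2] at h1
  have h3 : Nat.choose 6 5 = 6 := by decide
  have h4 : Nat.choose 12 5 = 792 := by decide
  rw [h3, h4] at h1
  omega

theorem octadsMeeting_two_eq (d : Finset GolayPt) (hd : d ∈ dodecads) :
    octadsMeeting d 2 = octadsMeeting dᶜ 6 := by
  ext o
  simp only [octadsMeeting, Set.mem_ofPred_eq]
  constructor
  · rintro ⟨ho, h2⟩
    exact ⟨ho, by rw [card_inter_compl_octad ho, h2]⟩
  · rintro ⟨ho, h6⟩
    refine ⟨ho, ?_⟩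
    rw [card_inter_compl_octad ho] at h6
    rcases card_octad_inter_dodecad ho hd with h | h | h <;> omega

theorem ncard_octadsMeeting_two {d : Finset GolayPt} (hd : d ∈ dodecads) :
    (octadsMeeting d 2).ncard = 132 := by
  rw [octadsMeeting_two_eq d hd]
  exact ncard_octadsMeeting_six (compl_mem_dodecads hd)

theorem octads_eq_union (d : Finset GolayPt) (hd : d ∈ dodecads) :
    octads = octadsMeeting d 6 ∪ octadsMeeting d 2 ∪ octadsMeeting d 4 := by
  ext o
  simp only [octadsMeeting, Set.mem_union, Set.mem_ofPred_eq]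
  constructor
  · intro ho
    rcases card_octad_inter_dodecad ho hd with h | h | h
    · exact Or.inl (Or.inr ⟨ho, h⟩)
    · exact Or.inr ⟨ho, h⟩
    · exact Or.inl (Or.inl ⟨ho, h⟩)
  · rintro ((⟨ho, _⟩ | ⟨ho, _⟩) | ⟨ho, _⟩) <;> exact ho

theorem ncard_octadsMeeting_four {d : Finset GolayPt} (hd : d ∈ dodecads) :
    (octadsMeeting d 4).ncard = 495 := by
  have h759 := Cfsg.Agent.S0360.result
  rw [octads_eq_union d hd] at h759
  have hfin : ∀ s : Set (Finset GolayPt), s.Finite := fun s => Set.toFinite s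
  have hd1 : Disjoint (octadsMeeting d 6 ∪ octadsMeeting d 2) (octadsMeeting d 4) := by
    rw [Set.disjoint_left]
    rintro o (⟨_, h⟩ | ⟨_, h⟩) ⟨_, h'⟩ <;> omega
  have hd2 : Disjoint (octadsMeeting d 6) (octadsMeeting d 2) := by
    rw [Set.disjoint_left]
    rintro o ⟨_, h⟩ ⟨_, h'⟩
    omega
  rw [Set.ncard_union_eq hd1 (hfin _) (hfin _), Set.ncard_union_eq hd2 (hfin _) (hfin _),
    ncard_octadsMeeting_six hd, ncard_octadsMeeting_two hd] at h759
  omega

end Cfsg.Agent.Lib.Helper7
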