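/-
helper7, project ASCHU (helper70's sheet part 2): module ASCHU-[CHAR2-ALT].
In characteristic 2 an irreducible set of matrices semi-preserving a symmetric matrix `J` forces `diag J = 0`.
-/
import Mathlib
import Cfsg.Prelude.Def_GeometricClasses
import Cfsg.Agent.Lib.Helper99.AschDefs
import Cfsg.Agent.Lib.Helper70.AschU.Defs

set_option autoImplicit false

namespace Cfsg.Agent.Lib.Helper7.AschUChar2

open Cfsg Cfsg.Geo
open scoped Matrix

variable {F : Type*} [Field F] {ι : Type} [Fintype ι]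

/-- the quadratic map `v ↦ vᵀ J v` -/
def phi (J : Matrix ι ι F) (v : ι → F) : F := v ⬝ᵥ J *ᵥ v

theorem phi_add (h2 : (2 : F) = 0) (J : Matrix ι ι F) (hsymm : Jᵀ = J) (u v : ι → F) :
    phi J (u + v) = phi J u + phi J v := by
  unfold phi
  rw [Matrix.mulVec_add, add_dotProduct, dotProduct_add, dotProduct_add]
  have : v ⬝ᵥ J *ᵥ u = u ⬝ᵥ J *ᵥ v := by
    rw [Matrix.dotProduct_mulVec, ← Matrix.mulVec_transpose, hsymm, dotProduct_comm]
  rw [this]
  linear_combination (u ⬝ᵥ J *ᵥ v) * h2

theorem phi_smul (J : Matrix ι ι F) (c : F) (v : ι → F) : phi J (c • v) = c ^ 2 * phi J v := by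
  unfold phi
  rw [Matrix.mulVec_smul, smul_dotProduct, dotProduct_smul, smul_eq_mul, smul_eq_mul]
  ring

theorem phi_mulVec (J s : Matrix ι ι F) (μ : F) (hs : sᵀ * J * s = μ • J) (v : ι → F) :
    phi J (s *ᵥ v) = μ * phi J v := by
  unfold phi
  have : (s *ᵥ v) ⬝ᵥ J *ᵥ (s *ᵥ v) = v ⬝ᵥ (sᵀ * J * s) *ᵥ v := by
    rw [← Matrix.mulVec_mulVec, ← Matrix.mulVec_mulVec, Matrix.dotProduct_mulVec v sᵀ,
      Matrix.vecMul_transpose]
  rw [this, hs, Matrix.smul_mulVec, dotProduct_smul, smul_eq_mul]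

theorem phi_single [DecidableEq ι] (J : Matrix ι ι F) (i : ι) : phi J (Pi.single i 1) = J i i := by
  unfold phi
  simp

/-- the subspace of singular vectors -/
def sing (h2 : (2 : F) = 0) (J : Matrix ι ι F) (hsymm : Jᵀ = J) : Submodule F (ι → F) where
  carrier := {v | phi J v = 0}
  add_mem' := by
    intro a b ha hb
    simp only [Set.mem_ofPred_eq] at *
    rw [phi_add h2 J hsymm, ha, hb, add_zero]
  zero_mem' := by
    simp only [Set.mem_ofPred_eq]
    unfold phi
    simp
  smul_mem' := by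
    intro c v hv
    simp only [Set.mem_ofPred_eq] at *
    rw [phi_smul, hv, mul_zero]

theorem mem_sing (h2 : (2 : F) = 0) (J : Matrix ι ι F) (hsymm : Jᵀ = J) (v : ι → F) :
    v ∈ sing h2 J hsymm ↔ phi J v = 0 := Iff.rfl

end Cfsg.Agent.Lib.Helper7.AschUChar2

namespace Cfsg.Agent.Lib.Helper70.AschU

open Cfsg Cfsg.Geo Cfsg.Agent.Lib.Helper7.AschUChar2
open scoped Matrix

variable {F : Type*} [Field F] [Fintype F]

/-- ASCHU-[CHAR2-ALT] -/
theorem diag_eq_zero_of_char_two {ι : Type} [Fintype ι] [DecidableEq ι] (h2 : (2 : F) = 0)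
    (hι : 2 ≤ Fintype.card ι) (W : Set (Matrix ι ι F)) (hirr : ActsIrreducibly W)
    (J : Matrix ι ι F) (hsymm : Jᵀ = J) (h : ∀ s ∈ W, ∃ μ : F, sᵀ * J * s = μ • J) :
    ∀ i, J i i = 0 := by
  have hinv : ∀ s ∈ W, (sing h2 J hsymm).map (Matrix.toLin' s) ≤ sing h2 J hsymm := by
    intro s hs
    obtain ⟨μ, hμ⟩ := h s hs
    rintro _ ⟨v, hv, rfl⟩
    rw [Matrix.toLin'_apply, mem_sing, phi_mulVec J s μ hμ]
    rw [SetLike.mem_coe, mem_sing] at hv
    rw [hv, mul_zero]
  rcases hirr _ hinv with hbot | htop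
  · exfalso
    -- two distinct indices
    obtain ⟨i, j, hij⟩ : ∃ i j : ι, i ≠ j := by
      have : 1 < Fintype.card ι := hι
      rw [Fintype.one_lt_card_iff] at this
      exact this
    -- squaring is surjective
    have hsq : Function.Surjective (fun a : F => a ^ 2) := by
      apply Finite.surjective_of_injective
      intro a b hab
      simp only at hab
      have h0 : (a - b) ^ 2 = 0 := by
        have : (a - b) ^ 2 = a ^ 2 - b ^ 2 - (a * b - b ^ 2) * 2 := by ring
        rw [this, h2, hab]; ring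
      have := pow_eq_zero_iff (two_ne_zero) |>.mp h0
      exact sub_eq_zero.mp this
    by_cases hii : J i i = 0
    · have hmem : (Pi.single i 1 : ι → F) ∈ sing h2 J hsymm := by
        rw [mem_sing, phi_single, hii]
      rw [hbot, Submodule.mem_bot] at hmem
      have := congrFun hmem i
      simp at this
    · obtain ⟨a, ha⟩ := hsq (J j j / J i i)
      simp only at ha
      have hmem : (a • (Pi.single i 1 : ι → F) + Pi.single j 1) ∈ sing h2 J hsymm := by
        rw [mem_sing, phi_add h2 J hsymm, phi_smul, phi_single, phi_single, ha, div_mul_cancel₀ _ hii]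
        linear_combination (J j j) * h2
      rw [hbot, Submodule.mem_bot] at hmem
      have := congrFun hmem j
      simp [Pi.single_eq_of_ne (Ne.symm hij)] at this
  · intro i
    have hmem : (Pi.single i 1 : ι → F) ∈ sing h2 J hsymm := by rw [htop]; trivial
    rw [mem_sing, phi_single] at hmem
    exact hmem

end Cfsg.Agent.Lib.Helper70.AschU
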