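import Mathlib
import Cfsg.Prelude.Def_KGroupFacts
import Cfsg.Agent.Lib.Helper66.TransferPow

/-!
# Stem extensions: complements over subgroups of index prime to `p`

* `mem_sup_zpowers`, `card_sup_zpowers_le`: the elements and the order of `Q ⊔ ⟨s⟩` when `s` normalizes `Q`
  and `s ^ m ∈ Q`.
* `inf_ker_eq_bot_of_card_le`: a subgroup no larger than its image meets the kernel trivially.
* `pow_index_eq_one_of_compl`: if the kernel of a stem extension has a complement over `U`, every kernel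
  element has order dividing `|G : U|` (transfer).
* `pow_index_eq_one_of_cyclic`: the same for cyclic `U`.
* `eq_one_of_exponent_reduction`: to kill the `p`-torsion of the kernels of all finite stem extensions of `G`
  it suffices to treat the stem extensions whose kernel has exponent `p`.
-/

set_option autoImplicit false

namespace Cfsg.Agent.Lib.Helper7.Stem

open Subgroup
open scoped commutatorElement

universe u v

section step

variable {Γ : Type*} [Group Γ]

theorem conj_pow_mem {Q : Subgroup Γ} {s : Γ} (hn : ∀ q ∈ Q, s * q * s⁻¹ ∈ Q) (i : ℕ) :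
    ∀ q ∈ Q, s ^ i * q * (s ^ i)⁻¹ ∈ Q := by
  induction i with
  | zero => intro q hq; simpa using hq
  | succ i ih =>
    intro q hq
    have h := hn _ (ih q hq)
    have e : s ^ (i + 1) * q * (s ^ (i + 1))⁻¹ = s * (s ^ i * q * (s ^ i)⁻¹) * s⁻¹ := by
      rw [pow_succ']; group
    rw [e]; exact h

/-- Elements of `Q ⊔ ⟨s⟩` when `s` normalizes `Q` and `s ^ m ∈ Q`. -/
theorem mem_sup_zpowers {Q : Subgroup Γ} {s : Γ} {m : ℕ} (hm : 0 < m) (hs : s ^ m ∈ Q)
    (hn : ∀ q ∈ Q, s * q * s⁻¹ ∈ Q) {x : Γ} (hx : x ∈ Q ⊔ zpowers s) :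
    ∃ q ∈ Q, ∃ i < m, x = q * s ^ i := by
  have hle : Q ⊔ zpowers s ≤ closure ((Q : Set Γ) ∪ {s}) := by
    refine sup_le ?_ ?_
    · exact fun q hq => subset_closure (Or.inl hq)
    · rw [zpowers_le]; exact subset_closure (Or.inr rfl)
  have hx' := hle hx
  clear hx
  induction hx' using closure_induction_right with
  | one => exact ⟨1, Q.one_mem, 0, hm, by simp⟩
  | mul_right x _ y hy ih =>
    obtain ⟨q, hq, i, hi, rfl⟩ := ih
    rcases hy with hy | hy
    · refine ⟨q * (s ^ i * y * (s ^ i)⁻¹), Q.mul_mem hq (conj_pow_mem hn i y hy), i, hi, ?_⟩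
      group
    · rw [Set.mem_singleton_iff] at hy
      subst hy
      by_cases h : i + 1 < m
      · exact ⟨q, hq, i + 1, h, by rw [pow_succ, mul_assoc]⟩
      · have : i + 1 = m := by omega
        refine ⟨q * y ^ m, Q.mul_mem hq hs, 0, hm, ?_⟩
        rw [← this, pow_succ, pow_zero, mul_one, mul_assoc]
  | mul_inv_cancel x _ y hy ih =>
    obtain ⟨q, hq, i, hi, rfl⟩ := ih
    rcases hy with hy | hy
    · refine ⟨q * (s ^ i * y⁻¹ * (s ^ i)⁻¹), Q.mul_mem hq (conj_pow_mem hn i _ (Q.inv_mem hy)), i, hi, ?_⟩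
      group
    · rw [Set.mem_singleton_iff] at hy
      subst hy
      cases i with
      | zero =>
        refine ⟨q * (y ^ m)⁻¹, Q.mul_mem hq (Q.inv_mem hs), m - 1, by omega, ?_⟩
        have : y ^ m = y ^ (m - 1) * y := by rw [← pow_succ]; congr 1; omega
        rw [this]; group
      | succ i =>
        refine ⟨q, hq, i, by omega, ?_⟩
        rw [pow_succ]; group

/-- `|Q ⊔ ⟨s⟩| ≤ m |Q|` when `s` normalizes `Q` and `s ^ m ∈ Q`. -/
theorem card_sup_zpowers_le [Finite Γ] {Q : Subgroup Γ} {s : Γ} {m : ℕ} (hm : 0 < m)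
    (hs : s ^ m ∈ Q) (hn : ∀ q ∈ Q, s * q * s⁻¹ ∈ Q) :
    Nat.card ↥(Q ⊔ zpowers s) ≤ m * Nat.card ↥Q := by
  classical
  have key : ∀ x : ↥(Q ⊔ zpowers s), ∃ p : ↥Q × Fin m, (x : Γ) = (p.1 : Γ) * s ^ (p.2 : ℕ) := by
    intro x
    obtain ⟨q, hq, i, hi, h⟩ := mem_sup_zpowers hm hs hn x.2
    exact ⟨(⟨q, hq⟩, ⟨i, hi⟩), h⟩
  choose f hf using key
  have hinj : Function.Injective f := by
    intro x y hxy
    apply Subtype.ext
    rw [hf x, hf y, hxy]
  have := Nat.card_le_card_of_injective f hinj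
  rw [Nat.card_prod, Nat.card_fin] at this
  rw [mul_comm]; exact this

/-- Conjugation by `g` maps `Q ⊔ ⟨s⟩` into a subgroup `R` as soon as it does so on `Q` and on `s`. -/
theorem conj_sup_zpowers_mem {Q R : Subgroup Γ} {s g : Γ} (hQ : ∀ q ∈ Q, g * q * g⁻¹ ∈ R)
    (hs : g * s * g⁻¹ ∈ R) : ∀ x ∈ Q ⊔ zpowers s, g * x * g⁻¹ ∈ R := by
  intro x hx
  have hle : Q ⊔ zpowers s ≤ R.comap (MulAut.conj g).toMonoidHom := by
    refine sup_le ?_ ?_
    · intro q hq
      rw [mem_comap]
      simpa [MulAut.conj_apply] using hQ q hq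
    · rw [zpowers_le, mem_comap]
      simpa [MulAut.conj_apply] using hs
  have := hle hx
  rw [mem_comap] at this
  simpa [MulAut.conj_apply] using this

end step

section compl

variable {Γ : Type u} {G : Type v} [Group Γ] [Group G]

/-- A finite subgroup no larger than its image meets the kernel trivially. -/
theorem inf_ker_eq_bot_of_card_le [Finite Γ] (σ : Γ →* G) (P : Subgroup Γ)
    (h : Nat.card ↥P ≤ Nat.card ↥(P.map σ)) : P ⊓ σ.ker = ⊥ := by
  classical
  rw [eq_bot_iff]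
  intro x hx
  rw [mem_inf] at hx
  rw [mem_bot]
  -- the restriction of `σ` to `P` is injective
  have hsurj : Function.Surjective (σ.subgroupMap P) := σ.subgroupMap_surjective P
  have hfin : Finite ↥(P.map σ) := Finite.of_surjective _ hsurj
  have hcard : Nat.card ↥P = Nat.card ↥(P.map σ) :=
    le_antisymm h (Nat.card_le_card_of_surjective _ hsurj)
  have hbij : Function.Bijective (σ.subgroupMap P) :=
    (Nat.bijective_iff_surjective_and_card _).mpr ⟨hsurj, hcard⟩
  have h1 : σ.subgroupMap P ⟨x, hx.1⟩ = σ.subgroupMap P 1 := by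
    apply Subtype.ext
    rw [map_one]
    exact hx.2
  have := hbij.1 h1
  exact congrArg Subtype.val this

theorem commutatorElement_mul_central_left {a b k : Γ} (hk : k ∈ center Γ) :
    ⁅a * k, b⁆ = ⁅a, b⁆ := by
  have hk' := fun g => (mem_center_iff.mp hk g)
  rw [commutatorElement_def, commutatorElement_def, mul_inv_rev]
  have e : a * k * b * (k⁻¹ * a⁻¹) * b⁻¹ = a * (k * b * k⁻¹) * a⁻¹ * b⁻¹ := by group
  have e2 : k * b * k⁻¹ = b := by rw [← hk' b]; group
  rw [e, e2]

theorem commutatorElement_mul_central_right {a b l : Γ} (hl : l ∈ center Γ) :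
    ⁅a, b * l⁆ = ⁅a, b⁆ := by
  have hl' := fun g => (mem_center_iff.mp hl g)
  rw [commutatorElement_def, commutatorElement_def, mul_inv_rev]
  have e : a * (b * l) * a⁻¹ * (l⁻¹ * b⁻¹) = a * b * (l * a⁻¹ * l⁻¹) * b⁻¹ := by group
  have e2 : l * a⁻¹ * l⁻¹ = a⁻¹ := by rw [← hl' a⁻¹]; group
  rw [e, e2]

theorem commutatorElement_mul_central {a b k l : Γ} (hk : k ∈ center Γ) (hl : l ∈ center Γ) :
    ⁅a * k, b * l⁆ = ⁅a, b⁆ := by
  rw [commutatorElement_mul_central_left hk, commutatorElement_mul_central_right hl]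

/-- Transfer: if the kernel of a stem extension has a complement `P₀` over `U = σ(P₀)`, kernel elements
have order dividing `|G : U|`. -/
theorem pow_index_eq_one_of_compl [Finite G] (σ : Γ →* G) (hσ : Cfsg.IsStemExtension σ)
    (P₀ : Subgroup Γ) (hP : P₀ ⊓ σ.ker = ⊥) (a : Γ) (ha : a ∈ σ.ker) :
    a ^ (P₀.map σ).index = 1 := by
  set U := P₀.map σ with hU
  obtain ⟨h, hc⟩ := Cfsg.Agent.Lib.Helper66.pow_index_mem_commutator_comap σ hσ.1 hσ.2.1 hσ.2.2 U a ha
  -- the commutator subgroup of the preimage of `U` lies in `P₀`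
  have hcomm : commutator ↥(U.comap σ) ≤ P₀.subgroupOf (U.comap σ) := by
    rw [commutator_def, commutator_le]
    intro x _ y _
    rw [mem_subgroupOf]
    have hx : σ x ∈ U := x.2
    have hy : σ y ∈ U := y.2
    obtain ⟨p, hp, hpx⟩ := hx
    obtain ⟨q, hq, hqy⟩ := hy
    have hk : p⁻¹ * (x : Γ) ∈ σ.ker := by
      rw [MonoidHom.mem_ker, map_mul, map_inv, hpx, inv_mul_cancel]
    have hl : q⁻¹ * (y : Γ) ∈ σ.ker := by
      rw [MonoidHom.mem_ker, map_mul, map_inv, hqy, inv_mul_cancel]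
    have e : ((⁅x, y⁆ : ↥(U.comap σ)) : Γ) = ⁅p * (p⁻¹ * (x : Γ)), q * (q⁻¹ * (y : Γ))⁆ := by
      rw [mul_inv_cancel_left, mul_inv_cancel_left]
      simp [commutatorElement_def]
    rw [e, commutatorElement_mul_central (hσ.2.1 hk) (hσ.2.1 hl)]
    rw [commutatorElement_def]
    exact P₀.mul_mem (P₀.mul_mem (P₀.mul_mem hp hq) (P₀.inv_mem hp)) (P₀.inv_mem hq)
  have h1 := hcomm hc
  rw [mem_subgroupOf] at h1
  have h2 : a ^ U.index ∈ σ.ker := Subgroup.pow_mem _ ha _
  have : a ^ U.index ∈ P₀ ⊓ σ.ker := ⟨h1, h2⟩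
  rw [hP, mem_bot] at this
  exact this

end compl

end Cfsg.Agent.Lib.Helper7.Stem
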