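import Cfsg.Agent.Lib.Helper7.StemStep

/-!
# Central extensions with kernel of exponent 2: squares of lifts and a canonical complement

`σ : Γ →* G` has central kernel of exponent 2.

* `sq_eq_of_map_eq`, `sq_eq_of_conj`: the square of a lift of an involution depends only on the
  conjugacy class of the involution.
* `sq_eq_one_of_seven`: if the seven non-trivial products of three lifts all have the same square `κ`,
  then `κ = 1` (a quadratic form on a space of dimension three cannot be constant on the non-zero vectors).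
* `exists_canonical_compl`: if all lifts of the elements of `N ≤ G` square to `1` and an element `z` of
  order 3 normalizes `N` without non-trivial fixed points, then the kernel has a complement over `N` that is
  invariant under every element whose image normalizes `N` and centralizes or inverts `z`.
-/

set_option autoImplicit false

namespace Cfsg.Agent.Lib.Helper7.Stem

open Subgroup

universe u v

variable {Γ : Type u} {G : Type v} [Group Γ] [Group G]

/-- `y x = x y κ` for lifts whose squares and whose product's square are all `κ`. -/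
theorem swap_of_sq {x y κ : Γ} (hx : x * x = κ)
    (hxy : (y * x) * (y * x) = κ) (hy' : y * y = κ) : y * x = x * y * κ := by
  -- x y x = y
  have h1 : x * y * x = y := by
    have : y * (x * y * x) = y * y := by
      calc y * (x * y * x) = (y * x) * (y * x) := by group
        _ = κ := hxy
        _ = y * y := hy'.symm
    exact mul_left_cancel this
  calc y * x = (x * y * x) * x := by rw [h1]
    _ = x * y * (x * x) := by group
    _ = x * y * κ := by rw [hx]

section sq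

variable (σ : Γ →* G) (hc : σ.ker ≤ center Γ) (hexp : ∀ k ∈ σ.ker, k * k = 1)
include hc hexp

theorem sq_eq_of_map_eq {x x' : Γ} (h : σ x = σ x') : x * x = x' * x' := by
  have hk : x⁻¹ * x' ∈ σ.ker := by
    rw [MonoidHom.mem_ker, map_mul, map_inv, h, inv_mul_cancel]
  have hcen := Subgroup.mem_center_iff.mp (hc hk)
  have e : x' = x * (x⁻¹ * x') := by group
  have h2 := hexp _ hk
  calc x * x = x * x * ((x⁻¹ * x') * (x⁻¹ * x')) := by rw [h2, mul_one]
    _ = x * (x * (x⁻¹ * x')) * (x⁻¹ * x') := by group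
    _ = x * ((x⁻¹ * x') * x) * (x⁻¹ * x') := by rw [hcen x]
    _ = x' * x' := by group

/-- The square of a lift of an involution is a class invariant. -/
theorem sq_eq_of_conj {x x' g : Γ} (hx : x * x ∈ σ.ker) (h : σ x' * σ g = σ g * σ x) :
    x' * x' = x * x := by
  have h1 : σ x' = σ (g * x * g⁻¹) := by
    rw [map_mul, map_mul, map_inv, ← h]; group
  rw [sq_eq_of_map_eq σ hc hexp h1]
  have hcen := Subgroup.mem_center_iff.mp (hc hx) g
  calc g * x * g⁻¹ * (g * x * g⁻¹) = g * (x * x) * g⁻¹ := by group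
    _ = x * x * g * g⁻¹ := by rw [hcen]
    _ = x * x := by group

omit hexp in
/-- If the seven non-trivial products of three lifts have the same central square `κ` of order `≤ 2`,
then `κ = 1`. -/
theorem sq_eq_one_of_seven {a b c κ : Γ} (hκ : κ ∈ σ.ker) (hκ2 : κ * κ = 1) (ha : a * a = κ)
    (hb : b * b = κ) (hcc : c * c = κ) (hba : (b * a) * (b * a) = κ) (hca : (c * a) * (c * a) = κ)
    (hbc : (b * c) * (b * c) = κ) (hbca : (b * c * a) * (b * c * a) = κ) : κ = 1 := by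
  have hcen := Subgroup.mem_center_iff.mp (hc hκ)
  have h1 : b * a = a * b * κ := swap_of_sq ha hba hb
  have h2 : c * a = a * c * κ := swap_of_sq ha hca hcc
  have h3 : (b * c) * a = a * (b * c) * κ := swap_of_sq ha hbca hbc
  have h4 : (b * c) * a = a * (b * c) := by
    calc (b * c) * a = b * (c * a) := by group
      _ = b * (a * c * κ) := by rw [h2]
      _ = (b * a) * c * κ := by group
      _ = (a * b * κ) * c * κ := by rw [h1]
      _ = a * b * (κ * c) * κ := by group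
      _ = a * b * (c * κ) * κ := by rw [← hcen c]
      _ = a * (b * c) * (κ * κ) := by group
      _ = a * (b * c) := by rw [hκ2, mul_one]
  rw [h4] at h3
  have : a * (b * c) * 1 = a * (b * c) * κ := by rw [mul_one]; exact h3
  exact (mul_left_cancel this).symm

end sq

section compl

/-- Two lifts of the same element with trivial cube are equal (kernel central of exponent 2). -/
theorem eq_of_cube_eq_one (σ : Γ →* G) (hc : σ.ker ≤ center Γ) (hexp : ∀ k ∈ σ.ker, k * k = 1)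
    {a b : Γ} (h : σ a = σ b) (ha : a ^ 3 = 1) (hb : b ^ 3 = 1) : a = b := by
  have hk : b⁻¹ * a ∈ σ.ker := by
    rw [MonoidHom.mem_ker, map_mul, map_inv, h, inv_mul_cancel]
  have hcom : Commute b (b⁻¹ * a) := Subgroup.mem_center_iff.mp (hc hk) b
  have e : a = b * (b⁻¹ * a) := by group
  have h3 : (b * (b⁻¹ * a)) ^ 3 = b ^ 3 * (b⁻¹ * a) ^ 3 := hcom.mul_pow 3
  rw [← e, ha, hb, one_mul] at h3
  have h2 := hexp _ hk
  have : (b⁻¹ * a) ^ 3 = b⁻¹ * a := by
    rw [pow_succ, pow_two, h2, one_mul]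
  rw [this] at h3
  have : b⁻¹ * a = 1 := h3.symm
  calc a = b * (b⁻¹ * a) := e
    _ = b := by rw [this, mul_one]

/-- The canonical complement of the kernel over an elementary abelian 2-subgroup `N` admitting a
fixed-point-free element `z` of order 3. -/
theorem exists_canonical_compl (σ : Γ →* G) (hsurj : Function.Surjective σ)
    (hc : σ.ker ≤ center Γ) (hexp : ∀ k ∈ σ.ker, k * k = 1)
    (N : Subgroup G) (hNsq : ∀ x : Γ, σ x ∈ N → x * x = 1)
    (z : G) (hz3 : z ^ 3 = 1) (hzN : ∀ n ∈ N, z * n * z⁻¹ ∈ N)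
    (hfpf : ∀ n ∈ N, z * n = n * z → n = 1) :
    ∃ N₀ : Subgroup Γ, N₀.map σ = N ∧ N₀ ⊓ σ.ker = ⊥ ∧
      ∀ g : Γ, (∀ n ∈ N, σ g * n * (σ g)⁻¹ ∈ N) → (σ g * z = z * σ g ∨ σ g * z = z⁻¹ * σ g) →
        ∀ q ∈ N₀, g * q * g⁻¹ ∈ N₀ := by
  -- a lift of `z` of order dividing 3
  obtain ⟨ζ, hζσ, hζ3⟩ : ∃ ζ : Γ, σ ζ = z ∧ ζ ^ 3 = 1 := by
    obtain ⟨z₀, hz₀⟩ := hsurj z
    have hk : z₀ ^ 3 ∈ σ.ker := by rw [MonoidHom.mem_ker, map_pow, hz₀, hz3]
    have hkc : Commute z₀ (z₀ ^ 3) := Subgroup.mem_center_iff.mp (hc hk) z₀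
    refine ⟨z₀ * z₀ ^ 3, ?_, ?_⟩
    · rw [map_mul, MonoidHom.mem_ker.mp hk, mul_one, hz₀]
    · rw [hkc.mul_pow]
      have h2 := hexp _ hk
      have : (z₀ ^ 3) ^ 3 = z₀ ^ 3 := by rw [pow_succ, pow_two, h2, one_mul]
      rw [this]
      exact h2
  have hζinv : ζ⁻¹ = ζ * ζ := by
    apply inv_eq_of_mul_eq_one_right
    rw [← hζ3, pow_succ, pow_two, mul_assoc]
  -- the preimage of `N`
  have hmemσ : ∀ {x : Γ}, σ x ∈ N → ∀ {y : Γ}, σ y ∈ N → σ (x * y) ∈ N := by
    intro x hx y hy; rw [map_mul]; exact N.mul_mem hx hy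
  have hcomm : ∀ {x y : Γ}, σ x ∈ N → σ y ∈ N → x * y = y * x := by
    intro x y hx hy
    have h1 := hNsq x hx
    have h2 := hNsq y hy
    have h3 := hNsq (x * y) (hmemσ hx hy)
    have hxi : x⁻¹ = x := (eq_inv_of_mul_eq_one_left h1).symm
    have hyi : y⁻¹ = y := (eq_inv_of_mul_eq_one_left h2).symm
    have : x * y = (x * y)⁻¹ := eq_inv_of_mul_eq_one_left h3
    rw [this, mul_inv_rev, hxi, hyi]
  -- conjugation by `ζ`
  have hT : ∀ {x : Γ}, σ x ∈ N → σ (ζ * x * ζ⁻¹) ∈ N := by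
    intro x hx
    rw [map_mul, map_mul, map_inv, hζσ]; exact hzN _ hx
  have hTinv : ∀ {x : Γ}, σ x ∈ N → σ (ζ⁻¹ * x * ζ) ∈ N := by
    intro x hx
    have : ζ⁻¹ * x * ζ = ζ * (ζ * x * ζ⁻¹) * ζ⁻¹ := by
      have hζ2 : ζ = ζ⁻¹ * ζ⁻¹ := by
        rw [eq_comm, ← mul_inv_rev, inv_eq_iff_mul_eq_one, ← pow_two, ← pow_succ]; exact hζ3
      calc ζ⁻¹ * x * ζ = ζ⁻¹ * x * (ζ⁻¹ * ζ⁻¹) := by rw [← hζ2]
        _ = (ζ * ζ) * x * (ζ⁻¹ * ζ⁻¹) := by rw [← hζinv]
        _ = ζ * (ζ * x * ζ⁻¹) * ζ⁻¹ := by group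
    rw [this]; exact hT (hT hx)
  let N₀ : Subgroup Γ :=
    { carrier := {y | ∃ x : Γ, σ x ∈ N ∧ y = x * (ζ * x * ζ⁻¹)}
      one_mem' := ⟨1, by simpa using N.one_mem, by group⟩
      mul_mem' := by
        rintro _ _ ⟨x, hx, rfl⟩ ⟨y, hy, rfl⟩
        refine ⟨x * y, hmemσ hx hy, ?_⟩
        have h1 : (ζ * x * ζ⁻¹) * y = y * (ζ * x * ζ⁻¹) := hcomm (hT hx) hy
        calc x * (ζ * x * ζ⁻¹) * (y * (ζ * y * ζ⁻¹))
            = x * ((ζ * x * ζ⁻¹) * y) * (ζ * y * ζ⁻¹) := by group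
          _ = x * (y * (ζ * x * ζ⁻¹)) * (ζ * y * ζ⁻¹) := by rw [h1]
          _ = x * y * (ζ * (x * y) * ζ⁻¹) := by group
      inv_mem' := by
        rintro _ ⟨x, hx, rfl⟩
        refine ⟨x, hx, ?_⟩
        have := hNsq (x * (ζ * x * ζ⁻¹)) (hmemσ hx (hT hx))
        exact (eq_inv_of_mul_eq_one_left this).symm }
  have hN₀mem : ∀ {y : Γ}, y ∈ N₀ → σ y ∈ N := by
    rintro _ ⟨x, hx, rfl⟩
    exact hmemσ hx (hT hx)
  have hmk : ∀ {x : Γ}, σ x ∈ N → x * (ζ * x * ζ⁻¹) ∈ N₀ := fun {x} hx => ⟨x, hx, rfl⟩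
  refine ⟨N₀, ?_, ?_, ?_⟩
  · -- the image is `N`
    apply le_antisymm
    · rintro _ ⟨y, hy, rfl⟩
      exact hN₀mem hy
    · intro n hn
      obtain ⟨x, rfl⟩ := hsurj n
      obtain ⟨x1, hx1⟩ : ∃ x1, x1 = ζ * x * ζ⁻¹ := ⟨_, rfl⟩
      obtain ⟨x2, hx2⟩ : ∃ x2, x2 = ζ * x1 * ζ⁻¹ := ⟨_, rfl⟩
      have hx1N : σ x1 ∈ N := by rw [hx1]; exact hT hn
      have hx2N : σ x2 ∈ N := by rw [hx2]; exact hT hx1N
      have hx3 : ζ * x2 * ζ⁻¹ = x := by
        rw [hx2, hx1]
        have : ζ * (ζ * (ζ * x * ζ⁻¹) * ζ⁻¹) * ζ⁻¹ = ζ ^ 3 * x * (ζ ^ 3)⁻¹ := by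
          rw [pow_succ, pow_two]; group
        rw [this, hζ3]; group
      obtain ⟨w, hw⟩ : ∃ w, w = x * x1 * x2 := ⟨_, rfl⟩
      have hwN : σ w ∈ N := by rw [hw]; exact hmemσ (hmemσ hn hx1N) hx2N
      have hTw : ζ * w * ζ⁻¹ = w := by
        calc ζ * w * ζ⁻¹ = (ζ * x * ζ⁻¹) * (ζ * x1 * ζ⁻¹) * (ζ * x2 * ζ⁻¹) := by rw [hw]; group
          _ = x1 * x2 * x := by rw [hx3, ← hx1, ← hx2]
          _ = x * (x1 * x2) := (hcomm hn (hmemσ hx1N hx2N)).symm
          _ = w := by rw [hw]; group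
      have hwker : σ w = 1 := by
        apply hfpf _ hwN
        have : σ (ζ * w) = σ (w * ζ) := by
          congr 1
          calc ζ * w = (ζ * w * ζ⁻¹) * ζ := by group
            _ = w * ζ := by rw [hTw]
        rwa [map_mul, map_mul, hζσ] at this
      have hx1sq := hNsq x1 hx1N
      have hx2sq := hNsq x2 hx2N
      have hxw : x = w * (x1 * x2) := by
        have h12 : x1 * x2 = x2 * x1 := hcomm hx1N hx2N
        calc x = x * (x1 * x1) * (x2 * x2) := by rw [hx1sq, hx2sq, mul_one, mul_one]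
          _ = x * x1 * (x1 * x2) * x2 := by group
          _ = x * x1 * (x2 * x1) * x2 := by rw [h12]
          _ = x * x1 * x2 * (x1 * x2) := by group
          _ = w * (x1 * x2) := by rw [hw]
      refine ⟨x1 * x2, ?_, ?_⟩
      · have := hmk hx1N
        rwa [← hx2] at this
      · have e : σ x = σ (x1 * x2) := by
          conv_lhs => rw [hxw]
          rw [map_mul σ w, hwker, one_mul]
        exact e.symm
  · -- trivial intersection with the kernel
    rw [eq_bot_iff]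
    rintro y ⟨⟨x, hx, rfl⟩, hyk⟩
    rw [mem_bot]
    obtain ⟨x1, hx1⟩ : ∃ x1, x1 = ζ * x * ζ⁻¹ := ⟨_, rfl⟩
    obtain ⟨x2, hx2⟩ : ∃ x2, x2 = ζ * x1 * ζ⁻¹ := ⟨_, rfl⟩
    rw [← hx1] at hyk ⊢
    have hx1N : σ x1 ∈ N := by rw [hx1]; exact hT hx
    have hx2N : σ x2 ∈ N := by rw [hx2]; exact hT hx1N
    have hx3 : ζ * x2 * ζ⁻¹ = x := by
      rw [hx2, hx1]
      have : ζ * (ζ * (ζ * x * ζ⁻¹) * ζ⁻¹) * ζ⁻¹ = ζ ^ 3 * x * (ζ ^ 3)⁻¹ := by
        rw [pow_succ, pow_two]; group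
      rw [this, hζ3]; group
    have hyk' : x * x1 ∈ σ.ker := hyk
    have hycen := Subgroup.mem_center_iff.mp (hc hyk')
    -- `y` is fixed by conjugation, so `y = x1 * x2 = x2 * x`
    have h1 : x1 * x2 = x * x1 := by
      calc x1 * x2 = ζ * (x * x1) * ζ⁻¹ := by rw [hx2, hx1]; group
        _ = (x * x1) * ζ * ζ⁻¹ := by rw [hycen ζ]
        _ = x * x1 := by group
    have h2 : x2 * x = x * x1 := by
      calc x2 * x = (ζ * x1 * ζ⁻¹) * (ζ * x2 * ζ⁻¹) := by rw [hx3, ← hx2]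
        _ = ζ * (x1 * x2) * ζ⁻¹ := by group
        _ = ζ * (x * x1) * ζ⁻¹ := by rw [h1]
        _ = (x * x1) * ζ * ζ⁻¹ := by rw [hycen ζ]
        _ = x * x1 := by group
    have hxsq := hNsq x hx
    have hx1sq := hNsq x1 hx1N
    have hx2sq := hNsq x2 hx2N
    have hysq := hexp _ hyk'
    have h3 : (x * x1) * (x1 * x2) * (x2 * x) = 1 := by
      calc (x * x1) * (x1 * x2) * (x2 * x) = x * (x1 * x1) * (x2 * x2) * x := by group
        _ = 1 := by rw [hx1sq, hx2sq, mul_one, mul_one, hxsq]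
    rw [h1, h2] at h3
    calc x * x1 = (x * x1) * ((x * x1) * (x * x1)) := by rw [hysq, mul_one]
      _ = (x * x1) * (x * x1) * (x * x1) := by group
      _ = 1 := h3
  · -- invariance
    intro g hgN hgz q hq
    obtain ⟨x, hx, rfl⟩ := hq
    set x' := g * x * g⁻¹ with hx'
    have hx'N : σ x' ∈ N := by
      rw [hx', map_mul, map_mul, map_inv]; exact hgN _ hx
    set a := g * ζ * g⁻¹ with ha
    have ha3 : a ^ 3 = 1 := by
      have : a ^ 3 = g * ζ ^ 3 * g⁻¹ := by rw [ha, pow_succ, pow_two, pow_succ, pow_two]; group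
      rw [this, hζ3]; group
    have hconj : g * (x * (ζ * x * ζ⁻¹)) * g⁻¹ = x' * (a * x' * a⁻¹) := by
      rw [hx', ha]; group
    rw [hconj]
    rcases hgz with hgz | hgz
    · have haσ : σ a = σ ζ := by
        rw [ha, map_mul, map_mul, map_inv, hζσ, hgz]; group
      have : a = ζ := eq_of_cube_eq_one σ hc hexp haσ ha3 hζ3
      rw [this]
      exact hmk hx'N
    · have hζi3 : ζ⁻¹ ^ 3 = 1 := by rw [inv_pow, hζ3, inv_one]
      have haσ : σ a = σ ζ⁻¹ := by
        rw [ha, map_mul, map_mul, map_inv, map_inv, hζσ, hgz]; group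
      have : a = ζ⁻¹ := eq_of_cube_eq_one σ hc hexp haσ ha3 hζi3
      rw [this, inv_inv]
      -- `x' * (ζ⁻¹ x' ζ) = x'' * (ζ x'' ζ⁻¹)` with `x'' = ζ⁻¹ x' ζ`
      have hx''N : σ (ζ⁻¹ * x' * ζ) ∈ N := hTinv hx'N
      have := hmk hx''N
      have e : ζ⁻¹ * x' * ζ * (ζ * (ζ⁻¹ * x' * ζ) * ζ⁻¹) = x' * (ζ⁻¹ * x' * ζ) := by
        have h1 : ζ * (ζ⁻¹ * x' * ζ) * ζ⁻¹ = x' := by group
        rw [h1]
        exact hcomm hx''N hx'N
      rw [e] at this
      exact this

end compl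

end Cfsg.Agent.Lib.Helper7.Stem
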