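import Cfsg.Agent.Lib.Helper7.StemInvol

/-!
# Killing the 2-part of the kernel of a stem extension over a Sylow 2-subgroup `N : D₈`

`ker_eq_bot_two_D8`: `G` has order `128 m` with `m` odd, an elementary abelian subgroup `N` of order at most 16
whose non-trivial elements are conjugate in `G` to `n1`, an element `z` of order 3 normalizing `N` without
fixed points, and two involutions `s, t`, conjugate to `n1` like `(st)²`, that normalize `N` and centralize
or invert `z`, with `|N⟨s,t⟩| ≥ 128`.  Then every finite stem extension of `G` with kernel of exponent 2 is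
trivial.
-/

set_option autoImplicit false

namespace Cfsg.Agent.Lib.Helper7.Stem

open Subgroup

universe u v

variable {Γ : Type u} {G : Type v} [Group Γ] [Group G]

/-- A subgroup meeting the kernel trivially is no larger than its image. -/
theorem card_le_card_map_of_inf_ker [Finite Γ] (σ : Γ →* G) (P : Subgroup Γ)
    (h : P ⊓ σ.ker = ⊥) : Nat.card ↥P ≤ Nat.card ↥(P.map σ) := by
  have hsurj : Function.Surjective (σ.subgroupMap P) := σ.subgroupMap_surjective P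
  have hfin : Finite ↥(P.map σ) := Finite.of_surjective _ hsurj
  apply Nat.card_le_card_of_injective (σ.subgroupMap P)
  rw [injective_iff_map_eq_one]
  intro x hx
  have h1 : σ x = 1 := congrArg Subtype.val hx
  have : (x : Γ) ∈ P ⊓ σ.ker := ⟨x.2, MonoidHom.mem_ker.mpr h1⟩
  rw [h, mem_bot] at this
  exact Subtype.ext this

theorem card_map_le [Finite Γ] (σ : Γ →* G) (P : Subgroup Γ) :
    Nat.card ↥(P.map σ) ≤ Nat.card ↥P :=
  Nat.card_le_card_of_surjective _ (σ.subgroupMap_surjective P)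

/-- Conjugation by an involution. -/
theorem conj_eq_of_sq {x : Γ} (h : x * x = 1) : x⁻¹ = x := (eq_inv_of_mul_eq_one_left h).symm

theorem ker_eq_bot_two_D8 [Finite Γ] [Finite G] (σ : Γ →* G) (hσ : Cfsg.IsStemExtension σ)
    (hexp : ∀ k ∈ σ.ker, k * k = 1)
    (N : Subgroup G) (n1 a b c z s t gu gs gt : G)
    (hN16 : Nat.card ↥N ≤ 16)
    (hNconj : ∀ x ∈ N, x = 1 ∨ ∃ g : G, g * n1 = x * g)
    (hn1 : n1 ∈ N) (hn1sq : n1 * n1 = 1)
    (ha : a ∈ N) (hb : b ∈ N) (hc : c ∈ N)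
    (ha1 : a ≠ 1) (hb1 : b ≠ 1) (hc1 : c ≠ 1) (hba1 : b * a ≠ 1) (hca1 : c * a ≠ 1)
    (hbc1 : b * c ≠ 1) (hbca1 : b * c * a ≠ 1)
    (hz3 : z ^ 3 = 1) (hzN : ∀ n ∈ N, z * n * z⁻¹ ∈ N) (hfpf : ∀ n ∈ N, z * n = n * z → n = 1)
    (hsN : ∀ n ∈ N, s * n * s⁻¹ ∈ N) (htN : ∀ n ∈ N, t * n * t⁻¹ ∈ N)
    (hsz : s * z = z * s ∨ s * z = z⁻¹ * s) (htz : t * z = z * t ∨ t * z = z⁻¹ * t)
    (hgs : s * gs = gs * n1) (hgt : t * gt = gt * n1) (hgu : s * t * (s * t) * gu = gu * n1)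
    (hP : 128 ≤ Nat.card ↥(N ⊔ zpowers (s * t * (s * t)) ⊔ zpowers s ⊔ zpowers t))
    (m : ℕ) (hG : Nat.card G = 128 * m) (hm : Odd m) : σ.ker = ⊥ := by
  have hcen := hσ.2.1
  have hsurj := hσ.1
  -- lifts
  obtain ⟨n1', hn1'⟩ := hsurj n1
  have hn1ker : n1' * n1' ∈ σ.ker := by
    rw [MonoidHom.mem_ker, map_mul, hn1', hn1sq]
  -- the common square of the lifts of the non-trivial elements of `N`
  have hsq : ∀ x : Γ, σ x ∈ N → σ x ≠ 1 → x * x = n1' * n1' := by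
    intro x hx hx1
    rcases hNconj _ hx with h | ⟨g, hg⟩
    · exact absurd h hx1
    · obtain ⟨g', hg'⟩ := hsurj g
      apply sq_eq_of_conj σ hcen hexp hn1ker (g := g')
      rw [hg', hn1', hg]
  have hκ : n1' * n1' = 1 := by
    obtain ⟨a', ha'⟩ := hsurj a
    obtain ⟨b', hb'⟩ := hsurj b
    obtain ⟨c', hc'⟩ := hsurj c
    have hκ2 := hexp _ hn1ker
    refine sq_eq_one_of_seven σ hcen hn1ker hκ2 (a := a') (b := b') (c := c') ?_ ?_ ?_ ?_ ?_ ?_ ?_
    · exact hsq a' (by rw [ha']; exact ha) (by rw [ha']; exact ha1)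
    · exact hsq b' (by rw [hb']; exact hb) (by rw [hb']; exact hb1)
    · exact hsq c' (by rw [hc']; exact hc) (by rw [hc']; exact hc1)
    · exact hsq _ (by rw [map_mul, hb', ha']; exact N.mul_mem hb ha)
        (by rw [map_mul, hb', ha']; exact hba1)
    · exact hsq _ (by rw [map_mul, hc', ha']; exact N.mul_mem hc ha)
        (by rw [map_mul, hc', ha']; exact hca1)
    · exact hsq _ (by rw [map_mul, hb', hc']; exact N.mul_mem hb hc)
        (by rw [map_mul, hb', hc']; exact hbc1)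
    · exact hsq _ (by rw [map_mul, map_mul, hb', hc', ha']; exact N.mul_mem (N.mul_mem hb hc) ha)
        (by rw [map_mul, map_mul, hb', hc', ha']; exact hbca1)
  have hNsq : ∀ x : Γ, σ x ∈ N → x * x = 1 := by
    intro x hx
    by_cases hx1 : σ x = 1
    · exact hexp x (MonoidHom.mem_ker.mpr hx1)
    · rw [hsq x hx hx1, hκ]
  -- the canonical complement over `N`
  obtain ⟨N₀, hN₀map, hN₀ker, hN₀inv⟩ :=
    exists_canonical_compl σ hsurj hcen hexp N hNsq z hz3 hzN hfpf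
  -- lifts of `s` and `t`
  obtain ⟨s', hs'⟩ := hsurj s
  obtain ⟨t', ht'⟩ := hsurj t
  obtain ⟨gs', hgs'⟩ := hsurj gs
  obtain ⟨gt', hgt'⟩ := hsurj gt
  obtain ⟨gu', hgu'⟩ := hsurj gu
  have hs2 : s' * s' = 1 := by
    rw [sq_eq_of_conj σ hcen hexp hn1ker (x' := s') (g := gs') (by rw [hs', hgs', hn1', hgs]), hκ]
  have ht2 : t' * t' = 1 := by
    rw [sq_eq_of_conj σ hcen hexp hn1ker (x' := t') (g := gt') (by rw [ht', hgt', hn1', hgt]), hκ]
  obtain ⟨u', hu'def⟩ : ∃ u', u' = s' * t' * (s' * t') := ⟨_, rfl⟩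
  have hu'σ : σ u' = s * t * (s * t) := by
    rw [hu'def, map_mul, map_mul, hs', ht']
  have hu2 : u' * u' = 1 := by
    rw [sq_eq_of_conj σ hcen hexp hn1ker (x' := u') (g := gu') (by rw [hu'σ, hgu', hn1', hgu]), hκ]
  have hsi : s'⁻¹ = s' := conj_eq_of_sq hs2
  have hti : t'⁻¹ = t' := conj_eq_of_sq ht2
  have hui : u'⁻¹ = u' := conj_eq_of_sq hu2
  -- invariance of `N₀`
  have hs_inv : ∀ q ∈ N₀, s' * q * s'⁻¹ ∈ N₀ :=
    hN₀inv s' (by rw [hs']; exact hsN) (by rw [hs']; exact hsz)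
  have ht_inv : ∀ q ∈ N₀, t' * q * t'⁻¹ ∈ N₀ :=
    hN₀inv t' (by rw [ht']; exact htN) (by rw [ht']; exact htz)
  have hu_inv : ∀ q ∈ N₀, u' * q * u'⁻¹ ∈ N₀ := by
    intro q hq
    have h1 := ht_inv q hq
    have h2 := hs_inv _ h1
    have h3 := ht_inv _ h2
    have h4 := hs_inv _ h3
    have e : u' * q * u'⁻¹ = s' * (t' * (s' * (t' * q * t'⁻¹) * s'⁻¹) * t'⁻¹) * s'⁻¹ := by
      rw [hu'def]; group
    rw [e]; exact h4
  -- the chain
  set Q1 := N₀ ⊔ zpowers u' with hQ1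
  set Q2 := Q1 ⊔ zpowers s' with hQ2
  set Q3 := Q2 ⊔ zpowers t' with hQ3
  have hu'Q1 : u' ∈ Q1 := (le_sup_right : zpowers u' ≤ Q1) (mem_zpowers u')
  have hs'Q2 : s' ∈ Q2 := (le_sup_right : zpowers s' ≤ Q2) (mem_zpowers s')
  have hN₀Q1 : N₀ ≤ Q1 := le_sup_left
  have hQ1Q2 : Q1 ≤ Q2 := le_sup_left
  have hc1 : Nat.card ↥Q1 ≤ 2 * Nat.card ↥N₀ :=
    card_sup_zpowers_le (by norm_num) (by rw [pow_two, hu2]; exact N₀.one_mem) hu_inv
  have hs_Q1 : ∀ q ∈ Q1, s' * q * s'⁻¹ ∈ Q1 := by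
    apply conj_sup_zpowers_mem
    · intro q hq; exact hN₀Q1 (hs_inv q hq)
    · have e : s' * u' * s'⁻¹ = u'⁻¹ := by
        rw [hu'def, mul_inv_rev, mul_inv_rev, hsi, hti]
        calc s' * (s' * t' * (s' * t')) * s' = (s' * s') * t' * s' * t' * s' := by group
          _ = t' * s' * (t' * s') := by rw [hs2]; group
      rw [e]; exact Q1.inv_mem hu'Q1
  have hc2 : Nat.card ↥Q2 ≤ 2 * Nat.card ↥Q1 :=
    card_sup_zpowers_le (by norm_num) (by rw [pow_two, hs2]; exact Q1.one_mem) hs_Q1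
  have ht_Q2 : ∀ q ∈ Q2, t' * q * t'⁻¹ ∈ Q2 := by
    apply conj_sup_zpowers_mem
    · apply conj_sup_zpowers_mem
      · intro q hq; exact hQ1Q2 (hN₀Q1 (ht_inv q hq))
      · have e : t' * u' * t'⁻¹ = u'⁻¹ := by
          rw [hu'def, mul_inv_rev, mul_inv_rev, hsi, hti]
          calc t' * (s' * t' * (s' * t')) * t' = t' * s' * t' * s' * (t' * t') := by group
            _ = t' * s' * (t' * s') := by rw [ht2]; group
        rw [e]; exact hQ1Q2 (Q1.inv_mem hu'Q1)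
    · have e : t' * s' * t'⁻¹ = s' * u' := by
        rw [hu'def, hti]
        calc t' * s' * t' = (s' * s') * t' * s' * t' := by rw [hs2]; group
          _ = s' * (s' * t' * (s' * t')) := by group
      rw [e]; exact Q2.mul_mem hs'Q2 (hQ1Q2 hu'Q1)
  have hc3 : Nat.card ↥Q3 ≤ 2 * Nat.card ↥Q2 :=
    card_sup_zpowers_le (by norm_num) (by rw [pow_two, ht2]; exact Q2.one_mem) ht_Q2
  have hcN₀ : Nat.card ↥N₀ ≤ 16 := by
    have := card_le_card_map_of_inf_ker σ N₀ hN₀ker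
    rw [hN₀map] at this
    exact this.trans hN16
  have hcQ3 : Nat.card ↥Q3 ≤ 128 := by omega
  -- the image of the chain
  have hmap : Q3.map σ = N ⊔ zpowers (s * t * (s * t)) ⊔ zpowers s ⊔ zpowers t := by
    rw [hQ3, hQ2, hQ1, Subgroup.map_sup, Subgroup.map_sup, Subgroup.map_sup, hN₀map,
      MonoidHom.map_zpowers, MonoidHom.map_zpowers, MonoidHom.map_zpowers, hu'σ, hs', ht']
  have hcP : 128 ≤ Nat.card ↥(Q3.map σ) := by rw [hmap]; exact hP
  have hQ3ker : Q3 ⊓ σ.ker = ⊥ := inf_ker_eq_bot_of_card_le σ Q3 (hcQ3.trans hcP)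
  have hcardP : Nat.card ↥(Q3.map σ) = 128 :=
    le_antisymm ((card_map_le σ Q3).trans hcQ3) hcP
  have hidx : (Q3.map σ).index = m := by
    have := (Q3.map σ).card_mul_index
    rw [hcardP, hG] at this
    omega
  -- transfer
  rw [eq_bot_iff]
  intro x hx
  rw [mem_bot]
  have h1 := pow_index_eq_one_of_compl σ hσ Q3 hQ3ker x hx
  rw [hidx] at h1
  have h2 := hexp x hx
  obtain ⟨k, rfl⟩ := hm
  have : x ^ (2 * k + 1) = x := by
    rw [pow_succ, pow_mul, pow_two, h2, one_pow, one_mul]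
  rw [← this]; exact h1

end Cfsg.Agent.Lib.Helper7.Stem
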