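/-
helper7: S2751 (Goldschmidt bound, helper68's sheet AmalBSHEET.md), module GSB-[BE-ARC2] (hedge):
the induction step of arc-transitivity, `arcTrans_succ`.  Pure graph argument on `BaseW`.
Own namespace `Cfsg.Agent.Lib.Helper68.AmalB.H7` (no clash with a copy in `Helper68.AmalB`).
-/
import Mathlib
import Cfsg.Prelude.Def_Amalgam
import Cfsg.Agent.Lib.Helper68.AmalBDefs
import Cfsg.Agent.Lib.Helper68.AmalBTools

set_option autoImplicit false

namespace Cfsg.Agent.Lib.Helper68.AmalB.H7

open Cfsg Cfsg.Agent.Lib.Helper12.Amal Cfsg.Agent.Lib.Helper68.AmalD Cfsg.Agent.Lib.Helper68.AmalW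
  Cfsg.Agent.Lib.Helper68.AmalB Cfsg.Agent.Lib.Helper7.AmalC

variable {G : Type*} [Group G] {P₁ P₂ : Subgroup G}

/-- **[BE-ARC2]** the induction step (exact statement of the sheet) -/
theorem arcTrans_succ (hB : BaseB P₁ P₂) {n : ℕ} (hn : 1 ≤ n) {ty : Prop}
    (hT : ArcTrans P₁ P₂ n ty)
    (hex : ∃ p : ℕ → CosetVertex P₁ P₂, IsExt n p ∧ (IsB (p n) ↔ ty)) :
    ArcTrans P₁ P₂ (n + 1) (¬ ty) := by
  intro p q hp hq hpt hqt
  have hW := hB.W
  have hp' : IsArc n p := ⟨fun i hi => hp.1 i (by omega), fun i hi => hp.2 i (by omega)⟩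
  have hq' : IsArc n q := ⟨fun i hi => hq.1 i (by omega), fun i hi => hq.2 i (by omega)⟩
  have hpn : IsB (p n) ↔ ty := by
    have h1 := hB.adj_type _ _ (hp.1 n (by omega))
    rw [h1, hpt]
    exact not_not
  have hqn : IsB (q n) ↔ ty := by
    have h1 := hB.adj_type _ _ (hq.1 n (by omega))
    rw [h1, hqt]
    exact not_not
  obtain ⟨g, hg⟩ := hT p q hp' hq' hpn hqn
  have e1 : n - 1 + 1 = n := by omega
  have e2 : n - 1 + 2 = n + 1 := by omega
  have hyadj : (cosetGraph P₁ P₂).Adj (q n) (g • p (n + 1)) := by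
    have := hW.smul_adj g _ _ (hp.1 n (by omega))
    rwa [hg n le_rfl] at this
  have hy_ne : g • p (n + 1) ≠ q (n - 1) := by
    intro he
    rw [← hg (n - 1) (by omega)] at he
    have h1 := smul_left_cancel g he
    have h2 := hp.2 (n - 1) (by omega)
    rw [e2] at h2
    exact h2 h1.symm
  by_cases hy : g • p (n + 1) = q (n + 1)
  · refine ⟨g, fun i hi => ?_⟩
    rcases Nat.lt_or_ge i (n + 1) with h1 | h1
    · exact hg i (by omega)
    · have : i = n + 1 := by omega
      subst this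
      exact hy
  · obtain ⟨r, ⟨hr, h, hfix, y', hy'adj, hmove⟩, hrt⟩ := hex
    obtain ⟨g', hg'⟩ := hT r q hr hq' hrt hqn
    have hfix' : ∀ i ≤ n, (g' * h * g'⁻¹) • q i = q i := by
      intro i hi
      rw [← hg' i hi, mul_smul, mul_smul, inv_smul_smul, hfix i hi]
    have hwadj : (cosetGraph P₁ P₂).Adj (q n) (g' • y') := by
      have := hW.smul_adj g' _ _ hy'adj
      rwa [hg' n le_rfl] at this
    have hwmove : (g' * h * g'⁻¹) • (g' • y') ≠ g' • y' := by
      intro he
      rw [mul_smul, mul_smul, inv_smul_smul] at he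
      exact hmove (smul_left_cancel g' he)
    have hadj1 : (cosetGraph P₁ P₂).Adj (q n) (q (n - 1)) := by
      have := hq.1 (n - 1) (by omega)
      rw [e1] at this
      exact this.symm
    have hadj2 : (cosetGraph P₁ P₂).Adj (q n) (q (n + 1)) := hq.1 n (by omega)
    have hne12 : q (n + 1) ≠ q (n - 1) := by
      have := hq.2 (n - 1) (by omega)
      rw [e2] at this
      exact this.symm
    have key : ∀ v, (cosetGraph P₁ P₂).Adj (q n) v → v ≠ q (n - 1) →
        (cosetGraph P₁ P₂).Adj (q n) ((g' * h * g'⁻¹) • v) ∧ (g' * h * g'⁻¹) • v ≠ q (n - 1) := by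
      intro v hv hvne
      constructor
      · have := hW.smul_adj (g' * h * g'⁻¹) _ _ hv
        rwa [hfix' n le_rfl] at this
      · intro he
        rw [← hfix' (n - 1) (by omega)] at he
        exact hvne (smul_left_cancel _ he)
    have hw_ne : g' • y' ≠ q (n - 1) := by
      intro he
      apply hwmove
      rw [he]
      exact hfix' (n - 1) (by omega)
    have h3 := hW.card_nbr (q n)
    have hmovey : (g' * h * g'⁻¹) • (g • p (n + 1)) ≠ g • p (n + 1) := by
      by_cases hwy : g' • y' = g • p (n + 1)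
      · rw [← hwy]
        exact hwmove
      · have hwq : g' • y' = q (n + 1) :=
          nbr_eq_of_card h3 (q (n - 1)) (g • p (n + 1)) (g' • y') (q (n + 1)) hadj1 hyadj
            (Ne.symm hy_ne) hwadj hw_ne hwy hadj2 hne12 (Ne.symm hy)
        intro hfixy
        have h1 : (g' * h * g'⁻¹) • q (n + 1) ≠ q (n + 1) := by
          rw [← hwq]
          exact hwmove
        have k := key (q (n + 1)) hadj2 hne12
        have h2 : (g' * h * g'⁻¹) • q (n + 1) = g • p (n + 1) :=
          nbr_eq_of_card h3 (q (n - 1)) (q (n + 1)) ((g' * h * g'⁻¹) • q (n + 1)) (g • p (n + 1))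
            hadj1 hadj2 (Ne.symm hne12) k.1 k.2 h1 hyadj hy_ne hy
        exact hy (smul_left_cancel _ (hfixy.trans h2.symm))
    have k := key (g • p (n + 1)) hyadj hy_ne
    have hfin : (g' * h * g'⁻¹) • (g • p (n + 1)) = q (n + 1) :=
      nbr_eq_of_card h3 (q (n - 1)) (g • p (n + 1)) ((g' * h * g'⁻¹) • (g • p (n + 1))) (q (n + 1))
        hadj1 hyadj (Ne.symm hy_ne) k.1 k.2 hmovey hadj2 hne12 (Ne.symm hy)
    refine ⟨(g' * h * g'⁻¹) * g, fun i hi => ?_⟩
    rcases Nat.lt_or_ge i (n + 1) with h1 | h1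
    · rw [mul_smul, hg i (by omega), hfix' i (by omega)]
    · have : i = n + 1 := by omega
      subst this
      rw [mul_smul, hfin]

end Cfsg.Agent.Lib.Helper68.AmalB.H7
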