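/-
helper7: S2858, case (D), module [D-NLEM], first half (hedge; helper68's sheet Lib/Helper68/AmalDSHEET2.md):
`N_y = C_{G_y}(F_y)`: `Nv_smul`, `Q_le_Nv`, `Nv_inf_stab`, `Nv_le_sup`, `Nv_inf_Nv`.
-/
import Mathlib
import Cfsg.Prelude.Def_Amalgam
import Cfsg.Agent.Lib.Helper12.AmalDefs
import Cfsg.Agent.Lib.Helper12.AmalCrit
import Cfsg.Agent.Lib.Helper12.AmalTreeDefs
import Cfsg.Agent.Lib.Helper12.AmalGen
import Cfsg.Agent.Lib.Helper34.AmalDB2b
import Cfsg.Agent.Lib.Helper46.CosetGraph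
import Cfsg.Agent.Lib.Helper68.AmalDDefs
import Cfsg.Agent.Lib.Helper68.AmalDDefs2
import Cfsg.Agent.Lib.Helper68.AmalDOrb
import Cfsg.Agent.Lib.Helper7.AmalCBridge

set_option autoImplicit false

namespace Cfsg.Agent.Lib.Helper7.AmalDNLemA

open Cfsg Cfsg.Agent.Lib.Helper68.AmalD Cfsg.Agent.Lib.Helper7.AmalC
open Cfsg.Agent.Lib.Helper12.Amal hiding Flat

universe u

variable {G : Type u} [Group G] {P₁ P₂ : Subgroup G}

/-! ### a tree has no 4-cycle -/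

theorem tree_common_nbr {V : Type*} {Γ : SimpleGraph V} (h : Γ.IsAcyclic) {r r' l m : V}
    (h1 : Γ.Adj r l) (h2 : Γ.Adj l r') (h3 : Γ.Adj r m) (h4 : Γ.Adj m r') (hne : r ≠ r') :
    l = m := by
  have hp : (SimpleGraph.Walk.cons h1 (SimpleGraph.Walk.cons h2 SimpleGraph.Walk.nil)).IsPath := by
    simp [SimpleGraph.Walk.cons_isPath_iff, h1.ne, h2.ne, hne]
  have hq : (SimpleGraph.Walk.cons h3 (SimpleGraph.Walk.cons h4 SimpleGraph.Walk.nil)).IsPath := by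
    simp [SimpleGraph.Walk.cons_isPath_iff, h3.ne, h4.ne, hne]
  have := h.path_unique ⟨_, hp⟩ ⟨_, hq⟩
  have h5 := congrArg (fun p : Γ.Path r r' => p.1.support) this
  simp at h5
  exact h5

section base

variable (hB : Base P₁ P₂)
include hB

/-! ### transport -/

theorem conj_mem_Z (g : G) (x : CosetVertex P₁ P₂) (v : G) :
    g * v * g⁻¹ ∈ Zv (g • x) ↔ v ∈ Zv x := by
  rw [hB.smul_Z, Subgroup.mem_map_equiv]
  have : (MulAut.conj g).symm (g * v * g⁻¹) = v := by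
    rw [MulAut.conj_symm_apply]; group
  rw [this]

theorem conj_mem_G (g : G) (x : CosetVertex P₁ P₂) (v : G) :
    g * v * g⁻¹ ∈ Gv (g • x) ↔ v ∈ Gv x := by
  rw [hB.smul_G, Subgroup.mem_map_equiv]
  have : (MulAut.conj g).symm (g * v * g⁻¹) = v := by
    rw [MulAut.conj_symm_apply]; group
  rw [this]

theorem conj_mem_F_of (g : G) (y : CosetVertex P₁ P₂) {v : G} (hv : v ∈ Fv y) :
    g * v * g⁻¹ ∈ Fv (g • y) := by
  rw [mem_Fv] at hv ⊢
  intro l hl
  have hadj : (cosetGraph P₁ P₂).Adj y (g⁻¹ • l) := by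
    have := hB.smul_adj g⁻¹ _ _ hl
    rwa [inv_smul_smul] at this
  have := (conj_mem_Z hB g (g⁻¹ • l) v).2 (hv _ hadj)
  rwa [smul_inv_smul] at this

theorem conj_mem_N_of (g : G) (y : CosetVertex P₁ P₂) {n : G} (hn : n ∈ Nv y) :
    g * n * g⁻¹ ∈ Nv (g • y) := by
  have hn' : n ∈ Gv y ⊓ Subgroup.centralizer ((Fv y : Subgroup G) : Set G) := hn
  show g * n * g⁻¹ ∈ Gv (g • y) ⊓ Subgroup.centralizer ((Fv (g • y) : Subgroup G) : Set G)
  refine Subgroup.mem_inf.2 ⟨(conj_mem_G hB g y n).2 hn'.1, ?_⟩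
  rw [Subgroup.mem_centralizer_iff]
  intro w hw
  have hw' : g⁻¹ * w * g⁻¹⁻¹ ∈ Fv y := by
    have := conj_mem_F_of hB g⁻¹ (g • y) hw
    rwa [inv_smul_smul] at this
  have hc := (Subgroup.mem_centralizer_iff.1 hn'.2) _ hw'
  have e1 : w * (g * n * g⁻¹) = g * ((g⁻¹ * w * g⁻¹⁻¹) * n) * g⁻¹ := by group
  have e2 : g * n * g⁻¹ * w = g * (n * (g⁻¹ * w * g⁻¹⁻¹)) * g⁻¹ := by group
  rw [e1, e2, hc]

/-- [D-NLEM] -/
theorem Nv_smul (g : G) (y : CosetVertex P₁ P₂) :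
    Nv (g • y) = (Nv y).map (MulAut.conj g).toMonoidHom := by
  ext n
  rw [Subgroup.mem_map_equiv, MulAut.conj_symm_apply]
  constructor
  · intro hn
    have := conj_mem_N_of hB g⁻¹ (g • y) hn
    rw [inv_smul_smul] at this
    have e : g⁻¹ * n * g⁻¹⁻¹ = g⁻¹ * n * g := by group
    rwa [e] at this
  · intro hn
    have := conj_mem_N_of hB g y hn
    have e : g * (g⁻¹ * n * g) * g⁻¹ = n := by group
    rwa [e] at this

theorem Q_le_Nv {y l : CosetVertex P₁ P₂} (hl : (cosetGraph P₁ P₂).Adj y l) :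
    Qv l ≤ Nv y := by
  intro q hq
  show q ∈ Gv y ⊓ Subgroup.centralizer ((Fv y : Subgroup G) : Set G)
  refine Subgroup.mem_inf.2 ⟨hB.Q_le_G_adj hl.symm hq, ?_⟩
  rw [Subgroup.mem_centralizer_iff]
  intro v hv
  have hvZ : v ∈ Zv l := (mem_Fv.1 hv) l hl
  exact (Subgroup.mem_centralizer_iff.1 (hB.Z_cent_Q l hvZ)) q hq |>.symm

/-- `Q_y ≰ Q_l` on an edge -/
theorem exists_Q_not_Q {y l : CosetVertex P₁ P₂} (hl : (cosetGraph P₁ P₂).Adj y l) :
    ∃ u ∈ Qv y, u ∉ Qv l := by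
  by_contra hcon
  push Not at hcon
  have hle : Qv y ≤ Qv l := hcon
  have h1 := hB.edge_eq y l hl
  rw [sup_eq_right.2 hle] at h1
  have h2 := hB.card_T l y hl.symm
  rw [inf_comm, h1] at h2
  have := hB.fin l
  have : Finite ↥(Qv l) :=
    Finite.of_injective _ (Subgroup.inclusion_injective (hB.Q_le_G l))
  have h3 : 0 < Nat.card ↥(Qv l) := Nat.card_pos
  omega

theorem Nv_inf_stab (S : FS P₁ P₂) {y l : CosetVertex P₁ P₂} (hf : Flat y)
    (hl : (cosetGraph P₁ P₂).Adj y l) : Nv y ⊓ Gv l = Qv l := by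
  apply le_antisymm
  · intro g hg
    by_contra hgQ
    obtain ⟨u, hu, huQ⟩ := exists_Q_not_Q hB hl
    have hgN : g ∈ Gv y ⊓ Subgroup.centralizer ((Fv y : Subgroup G) : Set G) := hg.1
    have := hB.fin l
    have : Finite ↥(Gv l ⊓ Gv y) :=
      Finite.of_injective _ (Subgroup.inclusion_injective (inf_le_left : Gv l ⊓ Gv y ≤ Gv l))
    have hle : Qv l ≤ Gv l ⊓ Gv y := le_inf (hB.Q_le_G l) (hB.Q_le_G_adj hl.symm)
    have hgT : g ∈ Gv l ⊓ Gv y := ⟨hg.2, hgN.1⟩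
    have huT : u ∈ Gv l ⊓ Gv y := ⟨hB.Q_le_G_adj hl hu, hB.Q_le_G y hu⟩
    have hmul : g * u ∈ Qv l :=
      mul_mem_of_card hle (hB.card_T l y hl.symm).symm hgT huT hgQ huQ
    have huN : u ∈ Nv y := by
      have h1 : g * u ∈ Nv y := Q_le_Nv hB hl hmul
      have e : u = g⁻¹ * (g * u) := by group
      rw [e]
      exact Subgroup.mul_mem _ (Subgroup.inv_mem _ hg.1) h1
    exact huQ (S.N_inf_Q y l hf hl ⟨huN, hu⟩)
  · exact le_inf (Q_le_Nv hB hl) (hB.Q_le_G l)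

/-- an element of `Q_l` outside `Q_y` swaps the other two neighbours of `y` -/
theorem swap_of_mem_Q {y l l' l'' : CosetVertex P₁ P₂} (hl : (cosetGraph P₁ P₂).Adj y l)
    (hl' : (cosetGraph P₁ P₂).Adj y l') (hl'' : (cosetGraph P₁ P₂).Adj y l'')
    (h1 : l ≠ l') (h2 : l ≠ l'') (h3 : l' ≠ l'') {a : G} (ha : a ∈ Qv l) (hay : a ∉ Qv y) :
    a • y = y ∧ a • l = l ∧ a • l' = l'' ∧ a • l'' = l' := by
  have hfix := Q_fix_of_base hB l y hl.symm a ha
  have hay' : a • y = y := hfix.2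
  have hal : a • l = l := hfix.1
  have hadj' : (cosetGraph P₁ P₂).Adj y (a • l') := by
    have := hB.smul_adj a _ _ hl'
    rwa [hay'] at this
  have hadj'' : (cosetGraph P₁ P₂).Adj y (a • l'') := by
    have := hB.smul_adj a _ _ hl''
    rwa [hay'] at this
  have hn1 : a • l' ≠ l := by
    intro h
    rw [← hal] at h
    exact h1 (smul_left_cancel a h).symm
  have hn2 : a • l'' ≠ l := by
    intro h
    rw [← hal] at h
    exact h2 (smul_left_cancel a h).symm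
  have hn3 : a • l' ≠ l' := by
    intro h
    exact hay (Q_ker_of_base hB y l l' hl hl' h1 a hay' hal h)
  have hn4 : a • l'' ≠ l'' := by
    intro h
    exact hay (Q_ker_of_base hB y l l'' hl hl'' h2 a hay' hal h)
  refine ⟨hay', hal, ?_, ?_⟩
  · exact nbr_eq_of_base hB y l l' (a • l') l'' hl hl' h1 hadj' hn1 hn3 hl'' h2.symm h3.symm
  · exact nbr_eq_of_base hB y l l'' (a • l'') l' hl hl'' h2 hadj'' hn2 hn4 hl' h1.symm h3

theorem Nv_le_sup (S : FS P₁ P₂) {y l l' : CosetVertex P₁ P₂} (hf : Flat y)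
    (hl : (cosetGraph P₁ P₂).Adj y l) (hl' : (cosetGraph P₁ P₂).Adj y l') (hne : l ≠ l') :
    Nv y ≤ Qv l ⊔ Qv l' := by
  obtain ⟨l'', hl'', h2, h3⟩ := cubic_of_base hB y l l'
  -- `h2 : l'' ≠ l`, `h3 : l'' ≠ l'`
  obtain ⟨a, ha, hay⟩ := exists_Q_not_Q hB hl.symm
  obtain ⟨a', ha', hay'⟩ := exists_Q_not_Q hB hl'.symm
  obtain ⟨-, hal, hal', hal''⟩ := swap_of_mem_Q hB hl hl' hl'' hne h2.symm h3.symm ha hay
  obtain ⟨-, ha'l', ha'l, ha'l''⟩ := swap_of_mem_Q hB hl' hl hl'' hne.symm h3.symm h2.symm ha' hay'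
  have haM : a ∈ Qv l ⊔ Qv l' := Subgroup.mem_sup_left ha
  have ha'M : a' ∈ Qv l ⊔ Qv l' := Subgroup.mem_sup_right ha'
  -- it is enough to find `m ∈ M` with `m l = n l`, `m l' = n l'`
  have key : ∀ n ∈ Nv y, ∀ m ∈ Qv l ⊔ Qv l', m • l = n • l → m • l' = n • l' →
      n ∈ Qv l ⊔ Qv l' := by
    intro n hn m hm e1 e2
    have hmN : m ∈ Nv y := (sup_le (Q_le_Nv hB hl) (Q_le_Nv hB hl')) hm
    have hk : m⁻¹ * n ∈ Nv y := Subgroup.mul_mem _ (Subgroup.inv_mem _ hmN) hn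
    have hkG : m⁻¹ * n ∈ Gv y := (inf_le_left : Nv y ≤ Gv y) hk
    have hky : (m⁻¹ * n) • y = y := hkG
    have hkl : (m⁻¹ * n) • l = l := by rw [mul_smul, ← e1, inv_smul_smul]
    have hkl' : (m⁻¹ * n) • l' = l' := by rw [mul_smul, ← e2, inv_smul_smul]
    have hkQ : m⁻¹ * n ∈ Qv y := Q_ker_of_base hB y l l' hl hl' hne _ hky hkl hkl'
    have hkQl : m⁻¹ * n ∈ Qv l := S.N_inf_Q y l hf hl ⟨hk, hkQ⟩
    have e : n = m * (m⁻¹ * n) := by group
    rw [e]
    exact Subgroup.mul_mem _ hm (Subgroup.mem_sup_left hkQl)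
  intro n hn
  have hnG : n ∈ Gv y := (inf_le_left : Nv y ≤ Gv y) hn
  have hny : n • y = y := hnG
  have hadj : (cosetGraph P₁ P₂).Adj y (n • l) := by
    have := hB.smul_adj n _ _ hl
    rwa [hny] at this
  have hadj' : (cosetGraph P₁ P₂).Adj y (n • l') := by
    have := hB.smul_adj n _ _ hl'
    rwa [hny] at this
  have hnne : n • l ≠ n • l' := fun h => hne (smul_left_cancel n h)
  -- trichotomy for the neighbours of `y`
  have tri : ∀ w, (cosetGraph P₁ P₂).Adj y w → w = l ∨ w = l' ∨ w = l'' := by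
    intro w hw
    by_cases hw1 : w = l
    · exact Or.inl hw1
    by_cases hw2 : w = l'
    · exact Or.inr (Or.inl hw2)
    exact Or.inr (Or.inr (nbr_eq_of_base hB y l l' w l'' hl hl' hne hw hw1 hw2 hl'' h2 h3))
  rcases tri _ hadj with e1 | e1 | e1 <;> rcases tri _ hadj' with e2 | e2 | e2
  · exact absurd (e1.trans e2.symm) hnne
  · -- (l, l')
    exact key n hn 1 (Subgroup.one_mem _) (by rw [one_smul, e1]) (by rw [one_smul, e2])
  · -- (l, l'')
    exact key n hn a haM (by rw [hal, e1]) (by rw [hal', e2])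
  · -- (l', l)
    refine key n hn (a' * a * a') (Subgroup.mul_mem _ (Subgroup.mul_mem _ ha'M haM) ha'M) ?_ ?_
    · rw [mul_smul, mul_smul, ha'l, hal'', ha'l', e1]
    · rw [mul_smul, mul_smul, ha'l', hal', ha'l'', e2]
  · exact absurd (e1.trans e2.symm) hnne
  · -- (l', l'')
    refine key n hn (a * a') (Subgroup.mul_mem _ haM ha'M) ?_ ?_
    · rw [mul_smul, ha'l, hal'', e1]
    · rw [mul_smul, ha'l', hal', e2]
  · -- (l'', l)
    refine key n hn (a' * a) (Subgroup.mul_mem _ ha'M haM) ?_ ?_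
    · rw [mul_smul, hal, ha'l, e1]
    · rw [mul_smul, hal', ha'l'', e2]
  · -- (l'', l')
    exact key n hn a' ha'M (by rw [ha'l, e1]) (by rw [ha'l', e2])
  · exact absurd (e1.trans e2.symm) hnne

theorem Nv_inf_Nv (htree : (cosetGraph P₁ P₂).IsTree) (S : FS P₁ P₂)
    {l r r' : CosetVertex P₁ P₂} (hf : Flat r) (hr : (cosetGraph P₁ P₂).Adj l r)
    (hr' : (cosetGraph P₁ P₂).Adj l r') (hne : r ≠ r') : Nv r ⊓ Nv r' = Qv l := by
  apply le_antisymm
  · intro g hg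
    have hgr : g • r = r := (inf_le_left : Nv r ≤ Gv r) hg.1
    have hgr' : g • r' = r' := (inf_le_left : Nv r' ≤ Gv r') hg.2
    have h1 : (cosetGraph P₁ P₂).Adj r (g • l) := by
      have := hB.smul_adj g _ _ hr.symm
      rwa [hgr] at this
    have h2 : (cosetGraph P₁ P₂).Adj (g • l) r' := by
      have := hB.smul_adj g _ _ hr'
      rwa [hgr'] at this
    have hgl : l = g • l := tree_common_nbr htree.isAcyclic hr.symm hr' h1 h2 hne
    have hgG : g ∈ Gv l := by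
      show g • l = l
      exact hgl.symm
    rw [← Nv_inf_stab hB S hf hr.symm]
    exact ⟨hg.1, hgG⟩
  · exact le_inf (Q_le_Nv hB hr.symm) (Q_le_Nv hB hr'.symm)

end base

end Cfsg.Agent.Lib.Helper7.AmalDNLemA
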