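/-
helper7: S2858, case (D), module [D-T5]: the exact statement `t5` of helper68's stubs (`Lib/Helper68/AmalDStubs2.lean.txt`),
from `t5_of` (`Lib/Helper7/AmalDT5.lean`), helper23's [D-NLEM], helper34's [D-LAB] and helper12's/helper14's [VT-QUOT]/[VT-FRONT].
-/
import Mathlib
import Cfsg.Prelude.Def_Amalgam
import Cfsg.Agent.Lib.Helper7.AmalDT5
import Cfsg.Agent.Lib.Helper12.AmalVTQuot2
import Cfsg.Agent.Lib.Helper23.AmalDNLem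
import Cfsg.Agent.Lib.Helper34.AmalDLAB

set_option autoImplicit false

namespace Cfsg.Agent.Lib.Helper7.AmalDT5

open Cfsg Cfsg.Agent.Lib.Helper68.AmalD Cfsg.Agent.Lib.Helper7.AmalC
open Cfsg.Agent.Lib.Helper12.Amal hiding Flat

universe u

variable {G : Type u} [Group G] {P₁ P₂ : Subgroup G}

/-- the facts of [D-LAB] and [D-NLEM] used in [D-T5] -/
theorem t5Deps (hB : Base P₁ P₂) (htree : (cosetGraph P₁ P₂).IsTree) (S : FS P₁ P₂) :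
    T5Deps P₁ P₂ where
  cv_mem := Cfsg.Agent.Lib.Helper34.AmalDLAB.cv_mem S
  cv_ne_one := Cfsg.Agent.Lib.Helper34.AmalDLAB.cv_ne_one S
  Nv_smul := Cfsg.Agent.Lib.Helper23.AmalDN.Nv_smul hB
  Q_le_Nv := fun _ _ h => Cfsg.Agent.Lib.Helper23.AmalDN.Q_le_Nv hB h
  Nv_le_sup := fun _ _ _ hf h h2 hne => Cfsg.Agent.Lib.Helper23.AmalDN.Nv_le_sup hB S hf h h2 hne
  Nv_inf_Nv := fun _ _ _ hf h h2 hne =>
    Cfsg.Agent.Lib.Helper23.AmalDN.Nv_inf_Nv hB htree S hf h h2 hne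
  relIndex_Q_Nv := fun _ _ hf h => Cfsg.Agent.Lib.Helper23.AmalDN.relIndex_Q_Nv hB S hf h
  Q_not_normal_Nv := fun _ _ hf h => Cfsg.Agent.Lib.Helper23.AmalDN.Q_not_normal_Nv hB S hf h
  exists_swap := fun _ _ _ _ a b c d e f => Cfsg.Agent.Lib.Helper23.AmalDN.exists_swap hB a b c d e f
  exists_Nv_of_S := fun _ _ _ _ _ hf a b c d e f g =>
    Cfsg.Agent.Lib.Helper23.AmalDN.exists_Nv_of_S hB S hf a b c d e f g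

/-- the statement of [VT-QUOT] inside `G` -/
theorem vq {m : ℕ} (IH : CoreBelow.{u} m) : VQ G m := by
  intro P₁ P₂ T D _ _ hT i1 i2 two x h1 h2 h3 hnn hm hD hDn
  exact Cfsg.Agent.Lib.Helper12.Amal.VTQ.vt_quot IH P₁ P₂ T D hT i1 i2 two x h1 h2 h3 hnn hm hD hDn

/-- **[D-T5]** the Tutte-type statement: along an `S`-path, five consecutive `Q_l` fix the next one -/
theorem t5 (IH : CoreBelow.{u} (Nat.card ↥(P₁ ⊓ P₂))) (hB : Base P₁ P₂)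
    (htree : (cosetGraph P₁ P₂).IsTree) (S : FS P₁ P₂)
    {l₀ r₁ l₁ r₂ l₂ r₃ l₃ r₄ l₄ r₅ l₅ : CosetVertex P₁ P₂}
    (h01 : (cosetGraph P₁ P₂).Adj l₀ r₁) (h11 : (cosetGraph P₁ P₂).Adj r₁ l₁)
    (h12 : (cosetGraph P₁ P₂).Adj l₁ r₂) (h22 : (cosetGraph P₁ P₂).Adj r₂ l₂)
    (h23 : (cosetGraph P₁ P₂).Adj l₂ r₃) (h33 : (cosetGraph P₁ P₂).Adj r₃ l₃)
    (h34 : (cosetGraph P₁ P₂).Adj l₃ r₄) (h44 : (cosetGraph P₁ P₂).Adj r₄ l₄)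
    (h45 : (cosetGraph P₁ P₂).Adj l₄ r₅) (h55 : (cosetGraph P₁ P₂).Adj r₅ l₅)
    (n0 : l₀ ≠ l₁) (n1 : r₁ ≠ r₂) (n2 : l₁ ≠ l₂) (n3 : r₂ ≠ r₃) (n4 : l₂ ≠ l₃) (n5 : r₃ ≠ r₄)
    (n6 : l₃ ≠ l₄) (n7 : r₄ ≠ r₅) (n8 : l₄ ≠ l₅)
    (hf : Flat r₁)
    (hS₂ : cv l₁ * cv r₁ = cv l₂ * cv r₃) (hS₃ : cv l₂ * cv r₂ = cv l₃ * cv r₄)
    (hS₄ : cv l₃ * cv r₃ = cv l₄ * cv r₅) :
    Qv l₀ ⊓ Qv l₁ ⊓ Qv l₂ ⊓ Qv l₃ ⊓ Qv l₄ ≤ Qv l₅ :=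
  t5_of hB (t5Deps hB htree S) S (vq IH) h01 h11 h12 h22 h23 h33 h34 h44 h45 h55 n0 n1 n2 n3 n4 n5
    n6 n7 hf hS₂ hS₃ hS₄

end Cfsg.Agent.Lib.Helper7.AmalDT5
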