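/-
helper7: common endgame of module S2858-[A-R2c] of helper12's sheet (Lib/Helper12/AmalSHEET.md):
if `H` of order 48 (normal self-centralizing elementary abelian `V` of order 8, `C = V ∩ Z(H)` of order 2)
has a subgroup `K` of order 24 meeting `C` trivially, then `H ≅ C₂ × S₄`.
-/
import Mathlib
import Cfsg.Agent.Lib.Helper14.FCRecogB

set_option autoImplicit false

namespace Cfsg.Agent.Lib.Helper7.AmalR2c

open Subgroup

/-- `Nat.card` of `A.subgroupOf B` -/
theorem card_subgroupOf_eq_card_inf {G : Type*} [Group G] (A B : Subgroup G) :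
    Nat.card (A.subgroupOf B) = Nat.card ↥(A ⊓ B) := by
  refine Nat.card_congr ⟨fun y => ⟨y.1.1, Subgroup.mem_subgroupOf.1 y.2, y.1.2⟩,
    fun y => ⟨⟨y.1, y.2.2⟩, Subgroup.mem_subgroupOf.2 y.2.1⟩, fun y => rfl, fun y => rfl⟩

/-- A group of order 2 is isomorphic to `Multiplicative (ZMod 2)`. -/
theorem nonempty_mulEquiv_zmod_two' {K : Type*} [Group K] (hc : Nat.card K = 2) :
    Nonempty (K ≃* Multiplicative (ZMod 2)) := by
  have : Fact (Nat.Prime 2) := ⟨Nat.prime_two⟩
  have hcyc : IsCyclic K := isCyclic_of_prime_card hc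
  have e := zmodCyclicMulEquiv hcyc
  rw [hc] at e
  exact ⟨e.symm⟩

variable {H : Type*} [Group H] [Finite H] (V : Subgroup H) [V.Normal]

/-- the common endgame of `[A-R2c]` -/
theorem iso_of_compl (hexp : ∀ v ∈ V, v * v = 1)
    (hcent : Subgroup.centralizer (V : Set H) ≤ V)
    (hV8 : Nat.card ↥V = 8) (hH : Nat.card H = 48)
    (hC : Nat.card ↥(V ⊓ Subgroup.center H) = 2)
    (K : Subgroup H) (hK : Nat.card ↥K = 24)
    (hcK : ∀ z ∈ V ⊓ Subgroup.center H, z ∈ K → z = 1) :
    Nonempty (H ≃* Multiplicative (ZMod 2) × Equiv.Perm (Fin 4)) := by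
  classical
  -- the central involution
  obtain ⟨⟨c, hcC⟩, hc1, -⟩ := (Nat.card_eq_two_iff' (1 : ↥(V ⊓ Subgroup.center H))).1 hC
  have hc1' : c ≠ 1 := fun h => hc1 (Subtype.ext h)
  have hcV : c ∈ V := hcC.1
  have hcZ : c ∈ Subgroup.center H := hcC.2
  have hcK' : c ∉ K := fun h => hc1' (hcK c hcC h)
  have hcc : c * c = 1 := hexp c hcV
  have hcomm : ∀ h : H, h * c = c * h := fun h => (Subgroup.mem_center_iff.1 hcZ h)
  -- `K` has index two
  have hidx : K.index = 2 := by
    have h1 := Subgroup.card_mul_index K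
    rw [hK, hH] at h1
    omega
  have hKn : K.Normal := Subgroup.normal_of_index_eq_two hidx
  have hKc : ∀ h : H, h ∈ K ∨ h * c ∈ K := by
    intro h
    by_cases hh : h ∈ K
    · exact Or.inl hh
    · right
      exact (Subgroup.mul_mem_iff_of_index_two hidx).2 ⟨fun h' => absurd h' hh, fun h' => absurd h' hcK'⟩
  -- `K ≃* Perm (Fin 4)`
  have hKS4 : Nonempty (↥K ≃* Equiv.Perm (Fin 4)) := by
    have hV4 : Nat.card (V.subgroupOf K) = 4 := by
      rw [card_subgroupOf_eq_card_inf, inf_comm, ← card_subgroupOf_eq_card_inf]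
      have h1 : K.relIndex V ∣ K.index := Subgroup.relIndex_dvd_index_of_normal K V
      have h2 : K.relIndex V ≠ 1 := by
        intro h
        exact hcK' ((Subgroup.relIndex_eq_one.1 h) hcV)
      have h3 : K.relIndex V = 2 := by
        rw [hidx] at h1
        rcases (Nat.dvd_prime Nat.prime_two).1 h1 with h | h
        · exact absurd h h2
        · exact h
      have h4 := Subgroup.card_mul_index (K.subgroupOf V)
      rw [hV8] at h4
      have h5 : (K.subgroupOf V).index = 2 := h3
      rw [h5] at h4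
      omega
    have hexp' : ∀ v ∈ V.subgroupOf K, v * v = 1 := by
      intro v hv
      apply Subtype.ext
      simpa using hexp v.1 (Subgroup.mem_subgroupOf.1 hv)
    have hcent' : Subgroup.centralizer ((V.subgroupOf K : Subgroup ↥K) : Set ↥K) ≤ V.subgroupOf K := by
      intro k hk
      rw [Subgroup.mem_subgroupOf]
      apply hcent
      rw [Subgroup.mem_centralizer_iff]
      intro v hv
      rw [Subgroup.mem_centralizer_iff] at hk
      rcases hKc v with hvK | hvK
      · have := hk ⟨v, hvK⟩ (Subgroup.mem_subgroupOf.2 hv)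
        exact congrArg Subtype.val this
      · have h1 := hk ⟨v * c, hvK⟩ (Subgroup.mem_subgroupOf.2 (V.mul_mem hv hcV))
        have h2 : v * c * (k : H) = (k : H) * (v * c) := congrArg Subtype.val h1
        have h3 : v * (k : H) * c = (k : H) * v * c := by
          calc v * (k : H) * c = v * (c * (k : H)) := by rw [mul_assoc, hcomm]
            _ = v * c * (k : H) := by rw [mul_assoc]
            _ = (k : H) * (v * c) := h2
            _ = (k : H) * v * c := by rw [mul_assoc]
        exact mul_right_cancel h3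
    have h8 : Nat.card ↥K ≠ 8 := by rw [hK]; norm_num
    rcases Cfsg.Agent.Lib.Helper14.recog_v4_a4_s4 (V.subgroupOf K) hV4 hexp' hcent' h8 with
      hf | hf | hf
    · exfalso
      obtain ⟨f⟩ := hf
      have := Nat.card_congr f.toEquiv
      rw [hK, DihedralGroup.nat_card] at this
      omega
    · exfalso
      obtain ⟨f⟩ := hf
      have h1 := Nat.card_congr f.toEquiv
      have h2 : Nat.card (alternatingGroup (Fin 4)) = 12 := by
        have := two_mul_nat_card_alternatingGroup (α := Fin 4)
        rw [Nat.card_eq_fintype_card (α := Equiv.Perm (Fin 4)), Fintype.card_perm] at this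
        have h24 : (Fintype.card (Fin 4)).factorial = 24 := by simp [Nat.factorial]
        rw [h24] at this
        omega
      rw [hK, h2] at h1
      omega
    · exact hf
  obtain ⟨fK⟩ := hKS4
  -- `C ≃* Multiplicative (ZMod 2)`
  obtain ⟨fC⟩ := nonempty_mulEquiv_zmod_two' hC
  -- `C × K ≃* H`
  let φ : ↥(V ⊓ Subgroup.center H) × ↥K →* H :=
    MonoidHom.noncommCoprod (V ⊓ Subgroup.center H).subtype K.subtype
      (fun a k => (Subgroup.mem_center_iff.1 a.2.2 (k : H)).symm)
  have hφ : ∀ p, φ p = (p.1 : H) * (p.2 : H) := fun p => rfl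
  have hinj : Function.Injective φ := by
    rw [injective_iff_map_eq_one]
    rintro ⟨a, k⟩ h
    rw [hφ] at h
    have h1 : (a : H) = (k : H)⁻¹ := eq_inv_of_mul_eq_one_left h
    have h2 : (a : H) ∈ K := by rw [h1]; exact K.inv_mem k.2
    have h3 : (a : H) = 1 := hcK a a.2 h2
    have h4 : (k : H) = 1 := by
      rw [h3] at h
      simpa using h
    exact Prod.ext (Subtype.ext h3) (Subtype.ext h4)
  have hbij : Function.Bijective φ := by
    apply Function.Injective.bijective_of_nat_card_le hinj
    rw [Nat.card_prod, hC, hK, hH]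
  let ψ : ↥(V ⊓ Subgroup.center H) × ↥K ≃* H := MulEquiv.ofBijective φ hbij
  exact ⟨ψ.symm.trans (MulEquiv.prodCongr fC fK)⟩

end Cfsg.Agent.Lib.Helper7.AmalR2c
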