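/-
helper7: module S2858-[A-R2c] of helper12's sheet (Lib/Helper12/AmalSHEET.md): a group of order 48 with a
self-centralizing normal elementary abelian subgroup `V` of order 8, quotient `S₃`, centre of order 2 inside `V`
and an involution outside `V` acting as a transvection on `V` is `C₂ × S₄`.
Route 2 of the sheet: `C = V ∩ Z(H)`; the Sylow 2-subgroup `U = V⟨t⟩` is `C × A` with `A = ⟨x, t⟩` dihedral of
order 8 (`x ∈ V ∖ C_V(t)`; needs `[x,t] ∉ C`); Gaschütz (helper52) gives a complement `K` of `C` in `H`;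
`K ≅ S₄` by helper14's `recog_v4_a4_s4` (endgame in `AmalR2cEnd.lean`).
-/
import Mathlib
import Cfsg.Agent.Lib.Helper52.Gaschutz
import Cfsg.Agent.Lib.Helper42.DSQWTrans
import Cfsg.Agent.Lib.Helper7.AmalR2cEnd

set_option autoImplicit false
set_option linter.unusedSectionVars false
set_option linter.style.haveILetI false

namespace Cfsg.Agent.Lib.Helper7.AmalR2c

open Subgroup

/-- membership alternative for a subgroup of index two of `B` -/
theorem mem_or_mul_mem {G : Type*} [Group G] (A B : Subgroup G) [Finite B] (hAB : A ≤ B)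
    (hcard : 2 * Nat.card A = Nat.card B) {x b : G} (hx : x ∈ B) (hxA : x ∉ A) (hb : b ∈ B) :
    b ∈ A ∨ b * x ∈ A := by
  haveI : Finite A := Finite.of_injective (Subgroup.inclusion hAB) (Subgroup.inclusion_injective hAB)
  have hidx : (A.subgroupOf B).index = 2 := by
    have h1 := Subgroup.card_mul_index (A.subgroupOf B)
    have h2 : Nat.card (A.subgroupOf B) = Nat.card A :=
      Nat.card_congr (Subgroup.subgroupOfEquivOfLe hAB).toEquiv
    rw [h2] at h1
    have hpos : 0 < Nat.card A := Nat.card_pos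
    nlinarith
  by_cases hbA : b ∈ A
  · exact Or.inl hbA
  · right
    have h := (Subgroup.mul_mem_iff_of_index_two hidx (a := (⟨b, hb⟩ : B)) (b := (⟨x, hx⟩ : B))).2
      (by
        rw [Subgroup.mem_subgroupOf, Subgroup.mem_subgroupOf]
        exact ⟨fun h => absurd h hbA, fun h => absurd h hxA⟩)
    rw [Subgroup.mem_subgroupOf] at h
    exact h

/-- the `Perm (Fin 3)` fact behind `[x,t] ≠ c` -/
theorem perm3_fact : ∀ σ : Equiv.Perm (Fin 3), σ ≠ 1 → σ * σ = 1 →
    ∃ g : Equiv.Perm (Fin 3), (σ * (g * σ * g⁻¹)) * (σ * (g * σ * g⁻¹)) ≠ 1 := by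
  decide +kernel

variable {H : Type*} [Group H] [Finite H] (V : Subgroup H) [V.Normal]

/-- no involution outside `V` acts trivially on `V / C` for a central `C ≤ V` -/
theorem not_trivial_mod_central (e : H ⧸ V ≃* Equiv.Perm (Fin 3)) (hexp : ∀ v ∈ V, v * v = 1)
    (hcent : Subgroup.centralizer (V : Set H) ≤ V)
    (t : H) (htV : t ∉ V) (ht : t * t = 1)
    (C : Subgroup H) (hCV : C ≤ V) (hCZ : C ≤ Subgroup.center H)
    (hP : ∀ v ∈ V, t * v * t⁻¹ * v⁻¹ ∈ C) : False := by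
  -- the predicate
  have hconj : ∀ (h g : H), (∀ v ∈ V, h * v * h⁻¹ * v⁻¹ ∈ C) →
      ∀ v ∈ V, (g * h * g⁻¹) * v * (g * h * g⁻¹)⁻¹ * v⁻¹ ∈ C := by
    intro h g hh v hv
    have hv' : g⁻¹ * v * g ∈ V := by
      have := (inferInstance : V.Normal).conj_mem v hv g⁻¹
      simpa using this
    have hz := hh _ hv'
    have hzc := Subgroup.mem_center_iff.1 (hCZ hz) g
    have : (g * h * g⁻¹) * v * (g * h * g⁻¹)⁻¹ * v⁻¹ =
        g * (h * (g⁻¹ * v * g) * h⁻¹ * (g⁻¹ * v * g)⁻¹) * g⁻¹ := by group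
    rw [this, hzc, mul_inv_cancel_right]
    exact hz
  have hmul : ∀ (h₁ h₂ : H), (∀ v ∈ V, h₁ * v * h₁⁻¹ * v⁻¹ ∈ C) →
      (∀ v ∈ V, h₂ * v * h₂⁻¹ * v⁻¹ ∈ C) →
      ∀ v ∈ V, (h₁ * h₂) * v * (h₁ * h₂)⁻¹ * v⁻¹ ∈ C := by
    intro h₁ h₂ hh₁ hh₂ v hv
    have hz₁ := hh₁ v hv
    have hz₂ := hh₂ v hv
    have hzc := Subgroup.mem_center_iff.1 (hCZ hz₂) h₁
    have : (h₁ * h₂) * v * (h₁ * h₂)⁻¹ * v⁻¹ =
        h₁ * (h₂ * v * h₂⁻¹ * v⁻¹) * h₁⁻¹ * (h₁ * v * h₁⁻¹ * v⁻¹) := by group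
    rw [this, hzc, mul_inv_cancel_right]
    exact C.mul_mem hz₂ hz₁
  have hsq : ∀ y : H, (∀ v ∈ V, y * v * y⁻¹ * v⁻¹ ∈ C) → y * y ∈ V := by
    intro y hy
    apply hcent
    rw [Subgroup.mem_centralizer_iff]
    intro v hv
    have hz := hy v hv
    have hzc' := Subgroup.mem_center_iff.1 (hCZ hz) y
    have hzz' := hexp _ (hCV hz)
    obtain ⟨z, hz_def⟩ : ∃ z, z = y * v * y⁻¹ * v⁻¹ := ⟨_, rfl⟩
    rw [← hz_def] at hzc' hzz'
    have hyv : y * v = z * v * y := by rw [hz_def]; group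
    calc v * (y * y) = (z * z) * v * y * y := by rw [hzz', one_mul, mul_assoc]
      _ = z * (z * v * y) * y := by group
      _ = z * (y * v) * y := by rw [hyv]
      _ = (z * y) * v * y := by group
      _ = (y * z) * v * y := by rw [hzc']
      _ = y * (z * v * y) := by group
      _ = y * (y * v) := by rw [hyv]
      _ = y * y * v := by group
  -- the quotient
  set σ : Equiv.Perm (Fin 3) := e (QuotientGroup.mk t) with hσ
  have hσ1 : σ ≠ 1 := by
    intro h
    rw [hσ, MulEquiv.map_eq_one_iff, QuotientGroup.eq_one_iff] at h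
    exact htV h
  have hσ2 : σ * σ = 1 := by
    rw [hσ, ← map_mul, ← QuotientGroup.mk_mul, ht, QuotientGroup.mk_one, map_one]
  obtain ⟨g, hg⟩ := perm3_fact σ hσ1 hσ2
  obtain ⟨d', hd'⟩ := e.surjective g
  obtain ⟨d, rfl⟩ := QuotientGroup.mk_surjective d'
  apply hg
  have hy := hsq (t * (d * t * d⁻¹)) (hmul _ _ hP (hconj t d hP))
  have := (QuotientGroup.eq_one_iff (N := V) _).2 hy
  rw [← hd', hσ]
  rw [← map_inv, ← map_mul, ← map_mul, ← map_mul, ← map_mul, MulEquiv.map_eq_one_iff]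
  rw [← QuotientGroup.mk_inv, ← QuotientGroup.mk_mul, ← QuotientGroup.mk_mul, ← QuotientGroup.mk_mul,
    ← QuotientGroup.mk_mul]
  exact this

/-- the Sylow 2-subgroup `U = V⟨t⟩` -/
theorem exists_U (e : H ⧸ V ≃* Equiv.Perm (Fin 3)) (t : H) (htV : t ∉ V) (ht : t * t = 1) :
    ∃ U : Subgroup H, V ≤ U ∧ t ∈ U ∧ U.index = 3 ∧ ∀ u ∈ U, u ∈ V ∨ t * u ∈ V := by
  have htinv : t⁻¹ = t := inv_eq_of_mul_eq_one_right ht
  refine ⟨(Subgroup.zpowers (QuotientGroup.mk t : H ⧸ V)).comap (QuotientGroup.mk' V), ?_, ?_, ?_, ?_⟩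
  · intro v hv
    rw [Subgroup.mem_comap, QuotientGroup.mk'_apply, (QuotientGroup.eq_one_iff v).2 hv]
    exact Subgroup.one_mem _
  · rw [Subgroup.mem_comap, QuotientGroup.mk'_apply]
    exact Subgroup.mem_zpowers _
  · rw [Subgroup.index_comap_of_surjective _ (QuotientGroup.mk'_surjective V)]
    have h6 : Nat.card (H ⧸ V) = 6 := by
      rw [Nat.card_congr e.toEquiv, Nat.card_eq_fintype_card, Fintype.card_perm, Fintype.card_fin]
      rfl
    have h2 : Nat.card (Subgroup.zpowers (QuotientGroup.mk t : H ⧸ V)) = 2 := by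
      rw [Nat.card_zpowers]
      apply orderOf_eq_prime
      · rw [pow_two, ← QuotientGroup.mk_mul, ht, QuotientGroup.mk_one]
      · intro h
        exact htV ((QuotientGroup.eq_one_iff t).1 h)
    have h := Subgroup.card_mul_index (Subgroup.zpowers (QuotientGroup.mk t : H ⧸ V))
    rw [h6, h2] at h
    omega
  · intro u hu
    rw [Subgroup.mem_comap, QuotientGroup.mk'_apply, Subgroup.mem_zpowers_iff] at hu
    obtain ⟨k, hk⟩ := hu
    have htk : t ^ k = 1 ∨ t ^ k = t := by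
      rcases Int.even_or_odd' k with ⟨m, rfl | rfl⟩
      · left; rw [zpow_mul, zpow_two, ht, one_zpow]
      · right; rw [zpow_add, zpow_mul, zpow_two, ht, one_zpow, one_mul, zpow_one]
    rw [← QuotientGroup.mk_zpow, QuotientGroup.eq] at hk
    rcases htk with h | h
    · left; rw [h, inv_one, one_mul] at hk; exact hk
    · right; rw [h, htinv] at hk; exact hk

/-- the basic configuration: the commutator `w = [t, x]` -/
theorem exists_x_w (e : H ⧸ V ≃* Equiv.Perm (Fin 3)) (hexp : ∀ v ∈ V, v * v = 1)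
    (hcent : Subgroup.centralizer (V : Set H) ≤ V)
    (t : H) (htV : t ∉ V) (ht : t * t = 1)
    (htr : 2 * Nat.card ↥(V ⊓ Subgroup.centralizer ({t} : Set H)) = Nat.card ↥V)
    (hV8 : Nat.card ↥V = 8)
    (hC : Nat.card ↥(V ⊓ Subgroup.center H) = 2) :
    ∃ x w : H, x ∈ V ∧ w ∈ V ∧ x * t * x * t = w ∧ t * w = w * t ∧ w ∉ V ⊓ Subgroup.center H ∧
      (∀ v ∈ V, ∃ k ∈ V ⊓ Subgroup.center H, v = k ∨ v = k * w ∨ v = k * x ∨ v = k * (w * x)) := by
  classical
  have htinv : t⁻¹ = t := inv_eq_of_mul_eq_one_right ht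
  have hinv : ∀ v ∈ V, v⁻¹ = v := fun v hv => inv_eq_of_mul_eq_one_right (hexp v hv)
  have hab : ∀ a ∈ V, ∀ b ∈ V, a * b = b * a := by
    intro a ha b hb
    have h3 := hexp (a * b) (V.mul_mem ha hb)
    calc a * b = (a * b)⁻¹ := (inv_eq_of_mul_eq_one_right h3).symm
      _ = b⁻¹ * a⁻¹ := mul_inv_rev a b
      _ = b * a := by rw [hinv a ha, hinv b hb]
  have hCt4 : Nat.card ↥(V ⊓ Subgroup.centralizer ({t} : Set H)) = 4 := by omega
  have hmemCt : ∀ v, v ∈ V ⊓ Subgroup.centralizer ({t} : Set H) ↔ v ∈ V ∧ v * t = t * v := by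
    intro v
    rw [Subgroup.mem_inf, Subgroup.mem_centralizer_singleton_iff]
  -- `x`
  obtain ⟨x, hxV, hxCt⟩ : ∃ x, x ∈ V ∧ x ∉ V ⊓ Subgroup.centralizer ({t} : Set H) := by
    by_contra hne
    push Not at hne
    have h1 : V ≤ V ⊓ Subgroup.centralizer ({t} : Set H) := hne
    have h2 := Subgroup.card_le_of_le h1
    omega
  have hxt : x * t ≠ t * x := fun h => hxCt ((hmemCt x).2 ⟨hxV, h⟩)
  have hbV : t * x * t ∈ V := by
    have := (inferInstance : V.Normal).conj_mem x hxV t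
    rwa [htinv] at this
  have hbx : t * x * t * x = x * (t * x * t) := hab _ hbV _ hxV
  have hwV : x * t * x * t ∈ V := by
    have : x * t * x * t = x * (t * x * t) := by group
    rw [this]; exact V.mul_mem hxV hbV
  have htw : t * (x * t * x * t) = (x * t * x * t) * t := by
    calc t * (x * t * x * t) = (t * x * t * x) * t := by group
      _ = x * (t * x * t) * t := by rw [hbx]
      _ = x * t * x * t * t := by group
  have hww : (x * t * x * t) * (x * t * x * t) = 1 := hexp _ hwV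
  have hxx : x * x = 1 := hexp _ hxV
  have hCCt : V ⊓ Subgroup.center H ≤ V ⊓ Subgroup.centralizer ({t} : Set H) := by
    intro z hz
    rw [hmemCt]
    exact ⟨hz.1, (Subgroup.mem_center_iff.1 hz.2 t).symm⟩
  have hwCt : x * t * x * t ∈ V ⊓ Subgroup.centralizer ({t} : Set H) :=
    (hmemCt _).2 ⟨hwV, htw.symm⟩
  have hwC : x * t * x * t ∉ V ⊓ Subgroup.center H := by
    intro hw
    apply not_trivial_mod_central V e hexp hcent t htV ht (V ⊓ Subgroup.center H) inf_le_left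
      inf_le_right
    intro v hv
    rcases mem_or_mul_mem (V ⊓ Subgroup.centralizer ({t} : Set H)) V inf_le_left htr hxV hxCt hv
      with h | h
    · have h1 : t * v * t⁻¹ * v⁻¹ = 1 := by
        rw [← ((hmemCt v).1 h).2]; group
      rw [h1]; exact Subgroup.one_mem _
    · have h2 := ((hmemCt _).1 h).2
      have h1 : t * v * t⁻¹ * v⁻¹ = v * (x * t * x * t) * v⁻¹ := by
        calc t * v * t⁻¹ * v⁻¹ = (t * (v * x)) * x⁻¹ * t⁻¹ * v⁻¹ := by group
          _ = (v * x * t) * x⁻¹ * t⁻¹ * v⁻¹ := by rw [← h2]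
          _ = v * (x * t * x * t) * v⁻¹ := by rw [hinv x hxV, htinv]; group
      rw [h1, hab v hv _ hwV, mul_inv_cancel_right]
      exact hw
  refine ⟨x, x * t * x * t, hxV, hwV, rfl, htw, hwC, ?_⟩
  intro v hv
  have hcard2 : 2 * Nat.card ↥(V ⊓ Subgroup.center H) =
      Nat.card ↥(V ⊓ Subgroup.centralizer ({t} : Set H)) := by rw [hC, hCt4]
  rcases mem_or_mul_mem (V ⊓ Subgroup.centralizer ({t} : Set H)) V inf_le_left htr hxV hxCt hv
    with h | h
  · rcases mem_or_mul_mem (V ⊓ Subgroup.center H) (V ⊓ Subgroup.centralizer ({t} : Set H)) hCCt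
      hcard2 hwCt hwC h with h' | h'
    · exact ⟨v, h', Or.inl rfl⟩
    · refine ⟨_, h', Or.inr (Or.inl ?_)⟩
      rw [mul_assoc, hww, mul_one]
  · rcases mem_or_mul_mem (V ⊓ Subgroup.center H) (V ⊓ Subgroup.centralizer ({t} : Set H)) hCCt
      hcard2 hwCt hwC h with h' | h'
    · refine ⟨_, h', Or.inr (Or.inr (Or.inl ?_))⟩
      rw [mul_assoc, hxx, mul_one]
    · refine ⟨_, h', Or.inr (Or.inr (Or.inr ?_))⟩
      have : v * x * (x * t * x * t) * (x * t * x * t * x) =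
          v * x * ((x * t * x * t) * (x * t * x * t)) * x := by group
      rw [this, hww, mul_one, mul_assoc, hxx, mul_one]

/-- Route 2 (Gaschütz): a complement of `C = V ∩ Z(H)` in `H` -/
theorem exists_compl (e : H ⧸ V ≃* Equiv.Perm (Fin 3)) (hexp : ∀ v ∈ V, v * v = 1)
    (hcent : Subgroup.centralizer (V : Set H) ≤ V)
    (t : H) (htV : t ∉ V) (ht : t * t = 1)
    (htr : 2 * Nat.card ↥(V ⊓ Subgroup.centralizer ({t} : Set H)) = Nat.card ↥V)
    (hV8 : Nat.card ↥V = 8) (hH : Nat.card H = 48)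
    (hC : Nat.card ↥(V ⊓ Subgroup.center H) = 2) :
    ∃ K : Subgroup H, Nat.card ↥K = 24 ∧ ∀ z ∈ V ⊓ Subgroup.center H, z ∈ K → z = 1 := by
  classical
  have htinv : t⁻¹ = t := inv_eq_of_mul_eq_one_right ht
  have hinv : ∀ v ∈ V, v⁻¹ = v := fun v hv => inv_eq_of_mul_eq_one_right (hexp v hv)
  obtain ⟨x, w, hxV, hwV, hw, htw, hwC, hdec⟩ := exists_x_w V e hexp hcent t htV ht htr hV8 hC
  obtain ⟨U, hVU, htU, hUidx, hUmem⟩ := exists_U V e t htV ht
  have hww : w * w = 1 := hexp w hwV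
  have hxx : x * x = 1 := hexp x hxV
  -- the dihedral group `A`
  have hr2 : (x * t) * (x * t) = w := by rw [← hw]; group
  have hr4 : (x * t) ^ 4 = 1 := by
    rw [show (4 : ℕ) = 2 + 2 from rfl, pow_add, pow_two, hr2, hww]
  have hconj : t * (x * t) * t⁻¹ = (x * t)⁻¹ := by
    rw [mul_inv_rev, hinv x hxV, htinv, mul_assoc, mul_assoc, ht, mul_one]
  let f : DihedralGroup 4 →* H := Cfsg.Agent.Lib.Helper42.DSQWTrans.dihHom 4 (x * t) t hr4 ht hconj
  have htA : t ∈ f.range :=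
    ⟨DihedralGroup.sr 0, by
      show Cfsg.Agent.Lib.Helper42.DSQWTrans.dihHom 4 (x * t) t hr4 ht hconj (DihedralGroup.sr 0) = t
      rw [Cfsg.Agent.Lib.Helper42.DSQWTrans.dihHom_sr, ZMod.val_zero, pow_zero, mul_one]⟩
  have hrA : x * t ∈ f.range :=
    ⟨DihedralGroup.r 1, by
      show Cfsg.Agent.Lib.Helper42.DSQWTrans.dihHom 4 (x * t) t hr4 ht hconj (DihedralGroup.r 1) = x * t
      rw [Cfsg.Agent.Lib.Helper42.DSQWTrans.dihHom_r, ZMod.val_one'' (by norm_num), pow_one]⟩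
  have hxA : x ∈ f.range := by
    have : x = (x * t) * t := by rw [mul_assoc, ht, mul_one]
    rw [this]; exact f.range.mul_mem hrA htA
  have hwA : w ∈ f.range := by
    rw [← hr2]; exact f.range.mul_mem hrA hrA
  have hA8 : Nat.card ↥f.range ≤ 8 := by
    have := Nat.card_le_card_of_surjective f.rangeRestrict f.rangeRestrict_surjective
    rwa [DihedralGroup.nat_card] at this
  have hAU : f.range ≤ U := by
    rw [show f.range = Subgroup.closure {x * t, t} from
      Cfsg.Agent.Lib.Helper42.DSQWTrans.dihHom_range 4 (x * t) t hr4 ht hconj (by norm_num),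
      Subgroup.closure_le]
    rintro y (rfl | hy)
    · exact U.mul_mem (hVU hxV) htU
    · rw [Set.mem_singleton_iff] at hy
      rw [hy]; exact htU
  have hCU : V ⊓ Subgroup.center H ≤ U := fun z hz => hVU hz.1
  have hU16 : Nat.card ↥U = 16 := by
    have := Subgroup.card_mul_index U
    rw [hUidx, hH] at this
    omega
  -- `U = C A`
  have hVdec : ∀ v ∈ V, ∃ k : ↥(V ⊓ Subgroup.center H), ∃ a ∈ f.range, v = k * a := by
    intro v hv
    obtain ⟨k, hk, h | h | h | h⟩ := hdec v hv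
    · exact ⟨⟨k, hk⟩, 1, Subgroup.one_mem _, by rw [mul_one]; exact h⟩
    · exact ⟨⟨k, hk⟩, w, hwA, h⟩
    · exact ⟨⟨k, hk⟩, x, hxA, h⟩
    · exact ⟨⟨k, hk⟩, w * x, f.range.mul_mem hwA hxA, h⟩
  have hUdec : ∀ u ∈ U, ∃ k : ↥(V ⊓ Subgroup.center H), ∃ a ∈ f.range, u = k * a := by
    intro u hu
    rcases hUmem u hu with h | h
    · exact hVdec u h
    · obtain ⟨k, a, ha, hka⟩ := hVdec _ h
      refine ⟨k, t * a, f.range.mul_mem htA ha, ?_⟩
      have hkc := Subgroup.mem_center_iff.1 k.2.2 t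
      calc u = t * (t * u) := by rw [← mul_assoc, ht, one_mul]
        _ = t * ((k : H) * a) := by rw [hka]
        _ = (t * (k : H)) * a := by rw [mul_assoc]
        _ = ((k : H) * t) * a := by rw [hkc]
        _ = (k : H) * (t * a) := by rw [mul_assoc]
  -- `C ⊓ A = ⊥`
  have hCA : (V ⊓ Subgroup.center H) ⊓ f.range = ⊥ := by
    let g : ↥(V ⊓ Subgroup.center H) × ↥f.range → ↥U :=
      fun p => ⟨(p.1 : H) * (p.2 : H), U.mul_mem (hCU p.1.2) (hAU p.2.2)⟩
    have hgs : Function.Surjective g := by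
      rintro ⟨u, hu⟩
      obtain ⟨k, a, ha, hka⟩ := hUdec u hu
      exact ⟨(k, ⟨a, ha⟩), Subtype.ext hka.symm⟩
    have hgb : Function.Bijective g := by
      apply Function.Surjective.bijective_of_nat_card_le hgs
      rw [Nat.card_prod, hC, hU16]
      omega
    rw [Subgroup.eq_bot_iff_forall]
    intro z hz
    have h1 : g (⟨z, hz.1⟩, 1) = g (1, ⟨z, hz.2⟩) := by
      apply Subtype.ext
      show z * ((1 : ↥f.range) : H) = ((1 : ↥(V ⊓ Subgroup.center H)) : H) * z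
      rw [Subgroup.coe_one, Subgroup.coe_one, mul_one, one_mul]
    have h2 := hgb.1 h1
    have h3 := congrArg (fun p => ((p.1 : ↥(V ⊓ Subgroup.center H)) : H)) h2
    simpa using h3
  -- Gaschütz
  haveI : IsMulCommutative ↥(V ⊓ Subgroup.center H) :=
    ⟨⟨fun a b => Subtype.ext (Subgroup.mem_center_iff.1 b.2.2 (a : H))⟩⟩
  have hcop : (Nat.card ↥(V ⊓ Subgroup.center H)).Coprime U.index := by
    rw [hC, hUidx]; norm_num
  have hcompl := Cfsg.Agent.Lib.Helper52.GFun.ker_isComplement' hUdec hcop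
    (Cfsg.Agent.Lib.Helper52.GFun.ofComplU hCU hAU hCA hUdec)
  refine ⟨Cfsg.Agent.Lib.Helper52.GFun.ker hUdec
    (Cfsg.Agent.Lib.Helper52.GFun.ofComplU hCU hAU hCA hUdec), ?_, ?_⟩
  · have := hcompl.card_mul_card
    rw [hC, hH] at this
    omega
  · intro z hz hzK
    exact (Subgroup.disjoint_def.1 hcompl.disjoint) hz hzK

/-- module `[A-R2c]` of helper12's sheet for S2858 -/
theorem iso_of_card_48 (e : H ⧸ V ≃* Equiv.Perm (Fin 3)) (hexp : ∀ v ∈ V, v * v = 1)
    (hcent : Subgroup.centralizer (V : Set H) ≤ V)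
    (t : H) (htV : t ∉ V) (ht : t * t = 1)
    (htr : 2 * Nat.card ↥(V ⊓ Subgroup.centralizer ({t} : Set H)) = Nat.card ↥V)
    (hV8 : Nat.card ↥V = 8) (hH : Nat.card H = 48)
    (hC : Nat.card ↥(V ⊓ Subgroup.center H) = 2) :
    Nonempty (H ≃* Multiplicative (ZMod 2) × Equiv.Perm (Fin 4)) := by
  obtain ⟨K, hK, hcK⟩ := exists_compl V e hexp hcent t htV ht htr hV8 hH hC
  exact iso_of_compl V hexp hcent hV8 hH hC K hK hcK

end Cfsg.Agent.Lib.Helper7.AmalR2c
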