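/-
helper7: project ASCH, second sheet (helper99, notes/helper99_ASCH_BHR_modules.lean.txt), modules BHR-[P1], BHR-[P2] (hedges):
no subspace stabiliser / decomposition stabiliser contains the special linear group.  On top of helper93's `LinearBasics`.
-/
import Mathlib
import Cfsg.Prelude.Def_GeometricClasses
import Cfsg.Agent.Lib.Helper93.LinearBasics

set_option autoImplicit false

namespace Cfsg.Agent.Lib.Helper7.Bhr

open Cfsg Cfsg.Geo Cfsg.Agent.Lib.Helper93
open scoped MatrixGroups Matrix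

variable {n : ℕ} {F : Type*} [Field F]

/-- BHR-[P1], without the hypothesis on `n` -/
theorem not_sl_le_subspaceStabilizer_gen (W : Submodule F (Fin n → F)) (hW : W ≠ ⊥)
    (hW' : W ≠ ⊤) : ¬ specialLinear (Fin n) F ≤ subspaceStabilizer W := by
  intro hle
  obtain ⟨g, hg, hgW⟩ := exists_specialLinear_not_stab W hW hW'
  exact hgW (hle hg)

/-- BHR-[P2], without the hypothesis on `n` -/
theorem not_sl_le_decompositionStabilizer_gen {t : ℕ} (m : ℕ)
    (D : Fin t → Submodule F (Fin n → F)) (hD : IsMDecomposition m D) :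
    ¬ specialLinear (Fin n) F ≤ decompositionStabilizer D := by
  intro hle
  have ht := hD.two_le
  set i0 : Fin t := ⟨0, by omega⟩ with hi0
  set i1 : Fin t := ⟨1, by omega⟩ with hi1
  have h01 : i0 ≠ i1 := by
    intro h
    have := congrArg Fin.val h
    simp [hi0, hi1] at this
  -- nonzero vectors
  have hex : ∀ i, ∃ v ∈ D i, v ≠ 0 := by
    intro i
    have hpos : 0 < Module.finrank F (D i) := by rw [hD.finrank_eq i]; exact hD.pos
    obtain ⟨x, hx⟩ := Module.finrank_pos_iff_exists_ne_zero.1 hpos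
    exact ⟨x.1, x.2, fun h => hx (Subtype.ext h)⟩
  obtain ⟨v, hv, hv0⟩ := hex i0
  obtain ⟨w, hw, hw0⟩ := hex i1
  -- disjointness
  have hdisj : ∀ j : Fin t, ∀ x, x ∈ D j → x ∈ (⨆ k, ⨆ _ : k ≠ j, D k) → x = 0 := by
    intro j x hx hx'
    have := (hD.indep j).le_bot ⟨hx, hx'⟩
    exact (Submodule.mem_bot F).1 this
  have hle_sup : ∀ j k : Fin t, k ≠ j → D k ≤ ⨆ k, ⨆ _ : k ≠ j, D k := by
    intro j k hk
    exact le_iSup₂_of_le k hk le_rfl
  -- `v ∉ span {w}`
  have hvw : v ∉ Submodule.span F {w} := by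
    intro hmem
    rw [Submodule.mem_span_singleton] at hmem
    obtain ⟨c, hc⟩ := hmem
    have hv1 : v ∈ D i1 := by rw [← hc]; exact (D i1).smul_mem c hw
    exact hv0 (hdisj i0 v hv (hle_sup i0 i1 h01.symm hv1))
  obtain ⟨φ, hφ0, hφ1⟩ := exists_functional (Submodule.span F {w}) v hvw
  have hφw : φ ⬝ᵥ w = 0 := hφ0 w (Submodule.mem_span_singleton_self w)
  obtain ⟨σ, hσ⟩ := hle (tv_mem_specialLinear w φ hφw)
  -- `v + w ∈ D (σ i0)`
  have hmem : v + w ∈ D (σ i0) := by
    rw [← hσ i0]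
    refine ⟨v, hv, ?_⟩
    rw [Matrix.toLin'_apply, tv_mulVec, hφ1, one_smul]
  by_cases hj0 : σ i0 = i0
  · rw [hj0] at hmem
    have hw' : w ∈ D i0 := by
      have := (D i0).sub_mem hmem hv
      rwa [add_sub_cancel_left] at this
    exact hw0 (hdisj i0 w hw' (hle_sup i0 i1 h01.symm hw))
  by_cases hj1 : σ i0 = i1
  · rw [hj1] at hmem
    have hv' : v ∈ D i1 := by
      have := (D i1).sub_mem hmem hw
      rwa [add_sub_cancel_right] at this
    exact hv0 (hdisj i0 v hv (hle_sup i0 i1 h01.symm hv'))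
  · have hsum : v + w ∈ ⨆ k, ⨆ _ : k ≠ σ i0, D k :=
      Submodule.add_mem _ (hle_sup (σ i0) i0 (Ne.symm hj0) hv) (hle_sup (σ i0) i1 (Ne.symm hj1) hw)
    have hz := hdisj (σ i0) (v + w) hmem hsum
    have hv' : v ∈ D i1 := by
      have : v = -w := eq_neg_of_add_eq_zero_left hz
      rw [this]
      exact (D i1).neg_mem hw
    exact hv0 (hdisj i0 v hv (hle_sup i0 i1 h01.symm hv'))

/-- BHR-[P1], the statement of the sheet -/
theorem not_sl_le_subspaceStabilizer (hn : 2 ≤ n) (W : Submodule F (Fin n → F)) (hW : W ≠ ⊥)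
    (hW' : W ≠ ⊤) : ¬ specialLinear (Fin n) F ≤ subspaceStabilizer W :=
  not_sl_le_subspaceStabilizer_gen W hW hW'

/-- BHR-[P2], the statement of the sheet -/
theorem not_sl_le_decompositionStabilizer (hn : 3 ≤ n) {t : ℕ} (m : ℕ)
    (D : Fin t → Submodule F (Fin n → F)) (hD : IsMDecomposition m D) :
    ¬ specialLinear (Fin n) F ≤ decompositionStabilizer D :=
  not_sl_le_decompositionStabilizer_gen m D hD

end Cfsg.Agent.Lib.Helper7.Bhr
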