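import Cfsg.Prelude.Def_Sporadic_a

/-!
# Bitmask layer for the 24 points `GolayPt = Option (ZMod 23)`

Points are indexed by `idx : GolayPt → ℕ` (`some x ↦ x.val`, `none ↦ 23`), subsets / binary
words are encoded as natural numbers `m < 2^24` (bit `idx p` of `m` is the value at `p`).
-/

set_option autoImplicit false

namespace Cfsg.Agent.Lib.Helper7
open Cfsg

/-- Index of a point: `some x ↦ x.val`, `none ↦ 23`. -/
def idx : GolayPt → ℕ
  | none => 23
  | some x => x.val

/-- Point with a given index (only meaningful for `i < 24`). -/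
def pt (i : ℕ) : GolayPt := if i = 23 then none else some (i : ZMod 23)

theorem idx_lt (p : GolayPt) : idx p < 24 := by
  cases p with
  | none => decide
  | some x => exact lt_trans (ZMod.val_lt x) (by decide)

theorem pt_idx (p : GolayPt) : pt (idx p) = p := by
  cases p with
  | none => rfl
  | some x =>
    have h : x.val ≠ 23 := (ZMod.val_lt x).ne
    simp [pt, idx, h]

theorem idx_pt {i : ℕ} (h : i < 24) : idx (pt i) = i := by
  by_cases h23 : i = 23
  · subst h23; rfl
  · have : i < 23 := by omega
    simp only [pt, h23, if_false, idx]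
    rw [ZMod.val_natCast]
    exact Nat.mod_eq_of_lt this

theorem idx_injective : Function.Injective idx := by
  intro p q h
  rw [← pt_idx p, ← pt_idx q, h]

theorem idx_eq_iff {p q : GolayPt} : idx p = idx q ↔ p = q :=
  idx_injective.eq_iff

/-- The equivalence between the 24 points and `Fin 24`. -/
def idxEquiv : GolayPt ≃ Fin 24 where
  toFun p := ⟨idx p, idx_lt p⟩
  invFun i := pt i
  left_inv p := pt_idx p
  right_inv i := Fin.ext (idx_pt i.isLt)

/-- The binary word encoded by a mask. -/
def wordOf (m : ℕ) : GolayPt → ZMod 2 := fun p => if m.testBit (idx p) then 1 else 0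

/-- The set of points encoded by a mask. -/
def setOf (m : ℕ) : Finset GolayPt := Finset.univ.filter fun p => m.testBit (idx p) = true

theorem mem_setOf {m : ℕ} {p : GolayPt} : p ∈ setOf m ↔ m.testBit (idx p) = true := by
  simp [setOf]

theorem wordOf_apply (m : ℕ) (p : GolayPt) :
    wordOf m p = if m.testBit (idx p) then 1 else 0 := rfl

theorem wordOf_eq_one_iff {m : ℕ} {p : GolayPt} : wordOf m p = 1 ↔ m.testBit (idx p) = true := by
  unfold wordOf
  split_ifs with h
  · simp [h]
  · simp only [h]
    decide

theorem wordOf_ne_zero_iff {m : ℕ} {p : GolayPt} :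
    wordOf m p ≠ 0 ↔ m.testBit (idx p) = true := by
  unfold wordOf
  split_ifs with h
  · simp only [h, iff_true]
    decide
  · simp [h]

theorem wordOf_zero : wordOf 0 = 0 := by
  funext p
  simp [wordOf]

theorem wordOf_xor (m n : ℕ) : wordOf (m ^^^ n) = wordOf m + wordOf n := by
  funext p
  simp only [wordOf, Nat.testBit_xor, Pi.add_apply]
  cases m.testBit (idx p) <;> cases n.testBit (idx p) <;> decide

theorem support₂_wordOf (m : ℕ) : support₂ (wordOf m) = setOf m := by
  ext p
  simp only [support₂, Finset.mem_filter, Finset.mem_univ, true_and, mem_setOf]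
  exact wordOf_ne_zero_iff

theorem setOf_and (m n : ℕ) : setOf (m &&& n) = setOf m ∩ setOf n := by
  ext p
  simp [mem_setOf, Nat.testBit_and]

theorem setOf_or (m n : ℕ) : setOf (m ||| n) = setOf m ∪ setOf n := by
  ext p
  simp [mem_setOf, Nat.testBit_or]

theorem setOf_xor (m n : ℕ) : setOf (m ^^^ n) = symmDiff (setOf m) (setOf n) := by
  ext p
  simp only [mem_setOf, Nat.testBit_xor, Finset.mem_symmDiff]
  cases m.testBit (idx p) <;> cases n.testBit (idx p) <;> simp

theorem setOf_zero : setOf 0 = ∅ := by
  ext p
  simp [mem_setOf]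

/-- The all-ones mask. -/
def allMask : ℕ := 2 ^ 24 - 1

theorem testBit_allMask {i : ℕ} (h : i < 24) : allMask.testBit i = true := by
  unfold allMask
  rw [Nat.testBit_two_pow_sub_one]
  simpa using h

theorem wordOf_allMask : wordOf allMask = 1 := by
  funext p
  simp [wordOf, testBit_allMask (idx_lt p)]

theorem setOf_allMask : setOf allMask = Finset.univ := by
  ext p
  simp [mem_setOf, testBit_allMask (idx_lt p)]

/-- Every binary word is encoded by a mask below `2^24`. -/
theorem exists_mask (w : GolayPt → ZMod 2) : ∃ m < 2 ^ 24, wordOf m = w := by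
  refine ⟨Nat.ofBits (fun i : Fin 24 => decide (w (pt i) ≠ 0)), Nat.ofBits_lt_two_pow _, ?_⟩
  funext p
  unfold wordOf
  rw [Nat.testBit_ofBits_lt _ _ (idx_lt p)]
  simp only [pt_idx, ne_eq, decide_not, Bool.not_eq_eq_eq_not, Bool.not_true, decide_eq_false_iff_not,
    ite_not]
  have : w p = 0 ∨ w p = 1 := by
    generalize w p = a
    revert a; decide
  rcases this with h | h <;> simp [h]

theorem wordOf_injOn {m n : ℕ} (hm : m < 2 ^ 24) (hn : n < 2 ^ 24) (h : wordOf m = wordOf n) :
    m = n := by
  apply Nat.eq_of_testBit_eq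
  intro i
  by_cases hi : i < 24
  · have := congrFun h (pt i)
    simp only [wordOf, idx_pt hi] at this
    cases hmi : m.testBit i <;> cases hni : n.testBit i <;> simp_all
  · have hi' : 24 ≤ i := by omega
    rw [Nat.testBit_lt_two_pow (lt_of_lt_of_le hm (Nat.pow_le_pow_right (by decide) hi')),
      Nat.testBit_lt_two_pow (lt_of_lt_of_le hn (Nat.pow_le_pow_right (by decide) hi'))]

theorem setOf_injOn {m n : ℕ} (hm : m < 2 ^ 24) (hn : n < 2 ^ 24) (h : setOf m = setOf n) :
    m = n := by
  apply wordOf_injOn hm hn
  funext p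
  have : p ∈ setOf m ↔ p ∈ setOf n := by rw [h]
  simp only [mem_setOf] at this
  simp only [wordOf]
  cases hmi : m.testBit (idx p) <;> cases hni : n.testBit (idx p) <;> simp_all

/-- Every finset of points is encoded by a mask below `2^24`. -/
theorem exists_mask_finset (s : Finset GolayPt) : ∃ m < 2 ^ 24, setOf m = s := by
  refine ⟨Nat.ofBits (fun i : Fin 24 => decide (pt i ∈ s)), Nat.ofBits_lt_two_pow _, ?_⟩
  ext p
  rw [mem_setOf, Nat.testBit_ofBits_lt _ _ (idx_lt p)]
  simp [pt_idx]

/-- Number of one bits among the lowest 24 bits. -/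
def pc (m : ℕ) : ℕ := ((List.range 24).filter fun i => m.testBit i).length

theorem card_setOf (m : ℕ) : (setOf m).card = pc m := by
  unfold pc setOf
  rw [← Finset.card_map idxEquiv.toEmbedding]
  have : (Finset.univ.filter fun p => m.testBit (idx p) = true).map idxEquiv.toEmbedding
      = Finset.univ.filter fun i : Fin 24 => m.testBit i = true := by
    ext i
    simp only [Finset.mem_map, Finset.mem_filter, Finset.mem_univ, true_and,
      Equiv.coe_toEmbedding]
    constructor
    · rintro ⟨p, hp, rfl⟩
      exact hp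
    · intro hi
      exact ⟨pt i, by rw [idx_pt i.isLt]; exact hi, idxEquiv.apply_symm_apply i⟩
  rw [this]
  rw [← Finset.card_map Fin.valEmbedding]
  have h2 : (Finset.univ.filter fun i : Fin 24 => m.testBit i = true).map Fin.valEmbedding
      = (Finset.range 24).filter fun i => m.testBit i = true := by
    ext i
    simp only [Finset.mem_map, Finset.mem_filter, Finset.mem_univ, true_and,
      Fin.valEmbedding_apply, Finset.mem_range]
    constructor
    · rintro ⟨j, hj, rfl⟩
      exact ⟨j.isLt, hj⟩
    · rintro ⟨hi, hm⟩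
      exact ⟨⟨i, hi⟩, hm, rfl⟩
  rw [h2]
  rw [← List.toFinset_range, ← List.toFinset_filter,
    List.toFinset_card_of_nodup (List.nodup_range.filter _)]

theorem hammingNorm_wordOf (m : ℕ) : hammingNorm (wordOf m) = pc m := by
  rw [← card_setOf, ← support₂_wordOf]
  rfl

end Cfsg.Agent.Lib.Helper7
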