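/-
helper7: project FW (S3211, helper2's sheet Lib/Helper2/FW_MODULES.md), module [FW-HYP] `hyp_of` (hedge).
-/
import Mathlib
import Cfsg.Agent.Lib.Helper2.FWDefs
import Cfsg.Agent.Lib.Helper12.AmalGen

set_option autoImplicit false

namespace Cfsg.Agent.Lib.Helper7.FW

open Cfsg.Agent.Lib.Helper2.FW

variable {G : Type*} [Group G] {L₁ L₂ : Subgroup G} {j n : G}

/-- the elements of `⟨j⟩` for an involution `j` -/
theorem mem_zpowers_of_order_two (hj : orderOf j = 2) {x : G} (hx : x ∈ Subgroup.zpowers j) :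
    x = 1 ∨ x = j := by
  obtain ⟨k, rfl⟩ := Subgroup.mem_zpowers_iff.1 hx
  have h := zpow_mod_orderOf j k
  rw [hj] at h
  rcases Int.emod_two_eq_zero_or_one k with h0 | h1
  · left
    rw [← h]
    have : k % ((2 : ℕ) : ℤ) = 0 := by exact_mod_cast h0
    rw [this, zpow_zero]
  · right
    rw [← h]
    have : k % ((2 : ℕ) : ℤ) = 1 := by exact_mod_cast h1
    rw [this, zpow_one]

/-- [FW-HYP] the hypotheses of S3211 give `Hyp`. -/
theorem hyp_of [Finite G] (h₁ : SL2Like L₁ j) (h₂ : SL2Like L₂ j)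
    (hc : ∀ x ∈ L₁, ∀ y ∈ L₂, x * y = y * x) (hj : orderOf j = 2)
    (hm : L₁ ⊓ L₂ = Subgroup.zpowers j)
    (hle : L₁ ⊔ L₂ ≤ Subgroup.centralizer ({j} : Set G))
    (hi : (L₁ ⊔ L₂).relIndex (Subgroup.centralizer ({j} : Set G)) = 2)
    (hn : n ∈ Subgroup.centralizer ({j} : Set G)) (hn2 : n ^ 2 = j)
    (hswap : L₁.map (MulAut.conj n).toMonoidHom = L₂) : Hyp L₁ L₂ j n := by
  have hj1 : j ≠ 1 := by
    intro h
    rw [h, orderOf_one] at hj
    omega
  have hjsq : j * j = 1 := by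
    have := pow_orderOf_eq_one j
    rwa [hj, pow_two] at this
  have hjm : j ∈ L₁ ⊓ L₂ := by rw [hm]; exact Subgroup.mem_zpowers j
  have hinter : ∀ x, x ∈ L₁ → x ∈ L₂ → x = 1 ∨ x = j := by
    intro x hx1 hx2
    have : x ∈ L₁ ⊓ L₂ := ⟨hx1, hx2⟩
    rw [hm] at this
    exact mem_zpowers_of_order_two hj this
  have hcent₁ : ∀ x ∈ L₁, x * j = j * x := fun x hx =>
    Subgroup.mem_centralizer_singleton_iff.1 (hle (Subgroup.mem_sup_left hx))
  have hcent₂ : ∀ y ∈ L₂, y * j = j * y := fun y hy =>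
    Subgroup.mem_centralizer_singleton_iff.1 (hle (Subgroup.mem_sup_right hy))
  have hnj : n * j = j * n := Subgroup.mem_centralizer_singleton_iff.1 hn
  have hnn : n * n = j := by rw [← pow_two]; exact hn2
  have hswap₁ : ∀ x ∈ L₁, n * x * n⁻¹ ∈ L₂ := by
    intro x hx
    rw [← hswap]
    exact ⟨x, hx, by simp [MulAut.conj_apply]⟩
  have hswap₂ : ∀ y ∈ L₂, n * y * n⁻¹ ∈ L₁ := by
    intro y hy
    rw [← hswap] at hy
    obtain ⟨x, hx, rfl⟩ := hy
    have e : n * ((MulAut.conj n).toMonoidHom x) * n⁻¹ = (n * n) * x * (n * n)⁻¹ := by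
      simp only [MulEquiv.coe_toMonoidHom, MulAut.conj_apply]
      group
    rw [e, hnn]
    have : j * x * j⁻¹ = x := by
      rw [← hcent₁ x hx]
      group
    rw [this]
    exact hx
  -- `n ∉ L₁ ⊔ L₂`
  have hnM : n ∉ L₁ ⊔ L₂ := by
    intro hmem
    obtain ⟨a, ha, b, hb, hab⟩ := (Cfsg.Agent.Lib.Helper12.Amal.mem_sup_of_commute hc).1 hmem
    obtain ⟨x, hx2, hx1, hxj⟩ := h₂.big
    -- `x ∈ L₂ = n L₁ n⁻¹ ≤ L₁`
    have hx' := hx2
    rw [← hswap] at hx'
    obtain ⟨z, hz, rfl⟩ := hx'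
    have e : (MulAut.conj n).toMonoidHom z = a * z * a⁻¹ := by
      simp only [MulEquiv.coe_toMonoidHom, MulAut.conj_apply]
      rw [hab]
      have h1 := hc z hz b hb
      calc a * b * z * (a * b)⁻¹ = a * (b * z) * b⁻¹ * a⁻¹ := by group
        _ = a * (z * b) * b⁻¹ * a⁻¹ := by rw [h1]
        _ = a * z * a⁻¹ := by group
    have hzL : (MulAut.conj n).toMonoidHom z ∈ L₁ := by
      rw [e]
      exact L₁.mul_mem (L₁.mul_mem ha hz) (L₁.inv_mem ha)
    rcases hinter _ hzL hx2 with h | h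
    · exact hx1 h
    · exact hxj h
  have hcover : ∀ k, k * j = j * k → InL L₁ L₂ k ∨ ∃ x ∈ L₁, ∃ y ∈ L₂, k = n * (x * y) := by
    intro k hk
    have hkC : k ∈ Subgroup.centralizer ({j} : Set G) :=
      Subgroup.mem_centralizer_singleton_iff.2 hk
    by_cases hkM : k ∈ L₁ ⊔ L₂
    · left
      exact (Cfsg.Agent.Lib.Helper12.Amal.mem_sup_of_commute hc).1 hkM
    · right
      have hn' : n⁻¹ ∉ L₁ ⊔ L₂ := fun h => hnM (by simpa using Subgroup.inv_mem _ h)
      have hmem : n⁻¹ * k ∈ L₁ ⊔ L₂ := by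
        rw [Cfsg.Agent.Lib.Helper12.Amal.mul_mem_iff_of_relIndex_two hi (Subgroup.inv_mem _ hn) hkC]
        exact ⟨fun h => absurd h hn', fun h => absurd h hkM⟩
      obtain ⟨x, hx, y, hy, hxy⟩ :=
        (Cfsg.Agent.Lib.Helper12.Amal.mem_sup_of_commute hc).1 hmem
      refine ⟨x, hx, y, hy, ?_⟩
      rw [← hxy]
      group
  exact
    { j_ne := hj1
      j_sq := hjsq
      j_mem₁ := hjm.1
      j_mem₂ := hjm.2
      comm := hc
      inter := hinter
      cent₁ := hcent₁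
      cent₂ := hcent₂
      n_comm := hnj
      n_sq := hnn
      swap₁ := hswap₁
      swap₂ := hswap₂
      cover := hcover
      invol₁ := h₁.invol
      invol₂ := h₂.invol
      abel₁ := h₁.abel
      abel₂ := h₂.abel
      conj₁ := h₁.conj
      conj₂ := h₂.conj }

end Cfsg.Agent.Lib.Helper7.FW
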