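/-
helper7: project FW (S3211, helper2's sheet Lib/Helper2/FW_MODULES.md), modules [FW-M0] `sl2_invol` and
[FW-M1] `sl2_abel` (hedges), entrywise, on top of helper53's `SL2Unipotent`.
-/
import Mathlib
import Cfsg.Agent.Lib.Helper2.FWDefs
import Cfsg.Agent.Lib.Helper53.SL2Unipotent

set_option autoImplicit false

namespace Cfsg.Agent.Lib.Helper7.FW

open Cfsg.Agent.Lib.Helper2.FW Cfsg.Agent.Lib.Helper53

/-- [FW-M0] the only involution of `SL₂(F)`, `2 ≠ 0`, is `-1`. -/
theorem sl2_invol {F : Type*} [Field F] (h2 : (2 : F) ≠ 0)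
    (x : Matrix.SpecialLinearGroup (Fin 2) F) (hx : x * x = 1) : x = 1 ∨ x = -1 := by
  by_cases h1 : x = 1
  · exact Or.inl h1
  · right
    obtain ⟨a1, a2, a3, a4⟩ := sq_eq_one_entries h2 x hx h1
    apply sl2_ext
    · rw [a1]; simp
    · rw [a2]; simp
    · rw [a3]; simp
    · rw [a4]; simp

/-- a vector whose cross product with `w ≠ 0` vanishes is a multiple of `w` -/
theorem prop_of_cross {F : Type*} [Field F] {w1 w2 w3 a1 a2 a3 : F}
    (hw : w1 ≠ 0 ∨ w2 ≠ 0 ∨ w3 ≠ 0) (h12 : a1 * w2 = w1 * a2) (h13 : w1 * a3 = a1 * w3)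
    (h23 : w2 * a3 = a2 * w3) : ∃ c : F, a1 = c * w1 ∧ a2 = c * w2 ∧ a3 = c * w3 := by
  rcases hw with h | h | h
  · refine ⟨a1 / w1, (div_mul_cancel₀ a1 h).symm, ?_, ?_⟩
    · rw [div_mul_eq_mul_div, eq_div_iff h]
      linear_combination (-1 : F) * h12
    · rw [div_mul_eq_mul_div, eq_div_iff h]
      linear_combination h13
  · refine ⟨a2 / w2, ?_, (div_mul_cancel₀ a2 h).symm, ?_⟩
    · rw [div_mul_eq_mul_div, eq_div_iff h]
      linear_combination h12
    · rw [div_mul_eq_mul_div, eq_div_iff h]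
      linear_combination h23
  · refine ⟨a3 / w3, ?_, ?_, (div_mul_cancel₀ a3 h).symm⟩
    · rw [div_mul_eq_mul_div, eq_div_iff h]
      linear_combination (-1 : F) * h13
    · rw [div_mul_eq_mul_div, eq_div_iff h]
      linear_combination (-1 : F) * h23

/-- [FW-M1] the centralizer in `SL₂(F)` of a square root of `-1` is commutative. -/
theorem sl2_abel {F : Type*} [Field F] (h2 : (2 : F) ≠ 0)
    (a x y : Matrix.SpecialLinearGroup (Fin 2) F) (ha : a * a = -1) (hx : x * a = a * x)
    (hy : y * a = a * y) : x * y = y * x := by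
  have a00 := congrArg (fun m : Matrix.SpecialLinearGroup (Fin 2) F => m.1 0 0) ha
  have x00 := congrArg (fun m : Matrix.SpecialLinearGroup (Fin 2) F => m.1 0 0) hx
  have x01 := congrArg (fun m : Matrix.SpecialLinearGroup (Fin 2) F => m.1 0 1) hx
  have x10 := congrArg (fun m : Matrix.SpecialLinearGroup (Fin 2) F => m.1 1 0) hx
  have y00 := congrArg (fun m : Matrix.SpecialLinearGroup (Fin 2) F => m.1 0 0) hy
  have y01 := congrArg (fun m : Matrix.SpecialLinearGroup (Fin 2) F => m.1 0 1) hy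
  have y10 := congrArg (fun m : Matrix.SpecialLinearGroup (Fin 2) F => m.1 1 0) hy
  simp only [sl2_mul_val] at a00 x00 x01 x10 y00 y01 y10
  simp at a00 x00 x01 x10 y00 y01 y10
  have hdet := sl2_det a
  set p := a.1 0 0
  set q := a.1 0 1
  set r := a.1 1 0
  set s := a.1 1 1
  set x0 := x.1 0 0
  set x1 := x.1 0 1
  set x2 := x.1 1 0
  set x3 := x.1 1 1
  set y0 := y.1 0 0
  set y1 := y.1 0 1
  set y2 := y.1 1 0
  set y3 := y.1 1 1
  -- the relations: `X × w = 0`, `Y × w = 0` for `w = (q, r, p - s)`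
  have X1 : x1 * r = q * x2 := by linear_combination x00
  have X2 : q * (x0 - x3) = x1 * (p - s) := by linear_combination x01
  have X3 : r * (x0 - x3) = x2 * (p - s) := by linear_combination (-1 : F) * x10
  have Y1 : y1 * r = q * y2 := by linear_combination y00
  have Y2 : q * (y0 - y3) = y1 * (p - s) := by linear_combination y01
  have Y3 : r * (y0 - y3) = y2 * (p - s) := by linear_combination (-1 : F) * y10
  -- `w ≠ 0`
  have hw : q ≠ 0 ∨ r ≠ 0 ∨ p - s ≠ 0 := by
    by_contra hcon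
    push Not at hcon
    obtain ⟨hq, hr, hps⟩ := hcon
    have hps' : p = s := sub_eq_zero.mp hps
    rw [hq, hr, ← hps'] at hdet
    rw [hq, hr] at a00
    apply h2
    linear_combination a00 - hdet
  obtain ⟨c, hc1, hc2, hc3⟩ := prop_of_cross hw X1 X2 X3
  obtain ⟨e, he1, he2, he3⟩ := prop_of_cross hw Y1 Y2 Y3
  apply sl2_ext
  all_goals simp only [sl2_mul_val]
  all_goals simp
  · linear_combination y2 * hc1 + c * q * he2 - x2 * he1 - e * q * hc2
  · linear_combination y1 * hc3 - x1 * he3 + c * (p - s) * he1 - e * (p - s) * hc1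
  · linear_combination x2 * he3 - y2 * hc3 + e * (p - s) * hc2 - c * (p - s) * he2
  · linear_combination y1 * hc2 - x1 * he2 + c * r * he1 - e * r * hc1

end Cfsg.Agent.Lib.Helper7.FW
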