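import Cfsg.Agent.Lib.Helper7.Bits

/-!
# The concrete code `golayCode` in bitmask form

`enc c` for `c < 4096` enumerates the masks of the 4096 words of `golayCode` (systematic encoding:
the low 12 bits of `enc c` are `c`).
-/

set_option autoImplicit false

namespace Cfsg.Agent.Lib.Helper7
open Cfsg

/-- Masks of the generators `qrWord t`, `t = 0, …, 22`. -/
def qrMasks : List ℕ :=
  [0x5335f, 0xa66be, 0x14cd7c, 0x299af8, 0x5335f0, 0x266be1, 0x4cd7c2, 0x19af85, 0x335f0a,
   0x66be14, 0x4d7c29, 0x1af853, 0x35f0a6, 0x6be14c, 0x57c299, 0x2f8533, 0x5f0a66, 0x3e14cd,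
   0x7c299a, 0x785335, 0x70a66b, 0x614cd7, 0x4299af]

/-- Mask of the generator `qrWord t`. -/
def qrMask (t : ℕ) : ℕ := qrMasks.getD t 0

set_option maxRecDepth 100000 in
theorem wordOf_qrMask : ∀ t : ZMod 23, ∀ p : GolayPt, wordOf (qrMask t.val) p = qrWord t p := by
  decide

theorem wordOf_qrMask' (t : ZMod 23) : wordOf (qrMask t.val) = qrWord t :=
  funext (wordOf_qrMask t)

/-- The systematic basis (twelve octads); `basisMasks[j]` has bit `j` set and no other bit
below 12. -/
def basisMasks : List ℕ :=
  [0xc75001, 0x49f002, 0xd4b004, 0x6e3008, 0x9b3010, 0xb66020, 0xecc040, 0x1ed080, 0x3da100,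
   0x7b4200, 0xb1d400, 0xe3a800]

/-- XOR of the members of `bs` selected by the bits `j, j+1, …` of `c`. -/
def encL : List ℕ → ℕ → ℕ → ℕ
  | [], _, _ => 0
  | b :: bs, j, c => (if c.testBit j then b else 0) ^^^ encL bs (j + 1) c

/-- The systematic encoder: `enc c` is the mask of the code word with information bits `c`. -/
def enc (c : ℕ) : ℕ := encL basisMasks 0 c

theorem encL_xor (bs : List ℕ) (j c c' : ℕ) :
    encL bs j (c ^^^ c') = encL bs j c ^^^ encL bs j c' := by
  induction bs generalizing j with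
  | nil => simp [encL]
  | cons b bs ih =>
    simp only [encL, ih, Nat.testBit_xor]
    cases c.testBit j <;> cases c'.testBit j <;>
      simp [Nat.xor_assoc, Nat.xor_left_comm]

theorem enc_xor (c c' : ℕ) : enc (c ^^^ c') = enc c ^^^ enc c' := encL_xor _ _ _ _

theorem golay_one_mem' : (1 : GolayPt → ZMod 2) ∈ golayCode :=
  Submodule.subset_span (Or.inr rfl)

theorem golay_qrWord_mem (s : ZMod 23) : qrWord s ∈ golayCode :=
  Submodule.subset_span (Or.inl ⟨s, rfl⟩)

/-- XOR of a list of masks. -/
def xorL : List ℕ → ℕ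
  | [] => 0
  | a :: l => a ^^^ xorL l

theorem wordOf_xorL_qrMask_mem (l : List (ZMod 23)) :
    wordOf (xorL (l.map fun t => qrMask t.val)) ∈ golayCode := by
  induction l with
  | nil => simp only [List.map_nil, xorL, wordOf_zero]; exact golayCode.zero_mem
  | cons a l ih =>
    simp only [List.map_cons, xorL, wordOf_xor]
    refine golayCode.add_mem ?_ ih
    rw [wordOf_qrMask']
    exact golay_qrWord_mem a

/-- Each basis mask as a combination of generators. -/
def basisCombos : List (List (ZMod 23) × Bool) :=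
  [([9, 12, 13], true), ([3, 4, 8], false), ([14, 17, 22], true), ([0, 3, 22], false),
   ([0, 7, 19], true), ([1, 8, 20], true), ([2, 9, 21], true), ([10, 15, 18], false),
   ([11, 16, 19], false), ([12, 17, 20], false), ([7, 10, 11], true), ([8, 11, 12], true)]

theorem basisMasks_eq : basisMasks = basisCombos.map fun lb =>
    xorL (lb.1.map fun t => qrMask t.val) ^^^ (if lb.2 then allMask else 0) := by
  decide

theorem wordOf_basis_mem : ∀ b ∈ basisMasks, wordOf b ∈ golayCode := by
  rw [basisMasks_eq]
  intro b hb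
  rw [List.mem_map] at hb
  obtain ⟨lb, _, rfl⟩ := hb
  rw [wordOf_xor]
  refine golayCode.add_mem (wordOf_xorL_qrMask_mem _) ?_
  cases lb.2
  · simp only [Bool.false_eq_true, if_false, wordOf_zero]; exact golayCode.zero_mem
  · simp only [if_true, wordOf_allMask]; exact golay_one_mem'

theorem wordOf_encL_mem (bs : List ℕ) (h : ∀ b ∈ bs, wordOf b ∈ golayCode) (j c : ℕ) :
    wordOf (encL bs j c) ∈ golayCode := by
  induction bs generalizing j with
  | nil => simp only [encL, wordOf_zero]; exact golayCode.zero_mem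
  | cons b bs ih =>
    simp only [encL, wordOf_xor]
    refine golayCode.add_mem ?_ (ih (fun b' hb' => h b' (List.mem_cons_of_mem _ hb')) _)
    split_ifs
    · exact h b List.mem_cons_self
    · rw [wordOf_zero]; exact golayCode.zero_mem

theorem wordOf_enc_mem (c : ℕ) : wordOf (enc c) ∈ golayCode :=
  wordOf_encL_mem _ wordOf_basis_mem _ _

theorem enc_qrMask : ∀ t < 23, enc (qrMask t % 4096) = qrMask t := by
  decide

theorem enc_allMask : enc 4095 = allMask := by
  decide

/-- Splitting a bounded quantifier over `c < 4096` into two nested ones (keeps kernel recursion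
shallow). -/
theorem forall_lt_4096 {P : ℕ → Prop} (h : ∀ a < 64, ∀ b < 64, P (64 * a + b)) :
    ∀ c < 4096, P c := by
  intro c hc
  have := h (c / 64) (by omega) (c % 64) (by omega)
  rwa [show 64 * (c / 64) + c % 64 = c by omega] at this

theorem xorL_lt (l : List ℕ) (h : ∀ b ∈ l, b < 2 ^ 24) : xorL l < 2 ^ 24 := by
  induction l with
  | nil => simp [xorL]
  | cons a l ih =>
    simp only [xorL]
    exact Nat.xor_lt_two_pow (h a List.mem_cons_self)
      (ih fun b hb => h b (List.mem_cons_of_mem _ hb))

theorem encL_lt (bs : List ℕ) (h : ∀ b ∈ bs, b < 2 ^ 24) (j c : ℕ) : encL bs j c < 2 ^ 24 := by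
  induction bs generalizing j with
  | nil => simp [encL]
  | cons b bs ih =>
    simp only [encL]
    refine Nat.xor_lt_two_pow ?_ (ih (fun b' hb' => h b' (List.mem_cons_of_mem _ hb')) _)
    split_ifs
    · exact h b List.mem_cons_self
    · exact Nat.two_pow_pos 24

theorem enc_lt (c : ℕ) : enc c < 2 ^ 24 :=
  encL_lt _ (by decide) _ _

/-- Membership in `golayCode` in terms of the encoder. -/
theorem mem_golayCode_iff (w : GolayPt → ZMod 2) :
    w ∈ golayCode ↔ ∃ c < 4096, w = wordOf (enc c) := by
  constructor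
  · intro hw
    refine Submodule.span_induction (p := fun w _ => ∃ c < 4096, w = wordOf (enc c)) ?_ ?_ ?_ ?_ hw
    · rintro x (⟨t, rfl⟩ | hx)
      · refine ⟨qrMask t.val % 4096, Nat.mod_lt _ (by decide), ?_⟩
        rw [enc_qrMask t.val (ZMod.val_lt t), wordOf_qrMask']
      · rw [Set.mem_singleton_iff] at hx
        subst hx
        exact ⟨4095, by decide, by rw [enc_allMask, wordOf_allMask]⟩
    · exact ⟨0, by decide, by rw [show enc 0 = 0 by decide, wordOf_zero]⟩
    · rintro x y _ _ ⟨c, hc, rfl⟩ ⟨c', hc', rfl⟩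
      refine ⟨c ^^^ c', Nat.xor_lt_two_pow (n := 12) hc hc', ?_⟩
      rw [enc_xor, wordOf_xor]
    · rintro a x _ ⟨c, hc, rfl⟩
      have : a = 0 ∨ a = 1 := by revert a; decide
      rcases this with rfl | rfl
      · exact ⟨0, by decide, by rw [zero_smul, show enc 0 = 0 by decide, wordOf_zero]⟩
      · exact ⟨c, hc, by rw [one_smul]⟩
  · rintro ⟨c, _, rfl⟩
    exact wordOf_enc_mem c

/-- The weights of the code words. -/
def goodWeight (n : ℕ) : Bool := n == 0 || n == 8 || n == 12 || n == 16 || n == 24

/-- One pass over all 4096 code words: the weight is 0, 8, 12, 16 or 24 and the encoder is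
systematic. -/
theorem enc_pass : ∀ c < 4096, goodWeight (pc (enc c)) = true ∧ enc c % 4096 = c := by
  apply forall_lt_4096
  decide +kernel

theorem pc_enc_good (c : ℕ) (hc : c < 4096) : goodWeight (pc (enc c)) = true :=
  (enc_pass c hc).1

theorem enc_mod (c : ℕ) (hc : c < 4096) : enc c % 4096 = c :=
  (enc_pass c hc).2

theorem enc_injOn {c c' : ℕ} (hc : c < 4096) (hc' : c' < 4096) (h : enc c = enc c') : c = c' := by
  rw [← enc_mod c hc, ← enc_mod c' hc', h]

theorem goodWeight_iff (n : ℕ) :
    goodWeight n = true ↔ n = 0 ∨ n = 8 ∨ n = 12 ∨ n = 16 ∨ n = 24 := by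
  simp [goodWeight, or_assoc]

/-- The weights of `golayCode` (this is statement S0359). -/
theorem golay_weight {w : GolayPt → ZMod 2} (hw : w ∈ golayCode) :
    hammingNorm w = 0 ∨ hammingNorm w = 8 ∨ hammingNorm w = 12 ∨ hammingNorm w = 16 ∨
      hammingNorm w = 24 := by
  obtain ⟨c, hc, rfl⟩ := (mem_golayCode_iff w).mp hw
  rw [hammingNorm_wordOf, ← goodWeight_iff]
  exact pc_enc_good c hc

theorem card_support₂_eq_hammingNorm (w : GolayPt → ZMod 2) :
    (support₂ w).card = hammingNorm w := rfl

theorem golay_doubly_even {w : GolayPt → ZMod 2} (hw : w ∈ golayCode) :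
    4 ∣ (support₂ w).card := by
  rw [card_support₂_eq_hammingNorm]
  rcases golay_weight hw with h | h | h | h | h <;> rw [h] <;> decide

theorem golay_min_weight {w : GolayPt → ZMod 2} (hw : w ∈ golayCode) (h0 : w ≠ 0) :
    8 ≤ (support₂ w).card := by
  rw [card_support₂_eq_hammingNorm]
  rcases golay_weight hw with h | h | h | h | h
  · exact absurd (hammingNorm_eq_zero.mp h) h0
  all_goals omega

end Cfsg.Agent.Lib.Helper7
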