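import Cfsg.Agent.Lib.Helper7.SteinerIso

/-!
# Automorphism groups of set systems: transport along isomorphisms, and a rigidity step
-/

set_option autoImplicit false

namespace Cfsg.Agent.Lib.Helper7
open Cfsg
open scoped Pointwise

section General
variable {α β : Type*} [DecidableEq α] [DecidableEq β]

theorem image_mem_of_mem_setSystemAut {B : Set (Finset α)} {g : Equiv.Perm α}
    (hg : g ∈ setSystemAut B) {b : Finset α} (hb : b ∈ B) : b.image g ∈ B := by
  have h1 : g • b ∈ g • B := Set.smul_mem_smul_set hb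
  rw [MulAction.mem_stabilizer_iff.mp hg] at h1
  exact h1

theorem mem_setSystemAut_of_forall {B : Set (Finset α)} {g : Equiv.Perm α}
    (h1 : ∀ b ∈ B, b.image g ∈ B) (h2 : ∀ b ∈ B, b.image (g⁻¹ : Equiv.Perm α) ∈ B) :
    g ∈ setSystemAut B := by
  rw [MulAction.mem_stabilizer_iff]
  apply Set.Subset.antisymm
  · rintro c ⟨b, hb, rfl⟩
    exact h1 b hb
  · intro b hb
    rw [Set.mem_smul_set_iff_inv_smul_mem]
    exact h2 b hb

theorem image_permCongr (e : α ≃ β) (g : Equiv.Perm α) (b : Finset α) :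
    (b.image e).image (e.permCongr g) = (b.image g).image e := by
  rw [Finset.image_image, Finset.image_image]
  congr 1
  funext a
  simp [Equiv.permCongr_apply]

theorem permCongr_mem_setSystemAut {B : Set (Finset α)} (e : α ≃ β) {g : Equiv.Perm α}
    (hg : g ∈ setSystemAut B) : e.permCongr g ∈ setSystemAut ((fun b => b.image e) '' B) := by
  have key : ∀ k ∈ setSystemAut B, ∀ c ∈ (fun b => b.image e) '' B,
      c.image (e.permCongr k) ∈ (fun b => b.image e) '' B := by
    rintro k hk c ⟨b, hb, rfl⟩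
    exact ⟨b.image k, image_mem_of_mem_setSystemAut hk hb, (image_permCongr e k b).symm⟩
  apply mem_setSystemAut_of_forall (key g hg)
  have : (e.permCongr g)⁻¹ = e.permCongr g⁻¹ := (map_inv e.permCongrHom g).symm
  rw [this]
  exact key g⁻¹ ((setSystemAut B).inv_mem hg)

theorem image_symm_image (e : α ≃ β) (B : Set (Finset α)) :
    (fun b => b.image e.symm) '' ((fun b => b.image e) '' B) = B := by
  rw [Set.image_image]
  convert Set.image_id B using 2
  simp [Finset.image_image]

theorem symm_permCongr_mem_setSystemAut {B : Set (Finset α)} (e : α ≃ β) {g : Equiv.Perm β}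
    (hg : g ∈ setSystemAut ((fun b => b.image e) '' B)) : e.symm.permCongr g ∈ setSystemAut B := by
  have := permCongr_mem_setSystemAut e.symm hg
  rwa [image_symm_image] at this

theorem coe_smul_emb {B : Set (Finset α)} {n : ℕ} (g : setSystemAut B) (x : Fin n ↪ α) (i : Fin n) :
    (g • x) i = (g : Equiv.Perm α) (x i) := rfl

/-- Multiple transitivity of the automorphism group is invariant under isomorphism. -/
theorem isMultiplyPretransitive_of_iso {B : Set (Finset α)} {B' : Set (Finset β)}
    (h : SetSystemIso B B') (n : ℕ) [hB : MulAction.IsMultiplyPretransitive (setSystemAut B) α n] :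
    MulAction.IsMultiplyPretransitive (setSystemAut B') β n := by
  obtain ⟨e, rfl⟩ := h
  refine ⟨fun x y => ?_⟩
  let x' : Fin n ↪ α := x.trans e.symm.toEmbedding
  let y' : Fin n ↪ α := y.trans e.symm.toEmbedding
  obtain ⟨g, hg⟩ := MulAction.exists_smul_eq (setSystemAut B) x' y'
  refine ⟨⟨e.permCongr g, permCongr_mem_setSystemAut e g.2⟩, ?_⟩
  ext i
  have h1 : (g : Equiv.Perm α) (e.symm (x i)) = e.symm (y i) := by
    have := congrArg (fun z : Fin n ↪ α => z i) hg
    exact this
  show (e.permCongr g) (x i) = y i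
  rw [Equiv.permCongr_apply, h1]
  simp

/-- Rigidity at one tuple is invariant under isomorphism. -/
theorem exists_rigid_of_iso {B : Set (Finset α)} {B' : Set (Finset β)}
    (h : SetSystemIso B B') {n : ℕ} (x₀ : Fin n ↪ α)
    (hx₀ : ∀ g ∈ setSystemAut B, (∀ i, g (x₀ i) = x₀ i) → g = 1) :
    ∃ y₀ : Fin n ↪ β, ∀ g ∈ setSystemAut B', (∀ i, g (y₀ i) = y₀ i) → g = 1 := by
  obtain ⟨e, rfl⟩ := h
  refine ⟨x₀.trans e.toEmbedding, fun g hg hfix => ?_⟩
  have h1 := hx₀ _ (symm_permCongr_mem_setSystemAut e hg) (fun i => by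
    rw [Equiv.permCongr_apply]
    have := hfix i
    simp only [Function.Embedding.trans_apply, Equiv.coe_toEmbedding] at this
    simp [this])
  ext b
  have h2 := congrArg (fun k : Equiv.Perm α => k (e.symm b)) h1
  simp only [Equiv.permCongr_apply, Equiv.symm_symm, Equiv.apply_symm_apply,
    Equiv.Perm.coe_one, id_eq] at h2
  simpa using congrArg e h2

/-- A transitive automorphism group that is rigid at one tuple is rigid at all tuples. -/
theorem stabilizer_eq_bot_of_rigid {B : Set (Finset α)} {n : ℕ}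
    [MulAction.IsMultiplyPretransitive (setSystemAut B) α n] (x₀ : Fin n ↪ α)
    (hx₀ : ∀ g ∈ setSystemAut B, (∀ i, g (x₀ i) = x₀ i) → g = 1) (x : Fin n ↪ α) :
    MulAction.stabilizer (setSystemAut B) x = ⊥ := by
  obtain ⟨k, hk⟩ := MulAction.exists_smul_eq (setSystemAut B) x₀ x
  rw [Subgroup.eq_bot_iff_forall]
  intro g hg
  rw [MulAction.mem_stabilizer_iff] at hg
  have hki : ∀ i, (k : Equiv.Perm α) (x₀ i) = x i := fun i =>
    congrArg (fun z : Fin n ↪ α => z i) hk
  have hgi : ∀ i, (g : Equiv.Perm α) (x i) = x i := fun i =>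
    congrArg (fun z : Fin n ↪ α => z i) hg
  have h1 := hx₀ _ (k⁻¹ * g * k).2 (fun i => by
    show ((k : Equiv.Perm α)⁻¹ * (g : Equiv.Perm α) * (k : Equiv.Perm α)) (x₀ i) = x₀ i
    rw [Equiv.Perm.mul_apply, Equiv.Perm.mul_apply, hki, hgi, ← hki]
    simp)
  have h2 : k⁻¹ * g * k = 1 := Subtype.ext h1
  have : g = k * (k⁻¹ * g * k) * k⁻¹ := by group
  rw [this, h2]
  group

end General

/-! ### A rigidity step for Steiner systems with `k = t + 1` -/

section Step
variable {n : ℕ}

/-- If an automorphism maps all points but `y` of the block `b` into `b' \ {y'}`, then it maps `y`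
to `y'`. -/
theorem aut_apply_eq {t : ℕ} {B : Set (Finset (Fin n))} (hB : IsSteinerSystem t (t + 1) B)
    {g : Equiv.Perm (Fin n)} (hg : g ∈ setSystemAut B) {b b' : Finset (Fin n)} (hb : b ∈ B)
    (hb' : b' ∈ B) {y y' : Fin n} (hy : y ∈ b) (hy' : y' ∈ b')
    (h : ∀ i ∈ b, i ≠ y → g i ∈ b' ∧ g i ≠ y') : g y = y' := by
  have hcb : b.card = t + 1 := hB.1 b hb
  have hcb' : b'.card = t + 1 := hB.1 b' hb'
  have hgb : b.image g ∈ B := image_mem_of_mem_setSystemAut hg hb
  have hT : ((b.erase y).image g).card = t := by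
    rw [Finset.card_image_of_injective _ g.injective, Finset.card_erase_of_mem hy, hcb]
    rfl
  have hsub1 : (b.erase y).image g ⊆ b'.erase y' := by
    intro z hz
    rw [Finset.mem_image] at hz
    obtain ⟨i, hi, rfl⟩ := hz
    rw [Finset.mem_erase] at hi
    have := h i hi.2 hi.1
    exact Finset.mem_erase.mpr ⟨this.2, this.1⟩
  have heq : (b.erase y).image g = b'.erase y' := by
    apply Finset.eq_of_subset_of_card_le hsub1
    rw [hT, Finset.card_erase_of_mem hy', hcb']
    rfl
  have hsub2 : (b.erase y).image g ⊆ b.image g := Finset.image_subset_image (Finset.erase_subset _ _)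
  have hsub3 : (b.erase y).image g ⊆ b' := heq ▸ Finset.erase_subset _ _
  obtain ⟨c, -, hc⟩ := hB.2 _ hT
  have e1 : b.image g = c := hc _ ⟨hgb, hsub2⟩
  have e2 : b' = c := hc _ ⟨hb', hsub3⟩
  have hgy : g y ∈ b' := by
    rw [e2, ← e1]
    exact Finset.mem_image_of_mem g hy
  by_contra hne
  have : g y ∈ (b.erase y).image g := by
    rw [heq]
    exact Finset.mem_erase.mpr ⟨hne, hgy⟩
  rw [Finset.mem_image] at this
  obtain ⟨i, hi, hgi⟩ := this
  rw [g.injective hgi] at hi
  exact (Finset.notMem_erase y b) hi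

/-- Partial knowledge of a permutation: a list of (argument, value) pairs. -/
def Known (g : Equiv.Perm (Fin n)) (L : List (ℕ × ℕ)) : Prop :=
  ∀ p ∈ L, ∀ i : Fin n, (i : ℕ) = p.1 → ((g i : Fin n) : ℕ) = p.2

theorem known_nil (g : Equiv.Perm (Fin n)) : Known g [] := by
  intro p hp
  simp at hp

theorem known_cons {g : Equiv.Perm (Fin n)} {L : List (ℕ × ℕ)} (a : Fin n) (v : ℕ)
    (h : ((g a : Fin n) : ℕ) = v) (hk : Known g L) : Known g (((a : ℕ), v) :: L) := by
  intro p hp i hi
  rw [List.mem_cons] at hp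
  rcases hp with rfl | hp
  · obtain rfl : i = a := Fin.ext hi
    exact h
  · exact hk p hp i hi

/-- Look up a value in a table of pairs. -/
def lk (L : List (ℕ × ℕ)) (i : ℕ) : Option ℕ := (L.find? fun p => p.1 == i).map (·.2)

theorem known_of_lk {g : Equiv.Perm (Fin n)} {L : List (ℕ × ℕ)} (hk : Known g L) (i : Fin n)
    {v : ℕ} (h : lk L i = some v) : ((g i : Fin n) : ℕ) = v := by
  unfold lk at h
  rw [Option.map_eq_some_iff] at h
  obtain ⟨p, hp, rfl⟩ := h
  have hmem := List.mem_of_find?_eq_some hp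
  have hp1 := List.find?_some hp
  simp only [beq_iff_eq] at hp1
  exact hk p hmem i hp1.symm

/-- The check behind `known_step`. -/
def stepOK (n : ℕ) (H : List ℕ) (L : List (ℕ × ℕ)) (m m' y y' : ℕ) : Bool :=
  H.contains m && H.contains m' && m.testBit y && m'.testBit y' && decide (y' < n) &&
    decide (m < 2 ^ n) && decide (m' < 2 ^ n) &&
    (List.range n).all fun i => !(m.testBit i) || i == y ||
      match lk L i with
      | some v => m'.testBit v && v != y'
      | none => false

theorem known_step {t : ℕ} {H : List ℕ} (hB : IsSteinerSystem t (t + 1) (sysOf n H))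
    {g : Equiv.Perm (Fin n)} (hg : g ∈ setSystemAut (sysOf n H)) {L : List (ℕ × ℕ)}
    (hk : Known g L) {m m' y y' : ℕ} (hok : stepOK n H L m m' y y' = true) (hy : y < n) :
    ((g ⟨y, hy⟩ : Fin n) : ℕ) = y' := by
  simp only [stepOK, Bool.and_eq_true, List.contains_iff_mem, decide_eq_true_eq,
    List.all_eq_true, List.mem_range, Bool.or_eq_true, Bool.not_eq_true', beq_iff_eq] at hok
  obtain ⟨⟨⟨⟨⟨⟨⟨hm, hm'⟩, hmy⟩, hmy'⟩, hy'⟩, hmlt⟩, hmlt'⟩, hall⟩ := hok
  have hb : decF n m ∈ sysOf n H := by
    show encF (decF n m) ∈ H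
    rwa [encF_decF hmlt]
  have hb' : decF n m' ∈ sysOf n H := by
    show encF (decF n m') ∈ H
    rwa [encF_decF hmlt']
  have := aut_apply_eq hB hg hb hb' (y := ⟨y, hy⟩) (y' := ⟨y', hy'⟩) (mem_decF.mpr hmy)
    (mem_decF.mpr hmy') (by
      intro i hi hne
      rw [mem_decF] at hi
      have h1 := hall i i.isLt
      rcases h1 with (h1 | h1) | h1
      · rw [hi] at h1
        exact absurd h1 (by simp)
      · exact absurd (Fin.ext h1) hne
      · cases hlk : lk L i with
        | none => rw [hlk] at h1; exact absurd h1 (by simp)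
        | some v =>
          rw [hlk] at h1
          simp only [Bool.and_eq_true, bne_iff_ne, ne_eq] at h1
          have hv := known_of_lk hk i hlk
          refine ⟨mem_decF.mpr (by rw [hv]; exact h1.1), fun hc => h1.2 ?_⟩
          rw [← hv, hc])
  rw [this]

end Step

end Cfsg.Agent.Lib.Helper7
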