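import Cfsg.Agent.Lib.Helper7.Hexads
import Cfsg.Agent.Lib.Helper7.M12General
import Cfsg.Agent.Lib.Helper7.SteinerAut

/-!
# The stabilizer of a dodecad acts on its hexads
-/

set_option autoImplicit false

namespace Cfsg.Agent.Lib.Helper7
open Cfsg
open scoped Pointwise

/-- The restriction to the points of `d` of an element of `stabM24 d`. -/
def restrictPerm {d : Finset GolayPt} {g : Equiv.Perm GolayPt} (hg : g ∈ stabM24 d) :
    Equiv.Perm {p : GolayPt // p ∈ d} :=
  g.subtypePerm (fun p => apply_mem_of_mem_stabM24 hg p)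

theorem restrictPerm_apply {d : Finset GolayPt} {g : Equiv.Perm GolayPt} (hg : g ∈ stabM24 d)
    (x : {p : GolayPt // p ∈ d}) : (restrictPerm hg x : GolayPt) = g x := rfl

theorem image_restrictPerm_subtype {d : Finset GolayPt} {g : Equiv.Perm GolayPt}
    (hg : g ∈ stabM24 d) (o : Finset GolayPt) :
    (Finset.subtype (fun p => p ∈ d) o).image (restrictPerm hg) =
      Finset.subtype (fun p => p ∈ d) (g • o) := by
  ext ⟨p, hp⟩
  simp only [Finset.mem_image, Finset.mem_subtype]
  constructor
  · rintro ⟨⟨q, hq⟩, hqo, hqp⟩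
    have h1 : g q = p := congrArg Subtype.val hqp
    rw [← h1]
    exact (apply_mem_perm_smul_finset g o q).mpr hqo
  · intro h
    have h2 : g (g⁻¹ p) = p := by simp
    have h1 : g⁻¹ p ∈ o := by
      rw [← h2] at h
      exact (apply_mem_perm_smul_finset g o _).mp h
    have h3 : g⁻¹ p ∈ d := by
      rw [← apply_mem_of_mem_stabM24 hg, h2]
      exact hp
    exact ⟨⟨g⁻¹ p, h3⟩, h1, Subtype.ext h2⟩

theorem restrictPerm_mem_aut {d : Finset GolayPt} {g : Equiv.Perm GolayPt} (hg : g ∈ stabM24 d) :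
    restrictPerm hg ∈ setSystemAut (hexads d) := by
  have key : ∀ k (hk : k ∈ stabM24 d), ∀ h ∈ hexads d, h.image (restrictPerm hk) ∈ hexads d := by
    rintro k hk h ⟨o, ho, h6, rfl⟩
    refine ⟨k • o, smul_mem_octads (mem_stabM24.mp hk).1 ho, ?_, image_restrictPerm_subtype hk o⟩
    have : (k • o) ∩ d = k • (o ∩ d) := by
      rw [Finset.smul_finset_inter, (mem_stabM24.mp hk).2]
    rw [this, card_perm_smul_finset, h6]
  apply mem_setSystemAut_of_forall (key g hg)
  have : (restrictPerm hg)⁻¹ = restrictPerm ((stabM24 d).inv_mem hg) := by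
    ext x
    rfl
  rw [this]
  exact key _ _

/-- The automorphism group of the hexad system of a dodecad is 5-transitive. -/
theorem hexads_aut_pretransitive {d : Finset GolayPt} (hd : d ∈ dodecads) :
    MulAction.IsMultiplyPretransitive (setSystemAut (hexads d)) {p : GolayPt // p ∈ d} 5 := by
  refine ⟨fun x y => ?_⟩
  let x' : Fin 5 ↪ GolayPt := x.trans (Function.Embedding.subtype _)
  let y' : Fin 5 ↪ GolayPt := y.trans (Function.Embedding.subtype _)
  obtain ⟨g, ⟨hg, hmap⟩, -⟩ := existsUnique_stabM24_map hd x' y' (fun i => (x i).2)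
    (fun i => (y i).2)
  refine ⟨⟨restrictPerm hg, restrictPerm_mem_aut hg⟩, ?_⟩
  apply Function.Embedding.ext
  intro i
  exact Subtype.ext (hmap i)

end Cfsg.Agent.Lib.Helper7
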