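import Mathlib
import Cfsg.Prelude.Def_Classical

/-!
# Helper7: base change of isometry groups and symplectic groups along ring homomorphisms

* `mem_isometryGroup_iff'`: membership in `Cfsg.isometryGroup F Q`.
* `isoTransfer`: `isometryGroup F Q ≃* isometryGroup F' Q'` for a ring isomorphism `e : F ≃+* F'` with
  `Q' (e ∘ u) = e (Q u)`.
* `spMap`: the homomorphism `Sp(l, R) →* Sp(l, S)` induced by a ring homomorphism, injective when the
  ring homomorphism is.
-/

set_option autoImplicit false

namespace Cfsg.Agent.Lib.Helper7.IsoTransfer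

open Matrix

theorem mem_isometryGroup_iff' {ι : Type} [Fintype ι] [DecidableEq ι] {F : Type*} [Field F]
    (Q : (ι → F) → F) (g : Matrix.GeneralLinearGroup ι F) :
    g ∈ Cfsg.isometryGroup F Q ↔ ∀ u, Q ((g : Matrix ι ι F) *ᵥ u) = Q u :=
  ⟨fun h u => h u u, fun h u _ => h u⟩

section Transfer

variable {ι : Type} [Fintype ι] [DecidableEq ι] {F F' : Type*} [Field F] [Field F']

theorem map_mulVec' (φ : F →+* F') (A : Matrix ι ι F) (u : ι → F) :
    (A.map φ) *ᵥ (fun j => φ (u j)) = fun j => φ ((A *ᵥ u) j) := by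
  funext i
  exact (RingHom.map_mulVec φ A u i).symm

/-- the base-change isomorphism on general linear groups -/
noncomputable def glMap (e : F ≃+* F') :
    Matrix.GeneralLinearGroup ι F ≃* Matrix.GeneralLinearGroup ι F' :=
  Units.mapEquiv (e.mapMatrix (m := ι)).toMulEquiv

theorem glMap_val (e : F ≃+* F') (g : Matrix.GeneralLinearGroup ι F) :
    ((glMap e g : Matrix.GeneralLinearGroup ι F') : Matrix ι ι F') =
      (g : Matrix ι ι F).map e := rfl

theorem mem_iff_of_equiv (e : F ≃+* F') (Q : (ι → F) → F) (Q' : (ι → F') → F')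
    (hQ : ∀ u : ι → F, Q' (fun j => e (u j)) = e (Q u)) (g : Matrix.GeneralLinearGroup ι F) :
    g ∈ Cfsg.isometryGroup F Q ↔ glMap e g ∈ Cfsg.isometryGroup F' Q' := by
  rw [mem_isometryGroup_iff', mem_isometryGroup_iff', glMap_val]
  constructor
  · intro h u'
    have hu : u' = fun j => (e : F →+* F') (e.symm (u' j)) := by
      funext j; simp
    rw [hu]
    have h1 := map_mulVec' (e : F →+* F') (g : Matrix ι ι F) (fun j => e.symm (u' j))
    have h1' : (g : Matrix ι ι F).map ⇑e *ᵥ (fun j => (e : F →+* F') (e.symm (u' j))) =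
        fun j => (e : F →+* F') (((g : Matrix ι ι F) *ᵥ fun j => e.symm (u' j)) j) := h1
    rw [h1']
    have h2 := hQ (((g : Matrix ι ι F) *ᵥ fun j => e.symm (u' j)))
    have h3 := hQ (fun j => e.symm (u' j))
    simp only [RingEquiv.coe_toRingHom] at h2 h3 ⊢
    rw [h2, h3, h]
  · intro h u
    apply e.injective
    have h1 := h (fun j => e (u j))
    have h2 : (g : Matrix ι ι F).map ⇑e *ᵥ (fun j => e (u j)) =
        fun j => e (((g : Matrix ι ι F) *ᵥ u) j) :=
      map_mulVec' (e : F →+* F') (g : Matrix ι ι F) u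
    rw [h2, hQ, hQ] at h1
    exact h1

/-- transfer of an isometry group along a ring isomorphism -/
noncomputable def isoTransfer (e : F ≃+* F') (Q : (ι → F) → F) (Q' : (ι → F') → F')
    (hQ : ∀ u : ι → F, Q' (fun j => e (u j)) = e (Q u)) :
    ↥(Cfsg.isometryGroup F Q) ≃* ↥(Cfsg.isometryGroup F' Q') where
  toFun g := ⟨glMap e g.1, (mem_iff_of_equiv e Q Q' hQ g.1).mp g.2⟩
  invFun g := ⟨(glMap e).symm g.1, (mem_iff_of_equiv e Q Q' hQ _).mpr (by
    rw [MulEquiv.apply_symm_apply]; exact g.2)⟩
  left_inv g := Subtype.ext (by simp)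
  right_inv g := Subtype.ext (by simp)
  map_mul' a b := Subtype.ext (by simp)

end Transfer

section Symplectic

variable {l : Type*} [DecidableEq l] [Fintype l] {R S : Type*} [CommRing R] [CommRing S]

theorem J_map (φ : R →+* S) : (Matrix.J l R).map φ = Matrix.J l S := by
  ext i k
  rcases i with i | i <;> rcases k with k | k <;> by_cases hik : i = k <;>
    simp [Matrix.J, Matrix.fromBlocks, hik]

theorem map_mem_symplecticGroup (φ : R →+* S) (A : Matrix (l ⊕ l) (l ⊕ l) R)
    (hA : A ∈ Matrix.symplecticGroup l R) : A.map φ ∈ Matrix.symplecticGroup l S := by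
  rw [SymplecticGroup.mem_iff] at hA ⊢
  have h := congrArg (fun M : Matrix (l ⊕ l) (l ⊕ l) R => M.map φ) hA
  simp only [Matrix.map_mul, J_map, Matrix.transpose_map] at h
  exact h

/-- base change of the symplectic group along a ring homomorphism -/
def spMap (φ : R →+* S) : Matrix.symplecticGroup l R →* Matrix.symplecticGroup l S where
  toFun A := ⟨(A : Matrix (l ⊕ l) (l ⊕ l) R).map φ, map_mem_symplecticGroup φ _ A.2⟩
  map_one' := by
    apply Subtype.ext
    simp
  map_mul' A B := by
    apply Subtype.ext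
    simp [Matrix.map_mul]

theorem spMap_val (φ : R →+* S) (A : Matrix.symplecticGroup l R) :
    ((spMap φ A : Matrix.symplecticGroup l S) : Matrix (l ⊕ l) (l ⊕ l) S) =
      (A : Matrix (l ⊕ l) (l ⊕ l) R).map φ := rfl

end Symplectic

end Cfsg.Agent.Lib.Helper7.IsoTransfer
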