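import Cfsg.Agent.Lib.Helper7.M12MultElts
import Cfsg.Agent.Lib.Helper53.SchurTransport
import Cfsg.Agent.Lib.Helper99.M12OutGen
import Cfsg.Agent.S2034

/-!
# The Schur multiplier of `M12` has order at most 2

`H12 ≅ M12` is generated by the point stabilizer `K11 ≅ M11` (trivial multiplier, perfect) and an involution `t`
swapping the first two base points; the abstract one-point-extension argument of `StemWitt` bounds the 2-part of the
kernel of a stem extension by 2, and the odd part vanishes by the cyclic/extraspecial Sylow criteria.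
-/

set_option autoImplicit false

namespace Cfsg.Agent.Lib.Helper7.M12Mult
open Cfsg Cfsg.Agent.Lib.Helper7 Cfsg.Agent.Lib.Helper7.Tbl Cfsg.Agent.Lib.Helper7.Stem
open Cfsg.Agent.Lib.Helper7.SylowPair Subgroup

/-! ### Two double cosets -/

theorem h_bp1 : (h : Equiv.Perm GolayPt) (bp 1) = pt 14 :=
  matches_apply m_h (i := 0) (j := 14) (by decide) (by decide) (by decide)

theorem h_bp1_ne : (h : Equiv.Perm GolayPt) (bp 1) ≠ bp 1 := by
  rw [h_bp1, bp1]; exact pt_ne (by decide) (by decide) (by decide)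

theorem exists_Ks_map_apply : ∀ y : ↥K11, (y : Equiv.Perm GolayPt) (bp 1) ≠ bp 1 →
    ∃ k ∈ Ks, (k : Equiv.Perm GolayPt) ((y : Equiv.Perm GolayPt) (bp 1)) = bp 2 := by
  intro y hy
  have hy0 : (y : Equiv.Perm GolayPt) (bp 0) = bp 0 := (mem_K11.mp y.2).2
  apply exists_Ks_map
  · exact (apply_mem_of_mem_stabM24 (mem_K11.mp y.2).1 _).mpr (bp_mem_d0' (by decide))
  · intro h0
    rw [← hy0] at h0
    exact bp_ne (i := 1) (j := 0) (by decide) (by decide) ((y : Equiv.Perm GolayPt).injective h0)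
  · exact hy

theorem dc_gen (hh : ↥K11) (hhne : (hh : Equiv.Perm GolayPt) (bp 1) ≠ bp 1) :
    ∀ x : ↥K11, x ∈ Ks ∨ ∃ k₁ ∈ Ks, ∃ k₂ ∈ Ks, x = k₁ * hh * k₂ := by
  intro x
  by_cases hx : x ∈ Ks
  · exact Or.inl hx
  right
  rw [mem_Ks] at hx
  obtain ⟨kx, hkx, hkx2⟩ := exists_Ks_map_apply x hx
  obtain ⟨kh, hkh, hkh2⟩ := exists_Ks_map_apply hh hhne
  have h1 : ((kx⁻¹ * kh * hh : ↥K11) : Equiv.Perm GolayPt) (bp 1) =
      (x : Equiv.Perm GolayPt) (bp 1) := by
    rw [coe_mul3K, hkh2, ← hkx2, coe_invK]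
    simp
  refine ⟨kx⁻¹ * kh, Ks.mul_mem (Ks.inv_mem hkx) hkh, (kx⁻¹ * kh * hh)⁻¹ * x, ?_, by group⟩
  rw [mem_Ks, coe_inv_mulK, ← h1]
  simp

theorem dc_Ks : ∀ x : ↥K11, x ∈ Ks ∨ ∃ k₁ ∈ Ks, ∃ k₂ ∈ Ks, x = k₁ * h * k₂ :=
  dc_gen h h_bp1_ne

/-! ### `K11` is perfect with trivial multiplier -/

theorem x5_x3_ne : x5 * x3 ≠ x3 * x5 :=
  ne_of_matchS (matchS_mul m_x5 m_x3) (matchS_mul m_x3 m_x5) (by decide +kernel)

theorem commutator_K11 : commutator ↥K11 = ⊤ := by
  have hs := isSimpleGroup_K11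
  have hn : (commutator ↥K11).Normal := inferInstance
  rcases hn.eq_bot_or_eq_top with hb | ht
  · exfalso
    have hmem : x5 * x3 * x5⁻¹ * x3⁻¹ ∈ commutator ↥K11 := by
      rw [_root_.commutator_def]
      exact Subgroup.commutator_mem_commutator (Subgroup.mem_top x5) (Subgroup.mem_top x3)
    rw [hb, Subgroup.mem_bot] at hmem
    apply x5_x3_ne
    calc x5 * x3 = (x5 * x3 * x5⁻¹ * x3⁻¹) * (x3 * x5) := by group
      _ = x3 * x5 := by rw [hmem, one_mul]
  · exact ht

theorem multiplier_K11 : HasCyclicSchurMultiplier ↥K11 1 := by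
  have hD := Cfsg.Agent.S5522.dsq_mem_dodecads
  have hp : pt 0 ∈ Cfsg.Agent.Lib.Helper7.setOf Cfsg.Agent.S5522.dsqMask := by
    rw [mem_setOf, idx_pt (by decide)]; decide
  obtain ⟨ρ, hρ, hρd, hρp⟩ := exists_map_dodecad_point hD hp
  have hiff : ∀ g, ρ * g * ρ⁻¹ ∈ K11 ↔ g ∈ Spor.M11 := by
    intro g
    rw [Cfsg.Agent.S5522.mem_M11_iff, ← mem_stabM24Pt, conj_mem_stabM24Pt hρ _ (pt 0), hρd, hρp,
      stabM24Pt_d0]
  exact Cfsg.Agent.Lib.Helper53.SchurTransport.hasSchurMultiplier_of_mulEquiv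
    (Cfsg.Agent.Lib.Helper99.M12Out.conjMulEquivOfIff ρ Spor.M11 K11 hiff) Cfsg.Agent.S2034.result

/-! ### Generators of `Ks` -/

/-- The generators of odd order. -/
def X : Set ↥K11 := {x5, x3}

theorem x5_mem_Ks : x5 ∈ Ks :=
  mem_Ks.mpr (matches_apply m_x5 (i := 0) (j := 0) (by decide) (by decide) (by decide))

theorem x3_mem_Ks : x3 ∈ Ks :=
  mem_Ks.mpr (matches_apply m_x3 (i := 0) (j := 0) (by decide) (by decide) (by decide))

theorem u_mem_Ks : u ∈ Ks :=
  mem_Ks.mpr (matches_apply m_u (i := 0) (j := 0) (by decide) (by decide) (by decide))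

/-- First sequence of generators. -/
noncomputable def gensD : List ↥K11 := [x3, u, u, x3, x5, x5, u]
/-- Their tables. -/
def gensDT : List (List ℕ) := [x3T, uT, uT, x3T, x5T, x5T, uT]
/-- Second sequence of generators. -/
noncomputable def gensN : List ↥K11 := [x5, x5, u, x3, x3, x5, u, x5]
/-- Their tables. -/
def gensNT : List (List ℕ) := [x5T, x5T, uT, x3T, x3T, x5T, uT, x5T]

theorem hmD : List.Forall₂ (MatchS (H := K11)) gensD gensDT :=
  .cons m_x3 (.cons m_u (.cons m_u (.cons m_x3 (.cons m_x5 (.cons m_x5 (.cons m_u .nil))))))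

theorem hmN : List.Forall₂ (MatchS (H := K11)) gensN gensNT :=
  .cons m_x5 (.cons m_x5 (.cons m_u (.cons m_x3 (.cons m_x3 (.cons m_x5 (.cons m_u
    (.cons m_x5 .nil)))))))

theorem DL_eq : (List.range 128).map (pcwT gensDT) = DL := by decide +kernel

theorem NL_eq : (List.range 256).map (pcwT gensNT) = NL := by decide +kernel

theorem incr720 : incrB (pairs720.map fun p =>
    codeMul [23, 0, 1, 2, 3, 4, 5] (DL.getD p.1 idT) (NL.getD p.2 idT)) = true := by
  decide +kernel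

theorem length_pairs720 : pairs720.length = 720 := by decide +kernel

theorem card_closure_ge : 720 ≤ Nat.card ↥(closure (X ∪ {u})) := by
  have h5 : x5 ∈ closure (X ∪ {u}) := Subgroup.subset_closure (Or.inl (Or.inl rfl))
  have h3 : x3 ∈ closure (X ∪ {u}) := Subgroup.subset_closure (Or.inl (Or.inr rfl))
  have hu : u ∈ closure (X ∪ {u}) := Subgroup.subset_closure (Or.inr rfl)
  have hD : ∀ d ∈ DL, ∃ x ∈ closure (X ∪ {u}), MatchS x d := by
    rw [← DL_eq]
    apply exists_of_mem_pcwT hmD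
    intro g hg
    simp only [gensD, List.mem_cons, List.not_mem_nil, or_false] at hg
    rcases hg with rfl | rfl | rfl | rfl | rfl | rfl | rfl
    · exact h3
    · exact hu
    · exact hu
    · exact h3
    · exact h5
    · exact h5
    · exact hu
  have hN : ∀ n ∈ NL, ∃ x ∈ closure (X ∪ {u}), MatchS x n := by
    rw [← NL_eq]
    apply exists_of_mem_pcwT hmN
    intro g hg
    simp only [gensN, List.mem_cons, List.not_mem_nil, or_false] at hg
    rcases hg with rfl | rfl | rfl | rfl | rfl | rfl | rfl | rfl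
    · exact h5
    · exact h5
    · exact hu
    · exact h3
    · exact h3
    · exact h5
    · exact hu
    · exact h5
  have := card_ge_of_incr_pairs (closure (X ∪ {u})) [23, 0, 1, 2, 3, 4, 5] (by decide) DL NL hD hN
    pairs720 incr720
  rwa [length_pairs720] at this

theorem closure_eq_Ks : closure (X ∪ {u}) = Ks := by
  apply Subgroup.eq_of_le_of_card_ge
  · rw [Subgroup.closure_le]
    rintro y ((hy | hy) | hy)
    · rw [hy]; exact x5_mem_Ks
    · rw [Set.mem_singleton_iff] at hy; rw [hy]; exact x3_mem_Ks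
    · rw [Set.mem_singleton_iff] at hy; rw [hy]; exact u_mem_Ks
  · rw [card_Ks]; exact card_closure_ge

theorem odd_X : ∀ y ∈ X, ∃ m : ℕ, Odd m ∧ y ^ m = 1 := by
  rintro y (hy | hy)
  · rw [hy]; exact ⟨5, by decide, x5_pow⟩
  · rw [Set.mem_singleton_iff] at hy; rw [hy]; exact ⟨3, by decide, x3_pow⟩

theorem u_sq_mem : u * u ∈ closure X := by
  have h5 : x5 ∈ closure X := Subgroup.subset_closure (Or.inl rfl)
  have h3 : x3 ∈ closure X := Subgroup.subset_closure (Or.inr rfl)
  rw [u_sq]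
  exact Subgroup.mul_mem _ (Subgroup.mul_mem _ (Subgroup.mul_mem _ (Subgroup.mul_mem _
    (Subgroup.pow_mem _ h5 4) (Subgroup.pow_mem _ h3 2)) h5) h3) (Subgroup.pow_mem _ h5 4)

/-! ### The odd primes -/

/-- If the finite stem extensions of `G` with kernel of prime exponent `p ≠ q` are trivial, then the kernel of every
finite stem extension of `G` is a `q`-group. -/
theorem isPGroup_ker_of_primes {G : Type} [Group G] (q : ℕ) (hq : q.Prime)
    (H : ∀ p : ℕ, p.Prime → p ≠ q → ∀ (Δ : Type) [Group Δ] [Finite Δ] (τ : Δ →* G),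
      IsStemExtension τ → (∀ k ∈ τ.ker, k ^ p = 1) → τ.ker = ⊥)
    {Γ : Type} [Group Γ] [Finite Γ] (σ : Γ →* G) (hσ : IsStemExtension σ) : IsPGroup q σ.ker := by
  have : Fact q.Prime := ⟨hq⟩
  rw [IsPGroup.iff_orderOf]
  rintro ⟨x, hx⟩
  have hpos : 0 < orderOf x := orderOf_pos x
  have key : ∀ {d : ℕ}, d.Prime → d ∣ orderOf x → d = q := by
    intro p hpp hpd
    by_contra hne
    have hwo : orderOf (x ^ (orderOf x / p)) = p := orderOf_pow_orderOf_div hpos.ne' hpd
    have hwk : x ^ (orderOf x / p) ∈ σ.ker := σ.ker.pow_mem hx _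
    have hwp : (x ^ (orderOf x / p)) ^ p = 1 := by
      have h1 := pow_orderOf_eq_one (x ^ (orderOf x / p))
      rwa [hwo] at h1
    have := eq_one_of_exponent_reduction p (H p hpp hne) σ hσ _ hwk hwp
    rw [this, orderOf_one] at hwo
    exact hpp.one_lt.ne hwo
  refine ⟨(orderOf x).primeFactorsList.length, ?_⟩
  rw [Subgroup.orderOf_mk]
  exact Nat.eq_prime_pow_of_unique_prime_dvd hpos.ne' key

theorem card_H12' : Nat.card ↥H12 = 95040 := card_H12

theorem card_K11' : Nat.card ↥K11 = 7920 := card_K11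

/-- Generators (with repetitions) of the Sylow 3-subgroup. -/
noncomputable def gens3 : List ↥H12 := [w3, w3, a3, a3, b3, b3]
/-- Their tables. -/
def gens3T : List (List ℕ) := [w3T, w3T, a3T, a3T, b3T, b3T]

theorem hm3 : List.Forall₂ (MatchS (H := H12)) gens3 gens3T :=
  .cons m_w3 (.cons m_w3 (.cons m_a3 (.cons m_a3 (.cons m_b3 (.cons m_b3 .nil)))))

theorem card_P3_ge : 27 ≤ Nat.card ↥(zpowers w3 ⊔ zpowers a3 ⊔ zpowers b3) := by
  have hZ : zpowers w3 ≤ zpowers w3 ⊔ zpowers a3 ⊔ zpowers b3 := le_sup_left.trans le_sup_left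
  have hA : zpowers a3 ≤ zpowers w3 ⊔ zpowers a3 ⊔ zpowers b3 := le_sup_right.trans le_sup_left
  have hB : zpowers b3 ≤ zpowers w3 ⊔ zpowers a3 ⊔ zpowers b3 := le_sup_right
  have := card_ge_of_distinctT (zpowers w3 ⊔ zpowers a3 ⊔ zpowers b3) hm3
    (by
      intro g hg
      simp only [gens3, List.mem_cons, List.not_mem_nil, or_false] at hg
      rcases hg with rfl | rfl | rfl | rfl | rfl | rfl
      · exact hZ (mem_zpowers _)
      · exact hZ (mem_zpowers _)
      · exact hA (mem_zpowers _)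
      · exact hA (mem_zpowers _)
      · exact hB (mem_zpowers _)
      · exact hB (mem_zpowers _))
    ks27 (by decide +kernel)
  have hl : ks27.length = 27 := by decide
  rwa [hl] at this

/-- The kernels of exponent 3. -/
theorem ker_three {Δ : Type} [Group Δ] [Finite Δ] (τ : Δ →* ↥H12) (hτ : IsStemExtension τ)
    (hexp : ∀ k ∈ τ.ker, k ^ 3 = 1) : τ.ker = ⊥ := by
  refine ker_eq_bot_three_extraspecial τ hτ hexp a3 b3 w3 t3 t3p ?_ ?_ ?_ ?_ ?_ ?_ ?_ ?_ ?_ ?_
    card_P3_ge 3520 (by rw [card_H12']) (by decide)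
  · exact eq_of_matchS (matchS_pow m_a3 3) matchS_one (by decide +kernel)
  · exact eq_of_matchS (matchS_pow m_b3 3) matchS_one (by decide +kernel)
  · exact eq_of_matchS (matchS_pow m_w3 3) matchS_one (by decide +kernel)
  · exact eq_of_matchS (matchS_mul m_a3 m_b3) (matchS_mul (matchS_mul m_w3 m_b3) m_a3)
      (by decide +kernel)
  · exact eq_of_matchS (matchS_mul m_a3 m_w3) (matchS_mul m_w3 m_a3) (by decide +kernel)
  · exact eq_of_matchS (matchS_mul m_b3 m_w3) (matchS_mul m_w3 m_b3) (by decide +kernel)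
  · exact eq_of_matchS (matchS_mul m_t3 m_a3) (matchS_mul (matchS_mul m_a3 m_a3) m_t3)
      (by decide +kernel)
  · exact eq_of_matchS (matchS_mul m_t3 m_b3) (matchS_mul (matchS_mul m_b3 m_b3) m_t3)
      (by decide +kernel)
  · exact eq_of_matchS (matchS_mul m_t3 m_w3) (matchS_mul m_w3 m_t3) (by decide +kernel)
  · exact eq_of_matchS (matchS_mul m_t3p m_w3) (matchS_mul (matchS_mul m_w3 m_w3) m_t3p)
      (by decide +kernel)

theorem orderOf_of_tbl {x : ↥H12} {T : List ℕ} (hx : MatchS x T) (p : ℕ) (hp : p.Prime)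
    (h1 : teq (powTb T p) idT = true) (h2 : teq T idT = false) : orderOf x = p := by
  have : Fact p.Prime := ⟨hp⟩
  exact orderOf_eq_prime (eq_of_matchS (matchS_pow hx p) matchS_one h1)
    (ne_of_matchS hx matchS_one h2)

theorem orderOf_e5 : orderOf (ι x5) = 5 :=
  orderOf_of_tbl (m_ι m_x5) 5 (by norm_num) (by decide +kernel) (by decide +kernel)

theorem orderOf_e11 : orderOf e11 = 11 :=
  orderOf_of_tbl m_e11 11 (by norm_num) (by decide +kernel) (by decide +kernel)

theorem coprime_card_of_prime {p : ℕ} (hp : p.Prime) (h2 : p ≠ 2) (h3 : p ≠ 3) (h5 : p ≠ 5)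
    (h11 : p ≠ 11) : Nat.Coprime 95040 p := by
  rw [Nat.coprime_comm, Nat.Prime.coprime_iff_not_dvd hp]
  intro hd
  have e : 95040 = 2 ^ 6 * 3 ^ 3 * 5 * 11 := by norm_num
  rw [e] at hd
  have hpr := fun {q : ℕ} (hq : q.Prime) (h : p ∣ q) => (Nat.prime_dvd_prime_iff_eq hp hq).mp h
  rcases (Nat.Prime.dvd_mul hp).mp hd with hd | hd
  · rcases (Nat.Prime.dvd_mul hp).mp hd with hd | hd
    · rcases (Nat.Prime.dvd_mul hp).mp hd with hd | hd
      · exact h2 (hpr (by norm_num) (hp.dvd_of_dvd_pow hd))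
      · exact h3 (hpr (by norm_num) (hp.dvd_of_dvd_pow hd))
    · exact h5 (hpr (by norm_num) hd)
  · exact h11 (hpr (by norm_num) hd)

/-- The kernel of a finite stem extension of `H12` is a 2-group. -/
theorem isPGroup_two_ker {Γ : Type} [Group Γ] [Finite Γ] (σ : Γ →* ↥H12)
    (hσ : IsStemExtension σ) : IsPGroup 2 σ.ker := by
  apply isPGroup_ker_of_primes 2 Nat.prime_two _ σ hσ
  intro p hp h2 Δ _ _ τ hτ hexp
  by_cases h3 : p = 3
  · subst h3; exact ker_three τ hτ hexp
  by_cases h5 : p = 5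
  · subst h5
    exact ker_eq_bot_of_orderOf τ hτ 5 hexp (ι x5) orderOf_e5 19008 (by rw [card_H12'])
      (by norm_num) (by decide)
  by_cases h11 : p = 11
  · subst h11
    exact ker_eq_bot_of_orderOf τ hτ 11 hexp e11 orderOf_e11 8640 (by rw [card_H12'])
      (by norm_num) (by decide)
  · apply ker_eq_bot_of_coprime_card τ hτ p hexp
    rw [card_H12']
    exact coprime_card_of_prime hp h2 h3 h5 h11

/-! ### The bound -/

/-- The kernel of a finite stem extension of `H12 ≅ M12` has order at most 2. -/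
theorem card_ker_le_two_H12 {Γ : Type} [Group Γ] [Finite Γ] (σ : Γ →* ↥H12)
    (hσ : IsStemExtension σ) : Nat.card σ.ker ≤ 2 :=
  card_ker_le_two_of_one_point_extension σ hσ (isPGroup_two_ker σ hσ) ι ι_inj commutator_K11
    multiplier_K11 Ks (by rw [index_Ks, card_H12', card_K11']) t g s s_sq t_eq gen_top t_norm_Ks
    h h1 h2 dc_Ks t_h_t X u closure_eq_Ks odd_X u_sq_mem

/-- The kernel of a finite stem extension of `M12` has order at most 2. -/
theorem card_ker_le_two_M12 {Γ : Type} [Group Γ] [Finite Γ] (σ : Γ →* ↥Spor.M12)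
    (hσ : IsStemExtension σ) : Nat.card σ.ker ≤ 2 := by
  have hD : Spor.squareDodecad ∈ dodecads := by
    rw [Cfsg.Agent.S5522.squareDodecad_eq]; exact Cfsg.Agent.S5522.dsq_mem_dodecads
  obtain ⟨ρ, hρ, hρd⟩ := exists_map_dodecad hD
  have hiff : ∀ g, ρ * g * ρ⁻¹ ∈ H12 ↔ g ∈ Spor.M12 := by
    intro g
    have hM : Spor.M12 = stabM24 Spor.squareDodecad := rfl
    rw [hM, conj_mem_stabM24 hρ Spor.squareDodecad, hρd]
    rfl
  have hst := Cfsg.Agent.Lib.Helper53.SchurTransport.isStemExtension_comp_mulEquiv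
    (Cfsg.Agent.Lib.Helper99.M12Out.conjMulEquivOfIff ρ Spor.M12 H12 hiff) σ hσ
  have hk : ((Cfsg.Agent.Lib.Helper99.M12Out.conjMulEquivOfIff ρ Spor.M12 H12
      hiff).toMonoidHom.comp σ).ker = σ.ker :=
    MonoidHom.ker_comp_of_injective σ _ (MulEquiv.injective _)
  rw [← hk]
  exact card_ker_le_two_H12 _ hst

end Cfsg.Agent.Lib.Helper7.M12Mult
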