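import Mathlib
import Cfsg.Prelude.Def_KGroupFacts

/-!
# Assembly of a Schur multiplier of order 2 from a cover and a bound
-/

set_option autoImplicit false

namespace Cfsg.Agent.Lib.Helper7.Stem

universe u

/-- A group of order 2 is isomorphic to `Multiplicative (ZMod 2)`. -/
theorem nonempty_mulEquiv_zmod_two {K : Type*} [Group K] (hc : Nat.card K = 2) :
    Nonempty (K ≃* Multiplicative (ZMod 2)) := by
  have : Fact (Nat.Prime 2) := ⟨Nat.prime_two⟩
  have hcyc : IsCyclic K := isCyclic_of_prime_card hc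
  have e := zmodCyclicMulEquiv hcyc
  rw [hc] at e
  exact ⟨e.symm⟩

/-- A cover with kernel of order 2 and the bound 2 for the kernels of all finite stem extensions give a Schur
multiplier cyclic of order 2. -/
theorem hasCyclicSchurMultiplier_two_of_cover_and_bound {G : Type u} [Group G]
    (hcover : ∃ (Γ : Type u) (_ : Group Γ) (_ : Finite Γ) (σ : Γ →* G),
      Cfsg.IsStemExtension σ ∧ Nat.card σ.ker = 2)
    (hub : ∀ (Γ : Type u) [Group Γ] [Finite Γ] (σ : Γ →* G), Cfsg.IsStemExtension σ →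
      Nat.card σ.ker ≤ 2) :
    Cfsg.HasCyclicSchurMultiplier G 2 := by
  refine ⟨?_, ?_⟩
  · obtain ⟨Γ, i1, i2, σ, hσ, hc⟩ := hcover
    exact ⟨Γ, i1, i2, σ, hσ, nonempty_mulEquiv_zmod_two hc⟩
  · intro Γ _ _ σ hσ
    have h2 := hub Γ σ hσ
    have h1 : 0 < Nat.card σ.ker := Nat.card_pos
    have hcases : Nat.card σ.ker = 1 ∨ Nat.card σ.ker = 2 := by omega
    rcases hcases with hc | hc
    · have hsub : Subsingleton ↥σ.ker := (Nat.card_eq_one_iff_unique.mp hc).1
      exact ⟨1, fun k => ⟨1, Subsingleton.elim _ _⟩⟩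
    · obtain ⟨e⟩ := nonempty_mulEquiv_zmod_two hc
      exact ⟨e.symm.toMonoidHom, e.symm.surjective⟩

end Cfsg.Agent.Lib.Helper7.Stem
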