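import Cfsg.Agent.Lib.Helper7.M12CoverData
import Cfsg.Agent.Lib.Helper7.M12MultUpper
import Cfsg.Agent.Lib.Helper7.SchurTwo

/-!
# A double cover of `M12`

The group `P` of the pairs `(g, m)`, `g ∈ H12 ≅ M12` and `m` a permutation of the 24 signed coordinates preserving the
264 signed hexads of the ternary Golay code and lying above `g`, is a stem extension of `H12` with kernel of order 2.
-/

set_option autoImplicit false

namespace Cfsg.Agent.Lib.Helper7.M12Cover
open Cfsg Cfsg.Agent.Lib.Helper7 Cfsg.Agent.Lib.Helper7.Tbl Cfsg.Agent.Lib.Helper7.M12Mult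
open scoped Pointwise

/-! ### Permutations given by tables -/

/-- `t` and `ti` are mutually inverse tables with entries below 24. -/
def invChk (t ti : List ℕ) : Bool :=
  (List.range 24).all fun i => decide (t.getD i 0 < 24) && decide (ti.getD i 0 < 24) &&
    (ti.getD (t.getD i 0) 0 == i) && (t.getD (ti.getD i 0) 0 == i)

theorem invChk_spec {t ti : List ℕ} (h : invChk t ti = true) {i : ℕ} (hi : i < 24) :
    t.getD i 0 < 24 ∧ ti.getD i 0 < 24 ∧ ti.getD (t.getD i 0) 0 = i ∧ t.getD (ti.getD i 0) 0 = i := by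
  simp only [invChk, List.all_eq_true, List.mem_range, Bool.and_eq_true, decide_eq_true_eq,
    beq_iff_eq] at h
  obtain ⟨⟨⟨h1, h2⟩, h3⟩, h4⟩ := h i hi
  exact ⟨h1, h2, h3, h4⟩

/-- The permutation with table `t` and inverse table `ti`. -/
def permOfTbl (t ti : List ℕ) (h : invChk t ti = true) : Equiv.Perm GolayPt where
  toFun p := pt (t.getD (idx p) 0)
  invFun p := pt (ti.getD (idx p) 0)
  left_inv p := by
    obtain ⟨h1, _, h3, _⟩ := invChk_spec h (idx_lt p)
    show pt (ti.getD (idx (pt (t.getD (idx p) 0))) 0) = p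
    rw [idx_pt h1, h3, pt_idx]
  right_inv p := by
    obtain ⟨_, h2, _, h4⟩ := invChk_spec h (idx_lt p)
    show pt (t.getD (idx (pt (ti.getD (idx p) 0))) 0) = p
    rw [idx_pt h2, h4, pt_idx]

theorem matches_permOfTbl (t ti : List ℕ) (h : invChk t ti = true) :
    Matches (permOfTbl t ti h) t := by
  intro p
  obtain ⟨h1, _, _, _⟩ := invChk_spec h (idx_lt p)
  show idx (pt (t.getD (idx p) 0)) = t.getD (idx p) 0
  rw [idx_pt h1]

/-! ### The structure -/

/-- The point of the dodecad below a signed coordinate. -/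
def κ (p : GolayPt) : GolayPt := pt (kT.getD (idx p) 0)

/-- The signed hexads. -/
def WS : Set (Finset GolayPt) := {s | ∃ w ∈ Wmasks, s = setOf w}

theorem kT_lt : ∀ j, kT.getD j 0 < 24 := by
  intro j
  by_cases hj : j < 24
  · revert j; decide
  · rw [List.getD_eq_default _ _ (by simp [kT]; omega)]; decide

theorem idx_κ (p : GolayPt) : idx (κ p) = kT.getD (idx p) 0 := idx_pt (kT_lt _)

/-- The group of the pairs `(g, m)` with `m` preserving the signed hexads and lying above `g`. -/
def P : Subgroup (↥H12 × Equiv.Perm GolayPt) where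
  carrier := {x | x.2 • WS = WS ∧ ∀ p, κ (x.2 p) = (x.1 : Equiv.Perm GolayPt) (κ p)}
  one_mem' := ⟨one_smul _ _, fun _ => rfl⟩
  mul_mem' := by
    rintro x y ⟨hx1, hx2⟩ ⟨hy1, hy2⟩
    refine ⟨?_, fun p => ?_⟩
    · show (x.2 * y.2) • WS = WS
      rw [mul_smul, hy1, hx1]
    · show κ ((x.2 * y.2) p) = ((x.1 * y.1 : ↥H12) : Equiv.Perm GolayPt) (κ p)
      rw [Equiv.Perm.mul_apply, hx2, hy2, Subgroup.coe_mul, Equiv.Perm.mul_apply]
  inv_mem' := by
    rintro x ⟨hx1, hx2⟩
    refine ⟨?_, fun p => ?_⟩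
    · show x.2⁻¹ • WS = WS
      rw [inv_smul_eq_iff]
      exact hx1.symm
    · show κ (x.2⁻¹ p) = ((x.1⁻¹ : ↥H12) : Equiv.Perm GolayPt) (κ p)
      have h := hx2 (x.2⁻¹ p)
      have h2 : x.2 (x.2⁻¹ p) = p := by simp
      rw [h2] at h
      rw [h, Subgroup.coe_inv]
      simp

theorem mem_P {x : ↥H12 × Equiv.Perm GolayPt} :
    x ∈ P ↔ x.2 • WS = WS ∧ ∀ p, κ (x.2 p) = (x.1 : Equiv.Perm GolayPt) (κ p) := Iff.rfl

/-- Image of a mask under a table. -/
def imgMask (t : List ℕ) (w : ℕ) : ℕ :=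
  (List.range 24).foldl (fun acc i => if w.testBit i then acc ||| (1 <<< t.getD i 0) else acc) 0

/-- The table maps the signed hexads to signed hexads. -/
def wChk (t : List ℕ) : Bool :=
  Wmasks.all fun w => mapsInto t w (imgMask t w) && Wmasks.contains (imgMask t w) &&
    decide (pc (imgMask t w) ≤ pc w)

/-- The table `mT` lies above the table `gT`. -/
def kChk (gT mT : List ℕ) : Bool :=
  (List.range 24).all fun i => kT.getD (mT.getD i 0) 0 == gT.getD (kT.getD i 0) 0

theorem finite_WS : WS.Finite := by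
  have h : WS = (fun w => setOf w) '' {w | w ∈ Wmasks} := by
    ext s
    simp only [WS, Set.mem_ofPred_eq, Set.mem_image]
    constructor
    · rintro ⟨w, hw, rfl⟩; exact ⟨w, hw, rfl⟩
    · rintro ⟨w, hw, rfl⟩; exact ⟨w, hw, rfl⟩
  rw [h]
  exact (List.finite_toSet Wmasks).image _

theorem smul_WS_of_wChk {m : Equiv.Perm GolayPt} {mT : List ℕ} (hm : Matches m mT)
    (hW : wChk mT = true) : m • WS = WS := by
  have hsub : m • WS ⊆ WS := by
    intro s hs
    rw [Set.mem_smul_set] at hs
    obtain ⟨s', ⟨w, hw, rfl⟩, rfl⟩ := hs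
    simp only [wChk, List.all_eq_true, Bool.and_eq_true, decide_eq_true_eq,
      List.contains_iff_mem] at hW
    obtain ⟨⟨h1, h2⟩, h3⟩ := hW w hw
    exact ⟨imgMask mT w, h2, smul_setOf_eq_of_mapsInto hm h1 h3⟩
  apply Set.eq_of_subset_of_ncard_le hsub _ finite_WS
  rw [← Set.image_smul, Set.ncard_image_of_injective _ (MulAction.injective m)]

theorem mem_P_of_tbl {g : ↥H12} {m : Equiv.Perm GolayPt} {gT mT : List ℕ} (hg : MatchS g gT)
    (hm : Matches m mT) (hW : wChk mT = true) (hκ : kChk gT mT = true) : (g, m) ∈ P := by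
  refine ⟨smul_WS_of_wChk hm hW, fun p => ?_⟩
  apply idx_injective
  simp only [kChk, List.all_eq_true, List.mem_range, beq_iff_eq] at hκ
  show idx (κ (m p)) = idx ((g : Equiv.Perm GolayPt) (κ p))
  rw [idx_κ, hm p, hg (κ p), idx_κ]
  exact hκ (idx p) (idx_lt p)

/-! ### The lifts of the generators -/

/-- The lift of `t`. -/
def mt : Equiv.Perm GolayPt := permOfTbl mtT mtI (by decide +kernel)
/-- The lift of `h`. -/
def mh : Equiv.Perm GolayPt := permOfTbl mhT mhI (by decide +kernel)
/-- The lift of `x5`. -/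
def mx5 : Equiv.Perm GolayPt := permOfTbl mx5T mx5I (by decide +kernel)
/-- The lift of `x3`. -/
def mx3 : Equiv.Perm GolayPt := permOfTbl mx3T mx3I (by decide +kernel)
/-- The lift of `u`. -/
def mu : Equiv.Perm GolayPt := permOfTbl muT muI (by decide +kernel)
/-- The lift of `a3`. -/
def ma3 : Equiv.Perm GolayPt := permOfTbl ma3T ma3I (by decide +kernel)
/-- The central involution. -/
def z : Equiv.Perm GolayPt := permOfTbl zT zT (by decide +kernel)

theorem m_mt : Matches mt mtT := matches_permOfTbl _ _ _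
theorem m_mh : Matches mh mhT := matches_permOfTbl _ _ _
theorem m_mx5 : Matches mx5 mx5T := matches_permOfTbl _ _ _
theorem m_mx3 : Matches mx3 mx3T := matches_permOfTbl _ _ _
theorem m_mu : Matches mu muT := matches_permOfTbl _ _ _
theorem m_ma3 : Matches ma3 ma3T := matches_permOfTbl _ _ _
theorem m_z : Matches z zT := matches_permOfTbl _ _ _

theorem mem_t : (t, mt) ∈ P := mem_P_of_tbl m_t m_mt (by decide +kernel) (by decide +kernel)
theorem mem_h : (ι h, mh) ∈ P :=
  mem_P_of_tbl (m_ι m_h) m_mh (by decide +kernel) (by decide +kernel)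
theorem mem_x5 : (ι x5, mx5) ∈ P :=
  mem_P_of_tbl (m_ι m_x5) m_mx5 (by decide +kernel) (by decide +kernel)
theorem mem_x3 : (ι x3, mx3) ∈ P :=
  mem_P_of_tbl (m_ι m_x3) m_mx3 (by decide +kernel) (by decide +kernel)
theorem mem_u : (ι u, mu) ∈ P :=
  mem_P_of_tbl (m_ι m_u) m_mu (by decide +kernel) (by decide +kernel)
theorem mem_a3 : (a3, ma3) ∈ P := mem_P_of_tbl m_a3 m_ma3 (by decide +kernel) (by decide +kernel)
theorem mem_z : ((1 : ↥H12), z) ∈ P :=
  mem_P_of_tbl matchS_one m_z (by decide +kernel) (by decide +kernel)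

/-! ### The projection -/

/-- The projection onto `H12`. -/
def ξ : ↥P →* ↥H12 := (MonoidHom.fst ↥H12 (Equiv.Perm GolayPt)).comp P.subtype

theorem ξ_mk (g : ↥H12) (m : Equiv.Perm GolayPt) (hm : (g, m) ∈ P) : ξ ⟨(g, m), hm⟩ = g := rfl

theorem ξ_apply (x : ↥P) : ξ x = (x : ↥H12 × Equiv.Perm GolayPt).1 := rfl

theorem ξ_surj : Function.Surjective ξ := by
  rw [← MonoidHom.range_eq_top]
  have ht : t ∈ ξ.range := ⟨⟨(t, mt), mem_t⟩, ξ_mk _ _ _⟩
  have hh : ι h ∈ ξ.range := ⟨⟨(ι h, mh), mem_h⟩, ξ_mk _ _ _⟩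
  have hKs : Ks ≤ ξ.range.comap ι := by
    rw [← closure_eq_Ks, Subgroup.closure_le]
    rintro y ((hy | hy) | hy)
    · rw [hy]; exact ⟨⟨(ι x5, mx5), mem_x5⟩, ξ_mk _ _ _⟩
    · rw [Set.mem_singleton_iff] at hy; rw [hy]; exact ⟨⟨(ι x3, mx3), mem_x3⟩, ξ_mk _ _ _⟩
    · rw [Set.mem_singleton_iff] at hy; rw [hy]; exact ⟨⟨(ι u, mu), mem_u⟩, ξ_mk _ _ _⟩
  have hK : ∀ x : ↥K11, ι x ∈ ξ.range := by
    intro x
    rcases dc_Ks x with hx | ⟨k1, hk1, k2, hk2, rfl⟩
    · exact hKs hx
    · rw [map_mul, map_mul]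
      exact mul_mem (mul_mem (hKs hk1) hh) (hKs hk2)
  rw [eq_top_iff, ← gen_top, Subgroup.closure_le]
  rintro y (⟨x, rfl⟩ | hy)
  · exact hK x
  · rw [Set.mem_singleton_iff] at hy; rw [hy]; exact ht

/-! ### The kernel -/

theorem kT_fiber : ∀ i < 24, ∀ j < 24, kT.getD i 0 = kT.getD j 0 → j = i ∨ j = zT.getD i 0 := by
  decide

theorem zT_facts : ∀ i < 24, kT.getD (zT.getD i 0) 0 = kT.getD i 0 ∧ zT.getD i 0 ≠ i ∧
    zT.getD i 0 < 24 := by decide

/-- Two signed coordinates in different pairs lie in a common signed hexad. -/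
def chkC : Bool :=
  (List.range 24).all fun i => (List.range 24).all fun j =>
    kT.getD i 0 == kT.getD j 0 || Wmasks.any fun w => w.testBit i && w.testBit j

/-- A signed hexad contains at most one signed coordinate of each pair. -/
def chkB : Bool :=
  Wmasks.all fun w => (List.range 24).all fun k => !(w.testBit k && w.testBit (zT.getD k 0))

/-- Two signed hexads with the same support are equal or opposite. -/
def chkA : Bool :=
  Wmasks.all fun w => Wmasks.all fun w' =>
    !((List.range 24).all fun k => !w.testBit k || w'.testBit k || w'.testBit (zT.getD k 0)) ||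
    ((List.range 24).all fun k => w'.testBit k == w.testBit k) ||
    ((List.range 24).all fun k => w'.testBit k == w.testBit (zT.getD k 0))

theorem chkC_true : chkC = true := by decide +kernel
theorem chkB_true : chkB = true := by decide +kernel
theorem chkA_true : chkA = true := by decide +kernel

theorem idx_z (p : GolayPt) : idx (z p) = zT.getD (idx p) 0 := m_z p

theorem κ_z (p : GolayPt) : κ (z p) = κ p := by
  apply idx_injective
  rw [idx_κ, idx_κ, idx_z]
  exact (zT_facts _ (idx_lt p)).1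

theorem z_ne (p : GolayPt) : z p ≠ p := by
  intro h
  have := congrArg idx h
  rw [idx_z] at this
  exact (zT_facts _ (idx_lt p)).2.1 this

/-- Points with the same image under `κ`. -/
theorem eq_or_eq_z_of_κ_eq {a b : GolayPt} (h : κ a = κ b) : b = a ∨ b = z a := by
  have h1 := congrArg idx h
  rw [idx_κ, idx_κ] at h1
  rcases kT_fiber _ (idx_lt a) _ (idx_lt b) h1 with h2 | h2
  · exact Or.inl (idx_injective h2)
  · right
    apply idx_injective
    rw [h2, idx_z]

theorem mem_setOf_pt {w k : ℕ} (hk : k < 24) : pt k ∈ setOf w ↔ w.testBit k = true := by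
  rw [mem_setOf, idx_pt hk]

/-- A permutation preserving the pairs and the signed hexads, with a fixed point, fixes all the points. -/
theorem eq_of_fixed {f : Equiv.Perm GolayPt} (hW : f • WS = WS) (hκ : ∀ p, κ (f p) = κ p)
    {q : GolayPt} (hq : f q = q) (p : GolayPt) : f p = p := by
  by_contra hp
  have hfp : f p = z p := by
    rcases eq_or_eq_z_of_κ_eq (hκ p).symm with h | h
    · exact absurd h hp
    · exact h
  have hpq : κ p ≠ κ q := by
    intro h
    rcases eq_or_eq_z_of_κ_eq h with h1 | h1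
    · rw [h1] at hq; exact hp hq
    · have : f q = f p := by rw [hq, hfp, h1]
      have := f.injective this
      rw [this] at hq; exact hp hq
  -- a signed hexad through `p` and `q`
  have hC := chkC_true
  simp only [chkC, List.all_eq_true, List.mem_range, Bool.or_eq_true, beq_iff_eq,
    List.any_eq_true, Bool.and_eq_true] at hC
  obtain ⟨w, hw, hwp, hwq⟩ : ∃ w ∈ Wmasks, w.testBit (idx p) = true ∧ w.testBit (idx q) = true := by
    rcases hC (idx p) (idx_lt p) (idx q) (idx_lt q) with h | h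
    · exfalso
      apply hpq
      apply idx_injective
      rw [idx_κ, idx_κ]; exact h
    · exact h
  have hmem : f • setOf w ∈ WS := by
    rw [← hW]
    exact Set.smul_mem_smul_set ⟨w, hw, rfl⟩
  obtain ⟨w', hw', hww'⟩ := hmem
  have himg : ∀ r ∈ setOf w, f r ∈ setOf w' := by
    intro r hr
    rw [← hww']
    exact Finset.smul_mem_smul_finset hr
  have hB := chkB_true
  simp only [chkB, List.all_eq_true, List.mem_range, Bool.not_eq_true', Bool.and_eq_false_iff] at hB
  have hA := chkA_true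
  simp only [chkA, List.all_eq_true, List.mem_range, Bool.or_eq_true, Bool.not_eq_true',
    beq_iff_eq] at hA
  have hant : ((List.range 24).all fun k => !w.testBit k || w'.testBit k ||
      w'.testBit (zT.getD k 0)) = true := by
    simp only [List.all_eq_true, List.mem_range, Bool.or_eq_true, Bool.not_eq_true']
    intro k hk
    by_cases hwk : w.testBit k = true
    · have h1 := himg (pt k) ((mem_setOf_pt hk).mpr hwk)
      rw [mem_setOf] at h1
      rcases eq_or_eq_z_of_κ_eq (hκ (pt k)).symm with h2 | h2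
      · rw [h2, idx_pt hk] at h1
        exact Or.inl (Or.inr h1)
      · rw [h2, idx_z, idx_pt hk] at h1
        exact Or.inr h1
    · left; left
      simpa using hwk
  have hfpm : w'.testBit (zT.getD (idx p) 0) = true := by
    have h1 := himg p (mem_setOf.mpr hwp)
    rwa [hfp, mem_setOf, idx_z] at h1
  have hfqm : w'.testBit (idx q) = true := by
    have h1 := himg q (mem_setOf.mpr hwq)
    rwa [hq, mem_setOf] at h1
  rcases hA w hw w' hw' with (h | h) | h
  · rw [hant] at h; exact absurd h (by decide)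
  · have h1 := h (zT.getD (idx p) 0) (zT_facts _ (idx_lt p)).2.2
    rw [hfpm] at h1
    rcases hB w hw (idx p) (idx_lt p) with h2 | h2
    · rw [hwp] at h2; exact absurd h2 (by decide)
    · rw [← h1] at h2; exact absurd h2 (by decide)
  · have h1 := h (idx q) (idx_lt q)
    rw [hfqm] at h1
    rcases hB w hw (idx q) (idx_lt q) with h2 | h2
    · rw [hwq] at h2; exact absurd h2 (by decide)
    · rw [← h1] at h2; exact absurd h2 (by decide)

theorem eq_one_or_eq_z {f : Equiv.Perm GolayPt} (hW : f • WS = WS) (hκ : ∀ p, κ (f p) = κ p) :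
    f = 1 ∨ f = z := by
  by_cases hfix : ∃ q, f q = q
  · obtain ⟨q, hq⟩ := hfix
    left
    exact Equiv.ext fun p => eq_of_fixed hW hκ hq p
  · right
    push Not at hfix
    refine Equiv.ext fun p => ?_
    rcases eq_or_eq_z_of_κ_eq (hκ p).symm with h | h
    · exact absurd h (hfix p)
    · exact h

/-- The central element of the cover. -/
def zP : ↥P := ⟨(1, z), mem_z⟩

theorem ker_cases (x : ↥P) (hx : ξ x = 1) : x = 1 ∨ x = zP := by
  obtain ⟨⟨g, m⟩, hm⟩ := x
  rw [ξ_mk] at hx
  subst hx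
  have hm' := mem_P.mp hm
  rcases eq_one_or_eq_z hm'.1 (fun p => by rw [hm'.2 p]; rfl) with h | h
  · left; subst h; rfl
  · right; subst h; rfl

theorem comm_z {x : ↥H12 × Equiv.Perm GolayPt} (hx : x ∈ P) : x.2 * z = z * x.2 := by
  refine Equiv.ext fun p => ?_
  rw [Equiv.Perm.mul_apply, Equiv.Perm.mul_apply]
  have h1 : κ (x.2 (z p)) = κ (x.2 p) := by
    rw [(mem_P.mp hx).2, (mem_P.mp hx).2, κ_z]
  rcases eq_or_eq_z_of_κ_eq h1.symm with h | h
  · exact absurd (x.2.injective h) (z_ne p)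
  · exact h

theorem zP_central (y : ↥P) : y * zP = zP * y := by
  apply Subtype.ext
  apply Prod.ext
  · show (y : ↥H12 × Equiv.Perm GolayPt).1 * 1 = 1 * (y : ↥H12 × Equiv.Perm GolayPt).1
    rw [mul_one, one_mul]
  · exact comm_z y.2

/-! ### The stem extension -/

theorem zP_ne_one : zP ≠ 1 := by
  intro h
  have h1 : z = 1 := congrArg (fun x : ↥P => (x : ↥H12 × Equiv.Perm GolayPt).2) h
  exact z_ne (pt 0) (by rw [h1]; rfl)

theorem zP_sq : zP * zP = 1 := by
  apply Subtype.ext
  apply Prod.ext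
  · show (1 : ↥H12) * 1 = 1
    rw [mul_one]
  · show z * z = 1
    exact eq_of_matches (matches_mul m_z m_z) matches_one (teq_spec (by decide +kernel))

theorem ker_eq : ξ.ker = Subgroup.zpowers zP := by
  ext x
  rw [MonoidHom.mem_ker]
  constructor
  · intro hx
    rcases ker_cases x hx with h | h
    · rw [h]; exact Subgroup.one_mem _
    · rw [h]; exact Subgroup.mem_zpowers _
  · intro hx
    have hle : Subgroup.zpowers zP ≤ ξ.ker := by
      rw [Subgroup.zpowers_le, MonoidHom.mem_ker]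
      rfl
    exact MonoidHom.mem_ker.mp (hle hx)

theorem orderOf_zP : orderOf zP = 2 := by
  have : Fact (Nat.Prime 2) := ⟨Nat.prime_two⟩
  exact orderOf_eq_prime (by rw [pow_two]; exact zP_sq) zP_ne_one

theorem card_ker : Nat.card ξ.ker = 2 := by
  rw [ker_eq, Nat.card_zpowers, orderOf_zP]

/-- The first element of the commutator. -/
noncomputable def y1 : ↥P := ⟨(ι x3, mx3), mem_x3⟩ * ⟨(a3, ma3), mem_a3⟩
/-- The second element of the commutator. -/
noncomputable def y2 : ↥P := ⟨(a3, ma3), mem_a3⟩ * ⟨(ι x3, mx3), mem_x3⟩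

theorem y1_y2 : y1 * y2 = zP * y2 * y1 := by
  apply Subtype.ext
  apply Prod.ext
  · show ι x3 * a3 * (a3 * ι x3) = 1 * (a3 * ι x3) * (ι x3 * a3)
    rw [one_mul]
    exact eq_of_matchS (matchS_mul (matchS_mul (m_ι m_x3) m_a3) (matchS_mul m_a3 (m_ι m_x3)))
      (matchS_mul (matchS_mul m_a3 (m_ι m_x3)) (matchS_mul (m_ι m_x3) m_a3)) (by decide +kernel)
  · show mx3 * ma3 * (ma3 * mx3) = z * (ma3 * mx3) * (mx3 * ma3)
    exact eq_of_matches (matches_mul (matches_mul m_mx3 m_ma3) (matches_mul m_ma3 m_mx3))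
      (matches_mul (matches_mul m_z (matches_mul m_ma3 m_mx3)) (matches_mul m_mx3 m_ma3))
      (teq_spec (by decide +kernel))

theorem zP_mem_commutator : zP ∈ commutator ↥P := by
  have h : zP = y1 * y2 * y1⁻¹ * y2⁻¹ := by
    rw [y1_y2]; group
  rw [h, _root_.commutator_def]
  exact Subgroup.commutator_mem_commutator (Subgroup.mem_top y1) (Subgroup.mem_top y2)

theorem isStemExtension_ξ : IsStemExtension ξ := by
  refine ⟨ξ_surj, ?_, ?_⟩
  · rw [ker_eq, Subgroup.zpowers_le, Subgroup.mem_center_iff]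
    exact zP_central
  · rw [ker_eq, Subgroup.zpowers_le]
    exact zP_mem_commutator

instance finite_P : Finite ↥P := inferInstance

/-- A finite stem extension of `H12 ≅ M12` with kernel of order 2. -/
theorem exists_cover_H12 : ∃ (Γ : Type) (_ : Group Γ) (_ : Finite Γ) (σ : Γ →* ↥H12),
    IsStemExtension σ ∧ Nat.card σ.ker = 2 :=
  ⟨↥P, inferInstance, inferInstance, ξ, isStemExtension_ξ, card_ker⟩

/-- A finite stem extension of `M12` with kernel of order 2. -/
theorem exists_cover_M12 : ∃ (Γ : Type) (_ : Group Γ) (_ : Finite Γ) (σ : Γ →* ↥Spor.M12),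
    IsStemExtension σ ∧ Nat.card σ.ker = 2 := by
  have hD : Spor.squareDodecad ∈ dodecads := by
    rw [Cfsg.Agent.S5522.squareDodecad_eq]; exact Cfsg.Agent.S5522.dsq_mem_dodecads
  obtain ⟨ρ, hρ, hρd⟩ := exists_map_dodecad hD
  have hiff : ∀ g, ρ * g * ρ⁻¹ ∈ H12 ↔ g ∈ Spor.M12 := by
    intro g
    have hM : Spor.M12 = stabM24 Spor.squareDodecad := rfl
    rw [hM, conj_mem_stabM24 hρ Spor.squareDodecad, hρd]
    rfl
  have hst := Cfsg.Agent.Lib.Helper53.SchurTransport.isStemExtension_comp_mulEquiv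
    (Cfsg.Agent.Lib.Helper99.M12Out.conjMulEquivOfIff ρ Spor.M12 H12 hiff).symm ξ isStemExtension_ξ
  have hk : ((Cfsg.Agent.Lib.Helper99.M12Out.conjMulEquivOfIff ρ Spor.M12 H12
      hiff).symm.toMonoidHom.comp ξ).ker = ξ.ker :=
    MonoidHom.ker_comp_of_injective ξ _ (MulEquiv.injective _)
  exact ⟨↥P, inferInstance, inferInstance, _, hst, by rw [hk]; exact card_ker⟩

/-- The Schur multiplier of `M12` is cyclic of order 2. -/
theorem multiplier_M12 : HasCyclicSchurMultiplier ↥Spor.M12 2 :=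
  Cfsg.Agent.Lib.Helper7.Stem.hasCyclicSchurMultiplier_two_of_cover_and_bound exists_cover_M12
    (fun _ _ _ σ hσ => card_ker_le_two_M12 σ hσ)

end Cfsg.Agent.Lib.Helper7.M12Cover
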