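import Cfsg.Agent.Lib.Helper7.M24Data

/-!
# Data for the stabilizer of a dodecad (`M12`) and of a dodecad and a point (`M11`)

`d0Mask` is the mask of a dodecad containing the first five base points.  `chainProg2` continues the
straight-line program `chainProg`; it produces, for every level `i < 5` and every point `q` of
`d0` other than the first `i` base points, an element preserving `d0`, fixing the first `i` base points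
and mapping `q` to the `i`-th base point; and similarly for the stabilizer of `d0` and `∞` acting on
the complement of `d0` (three levels).
AUTO-GENERATED by scratch/gen_m12data.py; everything is re-checked here.
-/

set_option autoImplicit false

namespace Cfsg.Agent.Lib.Helper7
open Cfsg

/-- Mask of the reference dodecad. -/
def d0Mask : ℕ := 0x80d3cf

theorem isDodecadMask_d0 : isDodecadMask d0Mask = true := by
  decide +kernel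

/-- Continuation of the straight-line program. -/
@[irreducible] def chainProg2 : List (ℕ × ℕ) :=
  [
   (0, 1), (1, 2), (0, 2), (0, 230), (1, 1), (1, 229), (0, 229), (233, 232), (235, 228), (0, 234),
   (2, 230), (235, 230), (233, 1), (238, 234), (236, 237), (240, 241), (237, 239), (229, 235),
   (233, 243), (231, 234), (235, 240), (243, 234), (248, 237), (250, 237), (245, 251), (245, 244),
   (247, 253), (249, 245), (253, 254), (235, 243), (252, 237), (235, 258), (258, 257), (246, 259),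
   (257, 237), (260, 256), (260, 261), (264, 245), (242, 263), (265, 259), (262, 266), (94, 1),
   (130, 269), (147, 270), (180, 271), (272, 268), (273, 273), (274, 273), (275, 273), (276, 273),
   (277, 273), (278, 273), (279, 273), (280, 273), (281, 273), (262, 255), (95, 1), (112, 284),
   (153, 285), (183, 286), (215, 204), (168, 287), (289, 283), (279, 290), (280, 291), (291, 291),
   (293, 291), (294, 291), (295, 291), (296, 291), (297, 291), (257, 245), (126, 284), (150, 300),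
   (190, 301), (216, 302), (303, 299), (296, 304), (294, 305), (297, 305), (305, 305), (308, 305),
   (260, 283), (129, 284), (146, 311), (188, 312), (288, 313), (314, 310), (279, 315), (297, 316),
   (297, 317), (308, 317), (317, 305), (317, 317), (319, 317), (255, 259), (94, 13), (132, 324),
   (150, 325), (179, 326), (215, 226), (216, 224), (215, 225), (216, 206), (331, 327), (332, 323),
   (274, 333), (307, 334), (317, 335), (309, 336), (336, 336), (310, 260), (94, 11), (130, 340),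
   (161, 341), (185, 342), (205, 343), (344, 339), (281, 345), (318, 346), (305, 347), (338, 348),
   (336, 349), (338, 349), (350, 336), (351, 336), (352, 336), (353, 336), (349, 349), (356, 349),
   (255, 299), (95, 9), (253, 255), (191, 312), (330, 361), (362, 360), (273, 363), (318, 364),
   (337, 365), (336, 366), (349, 367), (356, 367), (357, 367), (268, 267), (129, 359), (161, 372),
   (179, 373), (168, 374), (375, 371), (282, 376), (377, 377), (378, 377), (379, 377), (380, 377),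
   (381, 377), (382, 377), (257, 260), (94, 9), (128, 385), (194, 386), (329, 387), (388, 384),
   (278, 389), (378, 390), (377, 391), (381, 391), (382, 391), (383, 391), (391, 391), (396, 391),
   (397, 391), (398, 391), (399, 391), (400, 391), (401, 391), (402, 391), (403, 391), (323, 260),
   (130, 385), (159, 406), (189, 407), (331, 408), (409, 405), (292, 410), (395, 411), (391, 412),
   (413, 413), (358, 360), (107, 9), (125, 416), (159, 417), (181, 418), (207, 419), (420, 415),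
   (292, 421), (382, 422), (414, 423), (423, 413), (242, 260), (161, 270), (178, 427), (328, 428),
   (429, 426), (279, 430), (403, 431), (424, 432), (425, 432), (434, 413)]

/-- The tables of the new entries produced by `chainProg2`. -/
@[irreducible] def chainT2new : List (List ℕ) :=
  [[23, 0, 12, 16, 18, 10, 20, 14, 21, 6, 17, 3, 22, 8, 19, 4, 11, 5, 15, 7, 9, 13, 2, 1],
   [23, 14, 19, 15, 11, 12, 22, 9, 10, 21, 13, 6, 20, 5, 4, 3, 7, 2, 17, 1, 16, 8, 18, 0],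
   [1, 19, 7, 4, 3, 22, 2, 6, 17, 13, 8, 20, 9, 10, 18, 16, 14, 12, 5, 0, 11, 21, 15, 23],
   [2, 20, 8, 5, 4, 0, 3, 7, 18, 14, 9, 21, 10, 11, 19, 17, 15, 13, 6, 1, 12, 22, 16, 23],
   [0, 1, 2, 3, 4, 5, 6, 7, 8, 9, 10, 11, 12, 13, 14, 15, 16, 17, 18, 19, 20, 21, 22, 23],
   [0, 18, 6, 3, 2, 21, 1, 5, 16, 12, 7, 19, 8, 9, 17, 15, 13, 11, 4, 22, 10, 20, 14, 23],
   [23, 15, 20, 16, 12, 13, 0, 10, 11, 22, 14, 7, 21, 6, 5, 4, 8, 3, 18, 2, 17, 9, 19, 1],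
   [0, 18, 6, 3, 2, 21, 1, 5, 16, 12, 7, 19, 8, 9, 17, 15, 13, 11, 4, 22, 10, 20, 14, 23],
   [23, 0, 8, 13, 4, 7, 10, 17, 20, 1, 11, 3, 14, 16, 22, 2, 19, 21, 15, 5, 12, 9, 6, 18],
   [23, 16, 21, 17, 13, 14, 1, 11, 12, 0, 15, 8, 22, 7, 6, 5, 9, 4, 19, 3, 18, 10, 20, 2],
   [18, 22, 5, 2, 3, 14, 6, 1, 11, 9, 16, 10, 12, 7, 4, 13, 17, 8, 21, 0, 19, 20, 15, 23],
   [18, 22, 5, 2, 3, 14, 6, 1, 11, 9, 16, 10, 12, 7, 4, 13, 17, 8, 21, 0, 19, 20, 15, 23],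
   [23, 14, 19, 15, 11, 12, 22, 9, 10, 21, 13, 6, 20, 5, 4, 3, 7, 2, 17, 1, 16, 8, 18, 0],
   [23, 13, 19, 17, 12, 7, 18, 16, 10, 15, 4, 1, 20, 6, 14, 3, 11, 2, 21, 5, 8, 9, 0, 22],
   [18, 19, 9, 21, 16, 22, 0, 3, 14, 23, 2, 20, 6, 17, 10, 7, 1, 4, 5, 13, 15, 11, 12, 8],
   [0, 5, 1, 2, 20, 9, 17, 7, 13, 3, 11, 14, 16, 22, 4, 15, 6, 19, 8, 12, 10, 21, 23, 18],
   [19, 20, 14, 21, 17, 6, 1, 16, 8, 0, 9, 15, 22, 11, 13, 7, 4, 12, 10, 23, 3, 18, 5, 2],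
   [23, 17, 22, 15, 19, 8, 14, 12, 7, 20, 9, 1, 10, 21, 2, 3, 5, 6, 11, 18, 13, 16, 4, 0],
   [0, 21, 18, 6, 10, 12, 11, 5, 9, 3, 19, 17, 13, 14, 2, 15, 1, 22, 16, 8, 7, 20, 23, 4],
   [23, 17, 12, 15, 10, 11, 2, 9, 21, 16, 19, 7, 22, 3, 0, 4, 18, 5, 6, 8, 13, 14, 1, 20],
   [23, 17, 22, 15, 19, 8, 14, 12, 7, 20, 9, 1, 10, 21, 2, 3, 5, 6, 11, 18, 13, 16, 4, 0],
   [18, 15, 10, 6, 16, 22, 0, 11, 14, 23, 4, 7, 21, 17, 9, 20, 13, 2, 8, 1, 19, 3, 12, 5],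
   [0, 5, 16, 6, 21, 2, 17, 1, 10, 23, 3, 7, 4, 12, 14, 8, 20, 19, 18, 15, 11, 9, 13, 22],
   [22, 20, 9, 19, 12, 14, 5, 7, 4, 0, 8, 10, 13, 1, 17, 2, 23, 21, 15, 6, 18, 3, 11, 16],
   [4, 13, 20, 18, 10, 2, 8, 12, 19, 23, 7, 9, 21, 17, 6, 22, 0, 16, 3, 14, 11, 15, 1, 5],
   [18, 13, 2, 16, 6, 14, 17, 5, 7, 23, 20, 3, 4, 1, 21, 12, 19, 10, 9, 0, 15, 11, 8, 22],
   [6, 3, 12, 18, 2, 0, 5, 11, 9, 20, 13, 15, 10, 17, 14, 22, 8, 19, 16, 23, 4, 7, 21, 1],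
   [5, 2, 12, 20, 1, 14, 9, 21, 11, 19, 23, 15, 4, 3, 10, 6, 22, 0, 7, 8, 17, 13, 16, 18],
   [17, 16, 4, 9, 2, 18, 14, 3, 23, 15, 1, 12, 20, 10, 21, 8, 7, 0, 19, 22, 6, 5, 11, 13],
   [0, 21, 18, 6, 10, 12, 11, 5, 9, 3, 19, 17, 13, 14, 2, 15, 1, 22, 16, 8, 7, 20, 23, 4],
   [5, 0, 15, 16, 17, 6, 13, 9, 21, 4, 22, 19, 1, 12, 8, 2, 23, 10, 14, 18, 3, 7, 11, 20],
   [21, 0, 15, 13, 11, 1, 9, 12, 20, 2, 14, 22, 18, 8, 16, 6, 23, 7, 17, 4, 3, 5, 19, 10],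
   [5, 7, 14, 13, 22, 1, 19, 6, 4, 16, 18, 10, 12, 8, 15, 2, 0, 11, 23, 21, 9, 3, 20, 17],
   [20, 0, 15, 14, 17, 21, 3, 13, 7, 18, 2, 23, 16, 9, 1, 11, 4, 5, 22, 10, 6, 12, 8, 19],
   [4, 1, 20, 22, 14, 2, 21, 17, 13, 0, 15, 9, 23, 5, 11, 12, 3, 10, 8, 6, 16, 19, 7, 18],
   [11, 0, 22, 16, 14, 23, 15, 13, 17, 2, 7, 12, 9, 18, 3, 4, 6, 5, 21, 20, 19, 1, 10, 8],
   [9, 5, 2, 15, 11, 3, 13, 8, 6, 23, 14, 17, 0, 16, 7, 10, 22, 1, 20, 18, 19, 12, 4, 21],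
   [21, 1, 4, 10, 18, 6, 7, 0, 8, 19, 23, 5, 14, 12, 2, 15, 3, 13, 17, 20, 16, 22, 11, 9],
   [20, 18, 12, 1, 10, 8, 7, 17, 4, 9, 3, 6, 23, 5, 21, 16, 0, 22, 11, 15, 13, 19, 2, 14],
   [22, 21, 15, 12, 5, 1, 19, 14, 16, 4, 2, 11, 17, 8, 3, 7, 9, 0, 13, 18, 10, 6, 20, 23],
   [16, 8, 23, 1, 15, 13, 17, 10, 14, 0, 22, 21, 18, 2, 19, 3, 4, 7, 9, 12, 5, 6, 20, 11],
   [23, 0, 9, 21, 17, 6, 18, 7, 5, 12, 15, 20, 14, 2, 10, 13, 11, 22, 4, 1, 8, 3, 19, 16],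
   [23, 0, 8, 1, 18, 16, 7, 11, 13, 4, 12, 5, 2, 14, 21, 10, 3, 17, 19, 6, 22, 9, 15, 20],
   [23, 0, 8, 1, 19, 3, 20, 22, 2, 17, 9, 16, 14, 15, 13, 18, 11, 6, 7, 12, 5, 4, 21, 10],
   [23, 0, 19, 1, 20, 22, 5, 11, 2, 16, 3, 12, 4, 17, 8, 21, 6, 9, 15, 7, 13, 18, 10, 14],
   [6, 2, 14, 0, 21, 17, 9, 3, 8, 23, 10, 18, 15, 19, 7, 1, 20, 11, 16, 4, 22, 5, 13, 12],
   [9, 14, 7, 6, 5, 11, 23, 0, 8, 12, 10, 16, 1, 4, 3, 2, 22, 18, 20, 21, 13, 17, 19, 15],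
   [23, 7, 3, 9, 17, 18, 12, 6, 8, 15, 10, 20, 2, 21, 0, 14, 13, 16, 22, 5, 19, 11, 4, 1],
   [12, 3, 0, 23, 11, 16, 15, 9, 8, 1, 10, 22, 14, 5, 6, 7, 19, 20, 13, 17, 4, 18, 21, 2],
   [15, 0, 6, 12, 18, 20, 1, 23, 8, 2, 10, 13, 7, 17, 9, 3, 4, 22, 19, 11, 21, 16, 5, 14],
   [1, 6, 9, 15, 16, 22, 2, 12, 8, 14, 10, 19, 3, 11, 23, 0, 21, 13, 4, 18, 5, 20, 17, 7],
   [2, 9, 23, 1, 20, 13, 14, 15, 8, 7, 10, 4, 0, 18, 12, 6, 5, 19, 21, 16, 17, 22, 11, 3],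
   [14, 23, 12, 2, 22, 19, 7, 1, 8, 3, 10, 21, 6, 16, 15, 9, 17, 4, 5, 20, 11, 13, 18, 0],
   [7, 12, 15, 14, 13, 4, 3, 2, 8, 0, 10, 5, 9, 20, 1, 23, 11, 21, 17, 22, 18, 19, 16, 6],
   [3, 15, 1, 7, 19, 21, 0, 14, 8, 6, 10, 17, 23, 22, 2, 12, 18, 5, 11, 13, 16, 4, 20, 9],
   [2, 20, 23, 16, 1, 11, 0, 19, 9, 6, 18, 12, 14, 22, 15, 21, 7, 4, 17, 13, 10, 5, 3, 8],
   [23, 15, 0, 4, 5, 20, 19, 1, 3, 12, 8, 2, 7, 22, 6, 16, 10, 21, 11, 17, 9, 18, 14, 13],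
   [23, 4, 0, 20, 18, 13, 1, 7, 14, 3, 17, 19, 2, 22, 21, 16, 9, 6, 12, 5, 10, 8, 11, 15],
   [23, 6, 0, 16, 7, 4, 1, 13, 2, 14, 5, 15, 17, 9, 19, 12, 20, 18, 22, 3, 21, 10, 11, 8],
   [23, 13, 0, 8, 4, 18, 1, 11, 2, 3, 14, 10, 17, 15, 22, 19, 20, 7, 12, 5, 16, 9, 6, 21],
   [0, 1, 2, 3, 6, 5, 4, 22, 20, 12, 11, 10, 9, 19, 14, 18, 21, 17, 15, 13, 8, 16, 7, 23],
   [23, 19, 0, 4, 21, 16, 1, 22, 2, 3, 17, 20, 5, 10, 6, 12, 15, 18, 13, 14, 7, 9, 11, 8],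
   [0, 7, 8, 15, 19, 20, 23, 14, 3, 1, 13, 5, 6, 11, 12, 9, 22, 21, 18, 10, 17, 16, 4, 2],
   [2, 15, 8, 6, 16, 17, 3, 12, 1, 9, 18, 13, 14, 4, 0, 7, 11, 22, 21, 10, 19, 5, 20, 23],
   [12, 9, 8, 7, 17, 4, 2, 6, 23, 3, 5, 16, 15, 22, 14, 1, 21, 18, 13, 10, 20, 19, 11, 0],
   [8, 7, 1, 3, 11, 22, 6, 14, 15, 9, 21, 4, 0, 16, 2, 12, 13, 20, 5, 18, 10, 17, 19, 23],
   [1, 12, 15, 6, 13, 20, 3, 0, 7, 9, 5, 16, 2, 11, 8, 14, 4, 19, 17, 21, 18, 22, 10, 23],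
   [15, 14, 7, 3, 4, 19, 6, 2, 12, 9, 17, 11, 8, 13, 1, 0, 16, 10, 22, 5, 21, 20, 18, 23],
   [7, 0, 12, 6, 16, 10, 3, 8, 14, 9, 22, 13, 1, 4, 15, 2, 11, 18, 20, 17, 5, 19, 21, 23],
   [12, 2, 14, 3, 11, 18, 6, 1, 0, 9, 20, 4, 15, 16, 7, 8, 13, 21, 19, 22, 17, 10, 5, 23],
   [14, 8, 0, 6, 13, 21, 3, 15, 2, 9, 19, 16, 7, 11, 12, 1, 4, 5, 10, 20, 22, 18, 17, 23],
   [4, 22, 23, 15, 8, 9, 2, 13, 5, 7, 3, 21, 19, 20, 18, 6, 12, 11, 17, 16, 14, 1, 10, 0],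
   [23, 6, 0, 16, 1, 17, 19, 11, 2, 4, 15, 18, 14, 10, 7, 20, 3, 5, 9, 12, 21, 22, 8, 13],
   [23, 4, 0, 20, 1, 2, 21, 11, 14, 13, 19, 6, 3, 8, 18, 9, 5, 17, 22, 16, 10, 12, 15, 7],
   [23, 20, 0, 8, 1, 2, 3, 21, 4, 15, 17, 14, 16, 6, 19, 12, 22, 13, 9, 10, 11, 7, 18, 5],
   [23, 11, 0, 21, 1, 2, 3, 9, 4, 18, 5, 17, 13, 15, 20, 7, 16, 22, 8, 12, 19, 10, 6, 14],
   [1, 6, 14, 7, 4, 18, 0, 15, 2, 9, 21, 10, 12, 19, 8, 3, 13, 17, 22, 16, 20, 11, 5, 23],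
   [0, 3, 15, 8, 16, 20, 7, 2, 12, 9, 19, 22, 1, 17, 14, 6, 4, 18, 21, 11, 5, 13, 10, 23],
   [1, 6, 14, 7, 4, 18, 0, 15, 2, 9, 21, 10, 12, 19, 8, 3, 13, 17, 22, 16, 20, 11, 5, 23],
   [12, 3, 8, 0, 13, 17, 1, 14, 15, 9, 22, 5, 2, 21, 7, 6, 11, 19, 10, 4, 18, 16, 20, 23],
   [0, 8, 6, 12, 4, 5, 2, 15, 1, 9, 11, 10, 3, 18, 14, 7, 16, 21, 13, 22, 20, 17, 19, 23],
   [0, 12, 7, 1, 16, 20, 15, 6, 3, 9, 22, 19, 8, 21, 14, 2, 4, 13, 17, 10, 5, 18, 11, 23],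
   [14, 9, 17, 0, 7, 10, 5, 21, 16, 19, 23, 12, 15, 20, 2, 3, 6, 22, 11, 8, 18, 1, 13, 4],
   [23, 3, 0, 1, 15, 18, 4, 21, 10, 20, 22, 11, 12, 5, 16, 13, 6, 7, 14, 8, 17, 2, 19, 9],
   [23, 5, 0, 1, 2, 20, 12, 14, 7, 19, 3, 16, 17, 11, 22, 15, 4, 18, 13, 8, 9, 21, 10, 6],
   [23, 19, 0, 1, 2, 3, 13, 6, 8, 18, 7, 15, 21, 16, 20, 14, 9, 4, 10, 22, 5, 12, 17, 11],
   [23, 13, 0, 1, 2, 3, 19, 4, 20, 15, 22, 18, 16, 21, 8, 14, 12, 6, 11, 7, 5, 9, 17, 10],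
   [8, 15, 6, 23, 4, 22, 3, 9, 12, 7, 10, 16, 14, 5, 0, 1, 19, 17, 18, 20, 11, 13, 21, 2],
   [8, 6, 14, 3, 20, 11, 1, 7, 0, 15, 10, 5, 12, 13, 2, 9, 16, 19, 21, 17, 4, 18, 22, 23],
   [0, 6, 7, 3, 17, 4, 2, 1, 12, 8, 20, 18, 15, 16, 14, 9, 13, 22, 10, 21, 11, 19, 5, 23],
   [12, 6, 1, 3, 21, 11, 14, 2, 15, 0, 17, 19, 8, 13, 7, 9, 16, 5, 20, 10, 4, 22, 18, 23],
   [0, 2, 15, 12, 21, 4, 6, 8, 3, 1, 20, 13, 7, 16, 14, 9, 18, 19, 11, 17, 10, 22, 5, 23],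
   [0, 3, 9, 12, 13, 11, 1, 7, 15, 8, 21, 5, 6, 22, 14, 2, 17, 10, 19, 18, 4, 16, 20, 23],
   [0, 2, 1, 3, 22, 17, 7, 6, 15, 12, 11, 10, 9, 13, 14, 8, 16, 5, 20, 19, 18, 21, 4, 23],
   [0, 6, 8, 12, 19, 21, 15, 2, 7, 3, 10, 11, 9, 18, 14, 1, 16, 5, 20, 22, 13, 17, 4, 23],
   [13, 5, 6, 3, 15, 2, 19, 4, 17, 12, 10, 16, 7, 11, 22, 9, 18, 21, 0, 1, 20, 14, 8, 23],
   [8, 3, 19, 23, 0, 9, 21, 17, 6, 18, 7, 5, 12, 15, 20, 14, 2, 10, 13, 11, 22, 4, 1, 16],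
   [12, 4, 21, 23, 0, 1, 17, 11, 14, 8, 7, 18, 16, 10, 20, 22, 9, 2, 19, 13, 3, 6, 15, 5],
   [16, 13, 10, 23, 0, 1, 2, 11, 3, 15, 18, 6, 20, 8, 9, 12, 22, 14, 21, 7, 5, 4, 19, 17],
   [15, 20, 18, 23, 0, 1, 2, 3, 6, 12, 14, 22, 8, 5, 11, 17, 9, 21, 4, 16, 19, 10, 13, 7],
   [0, 1, 2, 3, 21, 17, 10, 20, 8, 4, 13, 12, 18, 6, 5, 16, 19, 14, 11, 15, 22, 9, 7, 23],
   [0, 1, 2, 3, 13, 14, 9, 20, 7, 11, 18, 6, 21, 16, 17, 12, 4, 5, 19, 10, 8, 15, 22, 23],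
   [0, 1, 2, 3, 15, 17, 6, 19, 13, 11, 8, 22, 16, 10, 5, 18, 20, 14, 4, 21, 12, 7, 9, 23],
   [0, 1, 2, 3, 11, 14, 21, 6, 15, 13, 22, 20, 9, 12, 17, 16, 8, 5, 10, 19, 4, 7, 18, 23],
   [16, 4, 10, 23, 0, 1, 2, 3, 21, 9, 17, 18, 15, 14, 20, 5, 13, 7, 11, 8, 19, 22, 12, 6],
   [14, 1, 2, 23, 5, 10, 8, 0, 7, 15, 17, 13, 3, 18, 12, 9, 11, 22, 16, 4, 19, 20, 21, 6],
   [3, 14, 7, 15, 11, 10, 8, 9, 0, 2, 18, 4, 6, 20, 1, 12, 16, 19, 22, 5, 21, 13, 17, 23],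
   [0, 7, 14, 6, 5, 22, 15, 9, 12, 8, 10, 13, 1, 18, 3, 2, 11, 4, 20, 17, 16, 21, 19, 23],
   [0, 1, 14, 2, 4, 5, 9, 8, 15, 12, 20, 16, 6, 10, 3, 7, 18, 17, 11, 22, 13, 19, 21, 23],
   [0, 12, 14, 7, 16, 20, 9, 3, 2, 8, 5, 4, 15, 22, 1, 6, 17, 13, 19, 11, 21, 10, 18, 23],
   [0, 1, 3, 14, 4, 5, 12, 15, 7, 6, 13, 18, 9, 20, 2, 8, 11, 17, 16, 21, 10, 22, 19, 23],
   [10, 21, 2, 20, 13, 9, 8, 5, 7, 6, 11, 23, 15, 16, 3, 17, 14, 12, 4, 1, 19, 0, 18, 22],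
   [3, 19, 23, 0, 9, 21, 17, 6, 18, 7, 5, 12, 15, 20, 14, 2, 10, 13, 11, 22, 4, 1, 8, 16],
   [9, 15, 23, 0, 8, 1, 18, 16, 7, 11, 13, 4, 12, 5, 2, 14, 21, 10, 3, 17, 19, 6, 22, 20],
   [4, 10, 23, 0, 7, 1, 2, 13, 22, 6, 9, 11, 19, 17, 21, 8, 12, 18, 16, 20, 15, 3, 5, 14],
   [17, 16, 23, 0, 10, 1, 2, 3, 5, 9, 4, 19, 15, 12, 20, 7, 6, 21, 14, 13, 22, 18, 11, 8],
   [5, 18, 23, 0, 4, 1, 2, 3, 14, 16, 12, 21, 13, 10, 22, 7, 19, 6, 17, 11, 8, 9, 15, 20],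
   [12, 9, 23, 8, 10, 16, 14, 1, 3, 2, 21, 20, 7, 19, 0, 6, 22, 13, 4, 18, 11, 5, 17, 15],
   [9, 0, 6, 8, 10, 11, 1, 12, 14, 15, 19, 18, 2, 22, 7, 3, 16, 20, 13, 17, 5, 4, 21, 23],
   [0, 12, 14, 15, 17, 19, 6, 8, 7, 9, 10, 20, 1, 18, 2, 3, 16, 4, 13, 5, 11, 21, 22, 23],
   [0, 1, 14, 6, 18, 11, 7, 12, 2, 9, 19, 5, 3, 21, 15, 8, 4, 16, 17, 20, 22, 13, 10, 23],
   [0, 1, 2, 12, 16, 18, 15, 9, 3, 6, 21, 5, 14, 22, 8, 7, 4, 11, 17, 10, 19, 20, 13, 23],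
   [0, 1, 14, 6, 18, 11, 7, 12, 2, 9, 19, 5, 3, 21, 15, 8, 4, 16, 17, 20, 22, 13, 10, 23],
   [0, 1, 3, 9, 11, 16, 8, 6, 14, 12, 22, 5, 2, 19, 7, 15, 4, 18, 17, 13, 21, 10, 20, 23],
   [0, 1, 15, 14, 18, 11, 9, 2, 8, 3, 22, 4, 7, 19, 6, 12, 17, 16, 5, 10, 21, 20, 13, 23],
   [0, 1, 7, 3, 11, 16, 12, 14, 15, 2, 21, 4, 8, 22, 9, 6, 17, 18, 5, 20, 19, 13, 10, 23],
   [0, 1, 6, 15, 18, 11, 3, 8, 12, 7, 21, 17, 9, 22, 14, 2, 5, 16, 4, 13, 19, 10, 20, 23],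
   [0, 1, 9, 7, 11, 16, 2, 15, 6, 8, 19, 17, 12, 21, 3, 14, 5, 18, 4, 10, 22, 20, 13, 23],
   [0, 1, 2, 14, 4, 17, 7, 6, 12, 15, 20, 18, 8, 13, 3, 9, 16, 5, 11, 21, 10, 19, 22, 23],
   [0, 1, 2, 8, 16, 11, 9, 15, 14, 7, 19, 17, 3, 22, 12, 6, 4, 18, 5, 20, 21, 10, 13, 23],
   [1, 16, 18, 6, 11, 19, 12, 3, 14, 21, 20, 13, 8, 17, 7, 9, 4, 15, 0, 22, 10, 2, 23, 5],
   [14, 23, 15, 0, 4, 5, 20, 19, 1, 3, 12, 8, 2, 7, 22, 6, 16, 10, 21, 11, 17, 9, 18, 13],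
   [14, 2, 4, 15, 13, 21, 23, 11, 3, 0, 22, 12, 6, 16, 20, 17, 8, 18, 5, 7, 10, 1, 19, 9],
   [23, 12, 0, 1, 2, 9, 3, 18, 16, 22, 8, 21, 11, 14, 6, 10, 19, 17, 7, 5, 20, 13, 15, 4],
   [23, 16, 0, 1, 2, 11, 3, 4, 20, 9, 13, 7, 22, 5, 6, 8, 21, 14, 19, 17, 12, 10, 18, 15],
   [6, 0, 2, 8, 5, 10, 15, 7, 1, 23, 18, 22, 3, 21, 12, 14, 20, 19, 11, 4, 13, 16, 17, 9],
   [9, 6, 14, 8, 17, 10, 1, 3, 2, 12, 16, 13, 0, 5, 15, 7, 22, 4, 18, 21, 19, 20, 11, 23],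
   [0, 14, 7, 15, 5, 17, 6, 3, 1, 8, 16, 13, 12, 11, 9, 2, 18, 21, 20, 22, 10, 4, 19, 23],
   [0, 1, 3, 6, 20, 13, 9, 7, 12, 2, 17, 22, 15, 4, 8, 14, 19, 10, 21, 18, 5, 16, 11, 23],
   [0, 1, 2, 9, 13, 10, 12, 8, 6, 14, 17, 21, 7, 4, 15, 3, 22, 20, 19, 11, 5, 18, 16, 23],
   [0, 1, 2, 6, 22, 21, 14, 3, 15, 8, 11, 20, 9, 16, 7, 12, 13, 19, 10, 5, 18, 17, 4, 23],
   [0, 1, 2, 15, 13, 20, 8, 12, 7, 3, 5, 19, 6, 4, 9, 14, 22, 10, 21, 18, 17, 11, 16, 23],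
   [0, 1, 2, 7, 22, 19, 3, 14, 9, 12, 18, 10, 15, 16, 6, 8, 13, 21, 20, 17, 11, 5, 4, 23],
   [20, 6, 3, 18, 13, 8, 12, 19, 4, 15, 23, 21, 7, 14, 1, 10, 0, 16, 2, 9, 22, 17, 5, 11],
   [19, 23, 3, 0, 1, 15, 18, 4, 21, 10, 20, 22, 11, 12, 5, 16, 13, 6, 7, 14, 8, 17, 2, 9],
   [15, 23, 16, 0, 1, 10, 2, 11, 12, 18, 14, 5, 6, 19, 17, 13, 9, 3, 22, 8, 7, 20, 21, 4],
   [12, 23, 15, 0, 1, 18, 2, 3, 17, 14, 21, 19, 22, 13, 7, 20, 11, 6, 9, 5, 16, 8, 4, 10],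
   [13, 23, 10, 0, 1, 16, 2, 3, 5, 17, 8, 12, 6, 19, 18, 15, 22, 11, 9, 14, 7, 4, 21, 20],
   [7, 2, 0, 9, 19, 5, 6, 14, 1, 15, 20, 4, 3, 18, 23, 8, 13, 22, 10, 17, 21, 11, 16, 12],
   [14, 1, 3, 6, 13, 21, 0, 2, 15, 12, 16, 19, 7, 11, 9, 8, 22, 20, 10, 5, 4, 17, 18, 23],
   [9, 1, 6, 0, 11, 17, 14, 3, 8, 7, 22, 5, 2, 19, 12, 15, 18, 4, 16, 21, 13, 20, 10, 23],
   [12, 1, 0, 14, 19, 20, 9, 6, 15, 2, 18, 21, 3, 5, 7, 8, 10, 13, 22, 17, 11, 4, 16, 23],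
   [7, 1, 14, 9, 5, 4, 12, 0, 8, 3, 10, 17, 6, 21, 2, 15, 16, 11, 18, 20, 19, 13, 22, 23],
   [2, 1, 9, 12, 21, 13, 7, 14, 15, 6, 16, 20, 0, 17, 3, 8, 22, 19, 10, 4, 5, 11, 18, 23],
   [3, 1, 12, 7, 17, 11, 2, 9, 8, 0, 22, 4, 14, 20, 6, 15, 18, 5, 16, 13, 21, 19, 10, 23],
   [6, 1, 7, 2, 20, 19, 3, 12, 15, 14, 18, 13, 9, 4, 0, 8, 10, 21, 22, 11, 17, 5, 16, 23],
   [12, 5, 2, 14, 23, 21, 8, 11, 10, 1, 16, 19, 13, 9, 15, 18, 0, 17, 4, 20, 3, 6, 7, 22],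
   [19, 23, 0, 9, 21, 17, 6, 18, 7, 5, 12, 15, 20, 14, 2, 10, 13, 11, 22, 4, 1, 8, 3, 16],
   [12, 23, 0, 9, 15, 1, 14, 16, 2, 3, 8, 10, 13, 20, 4, 7, 5, 6, 21, 22, 19, 18, 11, 17],
   [14, 23, 0, 9, 10, 1, 16, 12, 2, 4, 3, 20, 11, 15, 8, 6, 13, 19, 21, 18, 7, 17, 5, 22],
   [17, 23, 0, 11, 18, 1, 4, 21, 2, 13, 3, 8, 6, 12, 7, 9, 16, 10, 15, 19, 20, 5, 14, 22],
   [6, 1, 0, 7, 22, 5, 2, 8, 3, 23, 16, 19, 12, 13, 9, 15, 17, 10, 18, 20, 11, 4, 21, 14],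
   [2, 6, 1, 12, 17, 22, 9, 8, 15, 7, 21, 18, 3, 11, 14, 0, 13, 10, 4, 5, 19, 16, 20, 23],
   [6, 14, 1, 2, 4, 10, 7, 8, 15, 3, 20, 16, 0, 5, 12, 9, 19, 22, 11, 17, 21, 18, 13, 23],
   [0, 9, 1, 3, 13, 16, 2, 15, 8, 6, 4, 22, 14, 21, 7, 12, 5, 18, 19, 20, 17, 10, 11, 23],
   [7, 3, 1, 9, 21, 16, 14, 15, 8, 12, 5, 22, 2, 13, 0, 6, 4, 18, 20, 19, 11, 10, 17, 23],
   [2, 6, 1, 12, 17, 22, 9, 8, 15, 7, 21, 18, 3, 11, 14, 0, 13, 10, 4, 5, 19, 16, 20, 23],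
   [3, 0, 1, 7, 20, 18, 12, 15, 8, 2, 17, 10, 6, 19, 9, 14, 11, 16, 13, 21, 5, 22, 4, 23],
   [7, 12, 14, 1, 4, 20, 8, 15, 9, 2, 21, 19, 6, 10, 0, 3, 17, 13, 16, 22, 18, 11, 5, 23],
   [8, 0, 12, 14, 4, 21, 15, 9, 3, 1, 18, 17, 7, 20, 6, 2, 22, 5, 19, 13, 11, 16, 10, 23],
   [15, 6, 0, 12, 4, 18, 9, 3, 2, 14, 11, 22, 8, 21, 7, 1, 13, 10, 17, 5, 16, 19, 20, 23],
   [9, 7, 6, 0, 4, 11, 3, 2, 1, 12, 16, 13, 15, 18, 8, 14, 5, 20, 22, 10, 19, 17, 21, 23],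
   [3, 8, 7, 6, 4, 16, 2, 1, 14, 0, 19, 5, 9, 11, 15, 12, 10, 21, 13, 20, 17, 22, 18, 23],
   [2, 15, 8, 7, 4, 19, 1, 14, 12, 6, 17, 10, 3, 16, 9, 0, 20, 18, 5, 21, 22, 13, 11, 23],
   [1, 9, 15, 8, 4, 17, 14, 12, 0, 7, 22, 20, 2, 19, 3, 6, 21, 11, 10, 18, 13, 5, 16, 23],
   [14, 3, 9, 15, 4, 22, 12, 0, 6, 8, 13, 21, 1, 17, 2, 7, 18, 16, 20, 11, 5, 10, 19, 23],
   [12, 2, 3, 9, 4, 13, 0, 6, 7, 15, 5, 18, 14, 22, 1, 8, 11, 19, 21, 16, 10, 20, 17, 23],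
   [2, 4, 22, 11, 8, 5, 1, 19, 15, 18, 0, 10, 7, 17, 9, 6, 13, 16, 23, 14, 12, 3, 20, 21],
   [15, 23, 0, 8, 1, 18, 16, 7, 11, 13, 4, 12, 5, 2, 14, 21, 10, 3, 17, 19, 6, 22, 9, 20],
   [15, 23, 0, 18, 1, 6, 2, 19, 20, 16, 13, 5, 17, 22, 10, 8, 3, 7, 11, 14, 9, 4, 21, 12],
   [20, 23, 0, 19, 1, 14, 2, 3, 9, 13, 4, 8, 11, 22, 10, 21, 18, 17, 7, 12, 15, 16, 5, 6],
   [4, 23, 0, 19, 1, 17, 2, 3, 13, 12, 11, 15, 20, 18, 22, 7, 10, 5, 6, 9, 16, 8, 14, 21],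
   [0, 1, 14, 15, 13, 17, 23, 9, 7, 6, 4, 11, 3, 5, 12, 2, 18, 10, 21, 22, 20, 19, 16, 8],
   [12, 9, 14, 1, 22, 18, 0, 3, 6, 2, 17, 16, 7, 4, 15, 8, 13, 5, 19, 11, 20, 10, 21, 23],
   [6, 2, 9, 0, 4, 13, 3, 7, 12, 1, 16, 11, 15, 20, 14, 8, 19, 18, 21, 10, 5, 17, 22, 23],
   [7, 1, 3, 6, 4, 5, 2, 8, 0, 14, 19, 16, 9, 21, 12, 15, 17, 11, 18, 20, 10, 22, 13, 23],
   [8, 1, 6, 2, 4, 5, 3, 0, 7, 12, 20, 17, 14, 22, 9, 15, 11, 16, 18, 10, 19, 13, 21, 23],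
   [7, 18, 11, 9, 17, 2, 5, 13, 6, 1, 23, 8, 12, 4, 10, 15, 14, 0, 19, 3, 20, 16, 22, 21],
   [22, 23, 20, 17, 15, 0, 6, 4, 11, 7, 14, 12, 1, 5, 3, 18, 8, 13, 16, 19, 10, 2, 21, 9],
   [9, 23, 8, 11, 21, 0, 1, 16, 10, 3, 18, 15, 14, 19, 7, 22, 13, 20, 4, 2, 12, 5, 17, 6],
   [21, 23, 18, 20, 8, 0, 1, 2, 3, 7, 6, 15, 10, 14, 19, 4, 16, 12, 13, 22, 5, 17, 11, 9],
   [17, 23, 19, 22, 7, 0, 1, 2, 20, 3, 14, 16, 13, 15, 5, 18, 11, 21, 12, 8, 9, 10, 6, 4],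
   [17, 23, 4, 21, 16, 0, 1, 2, 11, 3, 14, 7, 6, 12, 5, 9, 20, 22, 15, 10, 18, 8, 13, 19],
   [2, 15, 7, 3, 22, 4, 0, 12, 1, 23, 19, 11, 6, 16, 14, 9, 5, 17, 10, 21, 18, 20, 13, 8],
   [8, 1, 6, 7, 11, 17, 12, 15, 9, 0, 10, 16, 2, 21, 14, 3, 4, 18, 5, 19, 13, 20, 22, 23],
   [8, 1, 2, 9, 4, 5, 14, 15, 0, 3, 22, 18, 12, 19, 6, 7, 17, 16, 11, 13, 20, 21, 10, 23],
   [7, 1, 6, 12, 4, 5, 9, 15, 8, 2, 21, 18, 14, 10, 3, 0, 16, 11, 17, 22, 19, 13, 20, 23],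
   [15, 1, 9, 14, 4, 5, 2, 0, 8, 6, 13, 17, 3, 21, 12, 7, 16, 18, 11, 20, 22, 10, 19, 23],
   [22, 3, 10, 17, 12, 19, 13, 0, 16, 1, 5, 2, 6, 14, 7, 9, 18, 20, 8, 11, 23, 21, 15, 4],
   [23, 0, 7, 1, 2, 13, 22, 6, 9, 11, 19, 17, 21, 8, 12, 18, 16, 20, 15, 3, 5, 4, 10, 14],
   [23, 0, 12, 1, 2, 5, 3, 11, 6, 22, 8, 15, 18, 13, 16, 4, 17, 19, 7, 9, 20, 14, 21, 10],
   [23, 0, 18, 1, 2, 17, 3, 12, 10, 7, 8, 16, 11, 6, 19, 21, 14, 15, 20, 4, 22, 5, 9, 13],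
   [9, 1, 8, 15, 11, 4, 6, 23, 14, 0, 17, 18, 3, 19, 12, 7, 20, 22, 10, 16, 13, 5, 21, 2],
   [7, 9, 8, 6, 4, 20, 14, 3, 12, 2, 19, 21, 1, 16, 0, 15, 17, 11, 10, 5, 18, 13, 22, 23],
   [0, 8, 6, 12, 4, 5, 2, 15, 1, 9, 11, 10, 3, 18, 14, 7, 16, 21, 13, 22, 20, 17, 19, 23],
   [7, 8, 9, 14, 4, 5, 6, 0, 1, 2, 18, 21, 12, 17, 3, 15, 16, 13, 10, 20, 19, 11, 22, 23],
   [15, 8, 2, 3, 4, 5, 9, 7, 1, 6, 17, 13, 14, 11, 12, 0, 16, 10, 21, 19, 22, 18, 20, 23],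
   [7, 8, 3, 9, 4, 5, 2, 1, 15, 12, 19, 16, 6, 18, 14, 0, 10, 13, 21, 22, 17, 20, 11, 23]]

/-- All tables after running `chainProg2`. -/
def chainT2 : List (List ℕ) := chainT ++ chainT2new

theorem runT_chainProg2 : runT chainProg2 chainT = chainT2 := by
  decide +kernel

/-- The permutations produced by `chainProg2` (continuing `chainP`). -/
noncomputable def chainP2 : List (Equiv.Perm GolayPt) := runP chainProg2 chainP

theorem chain2_match : List.Forall₂ Matches chainP2 chainT2 := by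
  rw [← runT_chainProg2]
  exact forall₂_runP_runT _ _ _ chain_match

/-- Lookup table for the `M12` chain (levels 0..4; base points `∞, 0, 1, 2, 3`). -/
def lookupM12 : List (List ℕ) :=
  [[275, 280, 279, 276, 441, 441, 274, 277, 292, 273, 441, 441, 282, 441, 278, 281, 441, 441, 441, 441, 441, 441, 441, 441],
   [441, 296, 298, 307, 441, 441, 306, 294, 297, 318, 441, 441, 293, 441, 291, 295, 441, 441, 441, 441, 441, 441, 441, 441],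
   [441, 441, 321, 309, 441, 441, 320, 317, 308, 319, 441, 441, 305, 441, 337, 322, 441, 441, 441, 441, 441, 441, 441, 441],
   [441, 441, 441, 336, 441, 441, 355, 352, 350, 353, 441, 441, 351, 441, 338, 354, 441, 441, 441, 441, 441, 441, 441, 441],
   [441, 441, 441, 441, 441, 441, 370, 368, 349, 369, 441, 441, 357, 441, 356, 367, 441, 441, 441, 441, 441, 441, 441, 441]]

/-- Lookup table for the `M11` chain on the complement of `d0` (levels 0..2). -/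
def lookupM11 : List (List ℕ) :=
  [[441, 441, 441, 441, 441, 380, 441, 441, 441, 441, 392, 382, 441, 383, 441, 441, 393, 378, 394, 381, 377, 379, 395, 441],
   [441, 441, 441, 441, 441, 441, 441, 441, 441, 441, 404, 400, 441, 391, 441, 441, 399, 397, 401, 398, 403, 402, 396, 441],
   [441, 441, 441, 441, 441, 441, 441, 441, 441, 441, 441, 432, 441, 424, 441, 441, 435, 434, 433, 414, 413, 425, 423, 441]]

/-- Base points of the `M11` chain on the complement of `d0`. -/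
def baseC : List ℕ := [4, 5, 10]


/-- The table `t` maps the set with mask `m` into the set with mask `m'`. -/
def mapsInto (t : List ℕ) (m m' : ℕ) : Bool :=
  (List.range 24).all fun i => !m.testBit i || m'.testBit (t.getD i 0)

/-- Membership of `q` in the `i`-th basic orbit of the `M12` chain. -/
def okM12 (i q : ℕ) : Bool := d0Mask.testBit q && !(baseL.take i).contains q

/-- The table `t` preserves `d0`, fixes the first `i` base points and maps `q` to the `i`-th. -/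
def goodM12 (i q : ℕ) (t : List ℕ) : Bool :=
  goodT i q t && mapsInto t d0Mask d0Mask

theorem chainM12_check : ∀ i < 5, ∀ q < 24, okM12 i q = true →
    goodM12 i q (chainT2.getD ((lookupM12.getD i []).getD q 0) idT) = true := by
  decide +kernel

/-- Membership of `q` in the `i`-th basic orbit of the `M11` chain on the complement. -/
def okM11 (i q : ℕ) : Bool := !d0Mask.testBit q && !(baseC.take i).contains q

/-- The table `t` preserves `d0`, fixes `∞` and the first `i` points of `baseC` and maps `q` to the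
`i`-th point of `baseC`. -/
def goodM11 (i q : ℕ) (t : List ℕ) : Bool :=
  ((List.range i).all fun j => t.getD (baseC.getD j 0) 0 == baseC.getD j 0) &&
    (t.getD q 0 == baseC.getD i 0) && (t.getD 23 0 == 23) && mapsInto t d0Mask d0Mask

theorem chainM11_check : ∀ i < 3, ∀ q < 24, okM11 i q = true →
    goodM11 i q (chainT2.getD ((lookupM11.getD i []).getD q 0) idT) = true := by
  decide +kernel

/-- `wT[q][r]` is the table of `u₆(r) * u₅(q)` (an element of `M24` fixing the first five base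
points, mapping `q` to the sixth and `u₅(q)⁻¹ r`... to the seventh); empty when `(q, r)` is not admissible. -/
@[irreducible] def wT : List (List (List ℕ)) :=
  [[[],
    [],
    [],
    [],
    [],
    [],
    [],
    [],
    [],
    [],
    [],
    [],
    [],
    [],
    [],
    [],
    [],
    [],
    [],
    [],
    [],
    [],
    [],
    []],
   [[],
    [],
    [],
    [],
    [],
    [],
    [],
    [],
    [],
    [],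
    [],
    [],
    [],
    [],
    [],
    [],
    [],
    [],
    [],
    [],
    [],
    [],
    [],
    []],
   [[],
    [],
    [],
    [],
    [],
    [],
    [],
    [],
    [],
    [],
    [],
    [],
    [],
    [],
    [],
    [],
    [],
    [],
    [],
    [],
    [],
    [],
    [],
    []],
   [[],
    [],
    [],
    [],
    [],
    [],
    [],
    [],
    [],
    [],
    [],
    [],
    [],
    [],
    [],
    [],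
    [],
    [],
    [],
    [],
    [],
    [],
    [],
    []],
   [[],
    [],
    [],
    [],
    [],
    [0, 1, 2, 3, 4, 5, 6, 7, 8, 9, 10, 11, 12, 13, 14, 15, 16, 17, 18, 19, 20, 21, 22, 23],
    [],
    [],
    [],
    [],
    [],
    [],
    [],
    [],
    [0, 1, 2, 3, 4, 17, 18, 12, 9, 21, 7, 20, 10, 16, 5, 6, 22, 14, 15, 11, 19, 8, 13, 23],
    [],
    [],
    [0, 1, 2, 3, 4, 14, 15, 10, 21, 8, 12, 19, 7, 22, 17, 18, 13, 5, 6, 20, 11, 9, 16, 23],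
    [],
    [],
    [],
    [],
    [],
    []],
   [[],
    [],
    [],
    [],
    [],
    [],
    [],
    [],
    [],
    [],
    [],
    [],
    [],
    [],
    [],
    [],
    [],
    [],
    [],
    [],
    [],
    [],
    [],
    []],
   [[],
    [],
    [],
    [],
    [],
    [0, 1, 2, 3, 15, 14, 4, 16, 11, 7, 19, 12, 8, 20, 17, 6, 9, 5, 18, 22, 21, 13, 10, 23],
    [],
    [],
    [],
    [],
    [],
    [],
    [],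
    [],
    [0, 1, 2, 3, 6, 5, 4, 22, 20, 12, 11, 10, 9, 19, 14, 18, 21, 17, 15, 13, 8, 16, 7, 23],
    [],
    [],
    [0, 1, 2, 3, 18, 17, 4, 13, 19, 10, 20, 7, 21, 11, 5, 15, 8, 14, 6, 16, 9, 22, 12, 23],
    [],
    [],
    [],
    [],
    [],
    []],
   [[],
    [],
    [],
    [],
    [],
    [0, 1, 2, 3, 7, 5, 22, 4, 15, 11, 12, 9, 10, 21, 14, 8, 19, 17, 20, 16, 18, 13, 6, 23],
    [],
    [],
    [],
    [],
    [],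
    [],
    [],
    [],
    [0, 1, 2, 3, 12, 17, 13, 4, 6, 20, 10, 21, 7, 8, 5, 9, 11, 14, 19, 22, 15, 16, 18, 23],
    [],
    [],
    [0, 1, 2, 3, 10, 14, 16, 4, 18, 19, 7, 8, 12, 9, 17, 21, 20, 5, 11, 13, 6, 22, 15, 23],
    [],
    [],
    [],
    [],
    [],
    []],
   [[],
    [],
    [],
    [],
    [],
    [0, 1, 2, 3, 21, 14, 11, 18, 4, 9, 20, 22, 13, 19, 17, 10, 7, 5, 16, 12, 15, 8, 6, 23],
    [],
    [],
    [],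
    [],
    [],
    [],
    [],
    [],
    [0, 1, 2, 3, 8, 5, 20, 15, 4, 21, 19, 13, 16, 11, 14, 7, 12, 17, 22, 10, 6, 9, 18, 23],
    [],
    [],
    [0, 1, 2, 3, 9, 17, 19, 6, 4, 8, 11, 16, 22, 20, 5, 12, 10, 14, 13, 7, 18, 21, 15, 23],
    [],
    [],
    [],
    [],
    [],
    []],
   [[],
    [],
    [],
    [],
    [],
    [0, 1, 2, 3, 9, 5, 12, 11, 21, 4, 22, 7, 6, 15, 14, 13, 20, 17, 19, 18, 16, 8, 10, 23],
    [],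
    [],
    [],
    [],
    [],
    [],
    [],
    [],
    [0, 1, 2, 3, 21, 17, 10, 20, 8, 4, 13, 12, 18, 6, 5, 16, 19, 14, 11, 15, 22, 9, 7, 23],
    [],
    [],
    [0, 1, 2, 3, 8, 14, 7, 19, 9, 4, 16, 10, 15, 18, 17, 22, 11, 5, 20, 6, 13, 21, 12, 23],
    [],
    [],
    [],
    [],
    [],
    []],
   [[],
    [],
    [],
    [],
    [],
    [0, 1, 2, 3, 12, 14, 19, 7, 20, 16, 4, 15, 10, 11, 17, 13, 18, 5, 9, 21, 22, 6, 8, 23],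
    [],
    [],
    [],
    [],
    [],
    [],
    [],
    [],
    [0, 1, 2, 3, 10, 5, 11, 12, 19, 22, 4, 6, 7, 20, 14, 16, 15, 17, 21, 8, 13, 18, 9, 23],
    [],
    [],
    [0, 1, 2, 3, 7, 17, 20, 10, 11, 13, 4, 18, 12, 19, 5, 22, 6, 14, 8, 9, 16, 15, 21, 23],
    [],
    [],
    [],
    [],
    [],
    []],
   [[],
    [],
    [],
    [],
    [],
    [0, 1, 2, 3, 11, 5, 10, 9, 13, 7, 6, 4, 22, 8, 14, 21, 18, 17, 16, 20, 19, 15, 12, 23],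
    [],
    [],
    [],
    [],
    [],
    [],
    [],
    [],
    [0, 1, 2, 3, 20, 17, 7, 21, 16, 12, 18, 4, 13, 9, 5, 8, 15, 14, 22, 19, 11, 6, 10, 23],
    [],
    [],
    [0, 1, 2, 3, 19, 14, 12, 8, 22, 10, 15, 4, 16, 21, 17, 9, 6, 5, 13, 11, 20, 18, 7, 23],
    [],
    [],
    [],
    [],
    [],
    []],
   [[],
    [],
    [],
    [],
    [],
    [0, 1, 2, 3, 10, 17, 21, 7, 22, 18, 12, 13, 4, 15, 5, 11, 9, 14, 16, 6, 8, 19, 20, 23],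
    [],
    [],
    [],
    [],
    [],
    [],
    [],
    [],
    [0, 1, 2, 3, 7, 14, 8, 12, 13, 15, 10, 16, 4, 6, 17, 20, 21, 5, 22, 18, 9, 11, 19, 23],
    [],
    [],
    [0, 1, 2, 3, 12, 5, 9, 10, 16, 6, 7, 22, 4, 18, 14, 19, 8, 17, 13, 15, 21, 20, 11, 23],
    [],
    [],
    [],
    [],
    [],
    []],
   [[],
    [],
    [],
    [],
    [],
    [0, 1, 2, 3, 22, 14, 20, 9, 19, 18, 11, 21, 6, 4, 17, 8, 16, 5, 7, 15, 12, 10, 13, 23],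
    [],
    [],
    [],
    [],
    [],
    [],
    [],
    [],
    [0, 1, 2, 3, 13, 5, 19, 21, 11, 15, 20, 8, 18, 4, 14, 9, 22, 17, 12, 6, 10, 7, 16, 23],
    [],
    [],
    [0, 1, 2, 3, 16, 17, 11, 8, 20, 6, 19, 9, 15, 4, 5, 21, 13, 14, 10, 18, 7, 12, 22, 23],
    [],
    [],
    [],
    [],
    [],
    []],
   [[],
    [],
    [],
    [],
    [],
    [],
    [],
    [],
    [],
    [],
    [],
    [],
    [],
    [],
    [],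
    [],
    [],
    [],
    [],
    [],
    [],
    [],
    [],
    []],
   [[],
    [],
    [],
    [],
    [],
    [0, 1, 2, 3, 6, 17, 15, 9, 12, 16, 22, 8, 11, 21, 5, 4, 7, 14, 18, 10, 13, 20, 19, 23],
    [],
    [],
    [],
    [],
    [],
    [],
    [],
    [],
    [0, 1, 2, 3, 18, 14, 6, 21, 10, 22, 13, 9, 20, 8, 17, 4, 12, 5, 15, 7, 16, 19, 11, 23],
    [],
    [],
    [0, 1, 2, 3, 15, 5, 18, 8, 7, 13, 16, 21, 19, 9, 14, 4, 10, 17, 6, 12, 22, 11, 20, 23],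
    [],
    [],
    [],
    [],
    [],
    []],
   [[],
    [],
    [],
    [],
    [],
    [0, 1, 2, 3, 16, 5, 21, 19, 12, 20, 15, 18, 8, 22, 14, 10, 4, 17, 11, 7, 9, 6, 13, 23],
    [],
    [],
    [],
    [],
    [],
    [],
    [],
    [],
    [0, 1, 2, 3, 22, 17, 8, 11, 10, 19, 6, 15, 9, 13, 5, 7, 4, 14, 20, 12, 21, 18, 16, 23],
    [],
    [],
    [0, 1, 2, 3, 13, 14, 9, 20, 7, 11, 18, 6, 21, 16, 17, 12, 4, 5, 19, 10, 8, 15, 22, 23],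
    [],
    [],
    [],
    [],
    [],
    []],
   [[],
    [],
    [],
    [],
    [],
    [],
    [],
    [],
    [],
    [],
    [],
    [],
    [],
    [],
    [],
    [],
    [],
    [],
    [],
    [],
    [],
    [],
    [],
    []],
   [[],
    [],
    [],
    [],
    [],
    [0, 1, 2, 3, 18, 5, 15, 20, 22, 19, 21, 16, 13, 12, 14, 6, 11, 17, 4, 9, 7, 10, 8, 23],
    [],
    [],
    [],
    [],
    [],
    [],
    [],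
    [],
    [0, 1, 2, 3, 15, 17, 6, 19, 13, 11, 8, 22, 16, 10, 5, 18, 20, 14, 4, 21, 12, 7, 9, 23],
    [],
    [],
    [0, 1, 2, 3, 6, 14, 18, 11, 16, 20, 9, 13, 22, 7, 17, 15, 19, 5, 4, 8, 10, 12, 21, 23],
    [],
    [],
    [],
    [],
    [],
    []],
   [[],
    [],
    [],
    [],
    [],
    [0, 1, 2, 3, 19, 5, 13, 16, 10, 18, 8, 20, 15, 6, 14, 12, 7, 17, 9, 4, 11, 22, 21, 23],
    [],
    [],
    [],
    [],
    [],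
    [],
    [],
    [],
    [0, 1, 2, 3, 11, 17, 16, 22, 7, 15, 9, 19, 6, 18, 5, 10, 12, 14, 21, 4, 20, 13, 8, 23],
    [],
    [],
    [0, 1, 2, 3, 20, 14, 22, 13, 12, 6, 21, 11, 18, 15, 17, 7, 10, 5, 8, 4, 19, 16, 9, 23],
    [],
    [],
    [],
    [],
    [],
    []],
   [[],
    [],
    [],
    [],
    [],
    [0, 1, 2, 3, 20, 5, 8, 18, 6, 16, 13, 19, 21, 10, 14, 22, 9, 17, 7, 11, 4, 12, 15, 23],
    [],
    [],
    [],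
    [],
    [],
    [],
    [],
    [],
    [0, 1, 2, 3, 19, 17, 9, 15, 18, 22, 16, 11, 8, 7, 5, 13, 21, 14, 12, 20, 4, 10, 6, 23],
    [],
    [],
    [0, 1, 2, 3, 11, 14, 21, 6, 15, 13, 22, 20, 9, 12, 17, 16, 8, 5, 10, 19, 4, 7, 18, 23],
    [],
    [],
    [],
    [],
    [],
    []],
   [[],
    [],
    [],
    [],
    [],
    [0, 1, 2, 3, 8, 17, 22, 16, 21, 9, 15, 6, 19, 12, 5, 20, 18, 14, 7, 13, 10, 4, 11, 23],
    [],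
    [],
    [],
    [],
    [],
    [],
    [],
    [],
    [0, 1, 2, 3, 9, 14, 13, 22, 8, 21, 6, 18, 11, 10, 17, 19, 15, 5, 12, 16, 7, 4, 20, 23],
    [],
    [],
    [0, 1, 2, 3, 21, 5, 16, 13, 9, 8, 18, 15, 20, 7, 14, 11, 6, 17, 10, 22, 12, 4, 19, 23],
    [],
    [],
    [],
    [],
    [],
    []],
   [[],
    [],
    [],
    [],
    [],
    [0, 1, 2, 3, 13, 17, 12, 18, 15, 7, 21, 10, 20, 22, 5, 19, 16, 14, 9, 8, 6, 11, 4, 23],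
    [],
    [],
    [],
    [],
    [],
    [],
    [],
    [],
    [0, 1, 2, 3, 16, 14, 10, 15, 6, 12, 8, 7, 19, 13, 17, 11, 22, 5, 21, 9, 18, 20, 4, 23],
    [],
    [],
    [0, 1, 2, 3, 22, 5, 7, 6, 18, 10, 9, 12, 11, 16, 14, 20, 13, 17, 8, 21, 15, 19, 4, 23],
    [],
    [],
    [],
    [],
    [],
    []],
   [[],
    [],
    [],
    [],
    [],
    [],
    [],
    [],
    [],
    [],
    [],
    [],
    [],
    [],
    [],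
    [],
    [],
    [],
    [],
    [],
    [],
    [],
    [],
    []]]

/-- The table of `u₆(r) * u₅(q)` computed from the chain tables. -/
def wComp (q r : ℕ) : List ℕ :=
  compT (chainT.getD ((lookupT.getD 6 []).getD r 0) idT) (chainT.getD ((lookupT.getD 5 []).getD q 0) idT)

theorem wT_eq : ∀ q < 24, ∀ r < 24, orbitOK 5 q = true → orbitOK 6 r = true →
    (wT.getD q []).getD r [] = wComp q r := by
  decide +kernel

/-- Only the identity among the 48 elements fixing the first five base points preserves `d0`. -/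
def wPresOK (q r : ℕ) : Bool :=
  !(orbitOK 5 q && orbitOK 6 r && mapsInto ((wT.getD q []).getD r []) d0Mask d0Mask) ||
    (q == 4 && r == 5)

theorem w_preserves_d0_check : ∀ q < 24, ∀ r < 24, wPresOK q r = true := by
  decide +kernel

theorem w_preserves_d0 {q r : ℕ} (hq : q < 24) (hr : r < 24) (h5 : orbitOK 5 q = true)
    (h6 : orbitOK 6 r = true)
    (hm : mapsInto ((wT.getD q []).getD r []) d0Mask d0Mask = true) : q = 4 ∧ r = 5 := by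
  have := w_preserves_d0_check q hq r hr
  simp only [wPresOK, h5, h6, hm, Bool.and_self, Bool.not_true, Bool.false_or, Bool.and_eq_true,
    beq_iff_eq] at this
  exact this

/-- Some admissible `(q, r)` whose element `w` maps the set with mask `m` into `d0`. -/
def findW (m : ℕ) : Bool :=
  (List.range 24).any fun q => (List.range 24).any fun r =>
    orbitOK 5 q && orbitOK 6 r && mapsInto ((wT.getD q []).getD r []) m d0Mask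

/-- Every dodecad containing the first five base points is mapped into `d0` by one of the 48
elements. -/
theorem findW_dodecad : ∀ c < 4096, pc (enc c) = 12 → enc c &&& 0x80000f = 0x80000f →
    findW (enc c) = true := by
  apply forall_lt_4096
  decide +kernel

/-- For `q` outside the octad `octO`: the element `w` with `r = u₅(q)(5)` fixes the octad pointwise,
maps `q` to `4` and is an involution. -/
def octStabOK (q : ℕ) : Bool :=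
  let r := (chainT.getD ((lookupT.getD 5 []).getD q 0) idT).getD 5 0
  let t := (wT.getD q []).getD r []
  orbitOK 6 r && ((List.range 24).all fun i => !octO.testBit i || t.getD i 0 == i) &&
    (t.getD q 0 == 4) && (compT t t == idT)

theorem octStab_check : ∀ q < 24, orbitOK 5 q = true → octStabOK q = true := by
  decide +kernel

end Cfsg.Agent.Lib.Helper7
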