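import Cfsg.Agent.Lib.Helper7.StemStep
import Cfsg.Agent.Lib.Helper66.SchurBasic

/-!
# Lifting a perfect subgroup with trivial Schur multiplier through a central extension

`exists_lift_of_trivial_multiplier`: `σ : Γ → G` with central kernel, `Γ` finite, `ι : H → G` injective with image in
the image of `σ`, `H` perfect with trivial Schur multiplier.  Then `ι` lifts to a homomorphism `H → Γ`.
-/

set_option autoImplicit false

namespace Cfsg.Agent.Lib.Helper7.Stem

open Subgroup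
open scoped commutatorElement

universe u

theorem exists_lift_of_trivial_multiplier {Γ G H : Type u} [Group Γ] [Group G] [Group H] [Finite Γ]
    (σ : Γ →* G) (hσc : σ.ker ≤ Subgroup.center Γ)
    (hH : commutator H = ⊤) (hM : Cfsg.HasCyclicSchurMultiplier H 1)
    (ι : H →* G) (hι : Function.Injective ι) (hrange : ι.range ≤ σ.range) :
    ∃ j : H →* Γ, ∀ x, σ (j x) = ι x := by
  classical
  set Λ : Subgroup Γ := ι.range.comap σ with hΛ
  set Λ' : Subgroup Γ := ⁅Λ, Λ⁆ with hΛ'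
  have hΛ'Λ : Λ' ≤ Λ := by
    rw [hΛ', Subgroup.commutator_le]
    intro x hx y hy
    exact Λ.mul_mem (Λ.mul_mem (Λ.mul_mem hx hy) (Λ.inv_mem hx)) (Λ.inv_mem hy)
  let e : H ≃* ι.range := MonoidHom.ofInjective hι
  let ρ : ↥Λ →* H := e.symm.toMonoidHom.comp (σ.subgroupComap ι.range)
  have hρ : ∀ x : ↥Λ, ι (ρ x) = σ (x : Γ) := by
    intro x
    have h1 : (e (ρ x) : G) = ι (ρ x) := rfl
    have h2 : e (ρ x) = σ.subgroupComap ι.range x := by
      show e (e.symm (σ.subgroupComap ι.range x)) = _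
      exact e.apply_symm_apply _
    rw [← h1, h2]
    rfl
  let τ : ↥Λ' →* H := ρ.comp (Subgroup.inclusion hΛ'Λ)
  have hτ : ∀ y : ↥Λ', ι (τ y) = σ (y : Γ) := fun y => hρ (Subgroup.inclusion hΛ'Λ y)
  -- lifts of elements of `H`
  have hlift : ∀ a : H, ∃ x : Γ, x ∈ Λ ∧ σ x = ι a := by
    intro a
    obtain ⟨x, hx⟩ := hrange ⟨a, rfl⟩
    exact ⟨x, by rw [hΛ, Subgroup.mem_comap, hx]; exact ⟨a, rfl⟩, hx⟩
  -- surjectivity of `τ`
  have hτsurj : Function.Surjective τ := by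
    rw [← MonoidHom.range_eq_top, eq_top_iff, ← hH, commutator_eq_closure, Subgroup.closure_le]
    rintro _ ⟨a, b, rfl⟩
    obtain ⟨x, hxΛ, hx⟩ := hlift a
    obtain ⟨y, hyΛ, hy⟩ := hlift b
    refine ⟨⟨⁅x, y⁆, Subgroup.commutator_mem_commutator hxΛ hyΛ⟩, ?_⟩
    apply hι
    rw [hτ, map_commutatorElement, map_commutatorElement, hx, hy]
  -- `Λ = Λ' · ker σ`
  have hdecomp : ∀ x ∈ Λ, ∃ z ∈ σ.ker, ∃ y ∈ Λ', x = y * z := by
    intro x hx
    obtain ⟨a, ha⟩ : ∃ a : H, ι a = σ x := by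
      rw [hΛ, Subgroup.mem_comap] at hx
      exact hx
    obtain ⟨y, hy⟩ := hτsurj a
    refine ⟨(y : Γ)⁻¹ * x, ?_, (y : Γ), y.2, by group⟩
    rw [MonoidHom.mem_ker, map_mul, map_inv, ← hτ y, hy, ha, inv_mul_cancel]
  -- `Λ'` is perfect
  have hperf : Λ' ≤ ⁅Λ', Λ'⁆ := by
    conv_lhs => rw [hΛ']
    rw [Subgroup.commutator_le]
    intro x hx y hy
    obtain ⟨z₁, hz₁, x', hx', rfl⟩ := hdecomp x hx
    obtain ⟨z₂, hz₂, y', hy', rfl⟩ := hdecomp y hy
    rw [commutatorElement_mul_central (hσc hz₁) (hσc hz₂)]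
    exact Subgroup.commutator_mem_commutator hx' hy'
  have hperf' : commutator ↥Λ' = ⊤ := by
    apply Subgroup.map_injective Λ'.subtype_injective
    rw [Subgroup.map_subtype_commutator, ← MonoidHom.range_eq_map, Subgroup.range_subtype]
    apply le_antisymm _ hperf
    rw [Subgroup.commutator_le]
    intro x hx y hy
    exact Λ'.mul_mem (Λ'.mul_mem (Λ'.mul_mem hx hy) (Λ'.inv_mem hx)) (Λ'.inv_mem hy)
  have hstem : Cfsg.IsStemExtension τ := by
    refine ⟨hτsurj, ?_, ?_⟩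
    · intro y hy
      rw [MonoidHom.mem_ker] at hy
      have h1 : σ (y : Γ) = 1 := by rw [← hτ, hy, map_one]
      have h2 := hσc (MonoidHom.mem_ker.mpr h1)
      rw [Subgroup.mem_center_iff]
      intro g
      exact Subtype.ext (Subgroup.mem_center_iff.mp h2 (g : Γ))
    · rw [hperf']
      exact le_top
  have hker : τ.ker = ⊥ :=
    Cfsg.Agent.Lib.Helper66.ker_eq_bot_of_hasCyclicSchurMultiplier_one hM ↥Λ' τ hstem
  have hτinj : Function.Injective τ := (MonoidHom.ker_eq_bot_iff τ).mp hker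
  let E : ↥Λ' ≃* H := MulEquiv.ofBijective τ ⟨hτinj, hτsurj⟩
  refine ⟨Λ'.subtype.comp E.symm.toMonoidHom, ?_⟩
  intro x
  show σ ((E.symm x : ↥Λ') : Γ) = ι x
  rw [← hτ]
  congr 1
  exact E.apply_symm_apply x

end Cfsg.Agent.Lib.Helper7.Stem
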