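import Mathlib

/-!
# Witt's lemma on one-point extensions, as an order bound

`H ≤ Γ`, `K ≤ H`, `t ∈ Γ` with `t² ∈ K`, `t K t⁻¹ ⊆ K`, `H = K ∪ K h K` and `t h t ∈ H t H`.  Then
`H ∪ H t H` is closed under multiplication, and `|⟨H, t⟩| ≤ |H| (1 + |H : K|)`.
-/

set_option autoImplicit false

namespace Cfsg.Agent.Lib.Helper7.Witt

open Subgroup

variable {Γ : Type*} [Group Γ]

section closed

variable (H K : Subgroup Γ) (t h : Γ)

/-- the set `H ∪ H t H` -/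
def dcSet : Set Γ := {x | x ∈ H ∨ ∃ a ∈ H, ∃ b ∈ H, x = a * t * b}

variable {H K t h}

theorem conj_inv_mem (ht2 : t * t ∈ K) (htK : ∀ k ∈ K, t * k * t⁻¹ ∈ K) {k : Γ} (hk : k ∈ K) :
    t⁻¹ * k * t ∈ K := by
  have h1 : t⁻¹ * k * t = (t * t)⁻¹ * (t * k * t⁻¹) * (t * t) := by group
  rw [h1]
  exact K.mul_mem (K.mul_mem (K.inv_mem ht2) (htK k hk)) ht2

theorem mul_left_mem_dcSet {a x : Γ} (ha : a ∈ H) (hx : x ∈ dcSet H t) : a * x ∈ dcSet H t := by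
  rcases hx with hx | ⟨b, hb, c, hc, rfl⟩
  · exact Or.inl (H.mul_mem ha hx)
  · exact Or.inr ⟨a * b, H.mul_mem ha hb, c, hc, by group⟩

theorem t_mul_mem_dcSet (hKH : K ≤ H) (ht2 : t * t ∈ K) (htK : ∀ k ∈ K, t * k * t⁻¹ ∈ K)
    (hdc : ∀ x ∈ H, x ∈ K ∨ ∃ k₁ ∈ K, ∃ k₂ ∈ K, x = k₁ * h * k₂)
    (hrel : ∃ h₁ ∈ H, ∃ h₂ ∈ H, t * h * t = h₁ * t * h₂) {x : Γ} (hx : x ∈ dcSet H t) :
    t * x ∈ dcSet H t := by
  rcases hx with hx | ⟨a, ha, b, hb, rfl⟩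
  · exact Or.inr ⟨1, H.one_mem, x, hx, by group⟩
  · rcases hdc a ha with haK | ⟨k₁, hk₁, k₂, hk₂, rfl⟩
    · left
      have h1 : t * (a * t * b) = (t * a * t⁻¹) * (t * t) * b := by group
      rw [h1]
      exact H.mul_mem (H.mul_mem (hKH (htK a haK)) (hKH ht2)) hb
    · right
      obtain ⟨h₁, hh₁, h₂, hh₂, hr⟩ := hrel
      refine ⟨(t * k₁ * t⁻¹) * h₁, H.mul_mem (hKH (htK k₁ hk₁)) hh₁,
        h₂ * (t⁻¹ * k₂ * t) * b,
        H.mul_mem (H.mul_mem hh₂ (hKH (conj_inv_mem ht2 htK hk₂))) hb, ?_⟩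
      calc t * (k₁ * h * k₂ * t * b)
          = (t * k₁ * t⁻¹) * (t * h * t) * (t⁻¹ * k₂ * t) * b := by group
        _ = (t * k₁ * t⁻¹) * (h₁ * t * h₂) * (t⁻¹ * k₂ * t) * b := by rw [hr]
        _ = (t * k₁ * t⁻¹) * h₁ * t * (h₂ * (t⁻¹ * k₂ * t) * b) := by group

/-- **Witt's lemma**: the subgroup generated by `H` and `t` is contained in `H ∪ H t H`. -/
theorem closure_subset_dcSet (hKH : K ≤ H) (ht2 : t * t ∈ K) (htK : ∀ k ∈ K, t * k * t⁻¹ ∈ K)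
    (hdc : ∀ x ∈ H, x ∈ K ∨ ∃ k₁ ∈ K, ∃ k₂ ∈ K, x = k₁ * h * k₂)
    (hrel : ∃ h₁ ∈ H, ∃ h₂ ∈ H, t * h * t = h₁ * t * h₂) {x : Γ}
    (hx : x ∈ closure ((H : Set Γ) ∪ {t})) : x ∈ dcSet H t := by
  induction hx using closure_induction_left with
  | one => exact Or.inl H.one_mem
  | mul_left a ha y _ ih =>
    rcases ha with ha | ha
    · exact mul_left_mem_dcSet ha ih
    · rw [Set.mem_singleton_iff] at ha
      rw [ha]
      exact t_mul_mem_dcSet hKH ht2 htK hdc hrel ih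
  | inv_mul_cancel a ha y _ ih =>
    rcases ha with ha | ha
    · exact mul_left_mem_dcSet (H.inv_mem ha) ih
    · rw [Set.mem_singleton_iff] at ha
      rw [ha]
      have h1 : t⁻¹ * y = (t * t)⁻¹ * (t * y) := by group
      rw [h1]
      exact mul_left_mem_dcSet (H.inv_mem (hKH ht2)) (t_mul_mem_dcSet hKH ht2 htK hdc hrel ih)

end closed

section card

variable [Finite Γ] {H K : Subgroup Γ} {t h : Γ}

/-- `|H ∪ H t H| ≤ |H| (1 + |H : K|)` when `t` normalizes `K ≤ H`. -/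
theorem ncard_dcSet_le (hKH : K ≤ H) (ht2 : t * t ∈ K) (htK : ∀ k ∈ K, t * k * t⁻¹ ∈ K) :
    (dcSet H t).ncard ≤ Nat.card H * (1 + K.relIndex H) := by
  classical
  -- representatives
  let r : Option (↥H ⧸ K.subgroupOf H) → Γ := fun o =>
    match o with
    | none => 1
    | some q => ((q.out : ↥H) : Γ) * t
  let F : Option (↥H ⧸ K.subgroupOf H) × ↥H → Γ := fun ob => r ob.1 * (ob.2 : Γ)
  have hsub : dcSet H t ⊆ Set.range F := by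
    rintro x (hx | ⟨a, ha, b, hb, rfl⟩)
    · exact ⟨(none, ⟨x, hx⟩), by simp [F, r]⟩
    · obtain ⟨k, hk⟩ := QuotientGroup.mk_out_eq_mul (K.subgroupOf H) (⟨a, ha⟩ : ↥H)
      have hkK : ((k : ↥H) : Γ) ∈ K := Subgroup.mem_subgroupOf.mp k.2
      have hk' : (((QuotientGroup.mk (⟨a, ha⟩ : ↥H) : ↥H ⧸ K.subgroupOf H).out : ↥H) : Γ)
          = a * ((k : ↥H) : Γ) := by
        rw [hk]
        rfl
      have hc : t⁻¹ * ((k : ↥H) : Γ)⁻¹ * t ∈ K := conj_inv_mem ht2 htK (K.inv_mem hkK)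
      refine ⟨(some (QuotientGroup.mk (⟨a, ha⟩ : ↥H)),
        ⟨(t⁻¹ * ((k : ↥H) : Γ)⁻¹ * t) * b, H.mul_mem (hKH hc) hb⟩), ?_⟩
      show ((QuotientGroup.mk (⟨a, ha⟩ : ↥H) : ↥H ⧸ K.subgroupOf H).out : ↥H) * t *
        ((t⁻¹ * ((k : ↥H) : Γ)⁻¹ * t) * b) = a * t * b
      rw [hk']
      group
  calc (dcSet H t).ncard ≤ (Set.range F).ncard := Set.ncard_le_ncard hsub (Set.toFinite _)
    _ ≤ Nat.card (Option (↥H ⧸ K.subgroupOf H) × ↥H) := by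
        rw [← Set.image_univ, ← Set.ncard_univ]
        exact Set.ncard_image_le (Set.toFinite _)
    _ = Nat.card H * (1 + K.relIndex H) := by
        rw [Nat.card_prod, Finite.card_option, ← Subgroup.index_eq_card, Subgroup.relIndex]
        ring

/-- **Witt's bound**: `|⟨H, t⟩| ≤ |H| (1 + |H : K|)`. -/
theorem card_closure_le_of_witt (hKH : K ≤ H) (ht2 : t * t ∈ K) (htK : ∀ k ∈ K, t * k * t⁻¹ ∈ K)
    (hdc : ∀ x ∈ H, x ∈ K ∨ ∃ k₁ ∈ K, ∃ k₂ ∈ K, x = k₁ * h * k₂)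
    (hrel : ∃ h₁ ∈ H, ∃ h₂ ∈ H, t * h * t = h₁ * t * h₂) :
    Nat.card (closure ((H : Set Γ) ∪ {t})) ≤ Nat.card H * (1 + K.relIndex H) := by
  calc Nat.card (closure ((H : Set Γ) ∪ {t}))
      = ((closure ((H : Set Γ) ∪ {t}) : Subgroup Γ) : Set Γ).ncard := by
        rw [← Nat.card_coe_set_eq]; rfl
    _ ≤ (dcSet H t).ncard :=
        Set.ncard_le_ncard (fun x hx => closure_subset_dcSet hKH ht2 htK hdc hrel hx)
          (Set.toFinite _)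
    _ ≤ _ := ncard_dcSet_le hKH ht2 htK

end card

section hom

variable [Finite Γ] {Hs : Type*} [Group Hs] [Finite Hs]

omit [Finite Γ] in
/-- `|f(Hs) ∪ f(Hs) t f(Hs)| ≤ |Hs| (1 + |Hs : Ks|)` when `t` normalizes `f(Ks)`. -/
theorem ncard_dcSet_range_le (f : Hs →* Γ) (Ks : Subgroup Hs) {t : Γ}
    (ht2 : t * t ∈ Ks.map f) (htK : ∀ k ∈ Ks.map f, t * k * t⁻¹ ∈ Ks.map f) :
    (dcSet f.range t).ncard ≤ Nat.card Hs * (1 + Ks.index) := by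
  classical
  let r : Option (Hs ⧸ Ks) → Γ := fun o =>
    match o with
    | none => 1
    | some q => f q.out * t
  let F : Option (Hs ⧸ Ks) × Hs → Γ := fun ob => r ob.1 * f ob.2
  have hsub : dcSet f.range t ⊆ Set.range F := by
    rintro x (⟨a, rfl⟩ | ⟨_, ⟨a, rfl⟩, _, ⟨b, rfl⟩, rfl⟩)
    · exact ⟨(none, a), by simp [F, r]⟩
    · obtain ⟨k, hk⟩ := QuotientGroup.mk_out_eq_mul Ks a
      have hc : t⁻¹ * (f (k : Hs))⁻¹ * t ∈ Ks.map f :=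
        conj_inv_mem ht2 htK ((Ks.map f).inv_mem ⟨k, k.2, rfl⟩)
      obtain ⟨c, _, hc'⟩ := hc
      refine ⟨(some (QuotientGroup.mk a), c * b), ?_⟩
      show f ((QuotientGroup.mk a : Hs ⧸ Ks).out) * t * f (c * b) = f a * t * f b
      rw [hk, map_mul, map_mul, hc']
      group
  calc (dcSet f.range t).ncard ≤ (Set.range F).ncard := Set.ncard_le_ncard hsub (Set.toFinite _)
    _ ≤ Nat.card (Option (Hs ⧸ Ks) × Hs) := by
        rw [← Set.image_univ, ← Set.ncard_univ]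
        exact Set.ncard_image_le (Set.toFinite _)
    _ = Nat.card Hs * (1 + Ks.index) := by
        rw [Nat.card_prod, Finite.card_option, ← Subgroup.index_eq_card]
        ring

/-- **Witt's bound**, for the image of a homomorphism `f : Hs → Γ`. -/
theorem card_closure_le_of_witt_hom (f : Hs →* Γ) (Ks : Subgroup Hs) (t : Γ) (h : Hs)
    (ht2 : ∃ k ∈ Ks, t * t = f k) (htK : ∀ k ∈ Ks, ∃ k' ∈ Ks, t * f k * t⁻¹ = f k')
    (hdc : ∀ x : Hs, x ∈ Ks ∨ ∃ k₁ ∈ Ks, ∃ k₂ ∈ Ks, x = k₁ * h * k₂)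
    (hrel : ∃ h₁ h₂ : Hs, t * f h * t = f h₁ * t * f h₂) :
    Nat.card (closure ((f.range : Set Γ) ∪ {t})) ≤ Nat.card Hs * (1 + Ks.index) := by
  have hKH : Ks.map f ≤ f.range := by
    rintro _ ⟨k, _, rfl⟩
    exact ⟨k, rfl⟩
  have ht2' : t * t ∈ Ks.map f := by
    obtain ⟨k, hk, h1⟩ := ht2
    exact ⟨k, hk, h1.symm⟩
  have htK' : ∀ k ∈ Ks.map f, t * k * t⁻¹ ∈ Ks.map f := by
    rintro _ ⟨k, hk, rfl⟩
    obtain ⟨k', hk', h1⟩ := htK k hk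
    exact ⟨k', hk', h1.symm⟩
  have hdc' : ∀ x ∈ f.range, x ∈ Ks.map f ∨ ∃ k₁ ∈ Ks.map f, ∃ k₂ ∈ Ks.map f,
      x = k₁ * f h * k₂ := by
    rintro _ ⟨x, rfl⟩
    rcases hdc x with hx | ⟨k₁, hk₁, k₂, hk₂, rfl⟩
    · exact Or.inl ⟨x, hx, rfl⟩
    · exact Or.inr ⟨f k₁, ⟨k₁, hk₁, rfl⟩, f k₂, ⟨k₂, hk₂, rfl⟩, by rw [map_mul, map_mul]⟩
  have hrel' : ∃ h₁ ∈ f.range, ∃ h₂ ∈ f.range, t * f h * t = h₁ * t * h₂ := by
    obtain ⟨h₁, h₂, h3⟩ := hrel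
    exact ⟨f h₁, ⟨h₁, rfl⟩, f h₂, ⟨h₂, rfl⟩, h3⟩
  calc Nat.card (closure ((f.range : Set Γ) ∪ {t}))
      = ((closure ((f.range : Set Γ) ∪ {t}) : Subgroup Γ) : Set Γ).ncard := by
        rw [← Nat.card_coe_set_eq]; rfl
    _ ≤ (dcSet f.range t).ncard :=
        Set.ncard_le_ncard (fun x hx => closure_subset_dcSet hKH ht2' htK' hdc' hrel' hx)
          (Set.toFinite _)
    _ ≤ _ := ncard_dcSet_range_le f Ks ht2' htK'

end hom

end Cfsg.Agent.Lib.Helper7.Witt
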