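import Cfsg.Agent.Lib.Helper7.StemReduce
import Cfsg.Agent.Lib.Helper7.StemLift
import Cfsg.Agent.Lib.Helper7.WittExt

/-!
# Stem extensions of a one-point extension `G = ⟨H, t⟩` of a group `H` with trivial multiplier
-/

set_option autoImplicit false

namespace Cfsg.Agent.Lib.Helper7.Stem

open Subgroup
open scoped commutatorElement

universe u

section gen

variable {Γ : Type*} {G : Type*} [Group Γ] [Group G]

/-- In a stem extension, a set whose image generates `G` generates `Γ`. -/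
theorem closure_eq_top_of_map (σ : Γ →* G) (hσ : Cfsg.IsStemExtension σ) (S : Set Γ)
    (hS : closure (σ '' S) = ⊤) : closure S = ⊤ := by
  set Γ₀ := closure S with hΓ₀
  have hmap : Γ₀.map σ = ⊤ := by rw [hΓ₀, MonoidHom.map_closure, hS]
  have hdecomp : ∀ x : Γ, ∃ y ∈ Γ₀, ∃ z ∈ σ.ker, x = y * z := by
    intro x
    have : σ x ∈ Γ₀.map σ := by rw [hmap]; trivial
    obtain ⟨y, hy, hyx⟩ := this
    refine ⟨y, hy, y⁻¹ * x, ?_, by group⟩
    rw [MonoidHom.mem_ker, map_mul, map_inv, hyx, inv_mul_cancel]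
  have hcomm : commutator Γ ≤ Γ₀ := by
    rw [commutator_eq_closure, closure_le]
    rintro _ ⟨a, b, rfl⟩
    obtain ⟨a', ha', z₁, hz₁, rfl⟩ := hdecomp a
    obtain ⟨b', hb', z₂, hz₂, rfl⟩ := hdecomp b
    rw [commutatorElement_mul_central (hσ.2.1 hz₁) (hσ.2.1 hz₂)]
    exact Γ₀.mul_mem (Γ₀.mul_mem (Γ₀.mul_mem ha' hb') (Γ₀.inv_mem ha')) (Γ₀.inv_mem hb')
  rw [eq_top_iff]
  intro x _
  obtain ⟨y, hy, z, hz, rfl⟩ := hdecomp x
  exact Γ₀.mul_mem hy (hcomm (hσ.2.2 hz))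

end gen

section quot

variable {Γ G Hs : Type u} [Group Γ] [Group G] [Group Hs] [Finite Γ] [Finite G] [Finite Hs]

omit [Finite G] in
/-- The Witt relations modulo a subgroup `Z₀` of the kernel force the kernel to be `Z₀`. -/
theorem ker_le_of_witt (σ : Γ →* G) (hσ : Cfsg.IsStemExtension σ)
    (Z₀ : Subgroup Γ) (hZ₀ : Z₀ ≤ σ.ker)
    (j : Hs →* Γ) (Ks : Subgroup Hs) (t : Γ) (h : Hs)
    (hgen : closure (((σ.comp j).range : Set G) ∪ {σ t}) = ⊤)
    (hcard : Nat.card G = Nat.card Hs * (1 + Ks.index))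
    (ht2 : ∃ k ∈ Ks, ∃ z ∈ Z₀, t * t = j k * z)
    (htK : ∀ k ∈ Ks, ∃ k' ∈ Ks, ∃ z ∈ Z₀, t * j k * t⁻¹ = j k' * z)
    (hdc : ∀ x : Hs, x ∈ Ks ∨ ∃ k₁ ∈ Ks, ∃ k₂ ∈ Ks, x = k₁ * h * k₂)
    (hrel : ∃ h₁ h₂ : Hs, ∃ z ∈ Z₀, t * j h * t = j h₁ * t * j h₂ * z) :
    σ.ker ≤ Z₀ := by
  have hcen : Z₀ ≤ center Γ := hZ₀.trans hσ.2.1
  have hnorm : Z₀.Normal := by
    refine ⟨fun n hn g => ?_⟩
    have : g * n * g⁻¹ = n := by
      rw [Subgroup.mem_center_iff.mp (hcen hn) g]; group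
    rw [this]; exact hn
  let σ' : Γ ⧸ Z₀ →* G := QuotientGroup.lift Z₀ σ hZ₀
  have hσ' : Cfsg.IsStemExtension σ' := isStemExtension_lift σ hσ Z₀ hZ₀
  let f : Hs →* Γ ⧸ Z₀ := (QuotientGroup.mk' Z₀).comp j
  let t' : Γ ⧸ Z₀ := QuotientGroup.mk t
  have hmkz : ∀ z ∈ Z₀, (QuotientGroup.mk z : Γ ⧸ Z₀) = 1 := fun z hz =>
    (QuotientGroup.eq_one_iff z).mpr hz
  -- Witt
  have hW := Witt.card_closure_le_of_witt_hom f Ks t' h
    (by
      obtain ⟨k, hk, z, hz, h1⟩ := ht2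
      refine ⟨k, hk, ?_⟩
      show (QuotientGroup.mk t : Γ ⧸ Z₀) * QuotientGroup.mk t = QuotientGroup.mk (j k)
      rw [← QuotientGroup.mk_mul, h1, QuotientGroup.mk_mul, hmkz z hz, mul_one])
    (by
      intro k hk
      obtain ⟨k', hk', z, hz, h1⟩ := htK k hk
      refine ⟨k', hk', ?_⟩
      show (QuotientGroup.mk t : Γ ⧸ Z₀) * QuotientGroup.mk (j k) * (QuotientGroup.mk t)⁻¹ =
        QuotientGroup.mk (j k')
      rw [← QuotientGroup.mk_inv, ← QuotientGroup.mk_mul, ← QuotientGroup.mk_mul, h1,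
        QuotientGroup.mk_mul, hmkz z hz, mul_one])
    hdc
    (by
      obtain ⟨h₁, h₂, z, hz, h1⟩ := hrel
      refine ⟨h₁, h₂, ?_⟩
      show (QuotientGroup.mk t : Γ ⧸ Z₀) * QuotientGroup.mk (j h) * QuotientGroup.mk t =
        QuotientGroup.mk (j h₁) * QuotientGroup.mk t * QuotientGroup.mk (j h₂)
      rw [← QuotientGroup.mk_mul, ← QuotientGroup.mk_mul, h1, QuotientGroup.mk_mul,
        QuotientGroup.mk_mul, QuotientGroup.mk_mul, hmkz z hz, mul_one])
  -- generation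
  have hclo : closure ((f.range : Set (Γ ⧸ Z₀)) ∪ {t'}) = ⊤ := by
    apply closure_eq_top_of_map σ' hσ'
    have : σ' '' ((f.range : Set (Γ ⧸ Z₀)) ∪ {t'}) = ((σ.comp j).range : Set G) ∪ {σ t} := by
      rw [Set.image_union, Set.image_singleton]
      congr 1
      ext g
      constructor
      · rintro ⟨_, ⟨x, rfl⟩, rfl⟩
        exact ⟨x, rfl⟩
      · rintro ⟨x, rfl⟩
        exact ⟨f x, ⟨x, rfl⟩, rfl⟩
    rw [this, hgen]
  rw [hclo, Nat.card_congr (Subgroup.topEquiv (G := Γ ⧸ Z₀)).toEquiv, ← hcard] at hW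
  -- so `σ'` is injective
  have hinj : Function.Injective σ' := by
    have hbij : Function.Bijective σ' :=
      (Nat.bijective_iff_surjective_and_card σ').mpr
        ⟨hσ'.1, le_antisymm hW (Nat.card_le_card_of_surjective σ' hσ'.1)⟩
    exact hbij.1
  intro x hx
  have h1 : σ' (QuotientGroup.mk x) = σ' 1 := by
    rw [map_one]
    exact MonoidHom.mem_ker.mp hx
  exact (QuotientGroup.eq_one_iff x).mp (hinj h1)

end quot

section two

variable {Γ : Type*} [Group Γ]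

/-- A kernel element of 2-power order which is an odd power root of `1` is trivial. -/
theorem eq_one_of_odd_pow {z : Γ} {c m : ℕ} (hz : orderOf z = 2 ^ c) (hm : Odd m)
    (hzm : z ^ m = 1) : z = 1 := by
  have h1 : orderOf z ∣ m := orderOf_dvd_of_pow_eq_one hzm
  rw [hz] at h1
  rcases Nat.eq_zero_or_pos c with hc | hc
  · rw [hc, pow_zero] at hz
    exact orderOf_eq_one_iff.mp hz
  · exfalso
    have h2 : 2 ∣ m := (dvd_pow_self 2 hc.ne').trans h1
    rcases hm with ⟨r, hr⟩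
    omega

/-- In a central situation: `w ∈ N ⊔ ⟨w²⟩` and `w` of 2-power order force `w ∈ N`. -/
theorem mem_of_mem_sup_zpowers_sq {N : Subgroup Γ} (hN : N ≤ center Γ) {w : Γ} {c : ℕ}
    (hw : orderOf w = 2 ^ c) (h : w ∈ N ⊔ zpowers (w * w)) : w ∈ N := by
  have hnorm : N.Normal := by
    refine ⟨fun n hn g => ?_⟩
    have : g * n * g⁻¹ = n := by
      rw [Subgroup.mem_center_iff.mp (hN hn) g]; group
    rw [this]; exact hn
  have h1 : w ∈ ((N ⊔ zpowers (w * w) : Subgroup Γ) : Set Γ) := h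
  rw [Subgroup.normal_mul] at h1
  obtain ⟨n, hn, a, ha, hna⟩ := Set.mem_mul.mp h1
  obtain ⟨i, rfl⟩ := Subgroup.mem_zpowers_iff.mp ha
  -- `w ^ (1 - 2 i) = n`
  have h2 : w ^ (1 - 2 * i) = n := by
    have h3 : (w * w) ^ i = w ^ (2 * i) := by
      rw [← pow_two, ← zpow_natCast, ← zpow_mul]
      norm_num
    have hna' : n * (w * w) ^ i = w := hna
    rw [h3] at hna'
    rw [zpow_sub, zpow_one]
    calc w * (w ^ (2 * i))⁻¹ = n * w ^ (2 * i) * (w ^ (2 * i))⁻¹ := by rw [hna']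
      _ = n := by group
  set q := (1 - 2 * i).natAbs with hq
  have hqodd : Odd q := by
    rw [hq, Int.natAbs_odd]
    exact ⟨-i, by ring⟩
  have hqN : w ^ q ∈ N := by
    rcases Int.natAbs_eq (1 - 2 * i) with h4 | h4
    · have : w ^ q = n := by
        rw [← zpow_natCast, hq, ← h4, h2]
      rw [this]; exact hn
    · have : w ^ q = n⁻¹ := by
        rw [← zpow_natCast, hq, ← h2]
        rw [show ((1 - 2 * i).natAbs : ℤ) = -(1 - 2 * i) by omega, zpow_neg]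
      rw [this]; exact N.inv_mem hn
  have hcop : q.Coprime (orderOf w) := by
    rw [hw]
    exact Nat.Coprime.pow_right c hqodd.coprime_two_right
  obtain ⟨r, hr⟩ := exists_pow_eq_self_of_coprime hcop
  rw [← hr]
  exact N.pow_mem hqN r

end two

section main

variable {Γ G Hs : Type u} [Group Γ] [Group G] [Group Hs] [Finite Γ] [Finite G] [Finite Hs]

omit [Finite G] in
/-- **The 2-part of the multiplier of a one-point extension.**  `G = ⟨H, t⟩` where `H` (the image of `ι`) is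
perfect with trivial multiplier, `K ≤ H` is normalized by the involution `t`, which is conjugate in `G` to an
involution of `H`; `H = K ∪ K h K`, `t h t = h₁ t h₂` and `|G| = |H| (1 + |H : K|)`; `K` is generated by a set
`X` of elements of odd order and one element `u` with `u² ∈ ⟨X⟩`.  Then every finite stem extension of `G` whose
kernel is a 2-group has kernel of order at most 2. -/
theorem card_ker_le_two_of_one_point_extension
    (σ : Γ →* G) (hσ : Cfsg.IsStemExtension σ) (h2grp : IsPGroup 2 σ.ker)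
    (ι : Hs →* G) (hι : Function.Injective ι) (hperf : commutator Hs = ⊤)
    (hM : Cfsg.HasCyclicSchurMultiplier Hs 1)
    (Ks : Subgroup Hs) (hcard : Nat.card G = Nat.card Hs * (1 + Ks.index))
    (t g : G) (s : Hs) (hs : s * s = 1) (hts : t = g * ι s * g⁻¹)
    (hgen : closure ((ι.range : Set G) ∪ {t}) = ⊤)
    (htK : ∀ k ∈ Ks, ∃ k' ∈ Ks, t * ι k * t⁻¹ = ι k')
    (h h₁ h₂ : Hs) (hdc : ∀ x : Hs, x ∈ Ks ∨ ∃ k₁ ∈ Ks, ∃ k₂ ∈ Ks, x = k₁ * h * k₂)
    (hrel : t * ι h * t = ι h₁ * t * ι h₂)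
    (X : Set Hs) (u : Hs) (hK : closure (X ∪ {u}) = Ks)
    (hX : ∀ y ∈ X, ∃ m : ℕ, Odd m ∧ y ^ m = 1) (hu : u * u ∈ closure X) :
    Nat.card σ.ker ≤ 2 := by
  classical
  have : Fact (Nat.Prime 2) := ⟨Nat.prime_two⟩
  have hcen := hσ.2.1
  have hcomm : ∀ z ∈ σ.ker, ∀ y : Γ, y * z = z * y := fun z hz y =>
    Subgroup.mem_center_iff.mp (hcen hz) y
  have hord : ∀ z ∈ σ.ker, ∃ c : ℕ, orderOf z = 2 ^ c := by
    intro z hz
    obtain ⟨c, hc⟩ := (IsPGroup.iff_orderOf.mp h2grp) ⟨z, hz⟩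
    exact ⟨c, by rw [← hc]; exact (Subgroup.orderOf_mk z hz).symm⟩
  -- the lift of `H`
  obtain ⟨j, hj⟩ := exists_lift_of_trivial_multiplier σ hcen hperf hM ι hι
    (by rw [MonoidHom.range_eq_top.mpr hσ.1]; exact le_top)
  obtain ⟨g', hg'⟩ := hσ.1 g
  set t' := g' * j s * g'⁻¹ with ht'
  have ht'σ : σ t' = t := by
    rw [ht', map_mul, map_mul, map_inv, hg', hj, hts]
  have ht'2 : t' * t' = 1 := by
    calc t' * t' = g' * (j s * j s) * g'⁻¹ := by rw [ht']; group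
      _ = 1 := by rw [← map_mul, hs, map_one]; group
  have ht'inv : t'⁻¹ = t' := inv_eq_of_mul_eq_one_left ht'2
  have hXK : X ⊆ Ks := by
    intro y hy
    rw [← hK]
    exact subset_closure (Or.inl hy)
  have huK : u ∈ Ks := by
    rw [← hK]
    exact subset_closure (Or.inr rfl)
  -- the central defect of a conjugation
  have hdef : ∀ k k' : Hs, t * ι k * t⁻¹ = ι k' → (j k')⁻¹ * (t' * j k * t'⁻¹) ∈ σ.ker := by
    intro k k' h1
    rw [MonoidHom.mem_ker, map_mul, map_inv, map_mul, map_mul, map_inv, hj, hj, ht'σ, h1,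
      inv_mul_cancel]
  -- exactness on elements of odd order
  have hE_X : ∀ y ∈ X, ∃ k' ∈ Ks, t' * j y * t'⁻¹ = j k' := by
    intro y hy
    obtain ⟨m, hm, hym⟩ := hX y hy
    obtain ⟨k', hk', h1⟩ := htK y (hXK hy)
    refine ⟨k', hk', ?_⟩
    set z := (j k')⁻¹ * (t' * j y * t'⁻¹) with hz
    have hzker : z ∈ σ.ker := hdef y k' h1
    have hk'm : k' ^ m = 1 := by
      apply hι
      rw [map_pow, ← h1, conj_pow, ← map_pow, hym, map_one]
      group
    have h2 : t' * j y * t'⁻¹ = j k' * z := by rw [hz]; group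
    have hzm : z ^ m = 1 := by
      have h3 : (j k' * z) ^ m = (j k') ^ m * z ^ m :=
        (Commute.mul_pow (hcomm z hzker (j k')) m)
      have h4 : (t' * j y * t'⁻¹) ^ m = 1 := by
        rw [conj_pow, ← map_pow, hym, map_one]; group
      rw [h2, h3, ← map_pow, hk'm, map_one, one_mul] at h4
      exact h4
    obtain ⟨c, hc⟩ := hord z hzker
    rw [h2, eq_one_of_odd_pow hc hm hzm, mul_one]
  have hE : ∀ k ∈ closure X, ∃ k' ∈ Ks, t' * j k * t'⁻¹ = j k' := by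
    intro k hk
    induction hk using closure_induction with
    | mem y hy => exact hE_X y hy
    | one => exact ⟨1, Ks.one_mem, by rw [map_one]; group⟩
    | mul a b _ _ iha ihb =>
      obtain ⟨a', ha', h1⟩ := iha
      obtain ⟨b', hb', h2⟩ := ihb
      refine ⟨a' * b', Ks.mul_mem ha' hb', ?_⟩
      rw [map_mul, map_mul, ← h1, ← h2]; group
    | inv a _ iha =>
      obtain ⟨a', ha', h1⟩ := iha
      refine ⟨a'⁻¹, Ks.inv_mem ha', ?_⟩
      rw [map_inv, map_inv, ← h1]; group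
  -- the defect of `u`
  obtain ⟨u', hu', hu1⟩ := htK u huK
  set ζ := (j u')⁻¹ * (t' * j u * t'⁻¹) with hζ
  have hζker : ζ ∈ σ.ker := hdef u u' hu1
  have hζu : t' * j u * t'⁻¹ = j u' * ζ := by rw [hζ]; group
  have hζ2 : ζ * ζ = 1 := by
    obtain ⟨w, hw, h1⟩ := hE (u * u) hu
    have hw' : w = u' * u' := by
      apply hι
      have h2 : σ (t' * j (u * u) * t'⁻¹) = σ (j w) := by rw [h1]
      rw [map_mul, map_mul, map_inv, hj, hj, ht'σ] at h2
      rw [← h2, map_mul, map_mul, ← hu1]; group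
    have h3 : t' * j (u * u) * t'⁻¹ = j (u' * u') * (ζ * ζ) := by
      calc t' * j (u * u) * t'⁻¹ = (t' * j u * t'⁻¹) * (t' * j u * t'⁻¹) := by
            rw [map_mul]; group
        _ = (j u' * ζ) * (j u' * ζ) := by rw [hζu]
        _ = j u' * (ζ * j u') * ζ := by group
        _ = j u' * (j u' * ζ) * ζ := by rw [← hcomm ζ hζker (j u')]
        _ = j (u' * u') * (ζ * ζ) := by rw [map_mul]; group
    rw [h1, hw'] at h3
    exact (mul_eq_left.mp h3.symm)
  set N := zpowers ζ with hN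
  have hNker : N ≤ σ.ker := by rw [hN, zpowers_le]; exact hζker
  -- conjugation by `t'` on `K`, up to `N`
  have hB : ∀ k ∈ Ks, ∃ k' ∈ Ks, ∃ z ∈ N, t' * j k * t'⁻¹ = j k' * z := by
    intro k hk
    rw [← hK] at hk
    induction hk using closure_induction with
    | mem y hy =>
      rcases hy with hy | hy
      · obtain ⟨k', hk', h1⟩ := hE_X y hy
        exact ⟨k', hk', 1, N.one_mem, by rw [h1, mul_one]⟩
      · rw [Set.mem_singleton_iff] at hy
        rw [hy]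
        exact ⟨u', hu', ζ, mem_zpowers ζ, hζu⟩
    | one => exact ⟨1, Ks.one_mem, 1, N.one_mem, by rw [map_one]; group⟩
    | mul a b _ _ iha ihb =>
      obtain ⟨a', ha', z₁, hz₁, h1⟩ := iha
      obtain ⟨b', hb', z₂, hz₂, h2⟩ := ihb
      refine ⟨a' * b', Ks.mul_mem ha' hb', z₁ * z₂, N.mul_mem hz₁ hz₂, ?_⟩
      calc t' * j (a * b) * t'⁻¹ = (t' * j a * t'⁻¹) * (t' * j b * t'⁻¹) := by
            rw [map_mul]; group
        _ = (j a' * z₁) * (j b' * z₂) := by rw [h1, h2]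
        _ = j a' * (z₁ * j b') * z₂ := by group
        _ = j a' * (j b' * z₁) * z₂ := by rw [← hcomm z₁ (hNker hz₁) (j b')]
        _ = j (a' * b') * (z₁ * z₂) := by rw [map_mul]; group
    | inv a _ iha =>
      obtain ⟨a', ha', z₁, hz₁, h1⟩ := iha
      refine ⟨a'⁻¹, Ks.inv_mem ha', z₁⁻¹, N.inv_mem hz₁, ?_⟩
      calc t' * j a⁻¹ * t'⁻¹ = (t' * j a * t'⁻¹)⁻¹ := by rw [map_inv]; group
        _ = (j a' * z₁)⁻¹ := by rw [h1]
        _ = z₁⁻¹ * (j a')⁻¹ := by group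
        _ = (j a')⁻¹ * z₁⁻¹ := (hcomm z₁⁻¹ (σ.ker.inv_mem (hNker hz₁)) (j a')⁻¹).symm
        _ = j a'⁻¹ * z₁⁻¹ := by rw [map_inv]
  -- the defect of the Witt relation
  set z₂ := (j h₁ * t' * j h₂)⁻¹ * (t' * j h * t') with hz₂
  have hz₂ker : z₂ ∈ σ.ker := by
    have e1 : σ (j h₁ * t' * j h₂) = ι h₁ * t * ι h₂ := by
      rw [map_mul σ (j h₁ * t') (j h₂), map_mul σ (j h₁) t', hj, hj, ht'σ]
    have e2 : σ (t' * j h * t') = t * ι h * t := by
      rw [map_mul σ (t' * j h) t', map_mul σ t' (j h), hj, ht'σ]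
    rw [MonoidHom.mem_ker, hz₂, map_mul σ _ (t' * j h * t'), map_inv, e1, e2, hrel, inv_mul_cancel]
  have hrel' : t' * j h * t' = j h₁ * t' * j h₂ * z₂ := by rw [hz₂]; group
  have hgen' : ∀ τ : Γ, σ τ = t → closure (((σ.comp j).range : Set G) ∪ {σ τ}) = ⊤ := by
    intro τ hτ
    have : ((σ.comp j).range : Set G) = (ι.range : Set G) := by
      ext y
      constructor
      · rintro ⟨a, rfl⟩
        exact ⟨a, (hj a).symm⟩
      · rintro ⟨a, rfl⟩
        exact ⟨a, hj a⟩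
    rw [this, hτ, hgen]
  -- first application: the kernel is `N ⊔ ⟨z₂⟩`
  have hker1 : σ.ker ≤ N ⊔ zpowers z₂ := by
    apply ker_le_of_witt σ hσ (N ⊔ zpowers z₂) (sup_le hNker (by rw [zpowers_le]; exact hz₂ker))
      j Ks t' h (hgen' t' ht'σ) hcard
    · exact ⟨1, Ks.one_mem, 1, one_mem _, by rw [ht'2, map_one, mul_one]⟩
    · intro k hk
      obtain ⟨k', hk', z, hz, h1⟩ := hB k hk
      exact ⟨k', hk', z, (le_sup_left : N ≤ N ⊔ zpowers z₂) hz, h1⟩
    · exact hdc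
    · exact ⟨h₁, h₂, z₂, (le_sup_right : zpowers z₂ ≤ N ⊔ zpowers z₂) (mem_zpowers z₂), hrel'⟩
  -- second application: the kernel is `N ⊔ ⟨z₂²⟩`
  have hker2 : σ.ker ≤ N ⊔ zpowers (z₂ * z₂) := by
    have hz₂c := hcomm z₂ hz₂ker
    apply ker_le_of_witt σ hσ (N ⊔ zpowers (z₂ * z₂))
      (sup_le hNker (by rw [zpowers_le]; exact σ.ker.mul_mem hz₂ker hz₂ker))
      j Ks (t' * z₂) h
      (hgen' (t' * z₂) (by rw [map_mul, ht'σ, MonoidHom.mem_ker.mp hz₂ker, mul_one])) hcard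
    · refine ⟨1, Ks.one_mem, z₂ * z₂,
        (le_sup_right : zpowers (z₂ * z₂) ≤ N ⊔ zpowers (z₂ * z₂)) (mem_zpowers _), ?_⟩
      calc t' * z₂ * (t' * z₂) = t' * (z₂ * t') * z₂ := by group
        _ = t' * (t' * z₂) * z₂ := by rw [← hz₂c t']
        _ = (t' * t') * (z₂ * z₂) := by group
        _ = j 1 * (z₂ * z₂) := by rw [ht'2, map_one]
    · intro k hk
      obtain ⟨k', hk', z, hz, h1⟩ := hB k hk
      refine ⟨k', hk', z, (le_sup_left : N ≤ N ⊔ zpowers (z₂ * z₂)) hz, ?_⟩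
      calc t' * z₂ * j k * (t' * z₂)⁻¹ = t' * (z₂ * (j k * z₂⁻¹)) * t'⁻¹ := by group
        _ = t' * ((j k * z₂⁻¹) * z₂) * t'⁻¹ := by rw [← hz₂c (j k * z₂⁻¹)]
        _ = t' * j k * t'⁻¹ := by group
        _ = j k' * z := h1
    · exact hdc
    · refine ⟨h₁, h₂, z₂ * z₂,
        (le_sup_right : zpowers (z₂ * z₂) ≤ N ⊔ zpowers (z₂ * z₂)) (mem_zpowers _), ?_⟩
      calc t' * z₂ * j h * (t' * z₂) = t' * (z₂ * (j h * t')) * z₂ := by group
        _ = t' * ((j h * t') * z₂) * z₂ := by rw [← hz₂c (j h * t')]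
        _ = (t' * j h * t') * (z₂ * z₂) := by group
        _ = (j h₁ * t' * j h₂ * z₂) * (z₂ * z₂) := by rw [hrel']
        _ = j h₁ * t' * (j h₂ * z₂) * (z₂ * z₂) := by group
        _ = j h₁ * t' * (z₂ * j h₂) * (z₂ * z₂) := by rw [hz₂c (j h₂)]
        _ = j h₁ * (t' * z₂) * j h₂ * (z₂ * z₂) := by group
  -- hence `z₂ ∈ N`
  obtain ⟨c, hc⟩ := hord z₂ hz₂ker
  have hz₂N : z₂ ∈ N := mem_of_mem_sup_zpowers_sq (hNker.trans hcen) hc (hker2 hz₂ker)
  have hkerN : σ.ker ≤ N := by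
    refine hker1.trans (sup_le le_rfl ?_)
    rw [zpowers_le]; exact hz₂N
  calc Nat.card σ.ker ≤ Nat.card N := Subgroup.card_le_of_le hkerN
    _ = orderOf ζ := Nat.card_zpowers ζ
    _ ≤ 2 := by
        apply Nat.le_of_dvd (by norm_num)
        apply orderOf_dvd_of_pow_eq_one
        rw [pow_two, hζ2]

end main

end Cfsg.Agent.Lib.Helper7.Stem
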