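import Cfsg.Agent.Lib.Helper7.M12MultData
import Cfsg.Agent.Lib.Helper7.StemWitt
import Cfsg.Agent.Lib.Helper7.StemThreeB
import Cfsg.Agent.Lib.Helper7.SimpleMathieu

/-!
# Explicit elements of `H12 ≅ M12` and their relations (for the bound on the Schur multiplier)

`H12 ≅ M12` is generated by the point stabilizer `K11 ≅ M11` (trivial multiplier, perfect) and an involution `t`
swapping the first two base points; the abstract one-point-extension argument of `StemWitt` bounds the 2-part of the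
kernel of a stem extension by 2, and the odd part vanishes by the cyclic/extraspecial Sylow criteria.
-/

set_option autoImplicit false

namespace Cfsg.Agent.Lib.Helper7.M12Mult
open Cfsg Cfsg.Agent.Lib.Helper7 Cfsg.Agent.Lib.Helper7.Tbl Cfsg.Agent.Lib.Helper7.Stem
open Cfsg.Agent.Lib.Helper7.SylowPair Subgroup

instance finite_H12 : Finite ↥H12 :=
  Nat.finite_of_card_ne_zero (by rw [card_H12]; norm_num)

instance finite_K11 : Finite ↥K11 :=
  Nat.finite_of_card_ne_zero (by rw [card_K11]; norm_num)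

theorem K11_le_H12 : K11 ≤ H12 := fun _ hg => (mem_K11.mp hg).1

/-! ### Elements given by the program -/

/-- The table preserves the reference dodecad. -/
def okD (k : ℕ) : Bool := mapsInto (allT.getD k idT) d0Mask d0Mask

/-- The table preserves the reference dodecad and fixes `∞`. -/
def okK (k : ℕ) : Bool := okD k && ((allT.getD k idT).getD 23 0 == 23)

theorem allP_mem_H12 {k : ℕ} (hk : okD k = true) : allP.getD k 1 ∈ H12 :=
  mem_stabM24.mpr ⟨allP_mem_M24 k, smul_d0_of_mapsInto (allP_match k) hk⟩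

theorem allP_mem_K11 {k : ℕ} (hk : okK k = true) : allP.getD k 1 ∈ K11 := by
  simp only [okK, Bool.and_eq_true, beq_iff_eq] at hk
  refine mem_K11.mpr ⟨allP_mem_H12 hk.1, ?_⟩
  exact matches_apply (allP_match k) (i := 23) (j := 23) (by decide) (by decide) hk.2

/-- The element of `H12` with index `k`. -/
noncomputable def elH (k : ℕ) (hk : okD k = true) : ↥H12 := ⟨allP.getD k 1, allP_mem_H12 hk⟩

/-- The element of `K11` with index `k`. -/
noncomputable def elK (k : ℕ) (hk : okK k = true) : ↥K11 := ⟨allP.getD k 1, allP_mem_K11 hk⟩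

theorem m_elH (k : ℕ) (hk : okD k = true) : MatchS (elH k hk) (allT.getD k idT) := allP_match k
theorem m_elK (k : ℕ) (hk : okK k = true) : MatchS (elK k hk) (allT.getD k idT) := allP_match k

/-- The inclusion of `K11` into `H12`. -/
noncomputable def ι : ↥K11 →* ↥H12 := Subgroup.inclusion K11_le_H12

theorem ι_inj : Function.Injective ι := Subgroup.inclusion_injective K11_le_H12

theorem m_ι {x : ↥K11} {T : List ℕ} (hx : MatchS x T) : MatchS (ι x) T := hx

noncomputable def t : ↥H12 := elH 231 (by decide +kernel)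
noncomputable def g : ↥H12 := elH 236 (by decide +kernel)
noncomputable def s : ↥K11 := elK 241 (by decide +kernel)
noncomputable def h : ↥K11 := elK 246 (by decide +kernel)
noncomputable def h1 : ↥K11 := elK 250 (by decide +kernel)
noncomputable def h2 : ↥K11 := elK 254 (by decide +kernel)
noncomputable def x5 : ↥K11 := elK 257 (by decide +kernel)
noncomputable def x3 : ↥K11 := elK 260 (by decide +kernel)
noncomputable def u : ↥K11 := elK 263 (by decide +kernel)
noncomputable def a3 : ↥H12 := elH 268 (by decide +kernel)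
noncomputable def b3 : ↥H12 := elH 272 (by decide +kernel)
noncomputable def w3 : ↥H12 := elH 278 (by decide +kernel)
noncomputable def t3 : ↥H12 := elH 282 (by decide +kernel)
noncomputable def t3p : ↥H12 := elH 287 (by decide +kernel)
noncomputable def e11 : ↥H12 := elH 293 (by decide +kernel)

theorem m_t : MatchS t tT := by rw [← tbl_t]; exact m_elH _ _
theorem m_g : MatchS g gT := by rw [← tbl_g]; exact m_elH _ _
theorem m_s : MatchS s sT := by rw [← tbl_s]; exact m_elK _ _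
theorem m_h : MatchS h hT := by rw [← tbl_h]; exact m_elK _ _
theorem m_h1 : MatchS h1 h1T := by rw [← tbl_h1]; exact m_elK _ _
theorem m_h2 : MatchS h2 h2T := by rw [← tbl_h2]; exact m_elK _ _
theorem m_x5 : MatchS x5 x5T := by rw [← tbl_x5]; exact m_elK _ _
theorem m_x3 : MatchS x3 x3T := by rw [← tbl_x3]; exact m_elK _ _
theorem m_u : MatchS u uT := by rw [← tbl_u]; exact m_elK _ _
theorem m_a3 : MatchS a3 a3T := by rw [← tbl_a3]; exact m_elH _ _
theorem m_b3 : MatchS b3 b3T := by rw [← tbl_b3]; exact m_elH _ _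
theorem m_w3 : MatchS w3 w3T := by rw [← tbl_w3]; exact m_elH _ _
theorem m_t3 : MatchS t3 t3T := by rw [← tbl_t3]; exact m_elH _ _
theorem m_t3p : MatchS t3p t3pT := by rw [← tbl_t3p]; exact m_elH _ _
theorem m_e11 : MatchS e11 e11T := by rw [← tbl_e11]; exact m_elH _ _

/-! ### The relations -/

theorem s_sq : s * s = 1 :=
  eq_of_matchS (matchS_mul m_s m_s) matchS_one (by decide +kernel)

theorem t_g : t * g = g * ι s :=
  eq_of_matchS (matchS_mul m_t m_g) (matchS_mul m_g (m_ι m_s)) (by decide +kernel)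

theorem t_eq : t = g * ι s * g⁻¹ := by rw [← t_g]; group

theorem t_h_t : t * ι h * t = ι h1 * t * ι h2 :=
  eq_of_matchS (matchS_mul (matchS_mul m_t (m_ι m_h)) m_t)
    (matchS_mul (matchS_mul (m_ι m_h1) m_t) (m_ι m_h2)) (by decide +kernel)

theorem t_sq : t * t = 1 :=
  eq_of_matchS (matchS_mul m_t m_t) matchS_one (by decide +kernel)

theorem t_inv : t⁻¹ = t := inv_eq_of_mul_eq_one_right t_sq

theorem x5_pow : x5 ^ 5 = 1 :=
  eq_of_matchS (matchS_pow m_x5 5) matchS_one (by decide +kernel)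

theorem x3_pow : x3 ^ 3 = 1 :=
  eq_of_matchS (matchS_pow m_x3 3) matchS_one (by decide +kernel)

theorem u_sq : u * u = x5 ^ 4 * x3 ^ 2 * x5 * x3 * x5 ^ 4 :=
  eq_of_matchS (matchS_mul m_u m_u)
    (matchS_mul (matchS_mul (matchS_mul (matchS_mul (matchS_pow m_x5 4) (matchS_pow m_x3 2)) m_x5)
      m_x3) (matchS_pow m_x5 4)) (by decide +kernel)

/-! ### Coercions -/

theorem coe_mul3 (a b c : ↥H12) (p : GolayPt) : ((a * b * c : ↥H12) : Equiv.Perm GolayPt) p =
    (a : Equiv.Perm GolayPt) ((b : Equiv.Perm GolayPt) ((c : Equiv.Perm GolayPt) p)) := rfl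

theorem coe_mul3K (a b c : ↥K11) (p : GolayPt) : ((a * b * c : ↥K11) : Equiv.Perm GolayPt) p =
    (a : Equiv.Perm GolayPt) ((b : Equiv.Perm GolayPt) ((c : Equiv.Perm GolayPt) p)) := rfl

theorem coe_invK (a : ↥K11) (p : GolayPt) : ((a⁻¹ : ↥K11) : Equiv.Perm GolayPt) p =
    (a : Equiv.Perm GolayPt)⁻¹ p := rfl

theorem coe_inv_mulK (a b : ↥K11) (p : GolayPt) : ((a⁻¹ * b : ↥K11) : Equiv.Perm GolayPt) p =
    (a : Equiv.Perm GolayPt)⁻¹ ((b : Equiv.Perm GolayPt) p) := rfl

theorem ι_coe (x : ↥K11) : ((ι x : ↥H12) : Equiv.Perm GolayPt) = (x : Equiv.Perm GolayPt) := rfl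

theorem ι_mk (y : ↥H12) (hy : (y : Equiv.Perm GolayPt) ∈ K11) : ι ⟨y, hy⟩ = y := rfl

theorem pt_ne {i j : ℕ} (hi : i < 24) (hj : j < 24) (hij : i ≠ j) : pt i ≠ pt j := by
  intro h
  have := congrArg idx h
  rw [idx_pt hi, idx_pt hj] at this
  exact hij this

/-! ### The base points -/

theorem bp0 : bp 0 = pt 23 := rfl
theorem bp1 : bp 1 = pt 0 := rfl
theorem bp2 : bp 2 = pt 1 := rfl

theorem t_bp0 : (t : Equiv.Perm GolayPt) (bp 0) = bp 1 :=
  matches_apply m_t (i := 23) (j := 0) (by decide) (by decide) (by decide)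

theorem t_bp1 : (t : Equiv.Perm GolayPt) (bp 1) = bp 0 :=
  matches_apply m_t (i := 0) (j := 23) (by decide) (by decide) (by decide)

/-- The stabilizer of the second base point in `K11`. -/
def Ks : Subgroup ↥K11 := (Hs 2).subgroupOf K11

theorem mem_Ks {x : ↥K11} : x ∈ Ks ↔ (x : Equiv.Perm GolayPt) (bp 1) = bp 1 := by
  unfold Ks
  rw [Subgroup.mem_subgroupOf, mem_Hs]
  constructor
  · rintro ⟨_, h2⟩; exact h2 1 (by decide)
  · intro h1
    refine ⟨(mem_K11.mp x.2).1, fun j hj => ?_⟩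
    have : j = 0 ∨ j = 1 := by omega
    rcases this with rfl | rfl
    · exact (mem_K11.mp x.2).2
    · exact h1

theorem Hs2_le_K11 : Hs 2 ≤ K11 := fun _ hg =>
  mem_K11.mpr ⟨(mem_Hs.mp hg).1, (mem_Hs.mp hg).2 0 (by decide)⟩

theorem card_Ks : Nat.card ↥Ks = 720 := by
  unfold Ks
  rw [Nat.card_congr (Subgroup.subgroupOfEquivOfLe Hs2_le_K11).toEquiv]
  exact card_Hs_2

theorem index_Ks : Ks.index = 11 := by
  have h := Ks.card_mul_index
  rw [card_Ks] at h
  have h2 : Nat.card ↥K11 = 7920 := card_K11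
  rw [h2] at h
  omega

/-- An element of `Ks` mapping a given point of the dodecad to the third base point. -/
theorem exists_Ks_map {p : GolayPt} (hp : p ∈ d0) (h0 : p ≠ bp 0) (h1 : p ≠ bp 1) :
    ∃ k ∈ Ks, (k : Equiv.Perm GolayPt) p = bp 2 := by
  have hok : okM12 2 (idx p) = true := by
    apply okM12_of_ne 2 (by decide) _ (idx_lt _)
    · unfold d0 at hp; rwa [mem_setOf] at hp
    · intro j hj hj2
      have hpj : p = bp j := by
        rw [← pt_idx p, ← hj2]; rfl
      have : j = 0 ∨ j = 1 := by omega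
      rcases this with rfl | rfl
      · exact h0 hpj
      · exact h1 hpj
  obtain ⟨hv, hvfix, hvmap⟩ := vP_spec (i := 2) (by decide) (idx_lt p) hok
  rw [pt_idx] at hvmap
  refine ⟨⟨vP 2 (idx p), mem_K11.mpr ⟨hv, hvfix 0 (by decide)⟩⟩, ?_, hvmap⟩
  rw [mem_Ks]
  exact hvfix 1 (by decide)

/-! ### Generation -/

theorem gen_top : closure ((ι.range : Set ↥H12) ∪ {t}) = ⊤ := by
  rw [eq_top_iff]
  intro x _
  have hK : ∀ y : ↥H12, (y : Equiv.Perm GolayPt) (bp 0) = bp 0 →
      y ∈ closure ((ι.range : Set ↥H12) ∪ {t}) := by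
    intro y hy
    apply Subgroup.subset_closure
    left
    exact ⟨⟨y, mem_K11.mpr ⟨y.2, hy⟩⟩, ι_mk y _⟩
  have ht : t ∈ closure ((ι.range : Set ↥H12) ∪ {t}) := Subgroup.subset_closure (Or.inr rfl)
  by_cases hx : (x : Equiv.Perm GolayPt) (bp 0) = bp 0
  · exact hK x hx
  · have hxd : (x : Equiv.Perm GolayPt) (bp 0) ∈ d0 :=
      (apply_mem_of_mem_stabM24 x.2 _).mpr (bp_mem_d0' (by decide))
    have hok : okM12 1 (idx ((x : Equiv.Perm GolayPt) (bp 0))) = true := by
      apply okM12_of_ne 1 (by decide) _ (idx_lt _)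
      · unfold d0 at hxd; rwa [mem_setOf] at hxd
      · intro j hj hj2
        have : j = 0 := by omega
        subst this
        apply hx
        rw [← pt_idx ((x : Equiv.Perm GolayPt) (bp 0)), ← hj2]; rfl
    obtain ⟨hv, hvfix, hvmap⟩ := vP_spec (i := 1) (by decide) (idx_lt _) hok
    rw [pt_idx] at hvmap
    obtain ⟨k, hk⟩ : ∃ k : ↥H12, (k : Equiv.Perm GolayPt) =
      vP 1 (idx ((x : Equiv.Perm GolayPt) (bp 0))) := ⟨⟨_, hv⟩, rfl⟩
    rw [← hk] at hvfix hvmap
    have hkS := hK k (hvfix 0 (by decide))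
    have h3 := hK (t * k * x) (by rw [coe_mul3, hvmap, t_bp1])
    have hx' : x = k⁻¹ * t⁻¹ * (t * k * x) := by group
    rw [hx']
    exact Subgroup.mul_mem _ (Subgroup.mul_mem _ (Subgroup.inv_mem _ hkS) (Subgroup.inv_mem _ ht)) h3

/-! ### `t` normalizes `Ks` -/

theorem t_norm_Ks : ∀ k ∈ Ks, ∃ k' ∈ Ks, t * ι k * t⁻¹ = ι k' := by
  intro k hk
  rw [mem_Ks] at hk
  have hk0 : (k : Equiv.Perm GolayPt) (bp 0) = bp 0 := (mem_K11.mp k.2).2
  rw [t_inv]
  have hmem : ((t * ι k * t : ↥H12) : Equiv.Perm GolayPt) ∈ K11 := by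
    refine mem_K11.mpr ⟨(t * ι k * t).2, ?_⟩
    rw [coe_mul3, ι_coe, t_bp0, hk, t_bp1]
  refine ⟨⟨_, hmem⟩, ?_, (ι_mk _ hmem).symm⟩
  rw [mem_Ks]
  show ((t * ι k * t : ↥H12) : Equiv.Perm GolayPt) (bp 1) = bp 1
  rw [coe_mul3, ι_coe, t_bp1, hk0, t_bp0]

end Cfsg.Agent.Lib.Helper7.M12Mult
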