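import Cfsg.Agent.Lib.Helper7.M22Norm5

/-!
# `M22 = Gst 2` has no subgroups of order 7920 or 2112
-/

set_option autoImplicit false

namespace Cfsg.Agent.Lib.Helper7
open Cfsg
open scoped Pointwise

/-- A subgroup of `Gst 2` containing `s11P` has order neither 7920 nor 2112. -/
theorem card_ne_of_s11_mem (X : Subgroup (Equiv.Perm GolayPt)) (hX : X ≤ Gst 2) (hs : s11P ∈ X) :
    Nat.card X ≠ 7920 ∧ Nat.card X ≠ 2112 := by
  have hQX : Subgroup.zpowers s11P ≤ X := Subgroup.zpowers_le.mpr hs
  have hQc : Nat.card (Subgroup.zpowers s11P) = 11 := by rw [Nat.card_zpowers, orderOf_s11]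
  have : Fact (Nat.Prime 11) := ⟨by norm_num⟩
  have : Fact (Nat.Prime 5) := ⟨by norm_num⟩
  have hNle : Subgroup.normalizer (Subgroup.zpowers s11P : Set (Equiv.Perm GolayPt)) ⊓ X ≤ N55 :=
    inf_le_inf_left _ hX
  have hdvd55 : Nat.card ↥(Subgroup.normalizer
      (Subgroup.zpowers s11P : Set (Equiv.Perm GolayPt)) ⊓ X) ∣ 55 := by
    rw [← card_N55]; exact Subgroup.card_dvd_of_le hNle
  have h11dvd : 11 ∣ Nat.card ↥(Subgroup.normalizer
      (Subgroup.zpowers s11P : Set (Equiv.Perm GolayPt)) ⊓ X) := by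
    rw [← hQc]
    exact Subgroup.card_dvd_of_le (le_inf Subgroup.le_normalizer hQX)
  have hmul := card_inf_normalizer_mul_relIndex X (Subgroup.zpowers s11P)
  constructor
  · intro hc
    have hp2 : ¬ 11 ^ 2 ∣ Nat.card X := by rw [hc]; decide
    have hmod := relIndex_normalizer_modEq_one X (Subgroup.zpowers s11P) hQX hQc hp2
    rw [hc] at hmul
    have hd : Nat.card ↥(Subgroup.normalizer
        (Subgroup.zpowers s11P : Set (Equiv.Perm GolayPt)) ⊓ X) = 55 := by
      generalize Nat.card ↥(Subgroup.normalizer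
        (Subgroup.zpowers s11P : Set (Equiv.Perm GolayPt)) ⊓ X) = d at *
      generalize (Subgroup.normalizer
        (Subgroup.zpowers s11P : Set (Equiv.Perm GolayPt))).relIndex X = r at *
      have hle : d ≤ 55 := Nat.le_of_dvd (by norm_num) hdvd55
      have hcases : d = 11 ∨ d = 55 := by
        interval_cases d <;> omega
      rcases hcases with h | h
      · exfalso
        subst h
        have hr : r = 720 := by omega
        subst hr
        exact absurd hmod (by decide)
      · exact h
    have hNeq : Subgroup.normalizer (Subgroup.zpowers s11P : Set (Equiv.Perm GolayPt)) ⊓ X = N55 :=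
      Subgroup.eq_of_le_of_card_ge hNle (by rw [card_N55, hd])
    have hn5 : n5P ∈ X := by
      have : n5P ∈ Subgroup.normalizer (Subgroup.zpowers s11P : Set (Equiv.Perm GolayPt)) ⊓ X := by
        rw [hNeq]; exact n5_mem_N55
      exact this.2
    -- Sylow 5
    have hPX : Subgroup.zpowers n5P ≤ X := Subgroup.zpowers_le.mpr hn5
    have hPc : Nat.card (Subgroup.zpowers n5P) = 5 := by rw [Nat.card_zpowers, orderOf_n5]
    have hNle5 : Subgroup.normalizer (Subgroup.zpowers n5P : Set (Equiv.Perm GolayPt)) ⊓ X ≤ N20 :=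
      inf_le_inf_left _ hX
    have hdvd20 : Nat.card ↥(Subgroup.normalizer
        (Subgroup.zpowers n5P : Set (Equiv.Perm GolayPt)) ⊓ X) ∣ 20 := by
      rw [← card_N20]; exact Subgroup.card_dvd_of_le hNle5
    have h5dvd : 5 ∣ Nat.card ↥(Subgroup.normalizer
        (Subgroup.zpowers n5P : Set (Equiv.Perm GolayPt)) ⊓ X) := by
      rw [← hPc]
      exact Subgroup.card_dvd_of_le (le_inf Subgroup.le_normalizer hPX)
    have hmul5 := card_inf_normalizer_mul_relIndex X (Subgroup.zpowers n5P)
    have hp25 : ¬ 5 ^ 2 ∣ Nat.card X := by rw [hc]; decide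
    have hmod5 := relIndex_normalizer_modEq_one X (Subgroup.zpowers n5P) hPX hPc hp25
    rw [hc] at hmul5
    have hd5 : Nat.card ↥(Subgroup.normalizer
        (Subgroup.zpowers n5P : Set (Equiv.Perm GolayPt)) ⊓ X) = 20 := by
      generalize Nat.card ↥(Subgroup.normalizer
        (Subgroup.zpowers n5P : Set (Equiv.Perm GolayPt)) ⊓ X) = d at *
      generalize (Subgroup.normalizer
        (Subgroup.zpowers n5P : Set (Equiv.Perm GolayPt))).relIndex X = r at *
      have hle : d ≤ 20 := Nat.le_of_dvd (by norm_num) hdvd20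
      have hcases : d = 5 ∨ d = 10 ∨ d = 20 := by
        interval_cases d <;> omega
      rcases hcases with h | h | h
      · exfalso
        subst h
        have hr : r = 1584 := by omega
        subst hr
        exact absurd hmod5 (by decide)
      · exfalso
        subst h
        have hr : r = 792 := by omega
        subst hr
        exact absurd hmod5 (by decide)
      · exact h
    have hNeq5 : Subgroup.normalizer (Subgroup.zpowers n5P : Set (Equiv.Perm GolayPt)) ⊓ X = N20 :=
      Subgroup.eq_of_le_of_card_ge hNle5 (by rw [card_N20, hd5])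
    have hm4 : m4P ∈ X := by
      have : m4P ∈ Subgroup.normalizer (Subgroup.zpowers n5P : Set (Equiv.Perm GolayPt)) ⊓ X := by
        rw [hNeq5]; exact m4_mem_N20
      exact this.2
    have hms : m4P * s11P ∈ X := X.mul_mem hm4 hs
    have h7 : 7 ∣ Nat.card X := by
      have := orderOf_dvd_natCard (⟨m4P * s11P, hms⟩ : X)
      rwa [Subgroup.orderOf_mk, orderOf_ms] at this
    rw [hc] at h7
    exact absurd h7 (by decide)
  · intro hc
    have hp2 : ¬ 11 ^ 2 ∣ Nat.card X := by rw [hc]; decide
    have hmod := relIndex_normalizer_modEq_one X (Subgroup.zpowers s11P) hQX hQc hp2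
    rw [hc] at hmul
    generalize Nat.card ↥(Subgroup.normalizer
      (Subgroup.zpowers s11P : Set (Equiv.Perm GolayPt)) ⊓ X) = d at *
    generalize (Subgroup.normalizer
      (Subgroup.zpowers s11P : Set (Equiv.Perm GolayPt))).relIndex X = r at *
    have hle : d ≤ 55 := Nat.le_of_dvd (by norm_num) hdvd55
    have hcases : d = 11 ∨ d = 55 := by
      interval_cases d <;> omega
    rcases hcases with h | h
    · subst h
      have hr : r = 192 := by omega
      subst hr
      exact absurd hmod (by decide)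
    · subst h
      omega

/-- `M22 = Gst 2` has no subgroup of order 7920 or 2112. -/
theorem card_ne_of_le_Gst2 (X : Subgroup (Equiv.Perm GolayPt)) (hX : X ≤ Gst 2) :
    Nat.card X ≠ 7920 ∧ Nat.card X ≠ 2112 := by
  by_contra hcon
  have hc : Nat.card X = 7920 ∨ Nat.card X = 2112 := by tauto
  have : Fact (Nat.Prime 11) := ⟨by norm_num⟩
  have h11 : 11 ∣ Nat.card X := by
    rcases hc with h | h <;> rw [h] <;> decide
  obtain ⟨x, hx⟩ := exists_prime_orderOf_dvd_card' 11 h11
  have hx' : orderOf (x : Equiv.Perm GolayPt) = 11 := by rw [Subgroup.orderOf_coe, hx]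
  have hp2 : ¬ 11 ^ 2 ∣ Nat.card (Gst 2) := by rw [card_Gst_2]; decide
  obtain ⟨h, hh, hconj⟩ := exists_conj_mem_zpowers (Gst 2) hp2 (hX x.2) s11_mem_Gst2 hx' orderOf_s11
  -- conjugate `X` by `h⁻¹`
  let X' : Subgroup (Equiv.Perm GolayPt) := X.map (MulAut.conj h⁻¹).toMonoidHom
  have hX' : X' ≤ Gst 2 := by
    rintro _ ⟨y, hy, rfl⟩
    show h⁻¹ * y * h⁻¹⁻¹ ∈ Gst 2
    exact (Gst 2).mul_mem ((Gst 2).mul_mem ((Gst 2).inv_mem hh) (hX hy))
      ((Gst 2).inv_mem ((Gst 2).inv_mem hh))
  have hs' : s11P ∈ X' := by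
    refine ⟨h * s11P * h⁻¹, ?_, ?_⟩
    · exact (Subgroup.zpowers_le.mpr x.2) hconj
    · show h⁻¹ * (h * s11P * h⁻¹) * h⁻¹⁻¹ = s11P
      group
  have hcard : Nat.card X' = Nat.card X :=
    Subgroup.card_map_of_injective (MulAut.conj h⁻¹).injective
  have := card_ne_of_s11_mem X' hX' hs'
  rw [hcard] at this
  exact hcon this

end Cfsg.Agent.Lib.Helper7
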