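import Cfsg.Agent.Lib.Helper7.M24OctStab

/-!
# Explicit elements of `M22 = Gst 2` of orders 11, 5, 4

`s11P` has order 11, `n5P` (order 5) normalizes `⟨s11P⟩` and fixes the base points `∞, 0, 1, 2`,
`m4P` (order 4) normalizes `⟨n5P⟩`, and `m4P * s11P` has order 7.
AUTO-GENERATED by scratch/gen1606c.py; everything is re-checked here.
-/

set_option autoImplicit false

namespace Cfsg.Agent.Lib.Helper7
open Cfsg

/-- Straight-line program run on top of the chain entries. -/
def normProg : List (ℕ × ℕ) := [(151, 137), (187, 228), (207, 229), (201, 180), (179, 119), (203, 232), (216, 233)]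

/-- All tables. -/
def normT : List (List ℕ) := runT normProg chainT

/-- All permutations. -/
noncomputable def normP : List (Equiv.Perm GolayPt) := runP normProg chainP

theorem norm_match : List.Forall₂ Matches normP normT :=
  forall₂_runP_runT _ _ _ chain_match

theorem normP_mem_genH (k : ℕ) : normP.getD k 1 ∈ genH :=
  getD_mem_of_forall (runP_mem genH normProg chainP
    (runP_mem genH chainProg gensP gensP_mem_genH)) k

/-- Table of the element of order 11. -/
def s11T : List ℕ := [0, 3, 15, 7, 18, 2, 5, 19, 10, 12, 21, 16, 4, 20, 11, 22, 8, 13, 17, 9, 1, 6, 14, 23]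

/-- Table of the element of order 5. -/
def n5T : List ℕ := [0, 1, 2, 19, 18, 21, 16, 4, 10, 3, 5, 15, 9, 12, 6, 14, 11, 7, 20, 13, 17, 22, 8, 23]

/-- Table of the element of order 4. -/
def m4T : List ℕ := [0, 2, 1, 3, 15, 5, 4, 16, 21, 12, 8, 7, 19, 9, 17, 18, 20, 14, 6, 13, 11, 22, 10, 23]

theorem normT_s : normT.getD 230 idT = s11T := by decide +kernel
theorem normT_n : normT.getD 231 idT = n5T := by decide +kernel
theorem normT_m : normT.getD 234 idT = m4T := by decide +kernel

/-- The element of order 11. -/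
noncomputable def s11P : Equiv.Perm GolayPt := normP.getD 230 1
/-- The element of order 5. -/
noncomputable def n5P : Equiv.Perm GolayPt := normP.getD 231 1
/-- The element of order 4. -/
noncomputable def m4P : Equiv.Perm GolayPt := normP.getD 234 1

theorem matches_s11 : Matches s11P s11T := by
  rw [← normT_s]; exact forall₂_getD norm_match matches_one _
theorem matches_n5 : Matches n5P n5T := by
  rw [← normT_n]; exact forall₂_getD norm_match matches_one _
theorem matches_m4 : Matches m4P m4T := by
  rw [← normT_m]; exact forall₂_getD norm_match matches_one _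

theorem s11_mem_M24 : s11P ∈ M24 := genH_le_M24 (normP_mem_genH _)
theorem n5_mem_M24 : n5P ∈ M24 := genH_le_M24 (normP_mem_genH _)
theorem m4_mem_M24 : m4P ∈ M24 := genH_le_M24 (normP_mem_genH _)

/-- Power of a table. -/
def powTb (t : List ℕ) : ℕ → List ℕ
  | 0 => idT
  | k + 1 => compT t (powTb t k)

theorem matches_powTb {σ : Equiv.Perm GolayPt} {t : List ℕ} (h : Matches σ t) (k : ℕ) :
    Matches (σ ^ k) (powTb t k) := by
  induction k with
  | zero => simpa [powTb] using matches_one
  | succ k ih =>
    rw [pow_succ', powTb]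
    exact matches_mul h ih

/-- Two permutations matched by tables with the same first 24 entries are equal. -/
theorem eq_of_matches {σ τ : Equiv.Perm GolayPt} {t u : List ℕ} (hσ : Matches σ t) (hτ : Matches τ u)
    (h : ∀ i < 24, t.getD i 0 = u.getD i 0) : σ = τ := by
  refine Equiv.ext fun p => idx_injective ?_
  rw [hσ p, hτ p, h _ (idx_lt p)]

theorem ne_of_matches {σ τ : Equiv.Perm GolayPt} {t u : List ℕ} (hσ : Matches σ t) (hτ : Matches τ u)
    {i : ℕ} (hi : i < 24) (h : t.getD i 0 ≠ u.getD i 0) : σ ≠ τ := by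
  intro he
  apply h
  have h1 := hσ (pt i)
  have h2 := hτ (pt i)
  rw [idx_pt hi] at h1 h2
  rw [← h1, ← h2, he]

theorem s11_pow : s11P ^ 11 = 1 := by
  have h : ∀ i < 24, (powTb s11T 11).getD i 0 = idT.getD i 0 := by decide +kernel
  exact eq_of_matches (matches_powTb matches_s11 11) matches_one h

theorem s11_ne_one : s11P ≠ 1 :=
  ne_of_matches matches_s11 matches_one (i := 1) (by decide) (by decide)

theorem orderOf_s11 : orderOf s11P = 11 := by
  have : Fact (Nat.Prime 11) := ⟨by norm_num⟩
  exact orderOf_eq_prime s11_pow s11_ne_one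

theorem n5_pow : n5P ^ 5 = 1 := by
  have h : ∀ i < 24, (powTb n5T 5).getD i 0 = idT.getD i 0 := by decide +kernel
  exact eq_of_matches (matches_powTb matches_n5 5) matches_one h

theorem n5_ne_one : n5P ≠ 1 :=
  ne_of_matches matches_n5 matches_one (i := 3) (by decide) (by decide)

theorem orderOf_n5 : orderOf n5P = 5 := by
  have : Fact (Nat.Prime 5) := ⟨by norm_num⟩
  exact orderOf_eq_prime n5_pow n5_ne_one

theorem m4_pow : m4P ^ 4 = 1 := by
  have h : ∀ i < 24, (powTb m4T 4).getD i 0 = idT.getD i 0 := by decide +kernel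
  exact eq_of_matches (matches_powTb matches_m4 4) matches_one h

theorem m4_sq_ne_one : m4P ^ 2 ≠ 1 :=
  ne_of_matches (matches_powTb matches_m4 2) matches_one (i := 4) (by decide) (by decide +kernel)

theorem orderOf_m4 : orderOf m4P = 4 := by
  have : Fact (Nat.Prime 2) := ⟨by norm_num⟩
  exact orderOf_eq_prime_pow (p := 2) (n := 1) (by simpa using m4_sq_ne_one) (by simpa using m4_pow)

theorem ms_pow : (m4P * s11P) ^ 7 = 1 := by
  have h : ∀ i < 24, (powTb (compT m4T s11T) 7).getD i 0 = idT.getD i 0 := by decide +kernel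
  exact eq_of_matches (matches_powTb (matches_mul matches_m4 matches_s11) 7) matches_one h

theorem ms_ne_one : m4P * s11P ≠ 1 :=
  ne_of_matches (matches_mul matches_m4 matches_s11) matches_one (i := 1) (by decide)
    (by decide +kernel)

theorem orderOf_ms : orderOf (m4P * s11P) = 7 := by
  have : Fact (Nat.Prime 7) := ⟨by norm_num⟩
  exact orderOf_eq_prime ms_pow ms_ne_one

/-- `n5P` normalizes `⟨s11P⟩`. -/
theorem n5_conj_s11 : n5P * s11P * n5P⁻¹ = s11P ^ 3 := by
  rw [mul_inv_eq_iff_eq_mul]
  have h : ∀ i < 24, (compT n5T s11T).getD i 0 = (compT (powTb s11T 3) n5T).getD i 0 := by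
    decide +kernel
  exact eq_of_matches (matches_mul matches_n5 matches_s11)
    (matches_mul (matches_powTb matches_s11 3) matches_n5) h

/-- `m4P` normalizes `⟨n5P⟩`. -/
theorem m4_conj_n5 : m4P * n5P * m4P⁻¹ = n5P ^ 2 := by
  rw [mul_inv_eq_iff_eq_mul]
  have h : ∀ i < 24, (compT m4T n5T).getD i 0 = (compT (powTb n5T 2) m4T).getD i 0 := by
    decide +kernel
  exact eq_of_matches (matches_mul matches_m4 matches_n5)
    (matches_mul (matches_powTb matches_n5 2) matches_m4) h

/-- Evaluating a matched permutation at `pt i`. -/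
theorem matches_pt {σ : Equiv.Perm GolayPt} {t : List ℕ} (h : Matches σ t) {i : ℕ} (hi : i < 24) :
    idx (σ (pt i)) = t.getD i 0 := by
  have := h (pt i)
  rwa [idx_pt hi] at this

theorem fixes_of_matches {σ : Equiv.Perm GolayPt} {t : List ℕ} (h : Matches σ t) {i : ℕ} (hi : i < 24)
    (hti : t.getD i 0 = i) : σ (pt i) = pt i :=
  matches_apply h hi hi hti

theorem s11_mem_Gst2 : s11P ∈ Gst 2 := by
  rw [mem_Gst]
  refine ⟨s11_mem_M24, ?_⟩
  intro j hj
  interval_cases j
  · exact fixes_of_matches matches_s11 (i := 23) (by decide) (by decide)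
  · exact fixes_of_matches matches_s11 (i := 0) (by decide) (by decide)

theorem n5_mem_Gst4 : n5P ∈ Gst 4 := by
  rw [mem_Gst]
  refine ⟨n5_mem_M24, ?_⟩
  intro j hj
  interval_cases j
  · exact fixes_of_matches matches_n5 (i := 23) (by decide) (by decide)
  · exact fixes_of_matches matches_n5 (i := 0) (by decide) (by decide)
  · exact fixes_of_matches matches_n5 (i := 1) (by decide) (by decide)
  · exact fixes_of_matches matches_n5 (i := 2) (by decide) (by decide)

theorem m4_mem_Gst2 : m4P ∈ Gst 2 := by
  rw [mem_Gst]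
  refine ⟨m4_mem_M24, ?_⟩
  intro j hj
  interval_cases j
  · exact fixes_of_matches matches_m4 (i := 23) (by decide) (by decide)
  · exact fixes_of_matches matches_m4 (i := 0) (by decide) (by decide)

theorem Gst_mono {i j : ℕ} (h : i ≤ j) : Gst j ≤ Gst i := by
  intro g hg
  rw [mem_Gst] at hg ⊢
  exact ⟨hg.1, fun k hk => hg.2 k (by omega)⟩

theorem n5_mem_Gst2 : n5P ∈ Gst 2 := Gst_mono (by decide) n5_mem_Gst4

end Cfsg.Agent.Lib.Helper7
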