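import Cfsg.Agent.Lib.Helper7.M22Norm5
import Cfsg.Prelude.Def_Spor_Mathieu

/-!
# Certificates for generating pairs of `M23`

`Gst 1` is the Mathieu group `M23`.  A pair `x, y` of elements given by a straight-line program over
the chain elements generates `M23` as soon as a second program over `x, y` produces, for every level
`i ≥ 1` of the stabilizer chain and every point `q` of the `i`-th basic orbit, an element fixing the
first `i` base points and mapping `q` to the `i`-th base point.
-/

set_option autoImplicit false

namespace Cfsg.Agent.Lib.Helper7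
open Cfsg
open scoped Pointwise

theorem Gst_one_eq_M23 : Gst 1 = Spor.M23 := rfl

/-- A subgroup containing transversal elements for all levels `≥ i0` contains `Gst i0`. -/
theorem Gst_le_of_transversal (K : Subgroup (Equiv.Perm GolayPt)) (i0 : ℕ)
    (h : ∀ i, i0 ≤ i → i < 7 → ∀ q < 24, orbitOK i q = true →
      ∃ u ∈ K, u ∈ Gst i ∧ u (pt q) = bp i) :
    Gst i0 ≤ K := by
  have key : ∀ k i : ℕ, i + k = 7 → i0 ≤ i → Gst i ≤ K := by
    intro k
    induction k with
    | zero =>
      intro i hi _
      have : i = 7 := by omega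
      subst this
      rw [Gst_seven]; exact bot_le
    | succ k ih =>
      intro i hi hi0 g hg
      have hi7 : i < 7 := by omega
      have hg' := mem_Gst.mp hg
      have hok := orbitOK_of_fixes hg'.1 hi7 hg'.2
      obtain ⟨u, huK, huG, hu⟩ := h i hi0 hi7 (idx (g (bp i))) (idx_lt _) hok
      rw [pt_idx] at hu
      have hug : u * g ∈ Gst (i + 1) := by
        rw [mem_Gst]
        have hu' := mem_Gst.mp huG
        refine ⟨M24.mul_mem hu'.1 hg'.1, ?_⟩
        intro j hj
        rw [Equiv.Perm.mul_apply]
        by_cases hji : j < i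
        · rw [hg'.2 j hji, hu'.2 j hji]
        · have : j = i := by omega
          subst this
          exact hu
      have h1 := ih (i + 1) (by omega) (by omega) hug
      have h2 : g = u⁻¹ * (u * g) := by group
      rw [h2]
      exact K.mul_mem (K.inv_mem huK) h1
  by_cases h7 : i0 ≤ 7
  · exact key (7 - i0) i0 (by omega) le_rfl
  · intro g hg
    have : Gst i0 ≤ Gst 7 := Gst_mono (by omega)
    have := this hg
    rw [Gst_seven, Subgroup.mem_bot] at this
    rw [this]; exact K.one_mem

/-- Equality of the first 24 entries of two tables. -/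
def tblEq (t u : List ℕ) : Bool := (List.range 24).all fun i => t.getD i 0 == u.getD i 0

theorem tblEq_spec {t u : List ℕ} (h : tblEq t u = true) : ∀ i < 24, t.getD i 0 = u.getD i 0 := by
  intro i hi
  simp only [tblEq, List.all_eq_true, List.mem_range, beq_iff_eq] at h
  exact h i hi

theorem tblEq_false_spec {t u : List ℕ} (h : tblEq t u = false) :
    ∃ i < 24, t.getD i 0 ≠ u.getD i 0 := by
  by_contra hcon
  push Not at hcon
  have : tblEq t u = true := by
    simp only [tblEq, List.all_eq_true, List.mem_range, beq_iff_eq]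
    exact hcon
  rw [this] at h
  exact absurd h (by decide)

/-- The table has order exactly the prime `p`. -/
def ordT (t : List ℕ) (p : ℕ) : Bool := tblEq (powTb t p) idT && !tblEq t idT

theorem orderOf_of_ordT {σ : Equiv.Perm GolayPt} {t : List ℕ} (hm : Matches σ t) {p : ℕ}
    (hp : p.Prime) (h : ordT t p = true) : orderOf σ = p := by
  simp only [ordT, Bool.and_eq_true, Bool.not_eq_true'] at h
  have : Fact p.Prime := ⟨hp⟩
  refine orderOf_eq_prime ?_ ?_
  · exact eq_of_matches (matches_powTb hm p) matches_one (tblEq_spec h.1)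
  · obtain ⟨i, hi, hne⟩ := tblEq_false_spec h.2
    exact ne_of_matches hm matches_one hi hne

/-- The generation certificate: `lk` locates in the output of `prog` the transversal elements. -/
def certGen (xT yT : List ℕ) (prog : List (ℕ × ℕ)) (lk : List (List ℕ)) : Bool :=
  let st := runT prog [xT, yT]
  (List.range 7).all fun i => i == 0 || (List.range 24).all fun q =>
    !orbitOK i q || goodT i q (st.getD ((lk.getD i []).getD q 0) idT)

theorem closure_eq_Gst_one {x y : Equiv.Perm GolayPt} {xT yT : List ℕ} (hx : x ∈ Gst 1)
    (hy : y ∈ Gst 1) (hxT : Matches x xT) (hyT : Matches y yT) {prog : List (ℕ × ℕ)}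
    {lk : List (List ℕ)} (h : certGen xT yT prog lk = true) :
    Subgroup.closure {x, y} = Gst 1 := by
  apply le_antisymm
  · rw [Subgroup.closure_le]
    rintro g (rfl | hg)
    · exact hx
    · rw [Set.mem_singleton_iff] at hg; subst hg; exact hy
  · apply Gst_le_of_transversal
    intro i hi1 hi7 q hq hok
    simp only [certGen, List.all_eq_true, List.mem_range, Bool.or_eq_true, beq_iff_eq,
      Bool.not_eq_true'] at h
    have h1 := h i hi7
    rcases h1 with h1 | h1
    · omega
    have h2 := h1 q hq
    rcases h2 with h2 | h2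
    · rw [hok] at h2; exact absurd h2 (by decide)
    set k := (lk.getD i []).getD q 0 with hk
    have hmatch : List.Forall₂ Matches (runP prog [x, y]) (runT prog [xT, yT]) :=
      forall₂_runP_runT prog _ _ (List.Forall₂.cons hxT (List.Forall₂.cons hyT List.Forall₂.nil))
    have hm : Matches ((runP prog [x, y]).getD k 1) ((runT prog [xT, yT]).getD k idT) :=
      forall₂_getD hmatch matches_one k
    have hmemK : (runP prog [x, y]).getD k 1 ∈ Subgroup.closure {x, y} := by
      apply getD_mem_of_forall
      apply runP_mem
      intro g hg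
      simp only [List.mem_cons, List.not_mem_nil, or_false] at hg
      apply Subgroup.subset_closure
      rcases hg with rfl | rfl <;> simp
    have hmemG1 : (runP prog [x, y]).getD k 1 ∈ Gst 1 := by
      apply getD_mem_of_forall
      apply runP_mem
      intro g hg
      simp only [List.mem_cons, List.not_mem_nil, or_false] at hg
      rcases hg with rfl | rfl
      · exact hx
      · exact hy
    generalize (runT prog [xT, yT]).getD k idT = t at h2 hm
    generalize (runP prog [x, y]).getD k 1 = u at hm hmemK hmemG1
    simp only [goodT, Bool.and_eq_true, List.all_eq_true, List.mem_range, beq_iff_eq] at h2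
    refine ⟨u, hmemK, ?_, ?_⟩
    · rw [mem_Gst]
      refine ⟨(mem_Gst.mp hmemG1).1, ?_⟩
      intro j hj
      unfold bp
      exact matches_apply hm (baseL_lt j) (baseL_lt j) (h2.1 j hj)
    · unfold bp
      exact matches_apply hm hq (baseL_lt i) h2.2

/-- The complete certificate of a generating triple of prime orders `p, q, r`. -/
def certTriple (xprog : List (ℕ × ℕ)) (ix iy p q r : ℕ) (prog : List (ℕ × ℕ))
    (lk : List (List ℕ)) : Bool :=
  let st0 := runT xprog chainT
  let xT := st0.getD ix idT
  let yT := st0.getD iy idT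
  (xT.getD 23 0 == 23) && (yT.getD 23 0 == 23) && ordT xT p && ordT yT q &&
    ordT (compT xT yT) r && certGen xT yT prog lk

theorem closure_subtype_eq_top {G : Type*} [Group G] {H : Subgroup G} (X Y : H)
    (h : Subgroup.closure {(X : G), (Y : G)} = H) : Subgroup.closure {X, Y} = ⊤ := by
  apply Subgroup.map_injective H.subtype_injective
  rw [MonoidHom.map_closure, ← MonoidHom.range_eq_map, Subgroup.range_subtype]
  have : (H.subtype '' {X, Y}) = {(X : G), (Y : G)} := by
    simp [Set.image_pair]
  rw [this, h]

/-- A valid certificate gives a generating triple of `M23`. -/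
theorem exists_triple_of_cert (xprog : List (ℕ × ℕ)) (ix iy p q r : ℕ) (prog : List (ℕ × ℕ))
    (lk : List (List ℕ)) (hp : p.Prime) (hq : q.Prime) (hr : r.Prime)
    (h : certTriple xprog ix iy p q r prog lk = true) :
    ∃ X Y Z : Spor.M23, orderOf X = p ∧ orderOf Y = q ∧ orderOf Z = r ∧ X * Y * Z = 1 ∧
      Subgroup.closure {X, Y} = ⊤ := by
  simp only [certTriple, Bool.and_eq_true, beq_iff_eq] at h
  obtain ⟨⟨⟨⟨⟨hx23, hy23⟩, hxo⟩, hyo⟩, hzo⟩, hgen⟩ := h
  have hmatch : List.Forall₂ Matches (runP xprog chainP) (runT xprog chainT) :=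
    forall₂_runP_runT xprog _ _ chain_match
  have hmem : ∀ k, (runP xprog chainP).getD k 1 ∈ genH := by
    intro k
    apply getD_mem_of_forall
    apply runP_mem
    intro g hg
    obtain ⟨n, hn, rfl⟩ := List.getElem_of_mem hg
    have := chainP_mem_genH n
    rwa [List.getD_eq_getElem _ _ hn] at this
  have hxm := forall₂_getD hmatch matches_one ix
  have hym := forall₂_getD hmatch matches_one iy
  have hxM := genH_le_M24 (hmem ix)
  have hyM := genH_le_M24 (hmem iy)
  generalize (runP xprog chainP).getD ix 1 = x at hxm hxM
  generalize (runP xprog chainP).getD iy 1 = y at hym hyM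
  generalize (runT xprog chainT).getD ix idT = xT at hx23 hxo hzo hgen hxm
  generalize (runT xprog chainT).getD iy idT = yT at hy23 hyo hzo hgen hym
  have hxG : x ∈ Gst 1 := by
    rw [mem_Gst]
    refine ⟨hxM, ?_⟩
    intro j hj
    have : j = 0 := by omega
    subst this
    exact fixes_of_matches hxm (i := 23) (by decide) hx23
  have hyG : y ∈ Gst 1 := by
    rw [mem_Gst]
    refine ⟨hyM, ?_⟩
    intro j hj
    have : j = 0 := by omega
    subst this
    exact fixes_of_matches hym (i := 23) (by decide) hy23
  have hcl := closure_eq_Gst_one hxG hyG hxm hym hgen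
  rw [Gst_one_eq_M23] at hxG hyG hcl
  refine ⟨⟨x, hxG⟩, ⟨y, hyG⟩, (⟨x, hxG⟩ * ⟨y, hyG⟩)⁻¹, ?_, ?_, ?_, ?_, ?_⟩
  · rw [← Subgroup.orderOf_coe]; exact orderOf_of_ordT hxm hp hxo
  · rw [← Subgroup.orderOf_coe]; exact orderOf_of_ordT hym hq hyo
  · rw [orderOf_inv, ← Subgroup.orderOf_coe]
    exact orderOf_of_ordT (matches_mul hxm hym) hr hzo
  · exact mul_inv_cancel _
  · exact closure_subtype_eq_top _ _ hcl

end Cfsg.Agent.Lib.Helper7
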