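import Cfsg.Agent.Lib.Helper7.M23SchurData

/-!
# The Schur multiplier of `M23` is trivial
-/

set_option autoImplicit false

namespace Cfsg.Agent.Lib.Helper7.M23Schur
open Cfsg Cfsg.Agent.Lib.Helper7 Cfsg.Agent.Lib.Helper7.Tbl Cfsg.Agent.Lib.Helper7.Stem
open Cfsg.Agent.Lib.Helper7.SylowPair Subgroup

/-! ### The elementary abelian subgroup `N` -/

/-- The generators of `N`. -/
noncomputable def gensN : List ↥Spor.M23 := [n1, n2, n3, n4]
/-- Their tables. -/
def gensNT : List (List ℕ) := [n1T, n2T, n3T, n4T]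

theorem hmN : List.Forall₂ (MatchS (H := Spor.M23)) gensN gensNT :=
  .cons m_n1 (.cons m_n2 (.cons m_n3 (.cons m_n4 .nil)))

/-- The subgroup `N`. -/
noncomputable def N : Subgroup ↥Spor.M23 := closure {x | x ∈ gensN}

/-- The tables of the 16 elements of `N`. -/
def LT : List (List ℕ) := (List.range 16).map (pcwT gensNT)

theorem LT_closed : closedT gensNT LT = true := by decide +kernel

theorem tbl_of_mem_N : ∀ x ∈ N, ∃ t ∈ LT, MatchS x t := tbl_of_mem_closure' hmN LT LT_closed

theorem n1_mem : n1 ∈ N := subset_closure (by simp [gensN])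
theorem n2_mem : n2 ∈ N := subset_closure (by simp [gensN])
theorem n3_mem : n3 ∈ N := subset_closure (by simp [gensN])

theorem card_N_le : Nat.card ↥N ≤ 16 := by
  have := card_le_of_tbls N LT tbl_of_mem_N
  simpa [LT] using this

/-- `z = y ^ 5`. -/
noncomputable def z : ↥Spor.M23 := y ^ 5
/-- Table of `z`. -/
def zT : List ℕ := powTb yT 5
theorem m_z : MatchS z zT := matchS_pow m_y 5

theorem z_cube : z ^ 3 = 1 :=
  eq_of_matchS (matchS_pow m_z 3) matchS_one (by decide +kernel)

/-- Every non-trivial element of `N` is conjugate to `n1` under a power of `y`. -/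
def conjChk : Bool :=
  LT.all fun t => teq t idT || (List.range 15).any fun i =>
    teq (compT (powTb yT i) n1T) (compT t (powTb yT i))

theorem conjChk_true : conjChk = true := by decide +kernel

theorem N_conj : ∀ x ∈ N, x = 1 ∨ ∃ g : ↥Spor.M23, g * n1 = x * g := by
  intro x hx
  obtain ⟨t, ht, hxt⟩ := tbl_of_mem_N x hx
  have h := conjChk_true
  simp only [conjChk, List.all_eq_true, Bool.or_eq_true, List.any_eq_true, List.mem_range] at h
  rcases h t ht with h1 | ⟨i, _, hi⟩
  · exact Or.inl (eq_of_matchS hxt matchS_one h1)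
  · exact Or.inr ⟨y ^ i, eq_of_matchS (matchS_mul (matchS_pow m_y i) m_n1)
      (matchS_mul hxt (matchS_pow m_y i)) hi⟩

/-- `z` has no non-trivial fixed point on `N`. -/
def fpfChk : Bool := LT.all fun t => !teq (compT zT t) (compT t zT) || teq t idT

theorem fpfChk_true : fpfChk = true := by decide +kernel

theorem N_fpf : ∀ x ∈ N, z * x = x * z → x = 1 := by
  intro x hx hzx
  obtain ⟨t, ht, hxt⟩ := tbl_of_mem_N x hx
  have h := fpfChk_true
  simp only [fpfChk, List.all_eq_true, Bool.or_eq_true, Bool.not_eq_true'] at h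
  have h1 : MatchS (z * x) (compT zT t) := matchS_mul m_z hxt
  have h2 : MatchS (z * x) (compT t zT) := by rw [hzx]; exact matchS_mul hxt m_z
  have h3 := teq_of_matchS h1 h2
  rcases h t ht with h4 | h4
  · rw [h3] at h4; exact absurd h4 (by decide)
  · exact eq_of_matchS hxt matchS_one h4

theorem z_norm : ∀ x ∈ N, z * x * z⁻¹ ∈ N :=
  conj_mem_of_normT hmN m_z 16 (by decide +kernel)
theorem s_norm : ∀ x ∈ N, s * x * s⁻¹ ∈ N :=
  conj_mem_of_normT hmN m_s 16 (by decide +kernel)
theorem t_norm : ∀ x ∈ N, t * x * t⁻¹ ∈ N :=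
  conj_mem_of_normT hmN m_t 16 (by decide +kernel)

theorem z_inv : z⁻¹ = z * z := by
  apply inv_eq_of_mul_eq_one_right
  rw [← z_cube, pow_succ, pow_two, mul_assoc]

theorem s_z : s * z = z⁻¹ * s := by
  rw [z_inv]
  exact eq_of_matchS (matchS_mul m_s m_z) (matchS_mul (matchS_mul m_z m_z) m_s) (by decide +kernel)

theorem t_z : t * z = z * t :=
  eq_of_matchS (matchS_mul m_t m_z) (matchS_mul m_z m_t) (by decide +kernel)

/-- `u = (s t)²`. -/
def uT : List ℕ := compT (compT sT tT) (compT sT tT)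
theorem m_u : MatchS (s * t * (s * t)) uT := matchS_mul (matchS_mul m_s m_t) (matchS_mul m_s m_t)

theorem conj_s : s * cs = cs * n1 :=
  eq_of_matchS (matchS_mul m_s m_cs) (matchS_mul m_cs m_n1) (by decide +kernel)
theorem conj_t : t * ct = ct * n1 :=
  eq_of_matchS (matchS_mul m_t m_ct) (matchS_mul m_ct m_n1) (by decide +kernel)
theorem conj_u : s * t * (s * t) * cu = cu * n1 :=
  eq_of_matchS (matchS_mul m_u m_cu) (matchS_mul m_cu m_n1) (by decide +kernel)

/-! ### The Sylow 2-subgroup -/

/-- Generators of the Sylow 2-subgroup. -/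
noncomputable def gensP : List ↥Spor.M23 := [n1, n2, n3, n4, s * t * (s * t), s, t]
/-- Their tables. -/
def gensPT : List (List ℕ) := [n1T, n2T, n3T, n4T, uT, sT, tT]

theorem hmP : List.Forall₂ (MatchS (H := Spor.M23)) gensP gensPT :=
  .cons m_n1 (.cons m_n2 (.cons m_n3 (.cons m_n4 (.cons m_u (.cons m_s (.cons m_t .nil))))))

theorem distinctP : distinctT gensPT (List.range 128) = true := by decide +kernel

theorem card_P_ge :
    128 ≤ Nat.card ↥(N ⊔ zpowers (s * t * (s * t)) ⊔ zpowers s ⊔ zpowers t) := by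
  have hN : N ≤ N ⊔ zpowers (s * t * (s * t)) ⊔ zpowers s ⊔ zpowers t :=
    le_sup_left.trans (le_sup_left.trans le_sup_left)
  have hU : zpowers (s * t * (s * t)) ≤ N ⊔ zpowers (s * t * (s * t)) ⊔ zpowers s ⊔ zpowers t :=
    le_sup_right.trans (le_sup_left.trans le_sup_left)
  have hS : zpowers s ≤ N ⊔ zpowers (s * t * (s * t)) ⊔ zpowers s ⊔ zpowers t :=
    le_sup_right.trans le_sup_left
  have hT : zpowers t ≤ N ⊔ zpowers (s * t * (s * t)) ⊔ zpowers s ⊔ zpowers t :=
    le_sup_right
  have := card_ge_of_distinctT (N ⊔ zpowers (s * t * (s * t)) ⊔ zpowers s ⊔ zpowers t) hmP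
    (by
      intro g hg
      simp only [gensP, List.mem_cons, List.not_mem_nil, or_false] at hg
      rcases hg with rfl | rfl | rfl | rfl | rfl | rfl | rfl
      · exact hN (subset_closure (by simp [gensN]))
      · exact hN (subset_closure (by simp [gensN]))
      · exact hN (subset_closure (by simp [gensN]))
      · exact hN (subset_closure (by simp [gensN]))
      · exact hU (mem_zpowers _)
      · exact hS (mem_zpowers _)
      · exact hT (mem_zpowers _))
    (List.range 128) distinctP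
  simpa using this

/-- The kernels of exponent 2. -/
theorem ker_two {Δ : Type} [Group Δ] [Finite Δ] (τ : Δ →* ↥Spor.M23) (hτ : IsStemExtension τ)
    (hexp : ∀ k ∈ τ.ker, k ^ 2 = 1) : τ.ker = ⊥ := by
  refine ker_eq_bot_two_D8 τ hτ (fun k hk => by rw [← pow_two]; exact hexp k hk) N n1 n1 n2 n3 z s t
    cu cs ct card_N_le N_conj n1_mem ?_ n1_mem n2_mem n3_mem ?_ ?_ ?_ ?_ ?_ ?_ ?_ z_cube z_norm N_fpf
    s_norm t_norm (Or.inr s_z) (Or.inl t_z) conj_s conj_t conj_u card_P_ge 79695
    (by rw [card_M23]) (by decide)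
  · exact eq_of_matchS (matchS_mul m_n1 m_n1) matchS_one (by decide +kernel)
  · exact ne_of_matchS m_n1 matchS_one (by decide +kernel)
  · exact ne_of_matchS m_n2 matchS_one (by decide +kernel)
  · exact ne_of_matchS m_n3 matchS_one (by decide +kernel)
  · exact ne_of_matchS (matchS_mul m_n2 m_n1) matchS_one (by decide +kernel)
  · exact ne_of_matchS (matchS_mul m_n3 m_n1) matchS_one (by decide +kernel)
  · exact ne_of_matchS (matchS_mul m_n2 m_n3) matchS_one (by decide +kernel)
  · exact ne_of_matchS (matchS_mul (matchS_mul m_n2 m_n3) m_n1) matchS_one (by decide +kernel)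

/-! ### The Sylow 3-subgroup -/

/-- Generators (with repetitions) of the Sylow 3-subgroup. -/
noncomputable def gens3 : List ↥Spor.M23 := [a3, a3, b3, b3]
/-- Their tables. -/
def gens3T : List (List ℕ) := [a3T, a3T, b3T, b3T]

theorem hm3 : List.Forall₂ (MatchS (H := Spor.M23)) gens3 gens3T :=
  .cons m_a3 (.cons m_a3 (.cons m_b3 (.cons m_b3 .nil)))

theorem card_P3_ge : 9 ≤ Nat.card ↥(zpowers a3 ⊔ zpowers b3) := by
  have := card_ge_of_distinctT (zpowers a3 ⊔ zpowers b3) hm3
    (by
      intro g hg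
      simp only [gens3, List.mem_cons, List.not_mem_nil, or_false] at hg
      rcases hg with rfl | rfl | rfl | rfl
      · exact (le_sup_left : zpowers a3 ≤ _) (mem_zpowers _)
      · exact (le_sup_left : zpowers a3 ≤ _) (mem_zpowers _)
      · exact (le_sup_right : zpowers b3 ≤ _) (mem_zpowers _)
      · exact (le_sup_right : zpowers b3 ≤ _) (mem_zpowers _))
    [0, 1, 3, 4, 5, 7, 12, 13, 15] (by decide +kernel)
  simpa using this

/-- The kernels of exponent 3. -/
theorem ker_three {Δ : Type} [Group Δ] [Finite Δ] (τ : Δ →* ↥Spor.M23) (hτ : IsStemExtension τ)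
    (hexp : ∀ k ∈ τ.ker, k ^ 3 = 1) : τ.ker = ⊥ := by
  refine ker_eq_bot_three_abelian τ hτ hexp a3 b3 t3 t3p ?_ ?_ ?_ ?_ ?_ ?_ card_P3_ge 1133440
    (by rw [card_M23]) (by decide)
  · exact eq_of_matchS (matchS_pow m_a3 3) matchS_one (by decide +kernel)
  · exact eq_of_matchS (matchS_pow m_b3 3) matchS_one (by decide +kernel)
  · exact eq_of_matchS (matchS_mul m_a3 m_b3) (matchS_mul m_b3 m_a3) (by decide +kernel)
  · exact eq_of_matchS (matchS_mul m_t3 m_a3) (matchS_mul (matchS_mul m_a3 m_a3) m_t3)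
      (by decide +kernel)
  · exact eq_of_matchS (matchS_mul m_t3 m_b3) (matchS_mul m_b3 m_t3) (by decide +kernel)
  · exact eq_of_matchS (matchS_mul m_t3p m_b3) (matchS_mul (matchS_mul m_b3 m_b3) m_t3p)
      (by decide +kernel)

/-! ### The other primes -/

theorem orderOf_of_tbl {x : ↥Spor.M23} {t : List ℕ} (hx : MatchS x t) (p : ℕ) (hp : p.Prime)
    (h1 : teq (powTb t p) idT = true) (h2 : teq t idT = false) : orderOf x = p := by
  have : Fact p.Prime := ⟨hp⟩
  exact orderOf_eq_prime (eq_of_matchS (matchS_pow hx p) matchS_one h1)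
    (ne_of_matchS hx matchS_one h2)

theorem orderOf_e5 : orderOf e5 = 5 :=
  orderOf_of_tbl m_e5 5 (by norm_num) (by decide +kernel) (by decide +kernel)
theorem orderOf_e7 : orderOf e7 = 7 :=
  orderOf_of_tbl m_e7 7 (by norm_num) (by decide +kernel) (by decide +kernel)
theorem orderOf_e11 : orderOf e11 = 11 :=
  orderOf_of_tbl m_e11 11 (by norm_num) (by decide +kernel) (by decide +kernel)
theorem orderOf_e23 : orderOf e23 = 23 :=
  orderOf_of_tbl m_e23 23 (by norm_num) (by decide +kernel) (by decide +kernel)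

theorem coprime_card_of_prime {p : ℕ} (hp : p.Prime) (h2 : p ≠ 2) (h3 : p ≠ 3) (h5 : p ≠ 5)
    (h7 : p ≠ 7) (h11 : p ≠ 11) (h23 : p ≠ 23) : Nat.Coprime 10200960 p := by
  rw [Nat.coprime_comm, Nat.Prime.coprime_iff_not_dvd hp]
  intro hd
  have e : 10200960 = 2 ^ 7 * 3 ^ 2 * 5 * 7 * 11 * 23 := by norm_num
  rw [e] at hd
  have hpr := fun {q : ℕ} (hq : q.Prime) (h : p ∣ q) => (Nat.prime_dvd_prime_iff_eq hp hq).mp h
  rcases (Nat.Prime.dvd_mul hp).mp hd with hd | hd
  · rcases (Nat.Prime.dvd_mul hp).mp hd with hd | hd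
    · rcases (Nat.Prime.dvd_mul hp).mp hd with hd | hd
      · rcases (Nat.Prime.dvd_mul hp).mp hd with hd | hd
        · rcases (Nat.Prime.dvd_mul hp).mp hd with hd | hd
          · exact h2 (hpr (by norm_num) (hp.dvd_of_dvd_pow hd))
          · exact h3 (hpr (by norm_num) (hp.dvd_of_dvd_pow hd))
        · exact h5 (hpr (by norm_num) hd)
      · exact h7 (hpr (by norm_num) hd)
    · exact h11 (hpr (by norm_num) hd)
  · exact h23 (hpr (by norm_num) hd)

/-- The Schur multiplier of `M23` is trivial. -/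
theorem multiplier_M23 : HasCyclicSchurMultiplier ↥Spor.M23 1 := by
  apply hasCyclicSchurMultiplier_one_of_primes
  intro p hp Δ _ _ τ hτ hexp
  by_cases h2 : p = 2
  · subst h2; exact ker_two τ hτ hexp
  by_cases h3 : p = 3
  · subst h3; exact ker_three τ hτ hexp
  by_cases h5 : p = 5
  · subst h5
    exact ker_eq_bot_of_orderOf τ hτ 5 hexp e5 orderOf_e5 2040192 (by rw [card_M23]) (by norm_num)
      (by decide)
  by_cases h7 : p = 7
  · subst h7
    exact ker_eq_bot_of_orderOf τ hτ 7 hexp e7 orderOf_e7 1457280 (by rw [card_M23]) (by norm_num)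
      (by decide)
  by_cases h11 : p = 11
  · subst h11
    exact ker_eq_bot_of_orderOf τ hτ 11 hexp e11 orderOf_e11 927360 (by rw [card_M23]) (by norm_num)
      (by decide)
  by_cases h23 : p = 23
  · subst h23
    exact ker_eq_bot_of_orderOf τ hτ 23 hexp e23 orderOf_e23 443520 (by rw [card_M23]) (by norm_num)
      (by decide)
  · apply ker_eq_bot_of_coprime_card τ hτ p hexp
    rw [card_M23]
    exact coprime_card_of_prime hp h2 h3 h5 h7 h11 h23

end Cfsg.Agent.Lib.Helper7.M23Schur
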