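import Cfsg.Agent.Lib.Helper7.TblSub
import Cfsg.Agent.Lib.Helper7.StemTwo
import Cfsg.Agent.Lib.Helper7.StemThree
import Cfsg.Agent.Lib.Helper7.StemReduce
import Cfsg.Prelude.Def_Spor_Mathieu

/-!
# Explicit elements of `M23` for the computation of its Schur multiplier

AUTO-GENERATED by scratch/schur/gen23.py; everything is re-checked here.
`n1, …, n4` generate an elementary abelian group `N` of order 16, normalized by `y` (order 15, transitive on the
non-trivial elements of `N`; `y ^ 5` is fixed-point-free on `N`) and by the involutions `s, t` generating a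
dihedral group of order 8; `cu, cs, ct` conjugate `n1` to `(st)², s, t`.  `e5, e7, e11, e23` have the orders
shown, and `a3, b3` generate a Sylow 3-subgroup, `t3` inverting `a3` and centralizing `b3`, `t3p` inverting `b3`.
-/

set_option autoImplicit false

namespace Cfsg.Agent.Lib.Helper7.M23Schur
open Cfsg Cfsg.Agent.Lib.Helper7 Cfsg.Agent.Lib.Helper7.Tbl Cfsg.Agent.Lib.Helper7.Stem
open Cfsg.Agent.Lib.Helper7.SylowPair

/-- Straight-line program run on top of the chain entries. -/
def prog : List (ℕ × ℕ) := [(215, 202), (215, 227), (229, 187), (216, 225), (231, 183), (207, 187), (233, 162), (234, 135), (235, 102), (215, 203), (237, 173), (238, 160), (239, 130), (240, 98), (215, 225), (242, 192), (202, 181), (244, 146), (245, 98), (216, 169), (247, 186), (248, 163), (249, 115), (250, 99), (216, 205), (252, 178), (253, 158), (254, 126), (215, 208), (256, 186), (257, 154), (258, 112), (216, 205), (260, 180), (261, 163), (262, 88), (216, 201), (264, 179), (265, 149), (266, 133), (267, 101),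 (173, 160), (269, 136), (270, 96), (216, 200), (272, 189), (273, 161), (274, 112), (275, 97), (216, 168), (277, 183), (278, 162), (279, 117), (280, 95), (216, 205), (282, 185), (283, 151), (284, 96), (216, 207), (286, 183), (287, 158), (288, 111)]

/-- All tables. -/
def allT : List (List ℕ) := runT prog chainT

/-- All permutations. -/
noncomputable def allP : List (Equiv.Perm GolayPt) := runP prog chainP

theorem all_match : List.Forall₂ Matches allP allT :=
  forall₂_runP_runT _ _ _ chain_match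

theorem allP_mem_genH (k : ℕ) : allP.getD k 1 ∈ genH :=
  getD_mem_of_forall (runP_mem genH prog chainP
    (runP_mem genH chainProg gensP gensP_mem_genH)) k

theorem mem_M23_of_tbl {σ : Equiv.Perm GolayPt} {t : List ℕ} (hM : σ ∈ M24) (hm : Matches σ t)
    (h23 : t.getD 23 0 = 23) : σ ∈ Spor.M23 := by
  have hG : Gst 1 = Spor.M23 := rfl
  rw [← hG, mem_Gst]
  refine ⟨hM, ?_⟩
  intro j hj
  have : j = 0 := by omega
  subst this
  exact fixes_of_matches hm (i := 23) (by decide) h23

theorem card_M23 : Nat.card ↥Spor.M23 = 10200960 := by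
  have hG : Gst 1 = Spor.M23 := rfl
  rw [← hG]; exact card_Gst_1

instance : Finite ↥Spor.M23 := Nat.finite_of_card_ne_zero (by rw [card_M23]; norm_num)

/-- Table of `n1`. -/
def n1T : List ℕ := [0, 1, 2, 3, 13, 5, 19, 21, 11, 15, 20, 8, 18, 4, 14, 9, 22, 17, 12, 6, 10, 7, 16, 23]

/-- Table of `n2`. -/
def n2T : List ℕ := [0, 1, 2, 3, 16, 5, 21, 19, 12, 20, 15, 18, 8, 22, 14, 10, 4, 17, 11, 7, 9, 6, 13, 23]

/-- Table of `n3`. -/
def n3T : List ℕ := [0, 1, 2, 5, 4, 3, 21, 19, 11, 10, 9, 8, 18, 13, 17, 20, 16, 14, 12, 7, 15, 6, 22, 23]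

/-- Table of `n4`. -/
def n4T : List ℕ := [0, 1, 2, 14, 4, 17, 7, 6, 12, 15, 20, 18, 8, 13, 3, 9, 16, 5, 11, 21, 10, 19, 22, 23]

/-- Table of `y`. -/
def yT : List ℕ := [2, 0, 1, 11, 7, 18, 10, 20, 4, 14, 5, 13, 16, 6, 12, 17, 21, 8, 22, 15, 3, 9, 19, 23]

/-- Table of `s`. -/
def sT : List ℕ := [2, 1, 0, 3, 4, 17, 20, 10, 8, 21, 7, 18, 12, 22, 14, 19, 16, 5, 11, 15, 6, 9, 13, 23]

/-- Table of `t`. -/
def tT : List ℕ := [0, 1, 2, 10, 7, 15, 13, 4, 8, 14, 3, 11, 12, 6, 9, 5, 21, 20, 18, 22, 17, 16, 19, 23]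

/-- Table of `cu`. -/
def cuT : List ℕ := [2, 8, 0, 18, 15, 1, 20, 13, 21, 16, 10, 9, 4, 6, 12, 14, 17, 11, 3, 19, 7, 5, 22, 23]

/-- Table of `cs`. -/
def csT : List ℕ := [3, 1, 14, 16, 7, 12, 21, 6, 11, 17, 2, 18, 13, 10, 8, 5, 19, 4, 22, 9, 0, 20, 15, 23]

/-- Table of `ct`. -/
def ctT : List ℕ := [0, 2, 18, 8, 21, 1, 10, 19, 7, 13, 14, 4, 17, 16, 11, 6, 5, 12, 20, 3, 9, 22, 15, 23]

/-- Table of `e5`. -/
def e5T : List ℕ := [0, 9, 3, 5, 11, 6, 18, 7, 8, 22, 17, 21, 4, 10, 19, 20, 12, 15, 2, 1, 13, 16, 14, 23]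

/-- Table of `e7`. -/
def e7T : List ℕ := [3, 1, 8, 11, 13, 15, 19, 5, 20, 12, 4, 22, 2, 0, 17, 16, 6, 9, 7, 18, 14, 21, 10, 23]

/-- Table of `e11`. -/
def e11T : List ℕ := [17, 8, 7, 20, 0, 13, 6, 14, 4, 2, 5, 16, 22, 3, 10, 11, 12, 15, 9, 1, 21, 18, 19, 23]

/-- Table of `e23`. -/
def e23T : List ℕ := [20, 14, 3, 0, 17, 18, 1, 21, 13, 22, 12, 10, 4, 7, 8, 5, 11, 15, 2, 6, 19, 9, 16, 23]

/-- Table of `a3`. -/
def a3T : List ℕ := [3, 22, 2, 21, 4, 13, 10, 19, 8, 9, 14, 20, 1, 17, 6, 15, 11, 5, 7, 18, 16, 0, 12, 23]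

/-- Table of `b3`. -/
def b3T : List ℕ := [18, 1, 2, 7, 9, 13, 14, 20, 8, 15, 6, 0, 12, 17, 10, 4, 21, 5, 11, 16, 3, 19, 22, 23]

/-- Table of `t3`. -/
def t3T : List ℕ := [3, 1, 8, 0, 4, 6, 5, 18, 2, 9, 17, 20, 22, 14, 13, 15, 16, 10, 7, 19, 11, 21, 12, 23]

/-- Table of `t3p`. -/
def t3pT : List ℕ := [0, 12, 2, 21, 9, 13, 6, 16, 8, 4, 14, 18, 1, 5, 10, 15, 7, 17, 11, 20, 19, 3, 22, 23]

theorem tbl_n1 : allT.getD 228 idT = n1T := by decide +kernel
theorem tbl_n2 : allT.getD 224 idT = n2T := by decide +kernel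
theorem tbl_n3 : allT.getD 230 idT = n3T := by decide +kernel
theorem tbl_n4 : allT.getD 232 idT = n4T := by decide +kernel
theorem tbl_y : allT.getD 236 idT = yT := by decide +kernel
theorem tbl_s : allT.getD 241 idT = sT := by decide +kernel
theorem tbl_t : allT.getD 243 idT = tT := by decide +kernel
theorem tbl_cu : allT.getD 246 idT = cuT := by decide +kernel
theorem tbl_cs : allT.getD 251 idT = csT := by decide +kernel
theorem tbl_ct : allT.getD 255 idT = ctT := by decide +kernel
theorem tbl_e5 : allT.getD 259 idT = e5T := by decide +kernel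
theorem tbl_e7 : allT.getD 263 idT = e7T := by decide +kernel
theorem tbl_e11 : allT.getD 268 idT = e11T := by decide +kernel
theorem tbl_e23 : allT.getD 271 idT = e23T := by decide +kernel
theorem tbl_a3 : allT.getD 276 idT = a3T := by decide +kernel
theorem tbl_b3 : allT.getD 281 idT = b3T := by decide +kernel
theorem tbl_t3 : allT.getD 285 idT = t3T := by decide +kernel
theorem tbl_t3p : allT.getD 289 idT = t3pT := by decide +kernel

theorem matches_n1 : Matches (allP.getD 228 1) n1T := by
  rw [← tbl_n1]; exact forall₂_getD all_match matches_one _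

/-- The element `n1` of `M23`. -/
noncomputable def n1 : ↥Spor.M23 :=
  ⟨allP.getD 228 1, mem_M23_of_tbl (genH_le_M24 (allP_mem_genH 228)) matches_n1 (by decide)⟩

theorem m_n1 : MatchS n1 n1T := matches_n1

theorem matches_n2 : Matches (allP.getD 224 1) n2T := by
  rw [← tbl_n2]; exact forall₂_getD all_match matches_one _

/-- The element `n2` of `M23`. -/
noncomputable def n2 : ↥Spor.M23 :=
  ⟨allP.getD 224 1, mem_M23_of_tbl (genH_le_M24 (allP_mem_genH 224)) matches_n2 (by decide)⟩

theorem m_n2 : MatchS n2 n2T := matches_n2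

theorem matches_n3 : Matches (allP.getD 230 1) n3T := by
  rw [← tbl_n3]; exact forall₂_getD all_match matches_one _

/-- The element `n3` of `M23`. -/
noncomputable def n3 : ↥Spor.M23 :=
  ⟨allP.getD 230 1, mem_M23_of_tbl (genH_le_M24 (allP_mem_genH 230)) matches_n3 (by decide)⟩

theorem m_n3 : MatchS n3 n3T := matches_n3

theorem matches_n4 : Matches (allP.getD 232 1) n4T := by
  rw [← tbl_n4]; exact forall₂_getD all_match matches_one _

/-- The element `n4` of `M23`. -/
noncomputable def n4 : ↥Spor.M23 :=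
  ⟨allP.getD 232 1, mem_M23_of_tbl (genH_le_M24 (allP_mem_genH 232)) matches_n4 (by decide)⟩

theorem m_n4 : MatchS n4 n4T := matches_n4

theorem matches_y : Matches (allP.getD 236 1) yT := by
  rw [← tbl_y]; exact forall₂_getD all_match matches_one _

/-- The element `y` of `M23`. -/
noncomputable def y : ↥Spor.M23 :=
  ⟨allP.getD 236 1, mem_M23_of_tbl (genH_le_M24 (allP_mem_genH 236)) matches_y (by decide)⟩

theorem m_y : MatchS y yT := matches_y

theorem matches_s : Matches (allP.getD 241 1) sT := by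
  rw [← tbl_s]; exact forall₂_getD all_match matches_one _

/-- The element `s` of `M23`. -/
noncomputable def s : ↥Spor.M23 :=
  ⟨allP.getD 241 1, mem_M23_of_tbl (genH_le_M24 (allP_mem_genH 241)) matches_s (by decide)⟩

theorem m_s : MatchS s sT := matches_s

theorem matches_t : Matches (allP.getD 243 1) tT := by
  rw [← tbl_t]; exact forall₂_getD all_match matches_one _

/-- The element `t` of `M23`. -/
noncomputable def t : ↥Spor.M23 :=
  ⟨allP.getD 243 1, mem_M23_of_tbl (genH_le_M24 (allP_mem_genH 243)) matches_t (by decide)⟩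

theorem m_t : MatchS t tT := matches_t

theorem matches_cu : Matches (allP.getD 246 1) cuT := by
  rw [← tbl_cu]; exact forall₂_getD all_match matches_one _

/-- The element `cu` of `M23`. -/
noncomputable def cu : ↥Spor.M23 :=
  ⟨allP.getD 246 1, mem_M23_of_tbl (genH_le_M24 (allP_mem_genH 246)) matches_cu (by decide)⟩

theorem m_cu : MatchS cu cuT := matches_cu

theorem matches_cs : Matches (allP.getD 251 1) csT := by
  rw [← tbl_cs]; exact forall₂_getD all_match matches_one _

/-- The element `cs` of `M23`. -/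
noncomputable def cs : ↥Spor.M23 :=
  ⟨allP.getD 251 1, mem_M23_of_tbl (genH_le_M24 (allP_mem_genH 251)) matches_cs (by decide)⟩

theorem m_cs : MatchS cs csT := matches_cs

theorem matches_ct : Matches (allP.getD 255 1) ctT := by
  rw [← tbl_ct]; exact forall₂_getD all_match matches_one _

/-- The element `ct` of `M23`. -/
noncomputable def ct : ↥Spor.M23 :=
  ⟨allP.getD 255 1, mem_M23_of_tbl (genH_le_M24 (allP_mem_genH 255)) matches_ct (by decide)⟩

theorem m_ct : MatchS ct ctT := matches_ct

theorem matches_e5 : Matches (allP.getD 259 1) e5T := by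
  rw [← tbl_e5]; exact forall₂_getD all_match matches_one _

/-- The element `e5` of `M23`. -/
noncomputable def e5 : ↥Spor.M23 :=
  ⟨allP.getD 259 1, mem_M23_of_tbl (genH_le_M24 (allP_mem_genH 259)) matches_e5 (by decide)⟩

theorem m_e5 : MatchS e5 e5T := matches_e5

theorem matches_e7 : Matches (allP.getD 263 1) e7T := by
  rw [← tbl_e7]; exact forall₂_getD all_match matches_one _

/-- The element `e7` of `M23`. -/
noncomputable def e7 : ↥Spor.M23 :=
  ⟨allP.getD 263 1, mem_M23_of_tbl (genH_le_M24 (allP_mem_genH 263)) matches_e7 (by decide)⟩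

theorem m_e7 : MatchS e7 e7T := matches_e7

theorem matches_e11 : Matches (allP.getD 268 1) e11T := by
  rw [← tbl_e11]; exact forall₂_getD all_match matches_one _

/-- The element `e11` of `M23`. -/
noncomputable def e11 : ↥Spor.M23 :=
  ⟨allP.getD 268 1, mem_M23_of_tbl (genH_le_M24 (allP_mem_genH 268)) matches_e11 (by decide)⟩

theorem m_e11 : MatchS e11 e11T := matches_e11

theorem matches_e23 : Matches (allP.getD 271 1) e23T := by
  rw [← tbl_e23]; exact forall₂_getD all_match matches_one _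

/-- The element `e23` of `M23`. -/
noncomputable def e23 : ↥Spor.M23 :=
  ⟨allP.getD 271 1, mem_M23_of_tbl (genH_le_M24 (allP_mem_genH 271)) matches_e23 (by decide)⟩

theorem m_e23 : MatchS e23 e23T := matches_e23

theorem matches_a3 : Matches (allP.getD 276 1) a3T := by
  rw [← tbl_a3]; exact forall₂_getD all_match matches_one _

/-- The element `a3` of `M23`. -/
noncomputable def a3 : ↥Spor.M23 :=
  ⟨allP.getD 276 1, mem_M23_of_tbl (genH_le_M24 (allP_mem_genH 276)) matches_a3 (by decide)⟩

theorem m_a3 : MatchS a3 a3T := matches_a3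

theorem matches_b3 : Matches (allP.getD 281 1) b3T := by
  rw [← tbl_b3]; exact forall₂_getD all_match matches_one _

/-- The element `b3` of `M23`. -/
noncomputable def b3 : ↥Spor.M23 :=
  ⟨allP.getD 281 1, mem_M23_of_tbl (genH_le_M24 (allP_mem_genH 281)) matches_b3 (by decide)⟩

theorem m_b3 : MatchS b3 b3T := matches_b3

theorem matches_t3 : Matches (allP.getD 285 1) t3T := by
  rw [← tbl_t3]; exact forall₂_getD all_match matches_one _

/-- The element `t3` of `M23`. -/
noncomputable def t3 : ↥Spor.M23 :=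
  ⟨allP.getD 285 1, mem_M23_of_tbl (genH_le_M24 (allP_mem_genH 285)) matches_t3 (by decide)⟩

theorem m_t3 : MatchS t3 t3T := matches_t3

theorem matches_t3p : Matches (allP.getD 289 1) t3pT := by
  rw [← tbl_t3p]; exact forall₂_getD all_match matches_one _

/-- The element `t3p` of `M23`. -/
noncomputable def t3p : ↥Spor.M23 :=
  ⟨allP.getD 289 1, mem_M23_of_tbl (genH_le_M24 (allP_mem_genH 289)) matches_t3p (by decide)⟩

theorem m_t3p : MatchS t3p t3pT := matches_t3p

end Cfsg.Agent.Lib.Helper7.M23Schur
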