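import Cfsg.Agent.Lib.Helper7.Scott
import Cfsg.Agent.Lib.Helper7.M24Trans
import Cfsg.Agent.Lib.Helper92.M24Index
import Cfsg.Agent.S5394
import Cfsg.Agent.S5601
import Cfsg.Prelude.Def_Spor_Mathieu

/-!
# The Ree–Scott inequality for `M23`

A triple `X * Y * Z = 1` of elements of `M23` with `⟨X, Y⟩ = M23` satisfies
`44 ≤ rk X + rk Y + rk Z`, and the rank of an element of prime order is determined by the order.
-/

set_option autoImplicit false

namespace Cfsg.Agent.Lib.Helper7
open Cfsg
open scoped Pointwise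

theorem mem_M23_iff {g : Equiv.Perm GolayPt} : g ∈ Spor.M23 ↔ g ∈ M24 ∧ g none = none := by
  unfold Spor.M23
  rw [Subgroup.mem_inf, MulAction.mem_stabilizer_iff]
  rfl

/-- The rank of `1 - g` on the permutation module, as a function of the prime order of `g`. -/
def rkVal : ℕ → ℕ
  | 2 => 8
  | 3 => 12
  | 5 => 16
  | 7 => 18
  | 11 => 20
  | 23 => 22
  | _ => 0

theorem fixCount_eq (g : Equiv.Perm GolayPt) :
    Scott.fixCount g = (Finset.univ.filter fun p => g p = p).card := by
  unfold Scott.fixCount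
  congr

theorem card_GolayPt23 : Fintype.card GolayPt = 24 := by decide

theorem rk_of_order {g : Equiv.Perm GolayPt} (hg : g ∈ Spor.M23) {p : ℕ}
    (hp : p = 2 ∨ p = 3 ∨ p = 5 ∨ p = 7 ∨ p = 11 ∨ p = 23) (ho : orderOf g = p) :
    Scott.rk g = rkVal p := by
  obtain ⟨hgM, hgn⟩ := mem_M23_iff.mp hg
  have hfix : none ∈ (Finset.univ.filter fun q : GolayPt => g q = q) := by
    simp [hgn]
  rcases hp with rfl | rfl | rfl | rfl | rfl | rfl
  · have h := Scott.rk_prime (g := g) (by norm_num) ho
    rw [fixCount_eq, card_GolayPt23] at h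
    have h8 : (Finset.univ.filter fun q : GolayPt => g q = q).card = 8 := by
      rcases Cfsg.Agent.S5394.result.1 g hgM ho with h1 | h1
      · exact octads_steiner.1 _ h1
      · exact absurd hgn (h1 none)
    rw [h8] at h
    show Scott.rk g = 8
    omega
  · have h := Scott.rk_prime (g := g) (by norm_num) ho
    rw [fixCount_eq, card_GolayPt23] at h
    have h6 : (Finset.univ.filter fun q : GolayPt => g q = q).card = 6 := by
      rcases Cfsg.Agent.S5601.card_fix_cases hgM ho with h1 | h1
      · exact h1.1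
      · have := Finset.card_pos.mpr ⟨none, hfix⟩
        omega
    rw [h6] at h
    show Scott.rk g = 12
    omega
  · have h := Scott.rk_prime (g := g) (by norm_num) ho
    rw [fixCount_eq, card_GolayPt23] at h
    have h4 := Cfsg.Agent.Lib.Helper92.M24Index.card_fixPts_5 hgM ho
    rw [Cfsg.Agent.Lib.Helper92.M24Index.fixPts_eq_filter] at h4
    rw [h4] at h
    show Scott.rk g = 16
    omega
  · have h := Scott.rk_prime (g := g) (by norm_num) ho
    rw [fixCount_eq, card_GolayPt23] at h
    have h4 := Cfsg.Agent.Lib.Helper92.M24Index.card_fixPts_7 hgM ho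
    rw [Cfsg.Agent.Lib.Helper92.M24Index.fixPts_eq_filter] at h4
    rw [h4] at h
    show Scott.rk g = 18
    omega
  · have h := Scott.rk_prime (g := g) (by norm_num) ho
    rw [fixCount_eq, card_GolayPt23] at h
    have h4 := Cfsg.Agent.Lib.Helper92.M24Index.card_fixPts_11 hgM ho
    rw [Cfsg.Agent.Lib.Helper92.M24Index.fixPts_eq_filter] at h4
    rw [h4] at h
    show Scott.rk g = 20
    omega
  · have h := Scott.rk_prime (g := g) (by norm_num) ho
    rw [fixCount_eq, card_GolayPt23] at h
    have h4 := Cfsg.Agent.Lib.Helper92.M24Index.card_fixPts_23 hgM ho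
    rw [Cfsg.Agent.Lib.Helper92.M24Index.fixPts_eq_filter] at h4
    rw [h4] at h
    show Scott.rk g = 22
    omega

theorem closure_coe_eq_of_top {G : Type*} [Group G] {H : Subgroup G} (X Y : H)
    (h : Subgroup.closure {X, Y} = ⊤) : Subgroup.closure {(X : G), (Y : G)} = H := by
  have h1 := congrArg (Subgroup.map H.subtype) h
  rw [MonoidHom.map_closure, ← MonoidHom.range_eq_map, Subgroup.range_subtype] at h1
  have : (H.subtype '' {X, Y}) = {(X : G), (Y : G)} := by
    simp [Set.image_pair]
  rw [this] at h1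
  exact h1

theorem exists_M23_map (i : ZMod 23) : ∃ g ∈ Spor.M23, g (some 0) = some i := by
  have hinj : ∀ j : ZMod 23, Function.Injective ![(none : GolayPt), some j] := by
    intro j a b hab
    fin_cases a <;> fin_cases b <;> simp_all
  obtain ⟨g, hg, hmap⟩ := exists_M24_map_emb (k := 2) (by norm_num)
    ⟨![(none : GolayPt), some 0], hinj 0⟩ ⟨![(none : GolayPt), some i], hinj i⟩
  refine ⟨g, mem_M23_iff.mpr ⟨hg, ?_⟩, ?_⟩
  · simpa using hmap 0
  · simpa using hmap 1

/-- The Ree–Scott inequality for generating triples of `M23`. -/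
theorem scott_M23 (X Y Z : Spor.M23) (h : X * Y * Z = 1) (hgen : Subgroup.closure {X, Y} = ⊤) :
    44 ≤ Scott.rk (X : Equiv.Perm GolayPt) + Scott.rk (Y : Equiv.Perm GolayPt) +
      Scott.rk (Z : Equiv.Perm GolayPt) := by
  have hcl := closure_coe_eq_of_top X Y hgen
  have h1 : (X : Equiv.Perm GolayPt) * Y * Z = 1 := by
    have := congrArg Subtype.val h
    simpa using this
  have hS : ∀ a : GolayPt, ∃ s ∈ ({none, some 0} : Finset GolayPt),
      ∃ g ∈ Subgroup.closure {(X : Equiv.Perm GolayPt), (Y : Equiv.Perm GolayPt)}, g s = a := by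
    intro a
    rw [hcl]
    cases a with
    | none => exact ⟨none, by simp, 1, Subgroup.one_mem _, rfl⟩
    | some i =>
      obtain ⟨g, hg, hgi⟩ := exists_M23_map i
      exact ⟨some 0, by simp, g, hg, hgi⟩
  have := Scott.scott _ _ _ h1 {none, some 0} hS
  rw [card_GolayPt23] at this
  have hc : ({none, some 0} : Finset GolayPt).card = 2 := by decide
  rw [hc] at this
  omega

end Cfsg.Agent.Lib.Helper7
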