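import Cfsg.Agent.Lib.Helper7.M23Gen

/-!
# Generating triples of `M23` of prime orders (generated data), part A
-/

set_option autoImplicit false

namespace Cfsg.Agent.Lib.Helper7.M23Triples
open Cfsg Cfsg.Agent.Lib.Helper7

theorem triple_2_5_11 : ∃ X Y Z : Spor.M23, orderOf X = 2 ∧ orderOf Y = 5 ∧ orderOf Z = 11 ∧
    X * Y * Z = 1 ∧ Subgroup.closure {X, Y} = ⊤ :=
  exists_triple_of_cert [(92, 192), (228, 228), (229, 229), (207, 95), (231, 127), (232, 232), (232, 233)] 230 234 2 5 11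
    [(0, 0), (1, 0), (1, 1), (3, 1), (4, 1), (5, 0), (5, 1), (6, 1), (8, 1), (9, 0), (10, 0), (10, 1), (11, 1), (12, 1), (13, 0), (14, 1), (15, 1), (17, 0), (18, 1), (19, 1), (20, 1), (1, 0), (23, 1), (21, 24), (24, 0), (26, 1), (19, 27), (27, 1), (29, 1), (13, 30), (25, 25), (25, 31), (28, 25), (28, 28), (28, 31), (32, 28), (32, 31), (33, 25), (33, 28), (34, 25), (34, 31), (35, 25), (35, 28), (36, 25), (36, 28), (39, 31), (40, 25), (44, 31), (49, 25), (31, 25), (51, 31), (32, 52), (52, 31), (54, 28), (36, 55), (55, 31), (57, 28), (35, 58), (53, 53), (53, 56), (56, 53), (56, 59), (59, 53), (59, 56), (59, 59), (60, 53), (60, 56), (62, 53), (62, 56), (63, 56), (64, 53), (66, 53), (68, 53), (69, 56), (70, 59), (59, 59), (77, 53), (75, 78), (78, 56), (80, 53), (74, 81), (81, 59), (83, 53), (53, 84), (79, 79), (79, 82), (79, 85), (82, 82), (82, 85), (85, 79), (86, 79), (86, 82), (86, 85), (87, 79), (88, 79), (88, 82),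 (89, 79), (91, 79), (91, 85), (95, 82), (79, 85), (102, 82), (101, 103), (103, 82), (105, 85), (91, 106), (106, 79), (108, 82), (95, 109), (107, 104), (107, 110), (110, 104), (110, 107), (111, 104), (111, 110), (112, 104), (112, 107), (113, 104), (114, 110), (115, 110), (116, 104), (117, 104), (110, 107), (124, 104), (116, 125), (125, 104), (127, 104), (116, 128), (128, 107), (130, 104), (112, 131), (131, 104), (133, 107), (121, 134), (134, 104), (136, 110), (115, 137)]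
    [[0, 0, 0, 0, 0, 0, 0, 0, 0, 0, 0, 0, 0, 0, 0, 0, 0, 0, 0, 0, 0, 0, 0, 0],
    [2, 18, 14, 10, 12, 11, 6, 13, 20, 16, 1, 0, 21, 7, 17, 4, 19, 9, 15, 8, 22, 3, 5, 0],
    [0, 2, 33, 39, 50, 25, 43, 49, 42, 45, 35, 41, 38, 44, 46, 36, 28, 47, 48, 40, 32, 37, 34, 0],
    [0, 0, 2, 64, 72, 62, 65, 53, 69, 59, 61, 63, 74, 76, 70, 71, 66, 56, 75, 60, 73, 67, 68, 0],
    [0, 0, 0, 2, 85, 91, 97, 86, 88, 92, 101, 99, 98, 100, 82, 94, 90, 89, 79, 87, 95, 96, 93, 0],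
    [0, 0, 0, 0, 2, 0, 119, 107, 112, 123, 111, 118, 115, 122, 0, 110, 116, 0, 113, 121, 120, 117, 114, 0],
    [0, 0, 0, 0, 0, 2, 0, 0, 0, 0, 0, 0, 0, 0, 132, 0, 0, 129, 0, 0, 0, 0, 0, 0]]
    (by norm_num) (by norm_num) (by norm_num) (by decide +kernel)

theorem triple_2_5_23 : ∃ X Y Z : Spor.M23, orderOf X = 2 ∧ orderOf Y = 5 ∧ orderOf Z = 23 ∧
    X * Y * Z = 1 ∧ Subgroup.closure {X, Y} = ⊤ :=
  exists_triple_of_cert [(132, 204), (228, 104), (229, 229), (229, 230), (230, 230), (231, 232), (130, 131)] 233 234 2 5 23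
    [(0, 0), (0, 1), (3, 0), (3, 1), (4, 1), (5, 0), (5, 1), (6, 1), (7, 1), (8, 1), (9, 1), (10, 1), (11, 0), (12, 0), (12, 1), (13, 0), (13, 1), (15, 1), (18, 1), (19, 0), (19, 1), (21, 1), (1, 0), (24, 0), (25, 1), (26, 1), (27, 0), (28, 1), (5, 29), (29, 0), (31, 1), (14, 32), (25, 25), (25, 27), (25, 33), (27, 33), (34, 33), (35, 33), (36, 25), (36, 33), (37, 25), (37, 33), (39, 25), (39, 27), (39, 33), (40, 33), (42, 33), (44, 27), (46, 25), (46, 27), (51, 33), (33, 27), (53, 25), (54, 33), (55, 25), (49, 56), (56, 33), (58, 33), (57, 54), (57, 57), (57, 59), (59, 54), (60, 54), (60, 59), (61, 54), (61, 59), (62, 57), (62, 59), (63, 54), (63, 57), (64, 57), (65, 54), (65, 59), (66, 54), (69, 57), (70, 59), (59, 54), (78, 59), (63, 79), (79, 59), (81, 57), (64, 82), (82, 54), (84, 59), (74, 85), (80, 80), (80, 83), (80, 86), (83, 80), (83, 83), (83, 86), (86, 80), (86, 83), (87, 83), (88, 86), (89, 83), (90,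 83), (91, 86), (94, 83), (95, 86), (98, 80), (83, 86), (103, 83), (96, 104), (104, 86), (106, 80), (93, 107), (107, 86), (109, 86), (89, 110), (105, 105), (105, 108), (108, 105), (108, 108), (108, 111), (111, 105), (111, 108), (112, 108), (113, 105), (113, 108), (118, 108), (119, 108), (105, 111), (124, 111), (118, 125), (125, 108), (127, 108), (119, 128), (128, 108), (130, 105), (115, 131), (131, 111), (133, 105), (108, 134), (134, 111), (136, 108), (114, 137)]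
    [[0, 0, 0, 0, 0, 0, 0, 0, 0, 0, 0, 0, 0, 0, 0, 0, 0, 0, 0, 0, 0, 0, 0, 0],
    [2, 4, 18, 10, 17, 9, 8, 0, 22, 12, 21, 14, 15, 6, 13, 11, 7, 5, 20, 3, 19, 16, 23, 0],
    [0, 2, 45, 44, 52, 34, 37, 36, 51, 27, 43, 41, 50, 25, 48, 42, 39, 38, 49, 40, 47, 35, 46, 0],
    [0, 0, 2, 62, 57, 65, 68, 61, 74, 72, 67, 66, 76, 75, 64, 77, 71, 69, 63, 73, 60, 59, 70, 0],
    [0, 0, 0, 2, 86, 91, 88, 96, 93, 95, 94, 89, 101, 87, 83, 80, 99, 102, 97, 100, 90, 98, 92, 0],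
    [0, 0, 0, 0, 2, 0, 114, 120, 118, 113, 119, 115, 121, 105, 0, 111, 122, 0, 123, 117, 108, 116, 112, 0],
    [0, 0, 0, 0, 0, 2, 0, 0, 0, 0, 0, 0, 0, 0, 126, 0, 0, 129, 0, 0, 0, 0, 0, 0]]
    (by norm_num) (by norm_num) (by norm_num) (by decide +kernel)

theorem triple_2_7_7 : ∃ X Y Z : Spor.M23, orderOf X = 2 ∧ orderOf Y = 7 ∧ orderOf Z = 7 ∧
    X * Y * Z = 1 ∧ Subgroup.closure {X, Y} = ⊤ :=
  exists_triple_of_cert [(179, 157), (228, 116), (229, 229), (229, 230), (136, 94), (232, 168), (233, 233)] 231 234 2 7 7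
    [(0, 0), (1, 1), (3, 0), (3, 1), (4, 1), (5, 0), (5, 1), (6, 0), (6, 1), (8, 1), (9, 1), (10, 1), (11, 1), (12, 0), (12, 1), (13, 1), (16, 1), (17, 0), (18, 0), (18, 1), (21, 0), (22, 1), (1, 1), (24, 0), (11, 25), (25, 1), (27, 1), (5, 28), (28, 1), (30, 1), (7, 31), (26, 29), (29, 26), (29, 32), (32, 29), (32, 32), (33, 26), (33, 32), (35, 29), (35, 32), (36, 32), (37, 29), (37, 32), (38, 32), (39, 29), (42, 32), (43, 32), (45, 32), (48, 29), (29, 29), (51, 32), (41, 52), (52, 26), (54, 32), (49, 55), (55, 26), (57, 29), (45, 58), (53, 53), (53, 59), (56, 56), (56, 59), (59, 53), (59, 56), (60, 56), (61, 53), (61, 56), (62, 53), (63, 56), (64, 56), (64, 59), (66, 56), (66, 59), (68, 56), (70, 59), (53, 53), (77, 59), (78, 56), (79, 59), (65, 80), (80, 59), (82, 59), (60, 83), (78, 78), (78, 81), (78, 84), (81, 78), (81, 84), (84, 78), (84, 84), (86, 78), (87, 84), (88, 84), (90, 78), (90, 84), (92, 78),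 (93, 78), (93, 81), (94, 78), (78, 81), (101, 78), (97, 102), (102, 84), (104, 78), (100, 105), (105, 84), (107, 81), (89, 108), (103, 106), (103, 109), (106, 103), (106, 109), (109, 106), (110, 103), (110, 106), (110, 109), (112, 106), (112, 109), (113, 106), (114, 103), (106, 109), (122, 103), (106, 123), (123, 106), (125, 106), (119, 126), (126, 106), (128, 109), (116, 129), (129, 109), (131, 103), (115, 132), (132, 109), (134, 106), (106, 135)]
    [[0, 0, 0, 0, 0, 0, 0, 0, 0, 0, 0, 0, 0, 0, 0, 0, 0, 0, 0, 0, 0, 0, 0, 0],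
    [2, 20, 16, 17, 10, 14, 1, 19, 23, 18, 3, 4, 21, 15, 9, 7, 13, 22, 11, 8, 12, 5, 6, 0],
    [0, 2, 46, 42, 32, 41, 47, 45, 43, 26, 34, 29, 44, 33, 37, 50, 39, 40, 48, 36, 38, 49, 35, 0],
    [0, 0, 2, 59, 69, 70, 66, 71, 61, 75, 74, 73, 76, 60, 68, 65, 63, 62, 64, 72, 56, 53, 67, 0],
    [0, 0, 0, 2, 99, 87, 88, 91, 94, 86, 89, 85, 81, 96, 98, 78, 84, 90, 92, 97, 95, 100, 93, 0],
    [0, 0, 0, 0, 2, 0, 103, 115, 106, 119, 118, 116, 113, 117, 0, 121, 109, 0, 114, 120, 112, 111, 110, 0],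
    [0, 0, 0, 0, 0, 2, 0, 0, 0, 0, 0, 0, 0, 0, 124, 0, 0, 127, 0, 0, 0, 0, 0, 0]]
    (by norm_num) (by norm_num) (by norm_num) (by decide +kernel)

theorem triple_2_7_11 : ∃ X Y Z : Spor.M23, orderOf X = 2 ∧ orderOf Y = 7 ∧ orderOf Z = 11 ∧
    X * Y * Z = 1 ∧ Subgroup.closure {X, Y} = ⊤ :=
  exists_triple_of_cert [(148, 136), (228, 228), (216, 93), (230, 230)] 229 231 2 7 11
    [(0, 0), (1, 1), (3, 0), (3, 1), (4, 1), (5, 0), (5, 1), (6, 1), (8, 0), (8, 1), (9, 1), (10, 1), (11, 0), (11, 1), (13, 0), (13, 1), (14, 1), (15, 0), (16, 1), (17, 0), (18, 0), (22, 1), (1, 0), (24, 1), (23, 25), (25, 0), (27, 1), (22, 28), (28, 1), (30, 1), (9, 31), (26, 26), (26, 29), (26, 32), (32, 26), (32, 29), (33, 26), (33, 32), (34, 26), (34, 29), (35, 32), (36, 26), (36, 29), (36, 32), (37, 26), (37, 32), (38, 26), (38, 29), (39, 26), (41, 29), (32, 26), (52, 32), (49, 53), (53, 32), (55, 29), (32, 56), (56, 32), (58, 29),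 (39, 59), (54, 54), (54, 57), (54, 60), (57, 54), (57, 57), (57, 60), (60, 54), (60, 60), (61, 54), (62, 54), (62, 60), (63, 54), (63, 60), (64, 54), (66, 54), (66, 57), (66, 60), (60, 60), (78, 54), (57, 79), (79, 57), (81, 54), (77, 82), (82, 60), (84, 54), (70, 85), (80, 83), (80, 86), (83, 86), (86, 80), (86, 83), (86, 86), (87, 86), (88, 80), (88, 83), (88, 86), (89, 80), (89, 83), (89, 86), (91, 86), (92, 83), (93, 86), (80, 86), (103, 83), (92, 104), (104, 83), (106, 86), (100, 107), (107, 80), (109, 83), (91, 110), (105, 105), (108, 105), (111, 105), (112, 108), (112, 111), (113, 105), (113, 108), (113, 111), (114, 111), (115, 105), (115, 111), (116, 105), (111, 108), (124, 105), (122, 125), (125, 105), (127, 105), (105, 128), (128, 108), (130, 105), (116, 131), (131, 105), (133, 108), (119, 134), (134, 105), (136, 111), (121, 137), (129, 129)]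
    [[0, 0, 0, 0, 0, 0, 0, 0, 0, 0, 0, 0, 0, 0, 0, 0, 0, 0, 0, 0, 0, 0, 0, 0],
    [2, 8, 1, 14, 22, 10, 6, 18, 12, 7, 19, 17, 3, 4, 11, 9, 5, 20, 13, 21, 16, 15, 23, 0],
    [0, 2, 40, 32, 45, 26, 38, 34, 46, 49, 51, 41, 47, 36, 35, 48, 37, 33, 50, 39, 44, 42, 43, 0],
    [0, 0, 2, 64, 61, 62, 63, 65, 68, 70, 74, 71, 72, 67, 75, 57, 73, 77, 69, 66, 54, 60, 76, 0],
    [0, 0, 0, 2, 92, 83, 95, 100, 101, 86, 89, 90, 94, 96, 80, 88, 102, 87, 97, 91, 93, 98, 99, 0],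
    [0, 0, 0, 0, 2, 0, 120, 119, 111, 123, 121, 116, 108, 112, 0, 113, 105, 0, 115, 118, 114, 117, 122, 0],
    [0, 0, 0, 0, 0, 2, 0, 0, 0, 0, 0, 0, 0, 0, 139, 0, 0, 129, 0, 0, 0, 0, 0, 0]]
    (by norm_num) (by norm_num) (by norm_num) (by decide +kernel)

theorem triple_2_7_23 : ∃ X Y Z : Spor.M23, orderOf X = 2 ∧ orderOf Y = 7 ∧ orderOf Z = 23 ∧
    X * Y * Z = 1 ∧ Subgroup.closure {X, Y} = ⊤ :=
  exists_triple_of_cert [(108, 186), (228, 228), (204, 92)] 229 230 2 7 23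
    [(0, 0), (1, 0), (1, 1), (3, 1), (4, 1), (5, 0), (5, 1), (6, 1), (7, 1), (8, 1), (9, 0), (9, 1), (10, 1), (11, 0), (12, 1), (13, 0), (13, 1), (14, 1), (15, 1), (16, 0), (16, 1), (19, 1), (0, 0), (24, 0), (25, 1), (26, 0), (22, 27), (27, 1), (29, 1), (13, 30), (25, 28), (25, 31), (28, 28), (31, 25), (31, 28), (31, 31), (32, 28), (32, 31), (33, 31), (34, 28), (34, 31), (36, 25), (37, 31), (38, 25), (38, 31), (39, 31), (40, 28), (44, 31), (31, 25), (50, 31), (45, 51), (51, 25), (53, 31), (36, 54), (54, 31), (56, 25), (28, 57), (52, 52), (52, 55), (52, 58), (55, 52), (55, 58), (58, 55), (59, 52), (59, 58), (60, 52), (60, 55), (60, 58), (61, 52), (62, 52), (62, 58), (64, 55), (66, 52), (69, 55), (55, 58), (76, 55), (55, 77), (77, 58), (79, 58), (63, 80), (80, 55), (82, 58), (70, 83), (78, 78), (78, 81), (81, 78), (84, 78), (84, 84), (85, 81), (85, 84), (87, 78), (87, 81), (87, 84), (88, 78), (88, 81), (89, 78),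 (90, 78), (90, 81), (91, 81), (81, 84), (101, 81), (94, 102), (102, 78), (104, 78), (95, 105), (105, 81), (107, 81), (89, 108), (103, 106), (103, 109), (106, 109), (110, 109), (111, 103), (111, 106), (111, 109), (112, 103), (112, 106), (113, 106), (113, 109), (116, 106), (117, 106), (106, 106), (123, 106), (106, 124), (124, 109), (126, 103), (121, 127), (127, 109), (129, 103), (103, 130), (130, 103), (132, 103), (103, 133), (133, 103), (135, 103), (103, 136), (131, 131)]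
    [[0, 0, 0, 0, 0, 0, 0, 0, 0, 0, 0, 0, 0, 0, 0, 0, 0, 0, 0, 0, 0, 0, 0, 0],
    [2, 21, 20, 8, 19, 16, 11, 9, 12, 5, 3, 17, 14, 15, 23, 6, 1, 10, 7, 4, 18, 22, 13, 0],
    [0, 2, 47, 34, 49, 25, 40, 42, 48, 46, 35, 38, 44, 39, 32, 37, 31, 33, 41, 28, 43, 36, 45, 0],
    [0, 0, 2, 75, 71, 58, 69, 61, 68, 73, 65, 67, 63, 66, 64, 62, 70, 60, 52, 74, 59, 72, 55, 0],
    [0, 0, 0, 2, 95, 84, 97, 88, 94, 96, 99, 81, 87, 98, 100, 86, 85, 89, 92, 78, 91, 90, 93, 0],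
    [0, 0, 0, 0, 2, 0, 114, 117, 106, 112, 111, 103, 121, 110, 0, 122, 116, 0, 113, 115, 120, 118, 119, 0],
    [0, 0, 0, 0, 0, 2, 0, 0, 0, 0, 0, 0, 0, 0, 138, 0, 0, 131, 0, 0, 0, 0, 0, 0]]
    (by norm_num) (by norm_num) (by norm_num) (by decide +kernel)

theorem triple_2_11_11 : ∃ X Y Z : Spor.M23, orderOf X = 2 ∧ orderOf Y = 11 ∧ orderOf Z = 11 ∧
    X * Y * Z = 1 ∧ Subgroup.closure {X, Y} = ⊤ :=
  exists_triple_of_cert [(153, 105), (228, 205), (229, 229), (229, 230), (183, 102), (232, 189)] 231 233 2 11 11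
    [(0, 0), (1, 0), (3, 1), (4, 0), (4, 1), (5, 1), (6, 1), (7, 0), (7, 1), (8, 1), (9, 1), (10, 0), (10, 1), (11, 0), (11, 1), (12, 1), (13, 1), (16, 1), (17, 1), (18, 0), (18, 1), (19, 1), (0, 0), (24, 0), (25, 1), (26, 1), (22, 27), (27, 1), (29, 0), (17, 30), (25, 28), (25, 31), (28, 28), (28, 31), (31, 31), (32, 25), (33, 31), (35, 25), (35, 31), (36, 25), (36, 28), (36, 31), (37, 31), (39, 31), (40, 25), (41, 28), (42, 28), (42, 31), (31, 28), (50, 25), (51, 28), (52, 28), (38, 53), (53, 28), (55, 28), (32, 56), (51, 51), (51, 54), (54, 51), (54, 57), (57, 54), (58, 51), (58, 54), (58, 57), (59, 54), (60, 51), (60, 54), (61, 51), (61, 57), (64, 57), (65, 57), (66, 57), (69, 54), (51, 54), (75, 54), (63, 76), (76, 51), (78, 57), (79, 57), (80, 51), (60, 81), (77, 77), (77, 79), (77, 82), (79, 77), (79, 79), (79, 82), (83, 79), (84, 79), (85, 79), (87, 79), (89, 77), (89, 79), (89, 82), (90, 79), (91, 79),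 (92, 82), (97, 79), (77, 77), (100, 77), (101, 82), (102, 79), (91, 103), (103, 79), (105, 82), (96, 106), (106, 77), (108, 77), (92, 109), (104, 104), (104, 107), (104, 110), (107, 104), (110, 110), (111, 110), (112, 104), (112, 110), (113, 110), (114, 110), (115, 104), (115, 107), (107, 104), (123, 104), (110, 124), (124, 110), (126, 110), (127, 107), (128, 107), (113, 129), (129, 107), (131, 110), (110, 132), (132, 107), (134, 110), (113, 135)]
    [[0, 0, 0, 0, 0, 0, 0, 0, 0, 0, 0, 0, 0, 0, 0, 0, 0, 0, 0, 0, 0, 0, 0, 0],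
    [2, 1, 6, 11, 12, 14, 8, 23, 18, 7, 20, 16, 21, 22, 5, 15, 19, 17, 3, 9, 10, 4, 13, 0],
    [0, 2, 34, 35, 38, 31, 47, 33, 40, 41, 43, 48, 46, 28, 49, 39, 32, 37, 25, 36, 44, 45, 42, 0],
    [0, 0, 2, 68, 71, 60, 69, 74, 57, 72, 65, 61, 63, 54, 64, 51, 70, 73, 66, 58, 67, 62, 59, 0],
    [0, 0, 0, 2, 99, 77, 93, 88, 87, 84, 79, 97, 90, 92, 83, 91, 98, 85, 94, 95, 89, 86, 96, 0],
    [0, 0, 0, 0, 2, 0, 107, 112, 117, 110, 116, 114, 121, 111, 0, 113, 104, 0, 120, 119, 122, 115, 118, 0],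
    [0, 0, 0, 0, 0, 2, 0, 0, 0, 0, 0, 0, 0, 0, 125, 0, 0, 127, 0, 0, 0, 0, 0, 0]]
    (by norm_num) (by norm_num) (by norm_num) (by decide +kernel)

theorem triple_2_11_23 : ∃ X Y Z : Spor.M23, orderOf X = 2 ∧ orderOf Y = 11 ∧ orderOf Z = 23 ∧
    X * Y * Z = 1 ∧ Subgroup.closure {X, Y} = ⊤ :=
  exists_triple_of_cert [(157, 98), (228, 201), (229, 229), (229, 230), (131, 191), (232, 156)] 231 233 2 11 23
    [(0, 0), (0, 1), (3, 0), (3, 1), (4, 1), (5, 0), (5, 1), (6, 1), (8, 0), (8, 1), (9, 0), (9, 1), (10, 1), (11, 0), (11, 1), (14, 0), (14, 1), (15, 1), (16, 1), (17, 1), (18, 0), (22, 1), (0, 0), (24, 1), (25, 1), (26, 0), (19, 27), (27, 0), (29, 1), (25, 25), (25, 28), (28, 25), (28, 28), (28, 30), (30, 28), (31, 28), (32, 30), (33, 28), (33, 30), (34, 25), (34, 28), (34, 30), (36, 30), (37, 25), (37, 28), (37, 30), (39, 30), (28, 30), (49, 25), (40, 50), (50, 25), (52, 30), (32, 53), (53, 28), (55, 30), (31,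 56), (51, 51), (51, 54), (51, 57), (54, 51), (54, 54), (54, 57), (57, 51), (58, 51), (58, 57), (59, 51), (59, 57), (62, 51), (62, 54), (62, 57), (65, 57), (67, 51), (73, 57), (57, 54), (75, 54), (68, 76), (76, 57), (78, 51), (60, 79), (79, 51), (81, 57), (65, 82), (77, 77), (77, 80), (77, 83), (80, 80), (80, 83), (83, 77), (83, 80), (83, 83), (84, 77), (84, 83), (85, 77), (85, 80), (86, 77), (88, 83), (89, 77), (89, 83), (77, 83), (100, 80), (91, 101), (101, 83), (103, 77), (94, 104), (104, 83), (106, 77), (80, 107), (102, 102), (102, 108), (105, 102), (108, 102), (108, 108), (109, 105), (110, 105), (110, 108), (111, 102), (111, 105), (112, 102), (113, 102), (102, 108), (121, 102), (108, 122), (122, 105), (124, 102), (112, 125), (125, 105), (127, 105), (112, 128), (128, 108), (130, 108), (102, 131), (131, 105), (133, 108), (117, 134)]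
    [[0, 0, 0, 0, 0, 0, 0, 0, 0, 0, 0, 0, 0, 0, 0, 0, 0, 0, 0, 0, 0, 0, 0, 0],
    [2, 13, 14, 10, 17, 22, 21, 19, 16, 5, 9, 7, 3, 4, 6, 8, 15, 20, 23, 12, 0, 11, 18, 0],
    [0, 2, 31, 25, 32, 33, 28, 45, 44, 36, 46, 48, 42, 35, 40, 34, 37, 43, 38, 39, 47, 41, 30, 0],
    [0, 0, 2, 59, 61, 58, 65, 66, 72, 70, 54, 51, 68, 57, 74, 71, 67, 73, 63, 69, 62, 60, 64, 0],
    [0, 0, 0, 2, 93, 87, 94, 80, 90, 86, 95, 99, 97, 96, 88, 77, 84, 89, 83, 92, 98, 91, 85, 0],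
    [0, 0, 0, 0, 2, 0, 102, 108, 114, 120, 113, 112, 117, 119, 0, 115, 116, 0, 109, 118, 110, 111, 105, 0],
    [0, 0, 0, 0, 0, 2, 0, 0, 0, 0, 0, 0, 0, 0, 132, 0, 0, 126, 0, 0, 0, 0, 0, 0]]
    (by norm_num) (by norm_num) (by norm_num) (by decide +kernel)

theorem triple_2_23_23 : ∃ X Y Z : Spor.M23, orderOf X = 2 ∧ orderOf Y = 23 ∧ orderOf Z = 23 ∧
    X * Y * Z = 1 ∧ Subgroup.closure {X, Y} = ⊤ :=
  exists_triple_of_cert [(152, 128), (228, 216), (229, 229), (151, 100), (231, 93)] 230 232 2 23 23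
    [(0, 0), (1, 1), (3, 0), (3, 1), (4, 1), (5, 1), (6, 0), (6, 1), (7, 1), (8, 1), (9, 0), (9, 1), (10, 0), (10, 1), (11, 1), (12, 1), (14, 1), (15, 1), (17, 1), (18, 1), (19, 1), (20, 1), (1, 1), (24, 1), (8, 25), (25, 0), (27, 1), (20, 28), (28, 0), (30, 1), (3, 31), (26, 26), (26, 29), (29, 26), (29, 29), (29, 32), (32, 26), (33, 26), (33, 32), (34, 26), (34, 32), (35, 26), (35, 29), (36, 32), (37, 26), (37, 29), (41, 26), (44, 26), (47, 32), (29, 29), (51, 32), (26, 52), (52, 29), (54, 32), (50, 55), (55, 32), (57, 26), (34, 58), (53, 53), (53, 56), (53, 59), (56, 59), (59, 53), (59, 56), (60, 56), (60, 59), (61, 59), (62, 53), (64, 56), (65, 56), (66, 53), (66, 56), (66, 59), (67, 53), (68, 56), (59, 53), (77, 59), (71, 78), (78, 59), (80, 53), (67, 81), (81, 56), (83, 56), (73, 84), (79, 79), (79, 82), (79, 85), (82, 79), (82, 82), (82, 85), (85, 79), (85, 82), (86, 85), (87, 79), (87, 85), (88, 79), (89,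 82), (93, 79), (95, 79), (95, 85), (79, 82), (102, 79), (92, 103), (103, 79), (105, 85), (89, 106), (106, 79), (108, 79), (87, 109), (104, 107), (104, 110), (107, 110), (110, 104), (110, 107), (110, 110), (112, 104), (112, 110), (113, 104), (113, 110), (115, 104), (115, 110), (110, 110), (123, 107), (113, 124), (124, 110), (126, 107), (111, 127), (127, 104), (129, 104), (107, 130), (130, 104), (132, 110), (120, 133), (133, 110), (135, 104), (115, 136)]
    [[0, 0, 0, 0, 0, 0, 0, 0, 0, 0, 0, 0, 0, 0, 0, 0, 0, 0, 0, 0, 0, 0, 0, 0],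
    [2, 23, 15, 3, 10, 4, 19, 18, 13, 8, 9, 1, 16, 21, 22, 7, 5, 17, 12, 6, 20, 14, 11, 0],
    [0, 2, 42, 33, 47, 40, 48, 45, 32, 39, 34, 41, 36, 43, 46, 49, 26, 37, 50, 38, 29, 35, 44, 0],
    [0, 0, 2, 62, 76, 59, 61, 68, 64, 53, 72, 60, 75, 67, 63, 56, 71, 73, 66, 70, 65, 74, 69, 0],
    [0, 0, 0, 2, 99, 92, 96, 82, 101, 90, 98, 87, 85, 100, 95, 88, 91, 93, 86, 94, 97, 89, 79, 0],
    [0, 0, 0, 0, 2, 0, 119, 116, 104, 107, 110, 118, 121, 120, 0, 122, 114, 0, 112, 113, 117, 111, 115, 0],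
    [0, 0, 0, 0, 0, 2, 0, 0, 0, 0, 0, 0, 0, 0, 128, 0, 0, 131, 0, 0, 0, 0, 0, 0]]
    (by norm_num) (by norm_num) (by norm_num) (by decide +kernel)

theorem triple_3_3_11 : ∃ X Y Z : Spor.M23, orderOf X = 3 ∧ orderOf Y = 3 ∧ orderOf Z = 11 ∧
    X * Y * Z = 1 ∧ Subgroup.closure {X, Y} = ⊤ :=
  exists_triple_of_cert [(183, 128), (228, 161), (112, 92), (230, 230), (231, 231), (230, 232)] 229 233 3 3 11
    [(0, 0), (0, 2), (1, 0), (1, 1), (4, 0), (4, 1), (5, 0), (6, 1), (7, 1), (8, 0), (9, 1), (10, 0), (11, 1), (12, 0), (13, 0), (13, 1), (14, 1), (15, 1), (17, 1), (19, 0), (19, 1), (20, 0), (23, 0), (1, 0), (25, 1), (18, 26), (26, 0), (28, 1), (14, 29), (29, 1), (31, 1), (18, 32), (32, 0), (34, 1), (1, 35), (30, 30), (30, 33), (30, 36), (33, 33), (33, 36), (36, 30), (36, 33), (36, 36), (37, 33), (37, 36), (38, 33), (39, 30), (41, 36), (42, 33), (43, 33), (48, 30), (48, 33), (48, 36), (36, 33), (55, 36), (36, 56),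 (56, 36), (58, 30), (45, 59), (59, 33), (61, 30), (47, 62), (57, 57), (57, 60), (57, 63), (60, 57), (60, 60), (60, 63), (63, 57), (63, 60), (63, 63), (65, 57), (65, 60), (67, 57), (67, 63), (68, 60), (70, 57), (73, 60), (76, 60), (63, 57), (81, 57), (74, 82), (82, 63), (84, 60), (79, 85), (85, 60), (87, 63), (68, 88), (83, 83), (83, 86), (83, 89), (86, 83), (86, 86), (89, 83), (89, 86), (91, 86), (91, 89), (92, 83), (94, 83), (95, 86), (95, 89), (96, 83), (96, 86), (99, 86), (83, 86), (106, 89), (95, 107), (107, 86), (109, 83), (99, 110), (110, 83), (112, 83), (93, 113), (108, 111), (111, 108), (111, 111), (111, 114), (114, 111), (114, 114), (115, 111), (115, 114), (116, 111), (116, 114), (119, 111), (123, 111), (111, 108), (127, 108), (117, 128), (128, 111), (130, 108), (115, 131), (131, 114), (133, 108), (118, 134), (134, 111), (136, 111), (114, 137), (137, 108), (139, 111), (122, 140)]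
    [[0, 0, 0, 0, 0, 0, 0, 0, 0, 0, 0, 0, 0, 0, 0, 0, 0, 0, 0, 0, 0, 0, 0, 0],
    [3, 12, 13, 20, 8, 15, 7, 6, 16, 22, 10, 23, 21, 5, 1, 11, 4, 24, 18, 19, 9, 14, 17, 0],
    [0, 3, 45, 36, 30, 33, 44, 49, 46, 42, 37, 43, 41, 47, 48, 38, 53, 51, 39, 50, 54, 52, 40, 0],
    [0, 0, 3, 63, 80, 76, 71, 75, 64, 60, 69, 65, 70, 57, 72, 66, 73, 67, 77, 68, 74, 79, 78, 0],
    [0, 0, 0, 3, 89, 99, 93, 96, 98, 83, 97, 100, 92, 86, 101, 91, 90, 104, 103, 95, 102, 94, 105, 0],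
    [0, 0, 0, 0, 3, 0, 117, 114, 121, 116, 123, 125, 120, 119, 0, 124, 115, 0, 111, 108, 126, 122, 118, 0],
    [0, 0, 0, 0, 0, 3, 0, 0, 0, 0, 0, 0, 0, 0, 138, 0, 0, 135, 0, 0, 0, 0, 0, 0]]
    (by norm_num) (by norm_num) (by norm_num) (by decide +kernel)

theorem triple_3_3_23 : ∃ X Y Z : Spor.M23, orderOf X = 3 ∧ orderOf Y = 3 ∧ orderOf Z = 23 ∧
    X * Y * Z = 1 ∧ Subgroup.closure {X, Y} = ⊤ :=
  exists_triple_of_cert [(96, 95), (228, 228), (229, 229), (228, 230), (201, 101), (232, 162), (233, 233), (234, 234), (233, 235)] 231 236 3 3 23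
    [(0, 0), (0, 2), (0, 0), (0, 1), (4, 1), (5, 1), (6, 0), (6, 1), (7, 0), (8, 0), (10, 0), (10, 1), (12, 1), (13, 0), (14, 0), (15, 0), (16, 0), (18, 1), (19, 0), (19, 1), (20, 0), (20, 1), (23, 1), (1, 0), (25, 0), (7, 26), (26, 1), (28, 1), (7, 29), (29, 0), (31, 1), (13, 32), (32, 0), (34, 1), (33, 30), (33, 33), (33, 35), (35, 30), (35, 33), (35, 35), (36, 30), (36, 33), (37, 30), (38, 33), (38, 35), (40, 33), (42, 33), (42, 35), (43, 30), (43, 33), (43, 35), (46, 30), (52, 30), (35, 33), (55, 30), (53, 56), (56, 35), (58, 30), (45, 59), (59, 35), (61, 35), (46, 62), (57, 57), (57, 60), (57, 63), (60, 57), (60, 60), (60, 63), (63, 57), (63, 63), (64, 60), (65, 63), (67, 57), (67, 60), (68, 57), (68, 60), (70, 60), (73, 60), (73, 63), (63, 57), (81, 63), (71, 82), (82, 63), (84, 60), (74, 85), (85, 57), (87, 63), (70, 88), (83, 83), (83, 86), (83, 89), (86, 83), (86, 86), (86, 89), (89, 83), (89, 89), (90,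 83), (90, 86), (90, 89), (95, 83), (95, 86), (97, 89), (98, 86), (101, 86), (86, 89), (106, 86), (89, 107), (107, 89), (109, 83), (91, 110), (110, 89), (112, 89), (108, 108), (108, 111), (108, 113), (111, 108), (111, 111), (111, 113), (113, 113), (114, 111), (115, 108), (115, 111), (120, 111), (121, 111), (108, 113), (126, 113), (121, 127), (127, 111), (129, 111), (120, 130), (130, 111), (132, 108), (111, 133), (133, 113), (135, 108), (116, 136), (136, 113), (138, 111), (108, 139)]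
    [[0, 0, 0, 0, 0, 0, 0, 0, 0, 0, 0, 0, 0, 0, 0, 0, 0, 0, 0, 0, 0, 0, 0, 0],
    [3, 17, 16, 13, 21, 22, 4, 6, 0, 14, 5, 12, 18, 15, 10, 20, 23, 8, 24, 9, 19, 11, 7, 0],
    [0, 3, 38, 54, 45, 40, 53, 46, 50, 33, 43, 36, 39, 42, 51, 44, 37, 52, 41, 49, 35, 47, 48, 0],
    [0, 0, 3, 67, 73, 78, 72, 74, 66, 80, 68, 57, 77, 76, 65, 75, 79, 69, 60, 64, 63, 70, 71, 0],
    [0, 0, 0, 3, 91, 94, 95, 83, 101, 93, 98, 86, 90, 92, 105, 104, 102, 99, 89, 97, 96, 100, 103, 0],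
    [0, 0, 0, 0, 3, 0, 118, 121, 108, 114, 122, 115, 123, 119, 0, 111, 125, 0, 116, 113, 120, 124, 117, 0],
    [0, 0, 0, 0, 0, 3, 0, 0, 0, 0, 0, 0, 0, 0, 134, 0, 0, 128, 0, 0, 0, 0, 0, 0]]
    (by norm_num) (by norm_num) (by norm_num) (by decide +kernel)

end Cfsg.Agent.Lib.Helper7.M23Triples
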