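import Cfsg.Agent.Lib.Helper7.M23Gen

/-!
# Generating triples of `M23` of prime orders (generated data), part B
-/

set_option autoImplicit false

namespace Cfsg.Agent.Lib.Helper7.M23Triples
open Cfsg Cfsg.Agent.Lib.Helper7

theorem triple_3_5_5 : ∃ X Y Z : Spor.M23, orderOf X = 3 ∧ orderOf Y = 5 ∧ orderOf Z = 5 ∧
    X * Y * Z = 1 ∧ Subgroup.closure {X, Y} = ⊤ :=
  exists_triple_of_cert [(154, 127), (228, 141), (229, 229), (169, 100)] 230 231 3 5 5
    [(0, 0), (0, 2), (1, 0), (1, 1), (4, 0), (4, 1), (5, 1), (7, 0), (7, 1), (8, 0), (8, 1), (9, 0), (9, 1), (11, 1), (12, 0), (13, 1), (14, 0), (14, 1), (16, 0), (19, 0), (19, 1), (20, 1), (22, 1), (1, 1), (25, 0), (8, 26), (26, 1), (28, 0), (17, 29), (29, 0), (31, 0), (17, 32), (27, 27), (27, 30), (30, 27), (33, 30), (34, 30), (34, 33), (35, 30), (35, 33), (36, 30), (36, 33), (37, 30), (37, 33), (38, 27), (38, 30), (40, 27), (40, 30), (42, 27), (44, 27), (27, 30),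 (52, 30), (43, 53), (53, 27), (55, 30), (42, 56), (56, 33), (58, 27), (30, 59), (54, 54), (54, 57), (54, 60), (57, 57), (57, 60), (60, 54), (60, 57), (60, 60), (61, 54), (61, 57), (62, 60), (63, 54), (63, 57), (64, 54), (65, 54), (70, 60), (73, 54), (60, 54), (78, 54), (72, 79), (79, 60), (81, 54), (54, 82), (82, 57), (84, 57), (61, 85), (80, 80), (80, 83), (80, 86), (83, 86), (86, 80), (86, 83), (86, 86), (87, 80), (87, 83), (88, 80), (88, 86), (90, 83), (91, 80), (92, 80), (96, 83), (100, 86), (80, 83), (103, 80), (95, 104), (104, 80), (106, 80), (93, 107), (107, 86), (109, 86), (101, 110), (105, 108), (105, 111), (111, 105), (111, 108), (111, 111), (112, 105), (112, 111), (113, 111), (114, 108), (115, 108), (116, 108), (119, 108), (120, 108), (108, 105), (125, 105), (112, 126), (126, 105), (128, 105), (112, 129), (129, 105), (131, 105), (112, 132), (132, 105), (134, 105), (112, 135), (135, 108), (137, 108),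 (127, 127)]
    [[0, 0, 0, 0, 0, 0, 0, 0, 0, 0, 0, 0, 0, 0, 0, 0, 0, 0, 0, 0, 0, 0, 0, 0],
    [3, 7, 23, 15, 10, 22, 1, 19, 11, 8, 21, 20, 4, 9, 16, 17, 6, 18, 13, 14, 24, 5, 12, 0],
    [0, 3, 35, 49, 45, 36, 50, 33, 51, 44, 30, 39, 43, 27, 46, 48, 42, 40, 34, 41, 37, 47, 38, 0],
    [0, 0, 3, 67, 76, 68, 62, 64, 63, 61, 75, 74, 71, 77, 70, 72, 65, 69, 60, 73, 57, 54, 66, 0],
    [0, 0, 0, 3, 98, 92, 87, 83, 93, 91, 102, 99, 90, 100, 96, 89, 80, 95, 88, 101, 94, 86, 97, 0],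
    [0, 0, 0, 0, 3, 0, 119, 105, 111, 116, 112, 115, 117, 122, 0, 114, 118, 0, 121, 113, 123, 124, 120, 0],
    [0, 0, 0, 0, 0, 3, 0, 0, 0, 0, 0, 0, 0, 0, 127, 0, 0, 139, 0, 0, 0, 0, 0, 0]]
    (by norm_num) (by norm_num) (by norm_num) (by decide +kernel)

theorem triple_3_5_7 : ∃ X Y Z : Spor.M23, orderOf X = 3 ∧ orderOf Y = 5 ∧ orderOf Z = 7 ∧
    X * Y * Z = 1 ∧ Subgroup.closure {X, Y} = ⊤ :=
  exists_triple_of_cert [(93, 116), (228, 81), (229, 229), (230, 230), (229, 231), (226, 127), (233, 108), (234, 234), (234, 235)] 232 236 3 5 7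
    [(0, 0), (0, 2), (0, 0), (1, 0), (1, 1), (4, 1), (5, 0), (5, 1), (6, 1), (7, 1), (8, 1), (9, 1), (10, 1), (11, 1), (12, 1), (13, 1), (15, 0), (15, 1), (16, 0), (16, 1), (21, 0), (21, 1), (1, 0), (24, 0), (0, 25), (25, 1), (27, 1), (6, 28), (28, 1), (30, 1), (18, 31), (26, 26), (26, 29), (26, 32), (29, 26), (29, 29), (29, 32), (32, 29), (33, 29), (33, 32), (34, 26), (34, 29), (34, 32), (35, 26), (36, 29), (39, 29), (40, 29), (45, 26), (46, 32), (26, 32), (51, 26), (29, 52), (52, 29), (54, 29), (40, 55), (55, 26), (57, 26), (46, 58), (53, 53), (53, 56), (53, 59), (56, 56), (59, 53), (59, 56), (59, 59), (60, 59), (61, 53), (61, 59), (62, 56), (62, 59), (63, 56), (63, 59), (67, 56), (70, 59), (71, 53), (59, 56), (77, 53), (67, 78), (78, 53), (80, 53), (69, 81), (81, 59), (83, 56), (75, 84), (79, 79), (79, 82), (82, 79), (82, 82), (82, 85), (85, 82), (86, 79), (87, 82), (88, 79), (88, 85), (89, 79), (90, 79),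 (90, 82), (91, 79), (92, 82), (92, 85), (82, 79), (102, 85), (89, 103), (103, 85), (105, 85), (106, 82), (107, 82), (82, 108), (104, 104), (104, 106), (104, 109), (106, 104), (106, 106), (106, 109), (110, 106), (111, 104), (111, 106), (112, 106), (116, 104), (116, 106), (119, 104), (104, 104), (123, 104), (124, 109), (125, 106), (111, 126), (126, 109), (128, 104), (116, 129), (129, 109), (131, 104), (111, 132), (132, 109), (134, 106), (127, 127)]
    [[0, 0, 0, 0, 0, 0, 0, 0, 0, 0, 0, 0, 0, 0, 0, 0, 0, 0, 0, 0, 0, 0, 0, 0],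
    [3, 8, 12, 15, 21, 19, 7, 0, 5, 16, 4, 23, 9, 13, 22, 6, 20, 17, 11, 1, 10, 18, 14, 0],
    [0, 3, 29, 49, 32, 42, 46, 43, 41, 40, 36, 44, 38, 48, 37, 26, 45, 50, 34, 47, 33, 39, 35, 0],
    [0, 0, 3, 53, 73, 66, 59, 76, 64, 60, 68, 74, 70, 75, 56, 65, 62, 71, 69, 61, 72, 67, 63, 0],
    [0, 0, 0, 3, 100, 94, 82, 92, 90, 86, 95, 88, 101, 91, 97, 99, 79, 87, 98, 93, 96, 85, 89, 0],
    [0, 0, 0, 0, 3, 0, 122, 120, 119, 121, 115, 116, 111, 112, 0, 114, 104, 0, 106, 117, 118, 113, 110, 0],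
    [0, 0, 0, 0, 0, 3, 0, 0, 0, 0, 0, 0, 0, 0, 136, 0, 0, 127, 0, 0, 0, 0, 0, 0]]
    (by norm_num) (by norm_num) (by norm_num) (by decide +kernel)

theorem triple_3_5_11 : ∃ X Y Z : Spor.M23, orderOf X = 3 ∧ orderOf Y = 5 ∧ orderOf Z = 11 ∧
    X * Y * Z = 1 ∧ Subgroup.closure {X, Y} = ⊤ :=
  exists_triple_of_cert [(169, 86), (228, 228), (117, 132), (230, 146)] 229 231 3 5 11
    [(0, 0), (0, 2), (0, 0), (0, 1), (4, 1), (5, 1), (6, 0), (6, 1), (7, 0), (7, 1), (8, 0), (8, 1), (10, 0), (11, 0), (11, 1), (12, 1), (14, 1), (15, 1), (17, 0), (18, 1), (19, 1), (21, 1), (22, 0), (0, 0), (25, 1), (0, 26), (26, 0), (28, 1), (13, 29), (29, 1), (31, 1), (13, 32), (27, 27), (27, 30), (27, 33), (30, 30), (30, 33), (33, 27), (34, 27), (34, 30), (34, 33), (36, 30), (36, 33), (37, 27), (38, 27), (38, 33), (40, 27), (40, 30), (43, 30), (45, 30), (33, 30), (52, 27), (42, 53), (53, 27), (55, 30), (44, 56), (56, 27), (58, 30),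 (51, 59), (54, 54), (54, 60), (57, 57), (57, 60), (60, 54), (60, 57), (61, 60), (62, 54), (62, 57), (62, 60), (63, 60), (66, 60), (68, 54), (69, 60), (71, 54), (71, 57), (76, 60), (57, 60), (78, 54), (65, 79), (79, 60), (81, 57), (70, 82), (82, 57), (84, 60), (77, 85), (80, 80), (80, 83), (80, 86), (86, 80), (86, 83), (87, 86), (88, 86), (89, 86), (90, 80), (90, 83), (90, 86), (91, 80), (91, 83), (91, 86), (94, 86), (97, 83), (100, 80), (80, 86), (104, 80), (105, 83), (106, 80), (99, 107), (107, 80), (109, 80), (93, 110), (105, 108), (105, 111), (108, 105), (108, 108), (108, 111), (111, 105), (112, 105), (112, 108), (113, 105), (114, 108), (115, 105), (116, 105), (111, 111), (124, 105), (113, 125), (125, 108), (127, 111), (111, 128), (128, 105), (130, 108), (131, 111), (132, 105), (117, 133), (133, 111), (135, 105), (119, 136)]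
    [[0, 0, 0, 0, 0, 0, 0, 0, 0, 0, 0, 0, 0, 0, 0, 0, 0, 0, 0, 0, 0, 0, 0, 0],
    [3, 23, 4, 15, 13, 9, 5, 11, 6, 10, 0, 18, 16, 17, 20, 7, 22, 21, 24, 19, 14, 12, 8, 0],
    [0, 3, 49, 33, 44, 43, 47, 45, 41, 27, 46, 40, 38, 36, 51, 37, 35, 48, 50, 39, 34, 30, 42, 0],
    [0, 0, 3, 60, 67, 64, 62, 75, 76, 66, 65, 70, 63, 72, 68, 73, 69, 57, 74, 61, 54, 71, 77, 0],
    [0, 0, 0, 3, 98, 86, 101, 97, 99, 80, 91, 92, 88, 87, 103, 94, 95, 102, 96, 89, 90, 100, 93, 0],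
    [0, 0, 0, 0, 3, 0, 113, 108, 117, 114, 120, 105, 115, 111, 0, 121, 112, 0, 118, 123, 116, 119, 122, 0],
    [0, 0, 0, 0, 0, 3, 0, 0, 0, 0, 0, 0, 0, 0, 134, 0, 0, 129, 0, 0, 0, 0, 0, 0]]
    (by norm_num) (by norm_num) (by norm_num) (by decide +kernel)

theorem triple_3_5_23 : ∃ X Y Z : Spor.M23, orderOf X = 3 ∧ orderOf Y = 5 ∧ orderOf Z = 23 ∧
    X * Y * Z = 1 ∧ Subgroup.closure {X, Y} = ⊤ :=
  exists_triple_of_cert [(182, 119), (228, 92), (229, 229), (230, 230), (229, 231), (85, 200), (233, 101), (234, 234), (234, 235)] 232 236 3 5 23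
    [(0, 0), (0, 2), (0, 0), (1, 1), (4, 1), (5, 0), (5, 1), (6, 0), (6, 1), (7, 1), (8, 0), (8, 1), (9, 0), (10, 1), (11, 0), (11, 1), (12, 0), (15, 0), (15, 1), (16, 0), (19, 0), (21, 1), (1, 0), (24, 0), (0, 25), (25, 1), (27, 0), (15, 28), (28, 0), (30, 0), (8, 31), (26, 26), (26, 29), (26, 32), (32, 26), (32, 32), (33, 26), (33, 29), (34, 26), (34, 29), (34, 32), (35, 29), (36, 26), (37, 26), (37, 29), (38, 26), (40, 26), (41, 26), (42, 29), (43, 26), (26, 29), (52, 32), (40, 53), (53, 32), (55, 29), (51, 56), (56, 29), (58, 32), (48, 59), (54, 54), (54, 57), (57, 54), (57, 57), (57, 60), (61, 57), (62, 54), (62, 57), (63, 54), (64, 57), (65, 54), (65, 57), (66, 54), (66, 57), (66, 60), (67, 57), (69, 60), (57, 60), (78, 54), (62, 79), (79, 60), (81, 57), (77, 82), (82, 57), (84, 57), (63, 85), (80, 80), (80, 83), (80, 86), (86, 80), (86, 83), (87, 83), (88, 83), (89, 83), (89, 86), (90, 86), (91, 83),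 (91, 86), (92, 80), (93, 80), (93, 86), (94, 83), (97, 80), (83, 83), (104, 80), (97, 105), (105, 83), (107, 80), (93, 108), (108, 80), (110, 86), (99, 111), (106, 109), (106, 112), (109, 106), (109, 109), (109, 112), (112, 106), (112, 109), (112, 112), (113, 109), (115, 109), (116, 112), (120, 109), (109, 112), (125, 106), (113, 126), (126, 112), (128, 109), (121, 129), (129, 106), (131, 109), (124, 132), (132, 112), (134, 112), (109, 135), (135, 109), (137, 112), (120, 138)]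
    [[0, 0, 0, 0, 0, 0, 0, 0, 0, 0, 0, 0, 0, 0, 0, 0, 0, 0, 0, 0, 0, 0, 0, 0],
    [3, 6, 9, 16, 11, 22, 21, 15, 4, 18, 17, 0, 1, 19, 7, 13, 10, 8, 14, 20, 5, 23, 12, 0],
    [0, 3, 46, 38, 33, 43, 49, 35, 48, 34, 39, 32, 37, 50, 44, 40, 45, 26, 36, 51, 41, 47, 42, 0],
    [0, 0, 3, 60, 65, 74, 66, 69, 63, 75, 76, 68, 57, 72, 71, 54, 70, 62, 77, 67, 61, 64, 73, 0],
    [0, 0, 0, 3, 102, 99, 88, 80, 90, 86, 100, 89, 97, 91, 96, 87, 92, 95, 101, 98, 94, 93, 103, 0],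
    [0, 0, 0, 0, 3, 0, 120, 124, 119, 122, 106, 116, 123, 115, 0, 112, 118, 0, 113, 114, 109, 117, 121, 0],
    [0, 0, 0, 0, 0, 3, 0, 0, 0, 0, 0, 0, 0, 0, 130, 0, 0, 127, 0, 0, 0, 0, 0, 0]]
    (by norm_num) (by norm_num) (by norm_num) (by decide +kernel)

theorem triple_3_7_7 : ∃ X Y Z : Spor.M23, orderOf X = 3 ∧ orderOf Y = 7 ∧ orderOf Z = 7 ∧
    X * Y * Z = 1 ∧ Subgroup.closure {X, Y} = ⊤ :=
  exists_triple_of_cert [(92, 126), (228, 151), (229, 229), (186, 142), (231, 146)] 230 232 3 7 7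
    [(0, 0), (0, 2), (0, 0), (0, 1), (4, 1), (5, 0), (5, 1), (6, 1), (7, 0), (8, 0), (8, 1), (9, 0), (10, 1), (11, 0), (11, 1), (12, 0), (12, 1), (13, 0), (13, 1), (16, 1), (17, 1), (18, 1), (23, 1), (1, 1), (25, 1), (26, 0), (27, 1), (10, 28), (28, 0), (30, 1), (22, 31), (29, 26), (29, 32), (32, 26), (32, 29), (32, 32), (33, 26), (33, 29), (34, 29), (34, 32), (35, 26), (35, 32), (36, 26), (36, 32), (37, 29), (37, 32), (38, 32), (41, 29), (43, 26), (46, 29), (29, 29), (52, 32), (48, 53), (53, 29), (55, 32), (56, 32), (57, 26), (43, 58), (54, 59), (56, 54), (56, 56), (56, 59), (59, 56), (59, 59), (60, 56), (61, 54), (61, 56), (61, 59), (62, 54), (62, 59), (63, 56), (66, 54), (66, 59), (67, 54), (69, 54), (59, 54), (77, 59), (64, 78), (78, 59), (80, 54), (59, 81), (81, 56), (83, 56), (72, 84), (79, 82), (79, 85), (82, 79), (82, 82), (85, 79), (85, 85), (86, 79), (86, 85), (87, 79), (87, 82), (88, 82), (89, 85),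 (90, 79), (90, 82), (93, 79), (96, 79), (79, 82), (102, 79), (98, 103), (103, 79), (105, 85), (92, 106), (106, 79), (108, 79), (93, 109), (104, 104), (104, 107), (104, 110), (107, 104), (107, 107), (111, 107), (112, 107), (113, 107), (114, 104), (114, 110), (115, 104), (115, 110), (116, 110), (110, 110), (124, 107), (122, 125), (125, 110), (127, 107), (128, 104), (129, 104), (111, 130), (130, 104), (132, 110), (133, 110), (134, 104), (111, 135)]
    [[0, 0, 0, 0, 0, 0, 0, 0, 0, 0, 0, 0, 0, 0, 0, 0, 0, 0, 0, 0, 0, 0, 0, 0],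
    [3, 19, 23, 12, 17, 6, 13, 15, 8, 20, 14, 11, 4, 0, 16, 9, 5, 24, 18, 21, 10, 22, 7, 0],
    [0, 3, 48, 38, 32, 50, 34, 49, 39, 35, 43, 40, 44, 33, 37, 45, 51, 46, 29, 42, 36, 41, 47, 0],
    [0, 0, 3, 64, 67, 65, 56, 74, 66, 75, 73, 68, 54, 62, 72, 69, 63, 70, 71, 59, 76, 60, 61, 0],
    [0, 0, 0, 3, 87, 96, 90, 97, 98, 86, 101, 89, 88, 91, 94, 79, 93, 100, 99, 92, 85, 82, 95, 0],
    [0, 0, 0, 0, 3, 0, 118, 114, 116, 123, 112, 113, 120, 107, 0, 119, 115, 0, 117, 104, 111, 121, 122, 0],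
    [0, 0, 0, 0, 0, 3, 0, 0, 0, 0, 0, 0, 0, 0, 131, 0, 0, 128, 0, 0, 0, 0, 0, 0]]
    (by norm_num) (by norm_num) (by norm_num) (by decide +kernel)

theorem triple_3_7_11 : ∃ X Y Z : Spor.M23, orderOf X = 3 ∧ orderOf Y = 7 ∧ orderOf Z = 11 ∧
    X * Y * Z = 1 ∧ Subgroup.closure {X, Y} = ⊤ :=
  exists_triple_of_cert [(95, 92), (228, 228), (229, 229), (228, 230), (135, 157), (232, 107)] 231 233 3 7 11
    [(0, 0), (0, 2), (0, 0), (0, 1), (1, 0), (1, 1), (4, 1), (5, 0), (5, 1), (6, 0), (7, 1), (8, 0), (9, 0), (9, 1), (10, 1), (12, 0), (12, 1), (13, 0), (13, 1), (15, 0), (17, 0), (20, 1), (1, 0), (24, 0), (11, 25), (25, 0), (27, 0), (16, 28), (28, 0), (30, 0), (17, 31), (26, 32), (29, 26), (29, 29), (29, 32), (32, 29), (32, 32), (34, 26), (34, 32), (35, 26), (36, 26), (36, 29), (38, 29), (38, 32), (39, 26), (40, 26), (41, 26), (41, 32), (45, 32), (32, 26), (51, 32), (40, 52), (52, 29), (54, 32), (38, 55), (55, 26),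 (57, 29), (40, 58), (53, 53), (53, 56), (53, 59), (56, 53), (56, 59), (59, 56), (60, 53), (60, 56), (60, 59), (61, 59), (62, 53), (63, 56), (64, 59), (65, 53), (65, 56), (67, 59), (68, 53), (56, 59), (77, 59), (71, 78), (78, 53), (80, 53), (62, 81), (81, 59), (83, 53), (79, 84), (82, 82), (82, 84), (84, 79), (84, 82), (84, 84), (85, 79), (85, 82), (86, 84), (87, 79), (87, 82), (88, 79), (89, 82), (92, 82), (95, 82), (96, 82), (82, 84), (101, 82), (94, 102), (102, 84), (104, 82), (99, 105), (105, 82), (107, 79), (99, 108), (103, 106), (106, 106), (109, 106), (110, 103), (110, 106), (110, 109), (111, 103), (111, 109), (112, 109), (113, 109), (114, 109), (116, 109), (109, 106), (122, 109), (110, 123), (123, 103), (125, 109), (120, 126), (126, 106), (128, 106), (110, 129), (129, 103), (131, 109), (119, 132), (132, 109), (134, 106), (118, 135)]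
    [[0, 0, 0, 0, 0, 0, 0, 0, 0, 0, 0, 0, 0, 0, 0, 0, 0, 0, 0, 0, 0, 0, 0, 0],
    [3, 19, 23, 12, 14, 10, 9, 16, 6, 5, 8, 11, 17, 13, 22, 0, 4, 1, 20, 15, 18, 7, 21, 0],
    [0, 3, 32, 44, 33, 29, 39, 45, 49, 42, 43, 38, 46, 26, 41, 34, 40, 35, 36, 47, 37, 50, 48, 0],
    [0, 0, 3, 59, 63, 62, 67, 61, 68, 65, 72, 60, 71, 53, 70, 66, 73, 76, 64, 74, 56, 75, 69, 0],
    [0, 0, 0, 3, 95, 86, 84, 93, 90, 100, 99, 94, 88, 96, 82, 97, 92, 79, 91, 87, 98, 85, 89, 0],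
    [0, 0, 0, 0, 3, 0, 121, 119, 112, 117, 115, 118, 103, 109, 0, 111, 114, 0, 106, 116, 110, 113, 120, 0],
    [0, 0, 0, 0, 0, 3, 0, 0, 0, 0, 0, 0, 0, 0, 130, 0, 0, 124, 0, 0, 0, 0, 0, 0]]
    (by norm_num) (by norm_num) (by norm_num) (by decide +kernel)

theorem triple_3_7_23 : ∃ X Y Z : Spor.M23, orderOf X = 3 ∧ orderOf Y = 7 ∧ orderOf Z = 23 ∧
    X * Y * Z = 1 ∧ Subgroup.closure {X, Y} = ⊤ :=
  exists_triple_of_cert [(102, 118), (228, 159), (229, 229), (148, 115), (231, 180)] 230 232 3 7 23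
    [(0, 0), (0, 2), (0, 0), (0, 1), (4, 1), (5, 0), (5, 1), (6, 1), (7, 0), (7, 1), (8, 0), (8, 1), (9, 1), (10, 1), (11, 0), (11, 1), (12, 1), (13, 0), (16, 1), (18, 0), (19, 0), (19, 1), (21, 0), (1, 1), (25, 1), (26, 0), (27, 0), (16, 28), (28, 0), (30, 1), (26, 26), (26, 29), (29, 26), (29, 29), (29, 31), (31, 31), (32, 26), (32, 29), (33, 26), (33, 31), (34, 26), (34, 29), (35, 26), (35, 29), (35, 31), (41, 29), (42, 29), (43, 26), (31, 29), (50, 31), (35, 51), (51, 26), (53, 29), (33, 54), (54, 31), (56, 31), (32, 57), (52, 55), (52, 58), (55, 52), (55, 58), (59, 58), (60, 52), (60, 58), (61, 55), (62, 52), (62, 55), (62, 58), (63, 52), (63, 55), (63, 58), (65, 52), (66, 58), (68, 52), (69, 52), (58, 52), (77, 58), (60, 78), (78, 55), (80, 52), (61, 81), (81, 58), (83, 55), (72, 84), (79, 79), (79, 85), (82, 79), (82, 82), (82, 85), (85, 79), (85, 82), (85, 85), (86, 82), (86, 85), (87, 82), (88, 79),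 (90, 85), (91, 85), (93, 85), (99, 85), (85, 82), (102, 79), (79, 103), (103, 79), (105, 79), (92, 106), (106, 79), (108, 79), (94, 109), (104, 104), (104, 107), (107, 104), (107, 107), (107, 110), (110, 107), (111, 107), (112, 104), (112, 107), (115, 110), (116, 104), (116, 107), (104, 110), (123, 110), (110, 124), (124, 104), (126, 110), (127, 107), (128, 110), (116, 129), (129, 104), (131, 107), (118, 132), (132, 104), (134, 110), (113, 135)]
    [[0, 0, 0, 0, 0, 0, 0, 0, 0, 0, 0, 0, 0, 0, 0, 0, 0, 0, 0, 0, 0, 0, 0, 0],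
    [3, 22, 8, 9, 20, 23, 13, 14, 24, 0, 21, 6, 19, 16, 7, 10, 17, 4, 18, 12, 11, 5, 15, 0],
    [0, 3, 26, 34, 32, 43, 31, 36, 35, 37, 39, 41, 48, 45, 33, 44, 29, 40, 49, 47, 42, 38, 46, 0],
    [0, 0, 3, 73, 59, 72, 69, 61, 75, 55, 60, 52, 74, 62, 66, 63, 68, 64, 67, 76, 71, 65, 70, 0],
    [0, 0, 0, 3, 86, 89, 79, 93, 92, 94, 95, 85, 101, 100, 82, 96, 87, 99, 90, 88, 91, 98, 97, 0],
    [0, 0, 0, 0, 3, 0, 116, 111, 122, 112, 110, 117, 104, 121, 0, 115, 114, 0, 113, 119, 118, 120, 107, 0],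
    [0, 0, 0, 0, 0, 3, 0, 0, 0, 0, 0, 0, 0, 0, 127, 0, 0, 125, 0, 0, 0, 0, 0, 0]]
    (by norm_num) (by norm_num) (by norm_num) (by decide +kernel)

theorem triple_3_11_11 : ∃ X Y Z : Spor.M23, orderOf X = 3 ∧ orderOf Y = 11 ∧ orderOf Z = 11 ∧
    X * Y * Z = 1 ∧ Subgroup.closure {X, Y} = ⊤ :=
  exists_triple_of_cert [(101, 189), (228, 126), (229, 229), (188, 151), (231, 128)] 230 232 3 11 11
    [(0, 0), (0, 2), (0, 0), (0, 1), (4, 1), (5, 0), (5, 1), (6, 1), (7, 0), (7, 1), (8, 0), (8, 1), (9, 1), (10, 1), (11, 1), (13, 0), (13, 1), (15, 1), (16, 0), (17, 0), (18, 1), (19, 1), (22, 0), (1, 1), (25, 1), (26, 0), (27, 0), (6, 28), (28, 1), (30, 0), (22, 31), (26, 26), (26, 29), (26, 32), (29, 26), (29, 29), (29, 32), (32, 26), (32, 32), (33, 26), (33, 32), (34, 29), (35, 26), (35, 29), (36, 29), (36, 32), (37, 26), (37, 32), (40, 26), (26, 29), (51, 29), (32, 52), (52, 26), (54, 26), (50, 55), (55, 32), (57,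 32), (32, 58), (53, 53), (53, 56), (56, 53), (56, 56), (56, 59), (59, 53), (59, 56), (59, 59), (60, 56), (61, 53), (62, 53), (62, 56), (62, 59), (63, 59), (65, 53), (67, 59), (69, 56), (59, 53), (77, 59), (70, 78), (78, 56), (80, 56), (73, 81), (81, 59), (83, 59), (67, 84), (79, 79), (79, 82), (79, 85), (82, 82), (86, 79), (86, 82), (86, 85), (88, 79), (88, 82), (88, 85), (89, 79), (89, 85), (90, 82), (90, 85), (92, 79), (93, 79), (96, 79), (85, 85), (103, 79), (89, 104), (104, 85), (106, 79), (79, 107), (107, 85), (109, 79), (99, 110), (105, 105), (105, 108), (108, 105), (108, 108), (108, 111), (112, 108), (112, 111), (113, 108), (113, 111), (114, 105), (115, 105), (116, 105), (122, 111), (105, 105), (125, 105), (126, 105), (127, 111), (112, 128), (128, 105), (130, 108), (108, 131), (131, 108), (133, 108), (134, 111), (135, 105), (112, 136)]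
    [[0, 0, 0, 0, 0, 0, 0, 0, 0, 0, 0, 0, 0, 0, 0, 0, 0, 0, 0, 0, 0, 0, 0, 0],
    [3, 8, 20, 16, 6, 19, 18, 24, 14, 7, 22, 15, 0, 12, 9, 21, 17, 13, 10, 11, 5, 4, 23, 0],
    [0, 3, 49, 48, 33, 50, 39, 45, 38, 43, 26, 46, 41, 44, 47, 40, 37, 35, 29, 34, 32, 42, 36, 0],
    [0, 0, 3, 60, 53, 72, 70, 68, 64, 76, 66, 67, 75, 63, 74, 65, 61, 59, 71, 62, 69, 73, 56, 0],
    [0, 0, 0, 3, 101, 97, 95, 82, 89, 102, 92, 99, 79, 87, 98, 90, 96, 88, 93, 100, 91, 94, 86, 0],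
    [0, 0, 0, 0, 3, 0, 112, 115, 114, 113, 116, 121, 108, 117, 0, 105, 122, 0, 118, 123, 119, 120, 124, 0],
    [0, 0, 0, 0, 0, 3, 0, 0, 0, 0, 0, 0, 0, 0, 134, 0, 0, 129, 0, 0, 0, 0, 0, 0]]
    (by norm_num) (by norm_num) (by norm_num) (by decide +kernel)

theorem triple_3_11_23 : ∃ X Y Z : Spor.M23, orderOf X = 3 ∧ orderOf Y = 11 ∧ orderOf Z = 23 ∧
    X * Y * Z = 1 ∧ Subgroup.closure {X, Y} = ⊤ :=
  exists_triple_of_cert [(153, 183), (100, 102)] 228 229 3 11 23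
    [(0, 0), (0, 2), (1, 0), (1, 1), (4, 0), (4, 1), (5, 0), (5, 1), (7, 0), (7, 1), (8, 0), (8, 1), (9, 1), (11, 0), (11, 1), (13, 0), (14, 0), (15, 0), (16, 1), (18, 1), (19, 1), (20, 1), (22, 1), (0, 0), (25, 1), (16, 26), (26, 1), (28, 0), (24, 29), (29, 1), (31, 1), (11, 32), (27, 27), (27, 30), (27, 33), (30, 27), (30, 30), (30, 33), (34, 27), (34, 33), (35, 27), (35, 33), (36, 30), (38, 30), (39, 30), (41, 33), (42, 30), (42, 33), (43, 27), (47, 30), (48, 33), (30, 30), (53, 33), (50, 54), (54, 33), (56, 27), (49, 57), (57, 30), (59, 30), (38, 60), (55, 55), (55, 58), (58, 55), (58, 58), (58, 61), (62, 55), (62, 58), (62, 61), (63, 58), (64, 55), (65, 55), (67, 55), (67, 58), (68, 61), (69, 61), (72, 58), (76, 55), (58, 61), (79, 58), (68, 80), (80, 55), (82, 61), (58, 83), (83, 61), (85, 61), (70, 86), (81, 84), (81, 87), (84, 81), (84, 84), (84, 87), (87, 84), (87, 87), (88, 81), (89, 84), (90, 84),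 (91, 84), (92, 84), (93, 84), (94, 84), (97, 84), (97, 87), (87, 84), (104, 84), (90, 105), (105, 84), (107, 87), (103, 108), (108, 87), (110, 81), (89, 111), (106, 109), (106, 112), (109, 106), (109, 109), (112, 106), (113, 106), (113, 109), (113, 112), (114, 106), (115, 109), (115, 112), (116, 106), (106, 106), (125, 109), (116, 126), (126, 109), (128, 106), (113, 129), (129, 106), (131, 112), (116, 132), (132, 109), (134, 106), (120, 135), (135, 112), (137, 109), (121, 138)]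
    [[0, 0, 0, 0, 0, 0, 0, 0, 0, 0, 0, 0, 0, 0, 0, 0, 0, 0, 0, 0, 0, 0, 0, 0],
    [3, 23, 7, 21, 18, 10, 20, 14, 17, 16, 15, 5, 1, 8, 24, 6, 19, 9, 12, 13, 11, 4, 22, 0],
    [0, 3, 42, 49, 51, 52, 35, 40, 47, 41, 45, 50, 34, 37, 46, 36, 27, 44, 38, 43, 48, 39, 30, 0],
    [0, 0, 3, 70, 69, 74, 78, 72, 77, 65, 66, 68, 55, 58, 76, 64, 62, 75, 61, 63, 71, 73, 67, 0],
    [0, 0, 0, 3, 81, 91, 102, 94, 99, 84, 98, 101, 97, 89, 93, 100, 96, 95, 103, 92, 87, 90, 88, 0],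
    [0, 0, 0, 0, 3, 0, 117, 119, 112, 116, 114, 120, 115, 121, 0, 118, 124, 0, 122, 123, 106, 109, 113, 0],
    [0, 0, 0, 0, 0, 3, 0, 0, 0, 0, 0, 0, 0, 0, 133, 0, 0, 139, 0, 0, 0, 0, 0, 0]]
    (by norm_num) (by norm_num) (by norm_num) (by decide +kernel)

theorem triple_3_23_23 : ∃ X Y Z : Spor.M23, orderOf X = 3 ∧ orderOf Y = 23 ∧ orderOf Z = 23 ∧
    X * Y * Z = 1 ∧ Subgroup.closure {X, Y} = ⊤ :=
  exists_triple_of_cert [(86, 94), (228, 146), (229, 229), (230, 230), (229, 231), (93, 161)] 232 233 3 23 23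
    [(0, 0), (0, 2), (0, 0), (0, 1), (1, 1), (4, 1), (5, 0), (5, 1), (6, 0), (6, 1), (7, 0), (7, 1), (8, 0), (8, 1), (11, 0), (11, 1), (12, 0), (13, 1), (14, 1), (15, 0), (17, 1), (19, 1), (0, 1), (24, 0), (16, 25), (25, 1), (27, 1), (28, 0), (29, 0), (19, 30), (26, 26), (26, 28), (26, 31), (28, 28), (28, 31), (31, 26), (31, 28), (31, 31), (32, 28), (32, 31), (33, 26), (34, 31), (35, 26), (36, 31), (37, 31), (39, 31), (43, 28), (43, 31), (26, 26), (50, 28), (46, 51), (51, 31), (53, 28), (42, 54), (54, 26), (56, 26), (37, 57), (52, 52), (52, 55), (52, 58), (55, 58), (58, 52), (58, 55), (59, 55), (59, 58), (60, 58), (61, 52), (61, 55), (62, 52), (62, 55), (64, 52), (65, 55), (67, 52), (70, 55), (58, 58), (76, 55), (70, 77), (77, 55), (79, 52), (70, 80), (80, 52), (82, 55), (71, 83), (78, 78), (78, 81), (78, 84), (81, 78), (81, 81), (84, 78), (84, 81), (84, 84), (85, 84), (87, 81), (88, 78), (88, 81), (88, 84),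 (89, 84), (90, 78), (93, 84), (78, 78), (101, 84), (92, 102), (102, 81), (104, 81), (88, 105), (105, 78), (107, 78), (91, 108), (103, 103), (103, 106), (103, 109), (106, 103), (106, 106), (106, 109), (110, 106), (110, 109), (111, 106), (112, 106), (115, 106), (117, 103), (106, 106), (122, 109), (112, 123), (123, 109), (125, 106), (126, 103), (127, 109), (113, 128), (128, 106), (130, 109), (120, 131), (131, 106), (133, 109), (109, 134)]
    [[0, 0, 0, 0, 0, 0, 0, 0, 0, 0, 0, 0, 0, 0, 0, 0, 0, 0, 0, 0, 0, 0, 0, 0],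
    [3, 20, 12, 14, 10, 23, 9, 7, 4, 21, 19, 8, 17, 15, 18, 1, 0, 16, 13, 6, 22, 11, 5, 0],
    [0, 3, 44, 46, 34, 37, 36, 47, 31, 42, 43, 32, 33, 39, 26, 28, 48, 35, 45, 41, 40, 38, 49, 0],
    [0, 0, 3, 73, 68, 72, 61, 65, 66, 55, 64, 67, 63, 62, 52, 70, 69, 75, 58, 59, 74, 60, 71, 0],
    [0, 0, 0, 3, 85, 89, 87, 94, 92, 98, 99, 95, 81, 100, 97, 90, 93, 96, 88, 86, 84, 78, 91, 0],
    [0, 0, 0, 0, 3, 0, 118, 103, 106, 114, 110, 113, 120, 119, 0, 121, 116, 0, 109, 111, 112, 117, 115, 0],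
    [0, 0, 0, 0, 0, 3, 0, 0, 0, 0, 0, 0, 0, 0, 124, 0, 0, 129, 0, 0, 0, 0, 0, 0]]
    (by norm_num) (by norm_num) (by norm_num) (by decide +kernel)

end Cfsg.Agent.Lib.Helper7.M23Triples
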