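import Cfsg.Agent.Lib.Helper7.M23Gen

/-!
# Generating triples of `M23` of prime orders (generated data), part C
-/

set_option autoImplicit false

namespace Cfsg.Agent.Lib.Helper7.M23Triples
open Cfsg Cfsg.Agent.Lib.Helper7

theorem triple_5_5_5 : ∃ X Y Z : Spor.M23, orderOf X = 5 ∧ orderOf Y = 5 ∧ orderOf Z = 5 ∧
    X * Y * Z = 1 ∧ Subgroup.closure {X, Y} = ⊤ :=
  exists_triple_of_cert [(189, 193), (228, 129), (107, 92), (230, 230), (230, 231)] 229 232 5 5 5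
    [(0, 0), (2, 2), (0, 3), (1, 0), (1, 1), (5, 0), (5, 1), (6, 0), (6, 1), (8, 1), (9, 1), (10, 0), (10, 1), (11, 0), (11, 1), (12, 1), (13, 0), (13, 1), (15, 0), (16, 0), (17, 1), (18, 0), (19, 1), (21, 0), (0, 0), (26, 1), (15, 27), (27, 0), (29, 0), (15, 30), (30, 1), (32, 0), (24, 33), (28, 28), (28, 31), (28, 34), (31, 31), (34, 28), (34, 31), (34, 34), (35, 31), (35, 34), (36, 28), (36, 31), (36, 34), (37, 31), (38, 28), (42, 28), (43, 34), (45, 34), (49, 34), (34, 34), (53, 34), (54, 34), (55, 28), (45, 56), (56, 34), (58, 31), (40, 59), (54, 60), (57, 54), (57, 57), (57, 60), (60, 57), (60, 60), (61, 54), (61, 57), (61, 60), (62, 57), (62, 60), (63, 54), (64, 60), (65, 57), (66, 60), (67, 60), (73, 60), (54, 60), (78, 57), (70, 79), (79, 60), (81, 54), (64, 82), (82, 60), (84, 54), (73, 85), (80, 80), (80, 83), (83, 80), (86, 80), (86, 86), (87, 80), (87, 86), (88, 83), (89, 80), (90, 80), (90,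 83), (91, 80), (91, 83), (92, 80), (92, 83), (97, 80), (86, 80), (103, 80), (98, 104), (104, 80), (106, 80), (80, 107), (107, 86), (109, 83), (102, 110), (105, 105), (105, 108), (105, 111), (108, 105), (108, 108), (108, 111), (111, 105), (111, 108), (112, 108), (114, 105), (116, 105), (118, 105), (108, 108), (124, 105), (120, 125), (125, 111), (127, 105), (114, 128), (128, 105), (130, 111), (117, 131), (131, 108), (133, 111), (134, 111), (135, 105), (116, 136)]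
    [[0, 0, 0, 0, 0, 0, 0, 0, 0, 0, 0, 0, 0, 0, 0, 0, 0, 0, 0, 0, 0, 0, 0, 0],
    [4, 15, 1, 21, 20, 14, 7, 11, 24, 25, 9, 10, 18, 16, 19, 12, 13, 22, 5, 23, 8, 6, 17, 0],
    [0, 4, 48, 35, 40, 46, 34, 39, 52, 47, 51, 28, 31, 43, 37, 41, 38, 36, 44, 42, 50, 45, 49, 0],
    [0, 0, 4, 54, 63, 68, 60, 71, 62, 61, 75, 65, 73, 76, 64, 70, 66, 74, 72, 57, 69, 77, 67, 0],
    [0, 0, 0, 4, 80, 101, 97, 87, 95, 102, 92, 98, 100, 96, 90, 91, 94, 99, 86, 93, 89, 83, 88, 0],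
    [0, 0, 0, 0, 4, 0, 121, 114, 122, 111, 117, 105, 123, 118, 0, 113, 116, 0, 115, 119, 112, 120, 108, 0],
    [0, 0, 0, 0, 0, 4, 0, 0, 0, 0, 0, 0, 0, 0, 129, 0, 0, 137, 0, 0, 0, 0, 0, 0]]
    (by norm_num) (by norm_num) (by norm_num) (by decide +kernel)

theorem triple_5_5_7 : ∃ X Y Z : Spor.M23, orderOf X = 5 ∧ orderOf Y = 5 ∧ orderOf Z = 7 ∧
    X * Y * Z = 1 ∧ Subgroup.closure {X, Y} = ⊤ :=
  exists_triple_of_cert [(192, 183), (228, 184), (101, 152)] 229 230 5 5 7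
    [(0, 0), (2, 2), (0, 3), (1, 0), (1, 1), (5, 0), (5, 1), (6, 1), (7, 0), (7, 1), (8, 0), (9, 0), (9, 1), (10, 1), (12, 0), (12, 1), (13, 0), (13, 1), (15, 0), (15, 1), (17, 0), (18, 0), (19, 0), (23, 0), (1, 0), (26, 0), (14, 27), (27, 1), (29, 1), (22, 30), (30, 1), (32, 1), (8, 33), (31, 28), (31, 31), (31, 34), (34, 28), (34, 31), (34, 34), (35, 28), (36, 34), (37, 31), (37, 34), (38, 28), (38, 31), (39, 28), (40, 28), (40, 31), (41, 34), (42, 28), (45, 28), (47, 28), (28, 34), (54, 28), (41, 55), (55, 31), (57, 31), (58, 28), (59, 28), (56, 56), (56, 58), (58, 56), (58, 58), (58, 60), (60, 56), (60, 60), (61, 60), (62, 56), (63, 56), (63, 58), (64, 56), (66, 56), (66, 60), (67, 60), (69, 56), (72, 58), (60, 58), (78, 56), (76, 79), (79, 56), (81, 56), (75, 82), (82, 60), (84, 58), (70, 85), (83, 80), (83, 83), (83, 86), (86, 80), (86, 83), (86, 86), (87, 83), (87, 86), (88, 80), (88, 83), (89, 86),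 (90, 80), (91, 86), (92, 86), (94, 80), (95, 80), (96, 83), (83, 80), (104, 86), (98, 105), (105, 86), (107, 86), (90, 108), (108, 83), (110, 83), (83, 111), (106, 106), (106, 109), (106, 112), (109, 106), (109, 109), (112, 109), (113, 109), (113, 112), (114, 109), (115, 106), (118, 112), (119, 112), (106, 106), (125, 106), (126, 112), (127, 109), (122, 128), (128, 112), (130, 106), (123, 131), (131, 112), (133, 106), (115, 134), (134, 112), (136, 109), (113, 137)]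
    [[0, 0, 0, 0, 0, 0, 0, 0, 0, 0, 0, 0, 0, 0, 0, 0, 0, 0, 0, 0, 0, 0, 0, 0],
    [4, 14, 11, 7, 13, 22, 1, 12, 24, 5, 25, 6, 8, 19, 9, 16, 20, 15, 18, 21, 17, 23, 10, 0],
    [0, 4, 49, 43, 51, 38, 48, 47, 45, 36, 42, 46, 44, 50, 35, 37, 39, 53, 41, 34, 52, 31, 40, 0],
    [0, 0, 4, 60, 70, 65, 66, 63, 69, 67, 56, 72, 75, 64, 73, 61, 76, 62, 71, 77, 74, 68, 58, 0],
    [0, 0, 0, 4, 101, 93, 96, 92, 89, 103, 99, 88, 102, 100, 97, 86, 98, 91, 95, 90, 87, 94, 83, 0],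
    [0, 0, 0, 0, 4, 0, 117, 113, 114, 116, 123, 121, 106, 112, 0, 109, 119, 0, 115, 122, 118, 120, 124, 0],
    [0, 0, 0, 0, 0, 4, 0, 0, 0, 0, 0, 0, 0, 0, 132, 0, 0, 129, 0, 0, 0, 0, 0, 0]]
    (by norm_num) (by norm_num) (by norm_num) (by decide +kernel)

theorem triple_5_5_11 : ∃ X Y Z : Spor.M23, orderOf X = 5 ∧ orderOf Y = 5 ∧ orderOf Z = 11 ∧
    X * Y * Z = 1 ∧ Subgroup.closure {X, Y} = ⊤ :=
  exists_triple_of_cert [(141, 106), (127, 119), (229, 161)] 228 230 5 5 11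
    [(0, 0), (2, 2), (0, 3), (0, 0), (0, 1), (5, 0), (6, 0), (6, 1), (7, 0), (7, 1), (8, 0), (9, 0), (11, 0), (12, 0), (12, 1), (13, 0), (14, 0), (14, 1), (15, 0), (17, 0), (17, 1), (18, 1), (23, 1), (24, 1), (1, 0), (26, 0), (13, 27), (27, 1), (29, 1), (13, 30), (30, 1), (32, 1), (13, 33), (28, 28), (28, 31), (28, 34), (31, 28), (34, 28), (34, 31), (34, 34), (35, 28), (35, 31), (36, 34), (37, 28), (37, 31), (37, 34), (38, 28), (40, 34), (43, 28), (46, 34), (48, 28), (28, 34), (53, 28), (48, 54), (54, 31), (56, 31), (41, 57), (57, 28), (59, 28), (28, 60), (55, 55), (55, 58), (61, 58), (61, 61), (62, 55), (63, 55), (63, 58), (63, 61), (64, 61), (65, 55), (65, 58), (66, 55), (67, 58), (68, 55), (69, 55), (69, 58), (70, 55), (72, 55), (61, 58), (80, 55), (74, 81), (81, 55), (83, 55), (78, 84), (84, 61), (86, 58), (63, 87), (82, 82), (82, 85), (82, 88), (85, 85), (85, 88), (88, 82), (88, 85), (88, 88), (89, 82),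 (90, 88), (91, 85), (93, 85), (93, 88), (95, 85), (97, 88), (98, 82), (85, 82), (105, 88), (93, 106), (106, 88), (108, 88), (85, 109), (109, 85), (111, 85), (92, 112), (107, 110), (107, 113), (110, 107), (110, 110), (110, 113), (113, 110), (114, 107), (114, 110), (118, 107), (118, 110), (119, 107), (119, 110), (107, 107), (126, 107), (127, 113), (128, 110), (121, 129), (129, 113), (131, 107), (121, 132), (132, 113), (134, 107), (121, 135), (135, 113), (137, 110)]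
    [[0, 0, 0, 0, 0, 0, 0, 0, 0, 0, 0, 0, 0, 0, 0, 0, 0, 0, 0, 0, 0, 0, 0, 0],
    [4, 25, 22, 24, 23, 20, 6, 7, 13, 8, 18, 19, 0, 16, 5, 9, 14, 15, 12, 17, 10, 11, 21, 0],
    [0, 4, 28, 39, 41, 40, 37, 46, 51, 48, 44, 31, 50, 45, 36, 35, 42, 43, 47, 34, 49, 52, 38, 0],
    [0, 0, 4, 75, 71, 63, 76, 70, 74, 69, 64, 78, 68, 65, 66, 72, 62, 67, 55, 73, 61, 77, 79, 0],
    [0, 0, 0, 4, 99, 93, 91, 100, 96, 95, 82, 102, 94, 101, 89, 97, 88, 104, 90, 103, 98, 85, 92, 0],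
    [0, 0, 0, 0, 4, 0, 121, 110, 125, 118, 117, 113, 122, 123, 0, 120, 114, 0, 119, 115, 107, 116, 124, 0],
    [0, 0, 0, 0, 0, 4, 0, 0, 0, 0, 0, 0, 0, 0, 133, 0, 0, 130, 0, 0, 0, 0, 0, 0]]
    (by norm_num) (by norm_num) (by norm_num) (by decide +kernel)

theorem triple_5_5_23 : ∃ X Y Z : Spor.M23, orderOf X = 5 ∧ orderOf Y = 5 ∧ orderOf Z = 23 ∧
    X * Y * Z = 1 ∧ Subgroup.closure {X, Y} = ⊤ :=
  exists_triple_of_cert [(100, 95), (154, 117)] 228 229 5 5 23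
    [(0, 0), (2, 2), (0, 3), (0, 0), (0, 1), (5, 0), (5, 1), (6, 1), (7, 0), (7, 1), (8, 0), (8, 1), (9, 0), (10, 1), (11, 0), (11, 1), (12, 0), (13, 1), (14, 0), (14, 1), (15, 0), (15, 1), (18, 0), (24, 0), (1, 0), (26, 0), (16, 27), (27, 0), (29, 1), (12, 30), (30, 1), (32, 0), (5, 33), (28, 28), (28, 31), (28, 34), (31, 28), (31, 31), (31, 34), (35, 28), (36, 28), (36, 34), (37, 28), (37, 34), (38, 28), (38, 34), (40, 31), (40, 34), (41, 31), (42, 28), (44, 34), (47, 28), (31, 31), (54, 31), (42, 55), (55, 28), (57, 34), (49, 58), (58, 34), (60, 28), (56, 56), (56, 59), (59, 56), (59, 59), (61, 56), (61, 59), (61, 61), (62, 59), (63, 61), (64, 56), (64, 61), (66, 59), (66, 61), (67, 59), (68, 56), (68, 61), (70, 61), (56, 59), (79, 59), (80, 61), (81, 56), (70, 82), (82, 56), (84, 61), (80, 80), (80, 83), (80, 85), (83, 80), (83, 83), (83, 85), (85, 83), (86, 80), (86, 83), (86, 85), (87, 83), (88, 83),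 (88, 85), (89, 85), (91, 80), (93, 83), (80, 80), (102, 83), (85, 103), (103, 83), (105, 85), (106, 85), (107, 85), (95, 108), (104, 104), (104, 106), (104, 109), (106, 104), (109, 104), (109, 106), (110, 106), (110, 109), (112, 106), (112, 109), (116, 109), (118, 109), (104, 106), (122, 104), (114, 123), (123, 109), (125, 109), (104, 126), (126, 106), (128, 106), (104, 129), (129, 106), (131, 106), (104, 132), (132, 104), (134, 104)]
    [[0, 0, 0, 0, 0, 0, 0, 0, 0, 0, 0, 0, 0, 0, 0, 0, 0, 0, 0, 0, 0, 0, 0, 0],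
    [4, 7, 8, 22, 14, 21, 17, 15, 6, 16, 19, 9, 12, 13, 11, 10, 24, 5, 0, 23, 20, 18, 25, 0],
    [0, 4, 49, 53, 51, 50, 35, 36, 45, 37, 42, 31, 46, 52, 40, 39, 41, 48, 47, 43, 28, 44, 38, 0],
    [0, 0, 4, 76, 74, 67, 71, 72, 70, 56, 65, 66, 68, 78, 62, 59, 77, 75, 69, 64, 63, 73, 61, 0],
    [0, 0, 0, 4, 88, 92, 85, 95, 90, 93, 94, 101, 87, 96, 86, 80, 100, 89, 98, 99, 83, 97, 91, 0],
    [0, 0, 0, 0, 4, 0, 120, 106, 113, 119, 115, 117, 109, 110, 0, 114, 104, 0, 112, 111, 118, 116, 121, 0],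
    [0, 0, 0, 0, 0, 4, 0, 0, 0, 0, 0, 0, 0, 0, 124, 0, 0, 127, 0, 0, 0, 0, 0, 0]]
    (by norm_num) (by norm_num) (by norm_num) (by decide +kernel)

theorem triple_5_7_7 : ∃ X Y Z : Spor.M23, orderOf X = 5 ∧ orderOf Y = 7 ∧ orderOf Z = 7 ∧
    X * Y * Z = 1 ∧ Subgroup.closure {X, Y} = ⊤ :=
  exists_triple_of_cert [(136, 86), (228, 154), (128, 112), (230, 225)] 229 231 5 7 7
    [(0, 0), (2, 2), (0, 3), (0, 0), (0, 1), (5, 0), (5, 1), (6, 0), (6, 1), (7, 0), (7, 1), (8, 0), (8, 1), (9, 1), (10, 0), (12, 0), (12, 1), (13, 1), (14, 0), (16, 0), (16, 1), (17, 0), (20, 0), (21, 1), (1, 0), (26, 0), (11, 27), (27, 1), (29, 1), (11, 30), (30, 0), (32, 1), (6, 33), (28, 28), (28, 31), (28, 34), (31, 28), (31, 31), (34, 31), (35, 28), (35, 34), (36, 31), (36, 34), (37, 28), (37, 34), (38, 31), (38, 34), (40, 31), (41, 28), (42, 34), (46, 28), (28, 31), (53, 34), (43, 54), (54, 31), (56, 28), (57, 34), (58, 28), (43,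 59), (55, 57), (57, 55), (57, 57), (57, 60), (60, 55), (60, 57), (60, 60), (61, 57), (61, 60), (62, 55), (63, 60), (64, 57), (64, 60), (65, 55), (66, 55), (66, 60), (68, 55), (60, 60), (78, 60), (64, 79), (79, 55), (81, 60), (82, 60), (83, 57), (57, 84), (80, 80), (80, 82), (80, 85), (82, 85), (85, 80), (85, 82), (86, 80), (86, 85), (87, 80), (88, 80), (89, 80), (89, 82), (90, 82), (92, 80), (95, 80), (95, 82), (80, 85), (102, 82), (85, 103), (103, 85), (105, 82), (97, 106), (106, 85), (108, 80), (82, 109), (104, 110), (107, 107), (107, 110), (110, 104), (110, 107), (110, 110), (111, 104), (111, 107), (111, 110), (112, 110), (113, 110), (114, 107), (110, 110), (123, 104), (113, 124), (124, 110), (126, 110), (104, 127), (127, 107), (129, 107), (130, 107), (131, 104), (132, 110), (133, 104), (121, 134)]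
    [[0, 0, 0, 0, 0, 0, 0, 0, 0, 0, 0, 0, 0, 0, 0, 0, 0, 0, 0, 0, 0, 0, 0, 0],
    [4, 8, 5, 12, 11, 19, 16, 0, 15, 10, 24, 17, 23, 21, 22, 20, 13, 18, 25, 6, 7, 9, 14, 0],
    [0, 4, 46, 50, 47, 42, 44, 51, 37, 52, 48, 34, 31, 40, 28, 45, 39, 36, 49, 43, 35, 38, 41, 0],
    [0, 0, 4, 57, 63, 67, 73, 61, 77, 55, 62, 65, 69, 75, 70, 68, 76, 74, 72, 60, 64, 66, 71, 0],
    [0, 0, 0, 4, 82, 100, 89, 98, 95, 91, 92, 99, 87, 96, 101, 88, 86, 94, 97, 93, 90, 80, 85, 0],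
    [0, 0, 0, 0, 4, 0, 122, 110, 119, 113, 116, 104, 118, 121, 0, 115, 120, 0, 111, 107, 112, 117, 114, 0],
    [0, 0, 0, 0, 0, 4, 0, 0, 0, 0, 0, 0, 0, 0, 125, 0, 0, 130, 0, 0, 0, 0, 0, 0]]
    (by norm_num) (by norm_num) (by norm_num) (by decide +kernel)

theorem triple_5_7_11 : ∃ X Y Z : Spor.M23, orderOf X = 5 ∧ orderOf Y = 7 ∧ orderOf Z = 11 ∧
    X * Y * Z = 1 ∧ Subgroup.closure {X, Y} = ⊤ :=
  exists_triple_of_cert [(81, 160), (132, 147), (229, 202)] 228 230 5 7 11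
    [(0, 0), (2, 2), (0, 3), (0, 0), (0, 1), (5, 0), (6, 0), (6, 1), (7, 0), (7, 1), (8, 0), (8, 1), (9, 0), (9, 1), (10, 1), (11, 1), (12, 1), (13, 1), (14, 0), (16, 1), (17, 0), (18, 0), (20, 1), (24, 1), (1, 1), (26, 0), (9, 27), (27, 0), (29, 0), (5, 30), (30, 0), (32, 0), (28, 28), (28, 31), (31, 28), (31, 31), (31, 33), (33, 28), (33, 31), (33, 33), (35, 28), (35, 31), (35, 33), (36, 33), (37, 28), (37, 31), (38, 28), (39, 33), (40, 28), (42, 28), (28, 28), (52, 33), (50, 53), (53, 28), (55, 33), (39, 56), (56, 31), (58, 28), (48, 59), (54, 54), (54, 57), (54, 60), (57, 57), (57, 60), (60, 60), (61, 57), (62, 57), (63, 60), (64, 60), (65, 54), (65, 57), (66, 54), (66, 57), (67, 57), (69, 54), (70, 60), (57, 54), (78, 60), (76, 79), (79, 60), (81, 54), (62, 82), (82, 57), (84, 54), (62, 85), (80, 80), (80, 83), (83, 80), (83, 83), (87, 80), (87, 83), (87, 86), (88, 80), (88, 83), (89, 83), (90, 80),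 (90, 83), (90, 86), (92, 80), (92, 86), (94, 86), (97, 83), (80, 83), (104, 83), (99, 105), (105, 86), (107, 83), (103, 108), (108, 80), (110, 83), (106, 106), (106, 109), (109, 106), (109, 109), (109, 111), (111, 106), (111, 111), (112, 109), (113, 109), (113, 111), (117, 109), (118, 109), (109, 106), (124, 109), (106, 125), (125, 111), (127, 111), (117, 128), (128, 109), (130, 111), (131, 109), (132, 109), (121, 133), (133, 111), (135, 109), (106, 136), (131, 131)]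
    [[0, 0, 0, 0, 0, 0, 0, 0, 0, 0, 0, 0, 0, 0, 0, 0, 0, 0, 0, 0, 0, 0, 0, 0],
    [4, 16, 18, 7, 6, 17, 14, 8, 13, 23, 11, 25, 15, 22, 5, 10, 9, 20, 0, 24, 21, 19, 12, 0],
    [0, 4, 44, 39, 47, 49, 46, 40, 50, 35, 38, 34, 42, 31, 48, 43, 41, 28, 33, 37, 51, 36, 45, 0],
    [0, 0, 4, 73, 75, 77, 64, 67, 71, 69, 74, 57, 60, 66, 65, 63, 61, 76, 68, 54, 62, 72, 70, 0],
    [0, 0, 0, 4, 93, 87, 83, 92, 98, 101, 100, 99, 94, 90, 97, 89, 80, 96, 88, 103, 95, 102, 91, 0],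
    [0, 0, 0, 0, 4, 0, 115, 122, 119, 117, 106, 114, 112, 118, 0, 109, 111, 0, 121, 113, 123, 116, 120, 0],
    [0, 0, 0, 0, 0, 4, 0, 0, 0, 0, 0, 0, 0, 0, 138, 0, 0, 131, 0, 0, 0, 0, 0, 0]]
    (by norm_num) (by norm_num) (by norm_num) (by decide +kernel)

theorem triple_5_7_23 : ∃ X Y Z : Spor.M23, orderOf X = 5 ∧ orderOf Y = 7 ∧ orderOf Z = 23 ∧
    X * Y * Z = 1 ∧ Subgroup.closure {X, Y} = ⊤ :=
  exists_triple_of_cert [(133, 108), (228, 101), (108, 189)] 229 230 5 7 23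
    [(0, 0), (2, 2), (0, 3), (0, 0), (0, 1), (1, 0), (1, 1), (5, 0), (5, 1), (6, 1), (7, 0), (8, 1), (9, 0), (9, 1), (10, 0), (11, 0), (11, 1), (12, 0), (12, 1), (13, 1), (17, 0), (21, 0), (23, 1), (0, 0), (25, 1), (24, 26), (26, 1), (28, 0), (1, 29), (29, 0), (31, 1), (10, 32), (27, 27), (27, 30), (30, 27), (30, 33), (33, 27), (33, 30), (33, 33), (34, 30), (34, 33), (35, 27), (35, 33), (36, 30), (36, 33), (38, 30), (38, 33), (39, 30), (40, 27), (45, 33), (30, 33), (52, 27), (47, 53), (53, 27), (55, 33), (45, 56), (56, 30), (58, 33), (50, 59), (54, 54), (54, 57), (54, 60), (57, 54), (57, 57), (57, 60), (60, 54), (60, 57), (60, 60), (61, 57), (61, 60), (62, 57), (67, 54), (68, 57), (68, 60), (69, 54), (73, 54), (60, 57), (78, 57), (72, 79), (79, 60), (81, 54), (82, 54), (83, 60), (68, 84), (80, 80), (80, 82), (80, 85), (82, 82), (86, 80), (86, 82), (86, 85), (87, 80), (87, 82), (87, 85), (88, 82), (89, 85),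 (90, 82), (91, 82), (92, 82), (96, 82), (80, 85), (102, 82), (99, 103), (103, 85), (105, 80), (85, 106), (106, 85), (108, 80), (82, 109), (104, 104), (104, 107), (107, 104), (107, 107), (107, 110), (110, 107), (111, 107), (112, 110), (113, 104), (113, 110), (114, 104), (114, 110), (104, 110), (123, 104), (104, 124), (124, 107), (126, 104), (114, 127), (127, 107), (129, 107), (120, 130), (130, 110), (132, 110), (121, 133), (133, 107), (135, 110), (112, 136)]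
    [[0, 0, 0, 0, 0, 0, 0, 0, 0, 0, 0, 0, 0, 0, 0, 0, 0, 0, 0, 0, 0, 0, 0, 0],
    [4, 16, 7, 1, 9, 0, 6, 18, 13, 15, 11, 12, 8, 21, 24, 10, 5, 20, 22, 19, 14, 17, 23, 0],
    [0, 4, 36, 48, 51, 49, 30, 44, 37, 46, 41, 35, 27, 45, 38, 34, 50, 33, 43, 42, 47, 39, 40, 0],
    [0, 0, 4, 71, 74, 66, 60, 65, 77, 69, 67, 75, 61, 54, 64, 68, 57, 76, 62, 73, 70, 72, 63, 0],
    [0, 0, 0, 4, 94, 96, 98, 95, 97, 80, 88, 89, 90, 82, 99, 93, 92, 87, 100, 86, 91, 85, 101, 0],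
    [0, 0, 0, 0, 4, 0, 118, 110, 107, 114, 104, 115, 111, 122, 0, 117, 112, 0, 121, 116, 119, 120, 113, 0],
    [0, 0, 0, 0, 0, 4, 0, 0, 0, 0, 0, 0, 0, 0, 131, 0, 0, 125, 0, 0, 0, 0, 0, 0]]
    (by norm_num) (by norm_num) (by norm_num) (by decide +kernel)

theorem triple_5_11_11 : ∃ X Y Z : Spor.M23, orderOf X = 5 ∧ orderOf Y = 11 ∧ orderOf Z = 11 ∧
    X * Y * Z = 1 ∧ Subgroup.closure {X, Y} = ⊤ :=
  exists_triple_of_cert [(97, 106), (98, 161), (229, 85)] 228 230 5 11 11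
    [(0, 0), (2, 2), (0, 3), (0, 0), (1, 0), (1, 1), (5, 0), (5, 1), (6, 0), (7, 1), (8, 0), (8, 1), (9, 0), (9, 1), (10, 0), (10, 1), (11, 1), (13, 0), (13, 1), (14, 1), (15, 0), (16, 1), (22, 1), (0, 1), (25, 0), (24, 26), (26, 1), (28, 1), (10, 29), (29, 0), (31, 0), (9, 32), (27, 27), (27, 30), (27, 33), (30, 27), (33, 30), (33, 33), (34, 27), (34, 30), (35, 27), (35, 30), (35, 33), (36, 27), (36, 33), (37, 27), (37, 30), (40, 33), (43, 27), (47, 27), (27, 27), (52, 30), (39, 53), (53, 33), (55, 30), (50, 56), (56, 27), (58, 27), (51, 59), (54, 54), (54, 57), (54, 60), (57, 54), (60, 54), (60, 57), (60, 60), (61, 54), (62, 60), (63, 60), (64, 54), (65, 57), (65, 60), (66, 57), (66, 60), (67, 54), (68, 60), (60, 60), (78, 57), (71, 79), (79, 57), (81, 54), (76, 82), (82, 54), (84, 57), (80, 80), (80, 83), (80, 85), (83, 80), (83, 83), (85, 80), (85, 85), (86, 80), (86, 85), (87, 80), (87, 83), (87, 85),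 (88, 80), (89, 80), (91, 83), (97, 80), (80, 80), (102, 85), (98, 103), (103, 83), (105, 83), (92, 106), (106, 80), (108, 80), (83, 109), (104, 104), (104, 107), (107, 104), (107, 107), (107, 110), (110, 104), (111, 110), (113, 104), (114, 104), (114, 110), (116, 110), (117, 104), (107, 107), (123, 110), (113, 124), (124, 110), (126, 107), (127, 104), (128, 110), (120, 129), (129, 107), (131, 110), (121, 132), (132, 107), (134, 110), (118, 135)]
    [[0, 0, 0, 0, 0, 0, 0, 0, 0, 0, 0, 0, 0, 0, 0, 0, 0, 0, 0, 0, 0, 0, 0, 0],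
    [4, 18, 0, 22, 24, 17, 14, 20, 12, 11, 5, 23, 13, 19, 21, 6, 8, 1, 7, 15, 10, 9, 16, 0],
    [0, 4, 44, 43, 45, 27, 38, 34, 47, 42, 37, 30, 41, 50, 48, 33, 36, 46, 40, 51, 39, 49, 35, 0],
    [0, 0, 4, 60, 73, 71, 77, 61, 64, 67, 54, 70, 74, 57, 66, 65, 69, 62, 75, 72, 63, 68, 76, 0],
    [0, 0, 0, 4, 87, 97, 98, 89, 101, 99, 100, 83, 80, 94, 95, 93, 92, 96, 88, 85, 91, 86, 90, 0],
    [0, 0, 0, 0, 4, 0, 113, 117, 122, 110, 116, 111, 118, 114, 0, 120, 107, 0, 112, 104, 115, 119, 121, 0],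
    [0, 0, 0, 0, 0, 4, 0, 0, 0, 0, 0, 0, 0, 0, 125, 0, 0, 130, 0, 0, 0, 0, 0, 0]]
    (by norm_num) (by norm_num) (by norm_num) (by decide +kernel)

theorem triple_5_11_23 : ∃ X Y Z : Spor.M23, orderOf X = 5 ∧ orderOf Y = 11 ∧ orderOf Z = 23 ∧
    X * Y * Z = 1 ∧ Subgroup.closure {X, Y} = ⊤ :=
  exists_triple_of_cert [(189, 174), (97, 225), (229, 169)] 228 230 5 11 23
    [(0, 0), (2, 2), (0, 3), (1, 0), (1, 1), (5, 0), (5, 1), (6, 0), (6, 1), (7, 0), (7, 1), (8, 0), (8, 1), (9, 0), (10, 0), (11, 0), (12, 0), (12, 1), (14, 0), (14, 1), (15, 1), (17, 1), (18, 0), (18, 1), (0, 0), (26, 0), (27, 1), (28, 0), (25, 29), (29, 1), (31, 1), (16, 32), (30, 27), (33, 27), (33, 30), (34, 30), (35, 27), (35, 33), (36, 27), (36, 30), (37, 30), (37, 33), (38, 27), (38, 30), (38, 33), (39, 30), (40, 27), (42, 27), (43, 27), (45, 27), (47, 27), (33, 27), (53, 33), (42, 54), (54, 27), (56, 33), (50, 57), (57, 33), (59, 27),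 (44, 60), (55, 55), (55, 58), (55, 61), (58, 55), (58, 58), (61, 55), (61, 58), (61, 61), (62, 55), (64, 55), (64, 61), (65, 55), (65, 61), (66, 61), (68, 58), (70, 58), (71, 58), (58, 61), (79, 58), (74, 80), (80, 61), (82, 61), (77, 83), (83, 58), (85, 61), (78, 86), (81, 81), (81, 84), (84, 81), (84, 84), (84, 87), (88, 81), (88, 84), (88, 87), (89, 84), (89, 87), (90, 81), (92, 81), (92, 84), (93, 81), (93, 84), (94, 87), (98, 81), (84, 87), (105, 84), (99, 106), (106, 81), (108, 81), (101, 109), (109, 84), (111, 84), (100, 112), (107, 110), (110, 107), (110, 110), (110, 113), (113, 110), (113, 113), (114, 110), (115, 107), (115, 113), (117, 107), (117, 113), (119, 110), (110, 110), (126, 110), (127, 113), (128, 107), (129, 113), (130, 107), (131, 107), (132, 107), (113, 133), (133, 107), (135, 107), (119, 136)]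
    [[0, 0, 0, 0, 0, 0, 0, 0, 0, 0, 0, 0, 0, 0, 0, 0, 0, 0, 0, 0, 0, 0, 0, 0],
    [4, 22, 21, 10, 5, 14, 11, 20, 17, 9, 23, 19, 6, 12, 7, 13, 25, 18, 8, 24, 1, 16, 15, 0],
    [0, 4, 39, 48, 51, 52, 45, 49, 43, 42, 30, 40, 47, 44, 50, 35, 36, 33, 37, 38, 41, 34, 46, 0],
    [0, 0, 4, 76, 77, 73, 78, 69, 67, 71, 65, 70, 68, 55, 74, 64, 66, 63, 72, 58, 62, 61, 75, 0],
    [0, 0, 0, 4, 99, 84, 102, 104, 92, 97, 100, 90, 81, 96, 103, 101, 98, 91, 94, 95, 89, 93, 88, 0],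
    [0, 0, 0, 0, 4, 0, 116, 115, 122, 118, 114, 121, 124, 119, 0, 110, 113, 0, 123, 120, 125, 117, 107, 0],
    [0, 0, 0, 0, 0, 4, 0, 0, 0, 0, 0, 0, 0, 0, 129, 0, 0, 131, 0, 0, 0, 0, 0, 0]]
    (by norm_num) (by norm_num) (by norm_num) (by decide +kernel)

theorem triple_5_23_23 : ∃ X Y Z : Spor.M23, orderOf X = 5 ∧ orderOf Y = 23 ∧ orderOf Z = 23 ∧
    X * Y * Z = 1 ∧ Subgroup.closure {X, Y} = ⊤ :=
  exists_triple_of_cert [(188, 157), (228, 152), (99, 125)] 229 230 5 23 23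
    [(0, 0), (2, 2), (0, 3), (1, 0), (1, 1), (5, 0), (5, 1), (6, 0), (6, 1), (7, 0), (7, 1), (8, 0), (8, 1), (9, 0), (9, 1), (10, 1), (11, 0), (12, 0), (14, 0), (14, 1), (15, 0), (17, 0), (19, 1), (22, 1), (0, 0), (26, 0), (27, 1), (28, 0), (5, 29), (29, 1), (31, 1), (9, 32), (33, 27), (33, 30), (33, 33), (34, 27), (34, 30), (35, 27), (35, 30), (35, 33), (36, 30), (37, 27), (37, 30), (38, 30), (39, 27), (40, 27), (42, 27), (42, 33), (44, 30), (44, 33), (46, 27), (33, 27), (53, 33), (41, 54), (54, 27), (56, 33), (45, 57), (57, 33), (59, 27), (47, 60), (55, 55), (55, 58), (55, 61), (58, 55), (58, 61), (63, 58), (64, 58), (65, 58), (66, 55), (66, 58), (67, 55), (67, 58), (68, 55), (69, 55), (69, 61), (73, 61), (75, 58), (58, 61), (79, 58), (63, 80), (80, 61), (82, 61), (70, 83), (83, 58), (85, 61), (76, 86), (81, 81), (81, 84), (84, 84), (87, 81), (88, 81), (88, 84), (89, 81), (89, 84), (90, 81), (90, 84), (90,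 87), (91, 87), (92, 87), (94, 84), (96, 81), (100, 84), (84, 87), (104, 84), (102, 105), (105, 81), (107, 81), (89, 108), (108, 84), (110, 84), (106, 106), (106, 109), (106, 111), (109, 106), (109, 109), (109, 111), (111, 106), (111, 109), (111, 111), (113, 106), (114, 106), (117, 111), (109, 109), (124, 109), (125, 111), (126, 106), (116, 127), (127, 111), (129, 106), (118, 130), (130, 106), (132, 106), (122, 133), (133, 106), (135, 106), (121, 136)]
    [[0, 0, 0, 0, 0, 0, 0, 0, 0, 0, 0, 0, 0, 0, 0, 0, 0, 0, 0, 0, 0, 0, 0, 0],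
    [4, 25, 14, 16, 17, 21, 20, 7, 6, 8, 24, 13, 5, 1, 18, 12, 19, 23, 15, 22, 11, 9, 10, 0],
    [0, 4, 30, 44, 40, 46, 34, 42, 50, 33, 36, 37, 49, 48, 51, 47, 38, 41, 52, 35, 45, 39, 43, 0],
    [0, 0, 4, 65, 78, 68, 55, 58, 70, 64, 75, 67, 77, 62, 61, 72, 71, 73, 63, 66, 74, 69, 76, 0],
    [0, 0, 0, 4, 84, 103, 98, 88, 102, 92, 100, 97, 95, 99, 87, 94, 81, 101, 93, 90, 96, 89, 91, 0],
    [0, 0, 0, 0, 4, 0, 115, 117, 106, 112, 114, 116, 121, 119, 0, 120, 122, 0, 111, 109, 118, 123, 113, 0],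
    [0, 0, 0, 0, 0, 4, 0, 0, 0, 0, 0, 0, 0, 0, 128, 0, 0, 137, 0, 0, 0, 0, 0, 0]]
    (by norm_num) (by norm_num) (by norm_num) (by decide +kernel)

end Cfsg.Agent.Lib.Helper7.M23Triples
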