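import Cfsg.Agent.Lib.Helper7.M23Gen

/-!
# Generating triples of `M23` of prime orders (generated data), part D
-/

set_option autoImplicit false

namespace Cfsg.Agent.Lib.Helper7.M23Triples
open Cfsg Cfsg.Agent.Lib.Helper7

theorem triple_7_7_7 : ∃ X Y Z : Spor.M23, orderOf X = 7 ∧ orderOf Y = 7 ∧ orderOf Z = 7 ∧
    X * Y * Z = 1 ∧ Subgroup.closure {X, Y} = ⊤ :=
  exists_triple_of_cert [(106, 194), (228, 119), (229, 229), (92, 100), (231, 224)] 230 232 7 7 7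
    [(0, 0), (0, 2), (2, 2), (3, 4), (1, 0), (1, 1), (6, 0), (6, 1), (7, 0), (8, 0), (9, 0), (9, 1), (10, 1), (11, 0), (12, 0), (12, 1), (15, 1), (16, 0), (17, 0), (17, 1), (20, 0), (21, 1), (23, 0), (24, 0), (0, 1), (26, 1), (13, 27), (27, 0), (29, 0), (7, 30), (30, 0), (32, 1), (7, 33), (28, 28), (28, 31), (28, 34), (31, 34), (34, 31), (34, 34), (35, 34), (36, 34), (37, 28), (37, 31), (38, 31), (39, 28), (40, 28), (40, 34), (41, 28), (43, 31), (44, 31), (44, 34), (34, 31), (53, 31), (47, 54), (54, 28), (56, 31), (31, 57), (57, 31), (59, 28), (31, 60), (55, 55), (55, 58), (55, 61), (58, 55), (58, 61), (61, 55), (61, 58), (61, 61), (62, 58), (62, 61), (64, 55), (65, 61), (67, 58), (67, 61), (68, 61), (69, 61), (74, 61), (61, 58), (79, 61), (67, 80), (80, 61), (82, 61), (72, 83), (83, 55), (85, 55), (61, 86), (81, 81), (81, 84), (81, 87), (84, 81), (84, 87), (88, 84), (88, 87), (89, 81), (89, 87), (90, 81), (90,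 84), (91, 81), (91, 84), (91, 87), (93, 81), (93, 87), (87, 87), (104, 87), (89, 105), (105, 87), (107, 84), (96, 108), (108, 87), (110, 87), (93, 111), (106, 106), (106, 109), (106, 112), (109, 106), (109, 109), (109, 112), (112, 112), (113, 109), (113, 112), (114, 109), (115, 109), (119, 109), (112, 106), (125, 109), (118, 126), (126, 109), (128, 106), (124, 129), (129, 109), (131, 109), (123, 132), (132, 109), (134, 109), (120, 135), (135, 112), (137, 106), (115, 138)]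
    [[0, 0, 0, 0, 0, 0, 0, 0, 0, 0, 0, 0, 0, 0, 0, 0, 0, 0, 0, 0, 0, 0, 0, 0],
    [5, 21, 12, 0, 20, 17, 22, 25, 24, 16, 1, 13, 8, 6, 14, 15, 23, 19, 10, 11, 18, 9, 7, 0],
    [0, 5, 50, 49, 34, 31, 41, 48, 43, 35, 45, 42, 46, 38, 37, 47, 40, 39, 28, 51, 52, 44, 36, 0],
    [0, 0, 5, 69, 66, 72, 68, 64, 75, 73, 71, 58, 77, 61, 70, 74, 62, 55, 78, 65, 63, 76, 67, 0],
    [0, 0, 0, 5, 96, 101, 84, 97, 95, 94, 90, 102, 91, 92, 81, 99, 98, 88, 100, 89, 87, 93, 103, 0],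
    [0, 0, 0, 0, 5, 0, 120, 123, 118, 115, 114, 106, 116, 109, 0, 119, 121, 0, 112, 124, 113, 122, 117, 0],
    [0, 0, 0, 0, 0, 5, 0, 0, 0, 0, 0, 0, 0, 0, 127, 0, 0, 130, 0, 0, 0, 0, 0, 0]]
    (by norm_num) (by norm_num) (by norm_num) (by decide +kernel)

theorem triple_7_7_11 : ∃ X Y Z : Spor.M23, orderOf X = 7 ∧ orderOf Y = 7 ∧ orderOf Z = 11 ∧
    X * Y * Z = 1 ∧ Subgroup.closure {X, Y} = ⊤ :=
  exists_triple_of_cert [(152, 134), (228, 86), (229, 229), (149, 201)] 230 231 7 7 11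
    [(0, 0), (0, 2), (2, 2), (3, 4), (0, 0), (0, 1), (6, 0), (6, 1), (7, 1), (8, 0), (8, 1), (9, 0), (10, 1), (11, 0), (11, 1), (12, 0), (13, 0), (13, 1), (14, 0), (14, 1), (15, 1), (16, 0), (16, 1), (19, 1), (21, 0), (1, 1), (27, 1), (28, 0), (29, 0), (16, 30), (30, 0), (32, 1), (15, 33), (31, 28), (31, 31), (34, 28), (34, 31), (34, 34), (35, 28), (35, 31), (36, 28), (36, 31), (37, 28), (37, 34), (38, 34), (39, 28), (39, 34), (40, 34), (42, 34), (47, 28), (48, 31), (50, 31), (34, 31), (54, 34), (31, 55), (55, 28), (57, 31), (40, 58), (58, 34), (60, 34), (35, 61), (56, 56), (56, 59), (56, 62), (59, 56), (62, 56), (63, 59), (64, 56), (64, 59), (66, 56), (66, 62), (67, 56), (67, 59), (69, 56), (71, 56), (71, 59), (72, 56), (76, 62), (62, 56), (80, 62), (74, 81), (81, 59), (83, 56), (67, 84), (84, 62), (86, 59), (62, 87), (82, 85), (82, 88), (85, 82), (85, 85), (85, 88), (88, 85), (89, 82), (89, 88), (90, 88),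 (91, 82), (91, 88), (92, 85), (92, 88), (95, 85), (96, 85), (99, 88), (88, 85), (105, 82), (94, 106), (106, 82), (108, 82), (99, 109), (109, 82), (111, 82), (97, 112), (107, 110), (107, 113), (110, 107), (110, 110), (113, 110), (114, 110), (115, 110), (116, 107), (117, 107), (117, 113), (119, 107), (121, 113), (107, 113), (126, 113), (113, 127), (127, 107), (129, 113), (130, 110), (131, 113), (124, 132), (132, 107), (134, 110), (135, 107), (136, 113), (113, 137)]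
    [[0, 0, 0, 0, 0, 0, 0, 0, 0, 0, 0, 0, 0, 0, 0, 0, 0, 0, 0, 0, 0, 0, 0, 0],
    [5, 26, 22, 0, 18, 13, 7, 15, 11, 9, 17, 21, 19, 12, 25, 14, 23, 6, 16, 8, 20, 24, 10, 0],
    [0, 5, 44, 39, 34, 38, 45, 43, 46, 40, 53, 48, 35, 42, 41, 47, 50, 36, 49, 31, 51, 37, 52, 0],
    [0, 0, 5, 66, 69, 72, 79, 64, 56, 62, 59, 76, 73, 67, 78, 74, 70, 65, 75, 68, 77, 63, 71, 0],
    [0, 0, 0, 5, 88, 98, 95, 92, 90, 103, 99, 104, 94, 100, 96, 85, 102, 101, 93, 97, 82, 89, 91, 0],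
    [0, 0, 0, 0, 5, 0, 125, 124, 119, 120, 114, 123, 116, 107, 0, 110, 113, 0, 117, 122, 118, 121, 115, 0],
    [0, 0, 0, 0, 0, 5, 0, 0, 0, 0, 0, 0, 0, 0, 128, 0, 0, 130, 0, 0, 0, 0, 0, 0]]
    (by norm_num) (by norm_num) (by norm_num) (by decide +kernel)

theorem triple_7_7_23 : ∃ X Y Z : Spor.M23, orderOf X = 7 ∧ orderOf Y = 7 ∧ orderOf Z = 23 ∧
    X * Y * Z = 1 ∧ Subgroup.closure {X, Y} = ⊤ :=
  exists_triple_of_cert [(129, 85), (228, 128), (229, 229), (107, 132), (231, 191), (232, 232)] 230 233 7 7 23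
    [(0, 0), (0, 2), (2, 2), (3, 4), (0, 0), (1, 0), (1, 1), (6, 0), (6, 1), (8, 0), (8, 1), (9, 0), (10, 1), (11, 0), (11, 1), (12, 0), (12, 1), (13, 0), (15, 0), (15, 1), (17, 0), (18, 1), (19, 1), (21, 0), (1, 1), (26, 0), (8, 27), (27, 0), (29, 1), (13, 30), (30, 1), (32, 1), (19, 33), (28, 28), (28, 31), (28, 34), (31, 28), (31, 31), (31, 34), (34, 31), (34, 34), (35, 31), (35, 34), (36, 31), (37, 28), (38, 34), (40, 31), (41, 28), (44, 34), (45, 28), (47, 28), (28, 34), (53, 34), (42, 54), (54, 28), (56, 34), (34, 57), (57, 31), (59, 31), (43, 60), (55, 55), (55, 58), (55, 61), (58, 55), (58, 58), (61, 58), (61, 61), (62, 61), (63, 55), (64, 58), (64, 61), (65, 55), (66, 55), (67, 55), (69, 55), (71, 55), (76, 55), (58, 61), (79, 58), (76, 80), (80, 61), (82, 61), (83, 58), (84, 58), (62, 85), (81, 81), (81, 83), (81, 86), (83, 81), (83, 83), (83, 86), (86, 81), (86, 86), (87, 83), (88, 81), (88, 86),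 (89, 81), (91, 81), (94, 83), (96, 81), (99, 83), (86, 83), (103, 81), (99, 104), (104, 86), (106, 81), (95, 107), (107, 86), (109, 83), (105, 105), (105, 108), (105, 110), (108, 105), (108, 108), (108, 110), (111, 108), (111, 110), (112, 110), (114, 110), (115, 110), (116, 108), (105, 108), (123, 110), (115, 124), (124, 105), (126, 105), (110, 127), (127, 108), (129, 108), (121, 130), (130, 110), (132, 110), (121, 133), (133, 110), (135, 110), (121, 136)]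
    [[0, 0, 0, 0, 0, 0, 0, 0, 0, 0, 0, 0, 0, 0, 0, 0, 0, 0, 0, 0, 0, 0, 0, 0],
    [5, 0, 23, 12, 8, 15, 7, 25, 17, 10, 18, 19, 1, 9, 6, 20, 14, 16, 24, 13, 11, 21, 22, 0],
    [0, 5, 31, 52, 50, 40, 37, 35, 41, 39, 44, 49, 42, 43, 28, 46, 48, 36, 51, 45, 38, 47, 34, 0],
    [0, 0, 5, 58, 68, 69, 77, 62, 75, 74, 67, 71, 65, 78, 73, 55, 61, 64, 72, 66, 70, 63, 76, 0],
    [0, 0, 0, 5, 92, 91, 90, 81, 93, 88, 89, 95, 94, 96, 83, 102, 98, 97, 101, 99, 87, 100, 86, 0],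
    [0, 0, 0, 0, 5, 0, 122, 116, 115, 108, 117, 110, 113, 121, 0, 112, 111, 0, 118, 114, 120, 119, 105, 0],
    [0, 0, 0, 0, 0, 5, 0, 0, 0, 0, 0, 0, 0, 0, 131, 0, 0, 125, 0, 0, 0, 0, 0, 0]]
    (by norm_num) (by norm_num) (by norm_num) (by decide +kernel)

theorem triple_7_11_11 : ∃ X Y Z : Spor.M23, orderOf X = 7 ∧ orderOf Y = 11 ∧ orderOf Z = 11 ∧
    X * Y * Z = 1 ∧ Subgroup.closure {X, Y} = ⊤ :=
  exists_triple_of_cert [(192, 107), (228, 181), (111, 105), (230, 163)] 229 231 7 11 11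
    [(0, 0), (0, 2), (2, 2), (3, 4), (0, 0), (0, 1), (1, 0), (1, 1), (6, 0), (6, 1), (7, 0), (7, 1), (8, 1), (9, 0), (9, 1), (10, 0), (11, 0), (12, 0), (12, 1), (15, 1), (17, 1), (18, 0), (18, 1), (20, 1), (0, 1), (26, 1), (11, 27), (27, 0), (29, 1), (12, 30), (30, 1), (32, 1), (24, 33), (28, 28), (28, 31), (31, 31), (31, 34), (34, 28), (34, 31), (34, 34), (35, 31), (35, 34), (36, 28), (36, 31), (36, 34), (37, 28), (38, 28), (39, 28), (40, 28), (40, 31), (40, 34), (28, 28), (53, 28), (36, 54), (54, 31), (56, 34), (51, 57), (57, 28), (59, 31), (31, 60), (55, 55), (55, 58), (58, 55), (61, 58), (61, 61), (62, 55), (62, 58), (62, 61), (63, 55), (63, 58), (64, 58), (65, 58), (65, 61), (67, 61), (72, 55), (73, 58), (76, 55), (55, 58), (79, 58), (62, 80), (80, 61), (82, 61), (83, 58), (84, 61), (62, 85), (83, 81), (83, 83), (86, 81), (86, 83), (86, 86), (87, 81), (88, 81), (88, 83), (89, 81), (90, 81), (91, 81), (91,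 83), (92, 83), (93, 81), (93, 83), (94, 86), (98, 83), (81, 83), (104, 81), (96, 105), (105, 81), (107, 83), (95, 108), (108, 83), (110, 86), (87, 111), (106, 109), (106, 112), (109, 106), (109, 109), (109, 112), (113, 106), (113, 109), (113, 112), (114, 106), (115, 109), (115, 112), (116, 106), (117, 106), (112, 112), (126, 112), (127, 106), (128, 112), (121, 129), (129, 112), (131, 109), (109, 132), (132, 109), (134, 109), (135, 112), (136, 106)]
    [[0, 0, 0, 0, 0, 0, 0, 0, 0, 0, 0, 0, 0, 0, 0, 0, 0, 0, 0, 0, 0, 0, 0, 0],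
    [5, 7, 12, 10, 18, 8, 16, 15, 1, 14, 9, 17, 23, 22, 25, 11, 21, 20, 6, 24, 13, 0, 19, 0],
    [0, 5, 52, 31, 50, 38, 40, 37, 28, 35, 47, 45, 43, 41, 39, 49, 42, 34, 48, 46, 51, 36, 44, 0],
    [0, 0, 5, 58, 77, 55, 65, 66, 76, 78, 71, 63, 75, 70, 73, 72, 68, 67, 61, 69, 64, 74, 62, 0],
    [0, 0, 0, 5, 103, 88, 95, 86, 99, 102, 94, 96, 92, 91, 93, 83, 90, 100, 97, 89, 101, 98, 87, 0],
    [0, 0, 0, 0, 5, 0, 121, 116, 124, 113, 125, 120, 109, 118, 0, 106, 117, 0, 114, 115, 119, 123, 122, 0],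
    [0, 0, 0, 0, 0, 5, 0, 0, 0, 0, 0, 0, 0, 0, 130, 0, 0, 133, 0, 0, 0, 0, 0, 0]]
    (by norm_num) (by norm_num) (by norm_num) (by decide +kernel)

theorem triple_7_11_23 : ∃ X Y Z : Spor.M23, orderOf X = 7 ∧ orderOf Y = 11 ∧ orderOf Z = 23 ∧
    X * Y * Z = 1 ∧ Subgroup.closure {X, Y} = ⊤ :=
  exists_triple_of_cert [(95, 150), (194, 129), (229, 118)] 228 230 7 11 23
    [(0, 0), (0, 2), (2, 2), (3, 4), (0, 0), (0, 1), (6, 0), (6, 1), (7, 1), (8, 0), (9, 1), (10, 0), (10, 1), (11, 1), (12, 0), (13, 0), (13, 1), (14, 0), (14, 1), (16, 1), (17, 1), (18, 0), (18, 1), (19, 1), (21, 0), (1, 1), (27, 1), (28, 0), (29, 0), (17, 30), (30, 1), (32, 0), (28, 28), (28, 31), (28, 33), (31, 28), (31, 31), (33, 28), (33, 31), (34, 28), (35, 31), (35, 33), (36, 28), (36, 31), (36, 33), (37, 31), (39, 33), (42, 28), (42, 33), (43, 28), (28, 31), (52, 31), (33, 53), (53, 28), (55, 28), (38, 56), (56, 33), (58, 33), (31, 59),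 (54, 54), (54, 57), (57, 54), (57, 57), (57, 60), (60, 54), (60, 57), (61, 57), (61, 60), (62, 57), (62, 60), (64, 57), (65, 60), (66, 57), (66, 60), (67, 54), (72, 54), (60, 54), (78, 60), (65, 79), (79, 57), (81, 57), (60, 82), (82, 60), (84, 60), (73, 85), (83, 80), (83, 83), (83, 86), (86, 80), (86, 83), (86, 86), (87, 83), (87, 86), (88, 86), (89, 80), (89, 86), (91, 80), (92, 80), (93, 83), (93, 86), (94, 80), (99, 83), (86, 86), (104, 80), (87, 105), (105, 86), (107, 80), (88, 108), (108, 86), (110, 80), (91, 111), (106, 106), (106, 109), (106, 112), (112, 106), (112, 109), (112, 112), (113, 112), (114, 112), (115, 106), (115, 109), (115, 112), (116, 109), (117, 106), (106, 106), (126, 106), (127, 106), (128, 112), (122, 129), (129, 106), (131, 109), (121, 132), (132, 109), (134, 109), (121, 135), (135, 112), (137, 106), (112, 138)]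
    [[0, 0, 0, 0, 0, 0, 0, 0, 0, 0, 0, 0, 0, 0, 0, 0, 0, 0, 0, 0, 0, 0, 0, 0],
    [5, 18, 6, 26, 23, 24, 10, 13, 20, 14, 19, 0, 21, 9, 16, 15, 12, 8, 11, 17, 25, 22, 7, 0],
    [0, 5, 47, 51, 28, 35, 39, 43, 31, 42, 37, 44, 49, 40, 45, 34, 41, 38, 48, 50, 36, 33, 46, 0],
    [0, 0, 5, 71, 68, 73, 57, 72, 70, 76, 63, 66, 65, 67, 74, 62, 69, 61, 54, 64, 60, 77, 75, 0],
    [0, 0, 0, 5, 95, 97, 90, 98, 96, 88, 92, 89, 102, 101, 100, 93, 83, 103, 94, 86, 99, 91, 87, 0],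
    [0, 0, 0, 0, 5, 0, 123, 113, 116, 124, 114, 125, 106, 112, 0, 121, 117, 0, 119, 122, 115, 120, 118, 0],
    [0, 0, 0, 0, 0, 5, 0, 0, 0, 0, 0, 0, 0, 0, 130, 0, 0, 133, 0, 0, 0, 0, 0, 0]]
    (by norm_num) (by norm_num) (by norm_num) (by decide +kernel)

theorem triple_7_23_23 : ∃ X Y Z : Spor.M23, orderOf X = 7 ∧ orderOf Y = 23 ∧ orderOf Z = 23 ∧
    X * Y * Z = 1 ∧ Subgroup.closure {X, Y} = ⊤ :=
  exists_triple_of_cert [(119, 190), (228, 141), (117, 92)] 229 230 7 23 23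
    [(0, 0), (0, 2), (2, 2), (3, 4), (1, 0), (1, 1), (6, 0), (6, 1), (7, 0), (7, 1), (8, 0), (8, 1), (9, 0), (9, 1), (11, 0), (12, 1), (13, 0), (13, 1), (14, 0), (14, 1), (15, 0), (17, 1), (20, 0), (20, 1), (21, 1), (0, 1), (27, 1), (18, 28), (28, 0), (30, 1), (9, 31), (31, 1), (33, 1), (11, 34), (29, 29), (29, 35), (32, 29), (32, 32), (35, 29), (35, 32), (36, 29), (36, 32), (37, 29), (37, 32), (37, 35), (38, 29), (38, 32), (38, 35), (39, 29), (39, 35), (40, 29), (41, 32), (29, 29), (54, 29), (41, 55), (55, 32), (57, 35), (35, 58), (58, 29), (60, 32), (37, 61), (56, 56), (56, 59), (56, 62), (59, 56), (59, 59), (59, 62), (62, 56), (62, 59), (62, 62), (63, 59), (63, 62), (65, 56), (65, 62), (67, 59), (67, 62), (68, 56), (77, 59), (56, 59), (80, 59), (66, 81), (81, 62), (83, 62), (68, 84), (84, 59), (86, 62), (76, 87), (82, 85), (82, 88), (85, 82), (85, 85), (88, 82), (88, 85), (88, 88), (89, 85), (89, 88), (91,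 82), (92, 82), (93, 88), (94, 88), (97, 82), (98, 82), (98, 85), (82, 85), (105, 82), (90, 106), (106, 82), (108, 85), (91, 109), (109, 85), (111, 88), (91, 112), (107, 107), (107, 110), (107, 113), (110, 107), (113, 107), (113, 113), (114, 113), (115, 107), (115, 113), (116, 110), (118, 107), (121, 107), (113, 113), (126, 113), (127, 107), (128, 113), (116, 129), (129, 113), (131, 110), (132, 110), (133, 110), (134, 113), (135, 107), (117, 136), (132, 132)]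
    [[0, 0, 0, 0, 0, 0, 0, 0, 0, 0, 0, 0, 0, 0, 0, 0, 0, 0, 0, 0, 0, 0, 0, 0],
    [5, 16, 11, 13, 23, 12, 15, 17, 26, 7, 20, 24, 6, 14, 25, 22, 1, 21, 19, 9, 10, 18, 8, 0],
    [0, 5, 37, 35, 50, 29, 46, 44, 38, 45, 39, 48, 40, 53, 51, 49, 42, 41, 47, 52, 32, 43, 36, 0],
    [0, 0, 5, 72, 77, 79, 74, 64, 70, 78, 68, 66, 62, 73, 63, 75, 59, 56, 71, 67, 65, 69, 76, 0],
    [0, 0, 0, 5, 96, 82, 95, 101, 98, 99, 94, 100, 89, 92, 97, 88, 104, 102, 85, 91, 90, 103, 93, 0],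
    [0, 0, 0, 0, 5, 0, 123, 116, 121, 113, 117, 114, 118, 124, 0, 115, 125, 0, 120, 122, 107, 119, 110, 0],
    [0, 0, 0, 0, 0, 5, 0, 0, 0, 0, 0, 0, 0, 0, 132, 0, 0, 138, 0, 0, 0, 0, 0, 0]]
    (by norm_num) (by norm_num) (by norm_num) (by decide +kernel)

theorem triple_11_11_11 : ∃ X Y Z : Spor.M23, orderOf X = 11 ∧ orderOf Y = 11 ∧ orderOf Z = 11 ∧
    X * Y * Z = 1 ∧ Subgroup.closure {X, Y} = ⊤ :=
  exists_triple_of_cert [(136, 112), (181, 96)] 228 229 11 11 11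
    [(0, 0), (0, 2), (2, 2), (4, 4), (3, 5), (1, 0), (1, 1), (7, 0), (7, 1), (8, 0), (9, 0), (9, 1), (10, 0), (10, 1), (11, 0), (11, 1), (12, 0), (14, 0), (15, 0), (15, 1), (16, 1), (17, 0), (19, 1), (20, 1), (21, 0), (24, 1), (0, 1), (28, 1), (20, 29), (29, 0), (31, 0), (20, 32), (32, 0), (34, 1), (11, 35), (30, 30), (30, 33), (33, 33), (36, 33), (36, 36), (37, 30), (37, 36), (38, 30), (38, 33), (39, 30), (40, 30), (40, 33), (40, 36), (41, 30), (42, 33), (43, 33), (43, 36), (44, 30), (36, 36), (55, 30), (54, 56), (56, 36), (58, 33), (41, 59), (59, 36), (61, 33), (45, 62), (57, 57), (57, 60), (57, 63), (60, 60), (63, 57), (63, 60), (63, 63), (64, 57), (65, 63), (66, 57), (67, 60), (67, 63), (69, 60), (70, 63), (71, 57), (71, 60), (75, 60), (63, 57), (81, 57), (78, 82), (82, 60), (84, 63), (68, 85), (85, 57), (87, 60), (67, 88), (83, 83), (83, 86), (83, 89), (86, 83), (86, 86), (86, 89), (89, 86), (89, 89), (90,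 89), (92, 86), (92, 89), (93, 83), (94, 86), (94, 89), (95, 89), (100, 86), (83, 83), (106, 86), (86, 107), (107, 86), (109, 86), (89, 110), (110, 83), (112, 86), (108, 108), (108, 111), (108, 113), (111, 113), (113, 108), (113, 113), (114, 111), (114, 113), (115, 108), (116, 111), (117, 111), (121, 111), (113, 113), (126, 111), (117, 127), (127, 111), (129, 113), (130, 108), (131, 111), (119, 132), (132, 111), (134, 111), (119, 135), (135, 113), (137, 111), (108, 138)]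
    [[0, 0, 0, 0, 0, 0, 0, 0, 0, 0, 0, 0, 0, 0, 0, 0, 0, 0, 0, 0, 0, 0, 0, 0],
    [6, 12, 22, 1, 24, 26, 17, 19, 10, 27, 16, 11, 13, 7, 9, 21, 18, 20, 25, 23, 8, 14, 15, 0],
    [0, 6, 49, 42, 54, 40, 47, 39, 36, 50, 46, 52, 30, 41, 37, 45, 38, 51, 53, 33, 48, 44, 43, 0],
    [0, 0, 6, 80, 75, 79, 78, 67, 66, 71, 64, 63, 72, 76, 65, 70, 73, 57, 69, 60, 68, 74, 77, 0],
    [0, 0, 0, 6, 95, 90, 94, 92, 100, 102, 99, 101, 97, 91, 105, 96, 104, 83, 103, 89, 93, 98, 86, 0],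
    [0, 0, 0, 0, 6, 0, 116, 119, 121, 125, 113, 114, 115, 122, 0, 120, 123, 0, 118, 124, 108, 111, 117, 0],
    [0, 0, 0, 0, 0, 6, 0, 0, 0, 0, 0, 0, 0, 0, 133, 0, 0, 139, 0, 0, 0, 0, 0, 0]]
    (by norm_num) (by norm_num) (by norm_num) (by decide +kernel)

theorem triple_11_11_23 : ∃ X Y Z : Spor.M23, orderOf X = 11 ∧ orderOf Y = 11 ∧ orderOf Z = 23 ∧
    X * Y * Z = 1 ∧ Subgroup.closure {X, Y} = ⊤ :=
  exists_triple_of_cert [(134, 154), (112, 152), (229, 103)] 228 230 11 11 23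
    [(0, 0), (0, 2), (2, 2), (4, 4), (3, 5), (1, 0), (1, 1), (7, 0), (7, 1), (8, 0), (8, 1), (9, 0), (9, 1), (10, 0), (11, 0), (11, 1), (12, 1), (13, 0), (15, 1), (16, 1), (17, 0), (17, 1), (18, 0), (19, 0), (21, 1), (22, 1), (0, 0), (28, 0), (29, 1), (30, 0), (7, 31), (31, 1), (33, 1), (27, 34), (29, 29), (29, 32), (29, 35), (32, 29), (35, 32), (35, 35), (36, 29), (36, 35), (37, 29), (37, 32), (38, 35), (39, 29), (39, 35), (40, 29), (40, 32), (40, 35), (42, 32), (48, 35), (35, 29), (54, 35), (36, 55), (55, 29), (57, 35), (32, 58), (58, 35), (60, 29), (36, 61), (56, 56), (56, 59), (56, 62), (59, 56), (59, 59), (59, 62), (62, 56), (62, 59), (62, 62), (63, 59), (63, 62), (64, 59), (64, 62), (65, 56), (68, 59), (68, 62), (73, 62), (59, 62), (80, 59), (74, 81), (81, 62), (83, 62), (71, 84), (84, 59), (86, 62), (56, 87), (82, 82), (82, 85), (82, 88), (85, 82), (85, 88), (88, 82), (88, 88), (90, 85), (90, 88), (91,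 82), (91, 88), (92, 85), (93, 88), (94, 82), (95, 82), (96, 82), (85, 88), (105, 85), (98, 106), (106, 82), (108, 82), (96, 109), (109, 85), (111, 85), (95, 112), (107, 107), (107, 110), (107, 113), (110, 107), (110, 110), (110, 113), (113, 107), (113, 110), (113, 113), (115, 107), (116, 113), (119, 110), (110, 110), (126, 110), (127, 113), (128, 107), (117, 129), (129, 113), (131, 107), (120, 132), (132, 107), (134, 107), (110, 135), (135, 107), (137, 107), (119, 138), (130, 130)]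
    [[0, 0, 0, 0, 0, 0, 0, 0, 0, 0, 0, 0, 0, 0, 0, 0, 0, 0, 0, 0, 0, 0, 0, 0],
    [6, 8, 20, 13, 12, 25, 7, 10, 14, 16, 23, 15, 22, 9, 1, 18, 27, 26, 21, 19, 24, 11, 17, 0],
    [0, 6, 38, 49, 39, 42, 51, 41, 29, 45, 52, 37, 44, 36, 40, 43, 35, 32, 47, 46, 53, 50, 48, 0],
    [0, 0, 6, 69, 72, 74, 75, 73, 59, 66, 56, 76, 79, 64, 70, 78, 71, 77, 68, 62, 65, 67, 63, 0],
    [0, 0, 0, 6, 101, 97, 94, 89, 104, 93, 102, 88, 85, 103, 96, 95, 99, 100, 82, 92, 91, 90, 98, 0],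
    [0, 0, 0, 0, 6, 0, 113, 117, 121, 114, 120, 123, 125, 124, 0, 122, 118, 0, 115, 119, 116, 107, 110, 0],
    [0, 0, 0, 0, 0, 6, 0, 0, 0, 0, 0, 0, 0, 0, 140, 0, 0, 130, 0, 0, 0, 0, 0, 0]]
    (by norm_num) (by norm_num) (by norm_num) (by decide +kernel)

theorem triple_11_23_23 : ∃ X Y Z : Spor.M23, orderOf X = 11 ∧ orderOf Y = 23 ∧ orderOf Z = 23 ∧
    X * Y * Z = 1 ∧ Subgroup.closure {X, Y} = ⊤ :=
  exists_triple_of_cert [(163, 116), (94, 153), (229, 162)] 228 230 11 23 23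
    [(0, 0), (0, 2), (2, 2), (4, 4), (3, 5), (1, 0), (1, 1), (7, 0), (7, 1), (8, 0), (8, 1), (9, 0), (9, 1), (10, 0), (10, 1), (11, 0), (12, 0), (12, 1), (13, 0), (14, 0), (14, 1), (16, 1), (17, 0), (20, 1), (21, 0), (25, 1), (0, 0), (28, 0), (29, 1), (30, 0), (14, 31), (31, 1), (33, 1), (18, 34), (29, 29), (29, 32), (29, 35), (32, 29), (32, 32), (36, 29), (36, 32), (37, 29), (37, 32), (38, 29), (38, 32), (38, 35), (39, 29), (40, 35), (41, 35), (42, 29), (42, 32), (45, 29), (47, 29), (35, 29), (55, 35), (50, 56), (56, 29), (58, 35), (40, 59), (59, 35), (61, 29), (37, 62), (57, 57), (57, 60), (57, 63), (60, 57), (60, 63), (63, 57), (63, 60), (63, 63), (64, 60), (64, 63), (65, 60), (67, 57), (67, 63), (68, 60), (69, 63), (70, 57), (71, 63), (60, 63), (81, 60), (68, 82), (82, 63), (84, 63), (67, 85), (85, 60), (87, 63), (70, 88), (83, 83), (83, 89), (86, 83), (86, 89), (89, 86), (89, 89), (90, 83), (90, 86), (91,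 86), (93, 83), (93, 89), (94, 83), (95, 89), (97, 89), (98, 89), (101, 86), (86, 89), (106, 86), (101, 107), (107, 83), (109, 83), (97, 110), (110, 86), (112, 86), (108, 108), (108, 111), (108, 113), (111, 108), (111, 113), (114, 111), (114, 113), (115, 113), (116, 108), (117, 111), (119, 108), (122, 111), (111, 111), (126, 111), (111, 127), (127, 113), (129, 108), (124, 130), (130, 113), (132, 108), (133, 108), (134, 108), (125, 135), (135, 108), (137, 108), (108, 138)]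
    [[0, 0, 0, 0, 0, 0, 0, 0, 0, 0, 0, 0, 0, 0, 0, 0, 0, 0, 0, 0, 0, 0, 0, 0],
    [6, 23, 18, 15, 13, 11, 12, 22, 20, 26, 25, 17, 24, 7, 8, 21, 27, 19, 14, 16, 10, 9, 1, 0],
    [0, 6, 43, 29, 37, 47, 40, 42, 52, 49, 54, 48, 41, 50, 36, 44, 45, 39, 38, 51, 32, 53, 46, 0],
    [0, 0, 6, 60, 80, 64, 73, 65, 63, 69, 76, 74, 66, 68, 72, 70, 57, 67, 77, 71, 78, 75, 79, 0],
    [0, 0, 0, 6, 89, 105, 100, 96, 95, 102, 93, 91, 104, 98, 92, 97, 101, 94, 86, 103, 90, 99, 83, 0],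
    [0, 0, 0, 0, 6, 0, 123, 117, 125, 114, 119, 121, 116, 124, 0, 118, 120, 0, 122, 115, 113, 108, 111, 0],
    [0, 0, 0, 0, 0, 6, 0, 0, 0, 0, 0, 0, 0, 0, 133, 0, 0, 131, 0, 0, 0, 0, 0, 0]]
    (by norm_num) (by norm_num) (by norm_num) (by decide +kernel)

theorem triple_23_23_23 : ∃ X Y Z : Spor.M23, orderOf X = 23 ∧ orderOf Y = 23 ∧ orderOf Z = 23 ∧
    X * Y * Z = 1 ∧ Subgroup.closure {X, Y} = ⊤ :=
  exists_triple_of_cert [(92, 108), (228, 169), (107, 94)] 229 230 23 23 23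
    [(0, 0), (0, 2), (2, 2), (3, 4), (4, 4), (6, 6), (5, 7), (0, 0), (0, 1), (1, 0), (1, 1), (9, 0), (9, 1), (10, 0), (10, 1), (11, 0), (11, 1), (12, 1), (13, 0), (13, 1), (14, 0), (15, 1), (16, 1), (17, 0), (19, 0), (19, 1), (25, 0), (1, 1), (29, 0), (19, 30), (30, 1), (32, 1), (0, 33), (33, 1), (35, 1), (31, 31), (31, 36), (34, 31), (34, 34), (36, 31), (36, 34), (36, 36), (37, 31), (37, 34), (37, 36), (38, 31), (38, 34), (38, 36), (39, 36), (41, 31), (42, 36), (45, 31), (45, 34), (34, 34), (55, 36), (46, 56), (56, 31), (58, 36), (45, 59), (59, 31), (61, 34), (38, 62), (57, 57), (60, 60), (63, 57), (63, 60), (63, 63), (64, 57), (64, 60), (65, 60), (66, 57), (67, 60), (67, 63), (68, 57), (69, 60), (69, 63), (70, 60), (70, 63), (76, 57), (57, 57), (81, 63), (82, 60), (83, 63), (72, 84), (84, 63), (86, 63), (65, 87), (82, 82), (82, 85), (85, 82), (85, 85), (85, 88), (89, 88), (90, 82), (90, 85), (90, 88), (92,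 82), (92, 88), (93, 88), (94, 88), (96, 82), (98, 88), (100, 85), (82, 85), (105, 82), (97, 106), (106, 88), (108, 82), (104, 109), (109, 88), (111, 85), (99, 112), (107, 110), (110, 107), (110, 110), (110, 113), (113, 110), (114, 110), (115, 110), (115, 113), (116, 113), (118, 113), (119, 113), (120, 113), (110, 113), (126, 107), (107, 127), (127, 110), (129, 110), (118, 130), (130, 110), (132, 113), (119, 133), (133, 113), (135, 107), (121, 136), (136, 113), (138, 110), (110, 139)]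
    [[0, 0, 0, 0, 0, 0, 0, 0, 0, 0, 0, 0, 0, 0, 0, 0, 0, 0, 0, 0, 0, 0, 0, 0],
    [8, 11, 13, 23, 25, 14, 22, 18, 21, 19, 12, 15, 20, 26, 16, 0, 10, 1, 28, 17, 24, 9, 27, 0],
    [0, 8, 50, 34, 45, 40, 39, 42, 44, 36, 38, 48, 54, 52, 51, 31, 41, 53, 46, 37, 47, 49, 43, 0],
    [0, 0, 8, 80, 63, 75, 76, 78, 73, 64, 69, 71, 72, 66, 57, 74, 77, 79, 70, 67, 60, 68, 65, 0],
    [0, 0, 0, 8, 91, 85, 94, 96, 88, 102, 97, 93, 95, 98, 103, 90, 100, 92, 99, 101, 104, 89, 82, 0],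
    [0, 0, 0, 0, 8, 0, 117, 114, 110, 124, 118, 120, 122, 123, 0, 121, 119, 0, 107, 125, 113, 116, 115, 0],
    [0, 0, 0, 0, 0, 8, 0, 0, 0, 0, 0, 0, 0, 0, 137, 0, 0, 128, 0, 0, 0, 0, 0, 0]]
    (by norm_num) (by norm_num) (by norm_num) (by decide +kernel)

end Cfsg.Agent.Lib.Helper7.M23Triples
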