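import Cfsg.Agent.Lib.Helper7.M24Pres

/-!
# `M24` is the automorphism group of the octad system
-/

set_option autoImplicit false

namespace Cfsg.Agent.Lib.Helper7
open Cfsg
open scoped Pointwise

theorem smul_octads_of_mem_M24 {σ : Equiv.Perm GolayPt} (hσ : σ ∈ M24) : σ • octads = octads := by
  apply Set.Subset.antisymm
  · rintro _ ⟨o, ho, rfl⟩
    exact smul_mem_octads hσ ho
  · intro o ho
    refine ⟨σ⁻¹ • o, smul_mem_octads (M24.inv_mem hσ) ho, ?_⟩
    simp

theorem permWord_mem_of_smul_octads {σ : Equiv.Perm GolayPt} (hσ : σ • octads = octads)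
    {w : GolayPt → ZMod 2} (hw : w ∈ golayCode) : permWord σ w ∈ golayCode := by
  have hinv : σ⁻¹ • octads = octads := by
    rw [inv_smul_eq_iff, hσ]
  rw [← golay_isGolayLike.span_octads] at hw
  refine Submodule.span_induction (p := fun w _ => permWord σ w ∈ golayCode) ?_ ?_ ?_ ?_ hw
  · rintro x ⟨hxC, hx8⟩
    have ho : support₂ x ∈ octads := (mem_octads_iff _).mpr ⟨x, hxC, rfl, hx8⟩
    have h2 : support₂ (permWord σ x) = σ⁻¹ • support₂ x := by
      rw [← support₂_comp_symm]
      rfl
    have h3 : σ⁻¹ • support₂ x ∈ octads := by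
      rw [← hinv]
      exact Set.smul_mem_smul_set ho
    obtain ⟨v, hv, hvs, _⟩ := (mem_octads_iff _).mp h3
    have : permWord σ x = v := support₂_injective (by rw [h2, hvs])
    rw [this]
    exact hv
  · simp
  · intro x y _ _ hx hy
    rw [map_add]
    exact golayCode.add_mem hx hy
  · intro a x _ hx
    rw [map_smul]
    exact golayCode.smul_mem a hx

/-- `M24` is the full automorphism group of the system of octads (this is statement S0369). -/
theorem M24_eq_setSystemAut_octads : M24 = setSystemAut octads := by
  ext σ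
  constructor
  · intro hσ
    exact MulAction.mem_stabilizer_iff.mpr (smul_octads_of_mem_M24 hσ)
  · intro hσ
    have h : σ • octads = octads := MulAction.mem_stabilizer_iff.mp hσ
    apply mem_M24_of_forall_qrWord
    intro t
    exact permWord_mem_of_smul_octads h (Submodule.subset_span (Or.inl ⟨t, rfl⟩))

end Cfsg.Agent.Lib.Helper7
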