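import Cfsg.Agent.Lib.Helper7.M24SchurData

/-!
# The Schur multiplier of `M24` is trivial
-/

set_option autoImplicit false

namespace Cfsg.Agent.Lib.Helper7.M24Schur
open Cfsg Cfsg.Agent.Lib.Helper7 Cfsg.Agent.Lib.Helper7.Tbl Cfsg.Agent.Lib.Helper7.Stem
open Cfsg.Agent.Lib.Helper7.SylowPair Subgroup

theorem card_M24s : Nat.card ↥M24 = 244823040 := card_M24

instance finite_M24 : Finite ↥M24 :=
  Nat.finite_of_card_ne_zero (by rw [card_M24s]; norm_num)

/-! ### The elementary abelian subgroup `N` -/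

/-- The generators of `N`. -/
noncomputable def gensN : List ↥M24 := [n1, n2, n3, n4, n5, n6]
/-- Their tables. -/
def gensNT : List (List ℕ) := [n1T, n2T, n3T, n4T, n5T, n6T]

theorem hmN : List.Forall₂ (MatchS (H := M24)) gensN gensNT :=
  .cons m_n1 (.cons m_n2 (.cons m_n3 (.cons m_n4 (.cons m_n5 (.cons m_n6 .nil)))))

/-- The subgroup `N`. -/
noncomputable def N : Subgroup ↥M24 := closure {x | x ∈ gensN}

theorem NL_eq : (List.range 64).map (pcwT gensNT) = NL := by decide +kernel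

/-- The tables of the 64 elements of `N`. -/
def LT : List (List ℕ) := NL

theorem LT_closed : closedT gensNT LT = true := by decide +kernel

theorem tbl_of_mem_N : ∀ x ∈ N, ∃ t ∈ LT, MatchS x t := tbl_of_mem_closure' hmN LT LT_closed

theorem pcw_mem_N (k : ℕ) : pcw gensN k ∈ N := pcw_mem_closure gensN k

theorem card_N_le : Nat.card ↥N ≤ 64 := by
  have := card_le_of_tbls N LT tbl_of_mem_N
  have hl : LT.length = 64 := by decide
  rwa [hl] at this

/-- `z = y ^ 5`. -/
noncomputable def z : ↥M24 := y ^ 5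
theorem zT_eq : powTb yT 5 = zT := by decide +kernel

theorem m_z : MatchS z zT := by
  rw [← zT_eq]; exact matchS_pow m_y 5

theorem z_cube : z ^ 3 = 1 :=
  eq_of_matchS (matchS_pow m_z 3) matchS_one (by decide +kernel)


theorem conjL_mem : ∀ c ∈ conjL, ∃ g : ↥M24, MatchS g c := by
  rw [← conjL_eq]
  intro c hc
  obtain ⟨k, _, rfl⟩ := List.mem_map.mp hc
  exact ⟨elt k, m_elt k⟩

/-- The table `t` is conjugate to the table `r` under a listed element. -/
def conjTo (r t : List ℕ) : Bool := conjL.any fun c => teq (compT c r) (compT t c)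

theorem conjTo_spec {x r : ↥M24} {t rT : List ℕ} (hx : MatchS x t) (hr : MatchS r rT)
    (h : conjTo rT t = true) : ∃ g : ↥M24, g * r = x * g := by
  simp only [conjTo, List.any_eq_true] at h
  obtain ⟨c, hc, hct⟩ := h
  obtain ⟨g, hg⟩ := conjL_mem c hc
  exact ⟨g, eq_of_matchS (matchS_mul hg hr) (matchS_mul hx hg) hct⟩

/-- Every non-trivial element of `N` is conjugate to `n1` or to `nB`. -/
def conjChk : Bool := LT.all fun t => teq t idT || conjTo n1T t || conjTo n6T t

theorem conjChk_true : conjChk = true := by decide +kernel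

theorem nB_eq : pcw gensN 4 * pcw gensN 37 * pcw gensN 1 = n6 :=
  eq_of_matchS (matchS_mul (matchS_mul (matchS_pcw hmN 4) (matchS_pcw hmN 37)) (matchS_pcw hmN 1))
    m_n6 (by decide +kernel)

theorem m_nB : MatchS (pcw gensN 4 * pcw gensN 37 * pcw gensN 1) n6T := by
  rw [nB_eq]; exact m_n6

theorem N_conj' : ∀ x ∈ N, x = 1 ∨ (∃ g : ↥M24, g * n1 = x * g) ∨
    (∃ g : ↥M24, g * (pcw gensN 4 * pcw gensN 37 * pcw gensN 1) = x * g) := by
  intro x hx
  obtain ⟨t, ht, hxt⟩ := tbl_of_mem_N x hx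
  have h := conjChk_true
  simp only [conjChk, List.all_eq_true, Bool.or_eq_true] at h
  rcases h t ht with (h1 | h1) | h1
  · exact Or.inl (eq_of_matchS hxt matchS_one h1)
  · exact Or.inr (Or.inl (conjTo_spec hxt m_n1 h1))
  · exact Or.inr (Or.inr (conjTo_spec hxt m_nB h1))

/-- `z` has no non-trivial fixed point on `N`. -/
def fpfChk : Bool := LT.all fun t => !teq (compT zT t) (compT t zT) || teq t idT

theorem fpfChk_true : fpfChk = true := by decide +kernel

theorem N_fpf : ∀ x ∈ N, z * x = x * z → x = 1 := by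
  intro x hx hzx
  obtain ⟨t, ht, hxt⟩ := tbl_of_mem_N x hx
  have h := fpfChk_true
  simp only [fpfChk, List.all_eq_true, Bool.or_eq_true, Bool.not_eq_true'] at h
  have h1 : MatchS (z * x) (compT zT t) := matchS_mul m_z hxt
  have h2 : MatchS (z * x) (compT t zT) := by rw [hzx]; exact matchS_mul hxt m_z
  have h3 := teq_of_matchS h1 h2
  rcases h t ht with h4 | h4
  · rw [h3] at h4; exact absurd h4 (by decide)
  · exact eq_of_matchS hxt matchS_one h4

theorem z_norm : ∀ x ∈ N, z * x * z⁻¹ ∈ N :=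
  conj_mem_of_normT hmN m_z 64 (by decide +kernel)
theorem s_norm : ∀ x ∈ N, s * x * s⁻¹ ∈ N :=
  conj_mem_of_normT hmN m_s 64 (by decide +kernel)
theorem t_norm : ∀ x ∈ N, t * x * t⁻¹ ∈ N :=
  conj_mem_of_normT hmN m_t 64 (by decide +kernel)
theorem v_norm : ∀ x ∈ N, v * x * v⁻¹ ∈ N :=
  conj_mem_of_normT hmN m_v 64 (by decide +kernel)

theorem z_inv : z⁻¹ = z * z := by
  apply inv_eq_of_mul_eq_one_right
  rw [← z_cube, pow_succ, pow_two, mul_assoc]

theorem s_z : s * z = z⁻¹ * s := by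
  rw [z_inv]
  exact eq_of_matchS (matchS_mul m_s m_z) (matchS_mul (matchS_mul m_z m_z) m_s) (by decide +kernel)

theorem t_z : t * z = z * t :=
  eq_of_matchS (matchS_mul m_t m_z) (matchS_mul m_z m_t) (by decide +kernel)

theorem v_z : v * z = z⁻¹ * v := by
  rw [z_inv]
  exact eq_of_matchS (matchS_mul m_v m_z) (matchS_mul (matchS_mul m_z m_z) m_v) (by decide +kernel)

theorem uT_eq : compT (compT sT tT) (compT sT tT) = uT := by decide +kernel

theorem m_u : MatchS (s * t * (s * t)) uT := by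
  rw [← uT_eq]; exact matchS_mul (matchS_mul m_s m_t) (matchS_mul m_s m_t)

/-- An element with table `dT` is conjugate under `c` to the word of index `k` of `N`. -/
theorem conjN_spec {d c : ↥M24} {dT cT : List ℕ} (hd : MatchS d dT) (hc : MatchS c cT) (k : ℕ)
    (h : teq (compT dT cT) (compT cT (pcwT gensNT k)) = true) :
    ∃ g : ↥M24, ∃ n ∈ N, d * g = g * n :=
  ⟨c, pcw gensN k, pcw_mem_N k,
    eq_of_matchS (matchS_mul hd hc) (matchS_mul hc (matchS_pcw hmN k)) h⟩

theorem conj_s : ∃ g : ↥M24, ∃ n ∈ N, s * g = g * n :=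
  conjN_spec m_s m_cs 2 (by decide +kernel)
theorem conj_t : ∃ g : ↥M24, ∃ n ∈ N, t * g = g * n :=
  conjN_spec m_t m_ct 5 (by decide +kernel)
theorem conj_v : ∃ g : ↥M24, ∃ n ∈ N, v * g = g * n :=
  conjN_spec m_v m_cv 15 (by decide +kernel)
theorem conj_u : ∃ g : ↥M24, ∃ n ∈ N, s * t * (s * t) * g = g * n :=
  conjN_spec m_u m_cu 33 (by decide +kernel)
theorem conj_sv : ∃ g : ↥M24, ∃ n ∈ N, s * v * g = g * n :=
  conjN_spec (matchS_mul m_s m_v) m_csv 62 (by decide +kernel)
theorem conj_tv : ∃ g : ↥M24, ∃ n ∈ N, t * v * g = g * n :=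
  conjN_spec (matchS_mul m_t m_v) m_ctv 27 (by decide +kernel)

/-! ### The Sylow 2-subgroup -/

/-- Generators of a complement of `N` in the Sylow 2-subgroup. -/
noncomputable def gensD : List ↥M24 := [s * t * (s * t), s, t, v]
/-- Their tables. -/
def gensDT : List (List ℕ) := [uT, sT, tT, vT]

theorem hmD : List.Forall₂ (MatchS (H := M24)) gensD gensDT :=
  .cons m_u (.cons m_s (.cons m_t (.cons m_v .nil)))

theorem DL_eq : (List.range 16).map (pcwT gensDT) = DL := by decide +kernel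

theorem incr2 : incrB (pairs1024.map fun p =>
    codeMul [23, 0, 1, 2, 3, 4, 5] (DL.getD p.1 idT) (NL.getD p.2 idT)) = true := by
  decide +kernel

theorem length_pairs1024 : pairs1024.length = 1024 := by decide +kernel

theorem card_P_ge : 1024 ≤
    Nat.card ↥(N ⊔ zpowers (s * t * (s * t)) ⊔ zpowers s ⊔ zpowers t ⊔ zpowers v) := by
  have hN : N ≤ N ⊔ zpowers (s * t * (s * t)) ⊔ zpowers s ⊔ zpowers t ⊔ zpowers v :=
    le_sup_left.trans (le_sup_left.trans (le_sup_left.trans le_sup_left))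
  have hU : zpowers (s * t * (s * t)) ≤
      N ⊔ zpowers (s * t * (s * t)) ⊔ zpowers s ⊔ zpowers t ⊔ zpowers v :=
    le_sup_right.trans (le_sup_left.trans (le_sup_left.trans le_sup_left))
  have hS : zpowers s ≤ N ⊔ zpowers (s * t * (s * t)) ⊔ zpowers s ⊔ zpowers t ⊔ zpowers v :=
    le_sup_right.trans (le_sup_left.trans le_sup_left)
  have hT : zpowers t ≤ N ⊔ zpowers (s * t * (s * t)) ⊔ zpowers s ⊔ zpowers t ⊔ zpowers v :=
    le_sup_right.trans le_sup_left
  have hV : zpowers v ≤ N ⊔ zpowers (s * t * (s * t)) ⊔ zpowers s ⊔ zpowers t ⊔ zpowers v :=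
    le_sup_right
  have hD : ∀ d ∈ DL, ∃ x ∈ N ⊔ zpowers (s * t * (s * t)) ⊔ zpowers s ⊔ zpowers t ⊔ zpowers v,
      MatchS x d := by
    rw [← DL_eq]
    apply exists_of_mem_pcwT hmD
    intro g hg
    simp only [gensD, List.mem_cons, List.not_mem_nil, or_false] at hg
    rcases hg with rfl | rfl | rfl | rfl
    · exact hU (mem_zpowers _)
    · exact hS (mem_zpowers _)
    · exact hT (mem_zpowers _)
    · exact hV (mem_zpowers _)
  have hNL : ∀ n ∈ NL, ∃ x ∈ N ⊔ zpowers (s * t * (s * t)) ⊔ zpowers s ⊔ zpowers t ⊔ zpowers v,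
      MatchS x n := by
    rw [← NL_eq]
    apply exists_of_mem_pcwT hmN
    intro g hg
    exact hN (subset_closure hg)
  have := card_ge_of_incr_pairs
    (N ⊔ zpowers (s * t * (s * t)) ⊔ zpowers s ⊔ zpowers t ⊔ zpowers v) [23, 0, 1, 2, 3, 4, 5]
    (by decide) DL NL hD hNL pairs1024 incr2
  rwa [length_pairs1024] at this

/-- Elements with table conjugate to that of `n1`. -/
theorem conjA {x : ↥M24} {t : List ℕ} (hx : MatchS x t) (h : conjTo n1T t = true) :
    ∃ g : ↥M24, g * n1 = x * g :=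
  conjTo_spec hx m_n1 h

/-- The kernels of exponent 2. -/
theorem ker_two {Δ : Type} [Group Δ] [Finite Δ] (τ : Δ →* ↥M24) (hτ : IsStemExtension τ)
    (hexp : ∀ k ∈ τ.ker, k ^ 2 = 1) : τ.ker = ⊥ := by
  have w := fun k => matchS_pcw hmN k
  refine ker_eq_bot_two_D8C2 τ hτ (fun k hk => by rw [← pow_two]; exact hexp k hk) N n1
    (pcw gensN 1) (pcw gensN 2) (pcw gensN 4) (pcw gensN 1) (pcw gensN 4) (pcw gensN 37) z s t v
    card_N_le N_conj' ?_ ?_ ?_ ?_ ?_ ?_ ?_ ?_ ?_ ?_ ?_ ?_ ?_ ?_ z_cube z_norm N_fpf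
    s_norm t_norm v_norm (Or.inr s_z) (Or.inl t_z) (Or.inr v_z) conj_s conj_t conj_v conj_u
    conj_sv conj_tv card_P_ge 239085 (by rw [card_M24s]) (by decide)
  · exact eq_of_matchS (matchS_mul m_n1 m_n1) matchS_one (by decide +kernel)
  · exact conjA (w 1) (by decide +kernel)
  · exact conjA (w 2) (by decide +kernel)
  · exact conjA (w 4) (by decide +kernel)
  · exact conjA (matchS_mul (w 2) (w 1)) (by decide +kernel)
  · exact conjA (matchS_mul (w 4) (w 1)) (by decide +kernel)
  · exact conjA (matchS_mul (w 2) (w 4)) (by decide +kernel)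
  · exact conjA (matchS_mul (matchS_mul (w 2) (w 4)) (w 1)) (by decide +kernel)
  · exact conjA (w 1) (by decide +kernel)
  · exact conjA (w 4) (by decide +kernel)
  · exact conjA (w 37) (by decide +kernel)
  · exact conjA (matchS_mul (w 4) (w 1)) (by decide +kernel)
  · exact conjA (matchS_mul (w 37) (w 1)) (by decide +kernel)
  · exact conjA (matchS_mul (w 4) (w 37)) (by decide +kernel)

/-! ### The Sylow 3-subgroup -/

/-- Generators (with repetitions) of the Sylow 3-subgroup. -/
noncomputable def gens3 : List ↥M24 := [z, z, a3, a3, b3, b3]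
/-- Their tables. -/
def gens3T : List (List ℕ) := [zT, zT, a3T, a3T, b3T, b3T]

theorem hm3 : List.Forall₂ (MatchS (H := M24)) gens3 gens3T :=
  .cons m_z (.cons m_z (.cons m_a3 (.cons m_a3 (.cons m_b3 (.cons m_b3 .nil)))))

theorem card_P3_ge : 27 ≤ Nat.card ↥(zpowers z ⊔ zpowers a3 ⊔ zpowers b3) := by
  have hZ : zpowers z ≤ zpowers z ⊔ zpowers a3 ⊔ zpowers b3 := le_sup_left.trans le_sup_left
  have hA : zpowers a3 ≤ zpowers z ⊔ zpowers a3 ⊔ zpowers b3 := le_sup_right.trans le_sup_left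
  have hB : zpowers b3 ≤ zpowers z ⊔ zpowers a3 ⊔ zpowers b3 := le_sup_right
  have := card_ge_of_distinctT (zpowers z ⊔ zpowers a3 ⊔ zpowers b3) hm3
    (by
      intro g hg
      simp only [gens3, List.mem_cons, List.not_mem_nil, or_false] at hg
      rcases hg with rfl | rfl | rfl | rfl | rfl | rfl
      · exact hZ (mem_zpowers _)
      · exact hZ (mem_zpowers _)
      · exact hA (mem_zpowers _)
      · exact hA (mem_zpowers _)
      · exact hB (mem_zpowers _)
      · exact hB (mem_zpowers _))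
    ks27 (by decide +kernel)
  have hl : ks27.length = 27 := by decide
  rwa [hl] at this

/-- The kernels of exponent 3. -/
theorem ker_three {Δ : Type} [Group Δ] [Finite Δ] (τ : Δ →* ↥M24) (hτ : IsStemExtension τ)
    (hexp : ∀ k ∈ τ.ker, k ^ 3 = 1) : τ.ker = ⊥ := by
  refine ker_eq_bot_three_extraspecial τ hτ hexp a3 b3 z t3 s ?_ ?_ z_cube ?_ ?_ ?_ ?_ ?_ ?_ ?_
    card_P3_ge 9067520 (by rw [card_M24s]) (by decide)
  · exact eq_of_matchS (matchS_pow m_a3 3) matchS_one (by decide +kernel)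
  · exact eq_of_matchS (matchS_pow m_b3 3) matchS_one (by decide +kernel)
  · exact eq_of_matchS (matchS_mul m_a3 m_b3) (matchS_mul (matchS_mul m_z m_b3) m_a3)
      (by decide +kernel)
  · exact eq_of_matchS (matchS_mul m_a3 m_z) (matchS_mul m_z m_a3) (by decide +kernel)
  · exact eq_of_matchS (matchS_mul m_b3 m_z) (matchS_mul m_z m_b3) (by decide +kernel)
  · exact eq_of_matchS (matchS_mul m_t3 m_a3) (matchS_mul (matchS_mul m_a3 m_a3) m_t3)
      (by decide +kernel)
  · exact eq_of_matchS (matchS_mul m_t3 m_b3) (matchS_mul (matchS_mul m_b3 m_b3) m_t3)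
      (by decide +kernel)
  · exact eq_of_matchS (matchS_mul m_t3 m_z) (matchS_mul m_z m_t3) (by decide +kernel)
  · exact eq_of_matchS (matchS_mul m_s m_z) (matchS_mul (matchS_mul m_z m_z) m_s)
      (by decide +kernel)

/-! ### The other primes -/

theorem orderOf_of_tbl {x : ↥M24} {t : List ℕ} (hx : MatchS x t) (p : ℕ) (hp : p.Prime)
    (h1 : teq (powTb t p) idT = true) (h2 : teq t idT = false) : orderOf x = p := by
  have : Fact p.Prime := ⟨hp⟩
  exact orderOf_eq_prime (eq_of_matchS (matchS_pow hx p) matchS_one h1)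
    (ne_of_matchS hx matchS_one h2)

theorem orderOf_e5 : orderOf e5 = 5 :=
  orderOf_of_tbl m_e5 5 (by norm_num) (by decide +kernel) (by decide +kernel)
theorem orderOf_e7 : orderOf e7 = 7 :=
  orderOf_of_tbl m_e7 7 (by norm_num) (by decide +kernel) (by decide +kernel)
theorem orderOf_e11 : orderOf e11 = 11 :=
  orderOf_of_tbl m_e11 11 (by norm_num) (by decide +kernel) (by decide +kernel)
theorem orderOf_e23 : orderOf e23 = 23 :=
  orderOf_of_tbl m_e23 23 (by norm_num) (by decide +kernel) (by decide +kernel)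

theorem coprime_card_of_prime {p : ℕ} (hp : p.Prime) (h2 : p ≠ 2) (h3 : p ≠ 3) (h5 : p ≠ 5)
    (h7 : p ≠ 7) (h11 : p ≠ 11) (h23 : p ≠ 23) : Nat.Coprime 244823040 p := by
  rw [Nat.coprime_comm, Nat.Prime.coprime_iff_not_dvd hp]
  intro hd
  have e : 244823040 = 2 ^ 10 * 3 ^ 3 * 5 * 7 * 11 * 23 := by norm_num
  rw [e] at hd
  have hpr := fun {q : ℕ} (hq : q.Prime) (h : p ∣ q) => (Nat.prime_dvd_prime_iff_eq hp hq).mp h
  rcases (Nat.Prime.dvd_mul hp).mp hd with hd | hd
  · rcases (Nat.Prime.dvd_mul hp).mp hd with hd | hd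
    · rcases (Nat.Prime.dvd_mul hp).mp hd with hd | hd
      · rcases (Nat.Prime.dvd_mul hp).mp hd with hd | hd
        · rcases (Nat.Prime.dvd_mul hp).mp hd with hd | hd
          · exact h2 (hpr (by norm_num) (hp.dvd_of_dvd_pow hd))
          · exact h3 (hpr (by norm_num) (hp.dvd_of_dvd_pow hd))
        · exact h5 (hpr (by norm_num) hd)
      · exact h7 (hpr (by norm_num) hd)
    · exact h11 (hpr (by norm_num) hd)
  · exact h23 (hpr (by norm_num) hd)

/-- The Schur multiplier of `M24` is trivial. -/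
theorem multiplier_M24 : HasCyclicSchurMultiplier ↥M24 1 := by
  apply hasCyclicSchurMultiplier_one_of_primes
  intro p hp Δ _ _ τ hτ hexp
  by_cases h2 : p = 2
  · subst h2; exact ker_two τ hτ hexp
  by_cases h3 : p = 3
  · subst h3; exact ker_three τ hτ hexp
  by_cases h5 : p = 5
  · subst h5
    exact ker_eq_bot_of_orderOf τ hτ 5 hexp e5 orderOf_e5 48964608 (by rw [card_M24s]) (by norm_num)
      (by decide)
  by_cases h7 : p = 7
  · subst h7
    exact ker_eq_bot_of_orderOf τ hτ 7 hexp e7 orderOf_e7 34974720 (by rw [card_M24s]) (by norm_num)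
      (by decide)
  by_cases h11 : p = 11
  · subst h11
    exact ker_eq_bot_of_orderOf τ hτ 11 hexp e11 orderOf_e11 22256640 (by rw [card_M24s])
      (by norm_num) (by decide)
  by_cases h23 : p = 23
  · subst h23
    exact ker_eq_bot_of_orderOf τ hτ 23 hexp e23 orderOf_e23 10644480 (by rw [card_M24s])
      (by norm_num) (by decide)
  · apply ker_eq_bot_of_coprime_card τ hτ p hexp
    rw [card_M24s]
    exact coprime_card_of_prime hp h2 h3 h5 h7 h11 h23

end Cfsg.Agent.Lib.Helper7.M24Schur
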