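import Cfsg.Agent.Lib.Helper7.StemTwo

/-!
# Killing the 2-part of the kernel of a stem extension over a Sylow 2-subgroup `N : (D₈ × C₂)`

`ker_eq_bot_two_D8C2`: `G` has order `1024 m` with `m` odd, an elementary abelian subgroup `N` of order at
most 64 whose non-trivial elements fall in two conjugacy classes of `G`, with representatives `nA` and
`b₂ c₂ a₂`; the seven non-trivial products of `a, b, c` are conjugate to `nA`, as are the six proper products
of `a₂, b₂, c₂`.  An element `z` of order 3 normalizes `N` without fixed points, and three involutions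
`s, t, v`, with `v` commuting with `s, t`, normalize `N` and centralize or invert `z`; the involutions
`s, t, v, (st)², sv, tv` are conjugate in `G` to elements of `N`, and `|N⟨s,t,v⟩| ≥ 1024`.  Then every finite
stem extension of `G` with kernel of exponent 2 is trivial.
-/

set_option autoImplicit false

namespace Cfsg.Agent.Lib.Helper7.Stem

open Subgroup

universe u v

variable {Γ : Type u} {G : Type v} [Group Γ] [Group G]

/-- Three involutions whose pairwise products are involutions have an involution as product. -/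
theorem sq_eq_one_of_triple {a b c : Γ} (ha : a * a = 1) (hb : b * b = 1) (hcc : c * c = 1)
    (hba : (b * a) * (b * a) = 1) (hca : (c * a) * (c * a) = 1) (hbc : (b * c) * (b * c) = 1) :
    (b * c * a) * (b * c * a) = 1 := by
  have h1 : b * a = a * b := by
    have := swap_of_sq ha hba hb
    rwa [mul_one] at this
  have h2 : c * a = a * c := by
    have := swap_of_sq ha hca hcc
    rwa [mul_one] at this
  have h3 : b * c = c * b := by
    have := swap_of_sq hcc hbc hb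
    rwa [mul_one] at this
  calc (b * c * a) * (b * c * a) = b * c * (a * b) * c * a := by group
    _ = b * c * (b * a) * c * a := by rw [h1]
    _ = b * (c * b) * (a * c) * a := by group
    _ = b * (b * c) * (c * a) * a := by rw [h3, h2]
    _ = (b * b) * (c * c) * (a * a) := by group
    _ = 1 := by rw [ha, hb, hcc]; group

section conj

variable (σ : Γ →* G) (hc : σ.ker ≤ center Γ) (hexp : ∀ k ∈ σ.ker, k * k = 1)
include hc hexp

/-- If all lifts of elements of `N` are involutions, so are the lifts of their conjugates. -/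
theorem sq_eq_one_of_conj_mem (hsurj : Function.Surjective σ) (N : Subgroup G)
    (hNsq : ∀ x : Γ, σ x ∈ N → x * x = 1) {d : G} (hd : ∃ g : G, ∃ n ∈ N, d * g = g * n)
    {d' : Γ} (hd' : σ d' = d) : d' * d' = 1 := by
  obtain ⟨g, n, hn, hdg⟩ := hd
  obtain ⟨g', hg'⟩ := hsurj g
  obtain ⟨n', hn'⟩ := hsurj n
  have hn2 : n' * n' = 1 := hNsq n' (by rw [hn']; exact hn)
  have := sq_eq_of_conj σ hc hexp (x := n') (x' := d') (g := g')
    (by rw [hn2]; exact one_mem _) (by rw [hd', hg', hn', hdg])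
  rw [this, hn2]

end conj

theorem ker_eq_bot_two_D8C2 [Finite Γ] [Finite G] (σ : Γ →* G) (hσ : Cfsg.IsStemExtension σ)
    (hexp : ∀ k ∈ σ.ker, k * k = 1)
    (N : Subgroup G) (nA a b c a₂ b₂ c₂ z s t v : G)
    (hN64 : Nat.card ↥N ≤ 64)
    (hNconj : ∀ x ∈ N, x = 1 ∨ (∃ g : G, g * nA = x * g) ∨
      (∃ g : G, g * (b₂ * c₂ * a₂) = x * g))
    (hnAsq : nA * nA = 1)
    (ha : ∃ g : G, g * nA = a * g) (hb : ∃ g : G, g * nA = b * g) (hc : ∃ g : G, g * nA = c * g)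
    (hba : ∃ g : G, g * nA = b * a * g) (hca : ∃ g : G, g * nA = c * a * g)
    (hbc : ∃ g : G, g * nA = b * c * g) (hbca : ∃ g : G, g * nA = b * c * a * g)
    (ha₂ : ∃ g : G, g * nA = a₂ * g) (hb₂ : ∃ g : G, g * nA = b₂ * g)
    (hc₂ : ∃ g : G, g * nA = c₂ * g)
    (hba₂ : ∃ g : G, g * nA = b₂ * a₂ * g) (hca₂ : ∃ g : G, g * nA = c₂ * a₂ * g)
    (hbc₂ : ∃ g : G, g * nA = b₂ * c₂ * g)
    (hz3 : z ^ 3 = 1) (hzN : ∀ n ∈ N, z * n * z⁻¹ ∈ N) (hfpf : ∀ n ∈ N, z * n = n * z → n = 1)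
    (hsN : ∀ n ∈ N, s * n * s⁻¹ ∈ N) (htN : ∀ n ∈ N, t * n * t⁻¹ ∈ N)
    (hvN : ∀ n ∈ N, v * n * v⁻¹ ∈ N)
    (hsz : s * z = z * s ∨ s * z = z⁻¹ * s) (htz : t * z = z * t ∨ t * z = z⁻¹ * t)
    (hvz : v * z = z * v ∨ v * z = z⁻¹ * v)
    (hs : ∃ g : G, ∃ n ∈ N, s * g = g * n) (ht : ∃ g : G, ∃ n ∈ N, t * g = g * n)
    (hv : ∃ g : G, ∃ n ∈ N, v * g = g * n)
    (hu : ∃ g : G, ∃ n ∈ N, s * t * (s * t) * g = g * n)
    (hsv : ∃ g : G, ∃ n ∈ N, s * v * g = g * n) (htv : ∃ g : G, ∃ n ∈ N, t * v * g = g * n)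
    (hP : 1024 ≤
      Nat.card ↥(N ⊔ zpowers (s * t * (s * t)) ⊔ zpowers s ⊔ zpowers t ⊔ zpowers v))
    (m : ℕ) (hG : Nat.card G = 1024 * m) (hm : Odd m) : σ.ker = ⊥ := by
  have hcen := hσ.2.1
  have hsurj := hσ.1
  -- lifts
  obtain ⟨nA', hnA'⟩ := hsurj nA
  have hnAker : nA' * nA' ∈ σ.ker := by
    rw [MonoidHom.mem_ker, map_mul, hnA', hnAsq]
  -- the square of the lifts of the conjugates of `nA`
  have hsqA : ∀ x : Γ, (∃ g : G, g * nA = σ x * g) → x * x = nA' * nA' := by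
    intro x ⟨g, hg⟩
    obtain ⟨g', hg'⟩ := hsurj g
    apply sq_eq_of_conj σ hcen hexp hnAker (g := g')
    rw [hg', hnA', hg]
  obtain ⟨a', ha'⟩ := hsurj a
  obtain ⟨b', hb'⟩ := hsurj b
  obtain ⟨c', hc'⟩ := hsurj c
  have hκ : nA' * nA' = 1 := by
    have hκ2 := hexp _ hnAker
    refine sq_eq_one_of_seven σ hcen hnAker hκ2 (a := a') (b := b') (c := c') ?_ ?_ ?_ ?_ ?_ ?_ ?_
    · exact hsqA a' (by rw [ha']; exact ha)
    · exact hsqA b' (by rw [hb']; exact hb)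
    · exact hsqA c' (by rw [hc']; exact hc)
    · exact hsqA _ (by rw [map_mul, hb', ha']; exact hba)
    · exact hsqA _ (by rw [map_mul, hc', ha']; exact hca)
    · exact hsqA _ (by rw [map_mul, hb', hc']; exact hbc)
    · exact hsqA _ (by rw [map_mul, map_mul, hb', hc', ha']; exact hbca)
  -- the second class
  obtain ⟨a₂', ha₂'⟩ := hsurj a₂
  obtain ⟨b₂', hb₂'⟩ := hsurj b₂
  obtain ⟨c₂', hc₂'⟩ := hsurj c₂
  have hnB2 : (b₂' * c₂' * a₂') * (b₂' * c₂' * a₂') = 1 := by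
    refine sq_eq_one_of_triple ?_ ?_ ?_ ?_ ?_ ?_
    · rw [hsqA a₂' (by rw [ha₂']; exact ha₂), hκ]
    · rw [hsqA b₂' (by rw [hb₂']; exact hb₂), hκ]
    · rw [hsqA c₂' (by rw [hc₂']; exact hc₂), hκ]
    · rw [hsqA _ (by rw [map_mul, hb₂', ha₂']; exact hba₂), hκ]
    · rw [hsqA _ (by rw [map_mul, hc₂', ha₂']; exact hca₂), hκ]
    · rw [hsqA _ (by rw [map_mul, hb₂', hc₂']; exact hbc₂), hκ]
  have hnBσ : σ (b₂' * c₂' * a₂') = b₂ * c₂ * a₂ := by
    rw [map_mul, map_mul, hb₂', hc₂', ha₂']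
  have hNsq : ∀ x : Γ, σ x ∈ N → x * x = 1 := by
    intro x hx
    rcases hNconj _ hx with h | h | ⟨g, hg⟩
    · exact hexp x (MonoidHom.mem_ker.mpr h)
    · rw [hsqA x h, hκ]
    · obtain ⟨g', hg'⟩ := hsurj g
      rw [sq_eq_of_conj σ hcen hexp (x := b₂' * c₂' * a₂') (x' := x) (g := g')
        (by rw [hnB2]; exact one_mem _) (by rw [hg', hnBσ, hg]), hnB2]
  -- the canonical complement over `N`
  obtain ⟨N₀, hN₀map, hN₀ker, hN₀inv⟩ :=
    exists_canonical_compl σ hsurj hcen hexp N hNsq z hz3 hzN hfpf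
  -- lifts of `s`, `t`, `v`
  obtain ⟨s', hs'⟩ := hsurj s
  obtain ⟨t', ht'⟩ := hsurj t
  obtain ⟨v', hv'⟩ := hsurj v
  have hs2 : s' * s' = 1 := sq_eq_one_of_conj_mem σ hcen hexp hsurj N hNsq hs hs'
  have ht2 : t' * t' = 1 := sq_eq_one_of_conj_mem σ hcen hexp hsurj N hNsq ht ht'
  have hv2 : v' * v' = 1 := sq_eq_one_of_conj_mem σ hcen hexp hsurj N hNsq hv hv'
  obtain ⟨u', hu'def⟩ : ∃ u', u' = s' * t' * (s' * t') := ⟨_, rfl⟩
  have hu'σ : σ u' = s * t * (s * t) := by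
    rw [hu'def, map_mul, map_mul, hs', ht']
  have hu2 : u' * u' = 1 := sq_eq_one_of_conj_mem σ hcen hexp hsurj N hNsq hu hu'σ
  have hsv2 : (s' * v') * (s' * v') = 1 :=
    sq_eq_one_of_conj_mem σ hcen hexp hsurj N hNsq hsv (by rw [map_mul, hs', hv'])
  have htv2 : (t' * v') * (t' * v') = 1 :=
    sq_eq_one_of_conj_mem σ hcen hexp hsurj N hNsq htv (by rw [map_mul, ht', hv'])
  have hsvc : s' * v' = v' * s' := by
    have := swap_of_sq hv2 hsv2 hs2
    rwa [mul_one] at this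
  have htvc : t' * v' = v' * t' := by
    have := swap_of_sq hv2 htv2 ht2
    rwa [mul_one] at this
  have hsi : s'⁻¹ = s' := conj_eq_of_sq hs2
  have hti : t'⁻¹ = t' := conj_eq_of_sq ht2
  have hvi : v'⁻¹ = v' := conj_eq_of_sq hv2
  -- invariance of `N₀`
  have hs_inv : ∀ q ∈ N₀, s' * q * s'⁻¹ ∈ N₀ :=
    hN₀inv s' (by rw [hs']; exact hsN) (by rw [hs']; exact hsz)
  have ht_inv : ∀ q ∈ N₀, t' * q * t'⁻¹ ∈ N₀ :=
    hN₀inv t' (by rw [ht']; exact htN) (by rw [ht']; exact htz)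
  have hv_inv : ∀ q ∈ N₀, v' * q * v'⁻¹ ∈ N₀ :=
    hN₀inv v' (by rw [hv']; exact hvN) (by rw [hv']; exact hvz)
  have hu_inv : ∀ q ∈ N₀, u' * q * u'⁻¹ ∈ N₀ := by
    intro q hq
    have h1 := ht_inv q hq
    have h2 := hs_inv _ h1
    have h3 := ht_inv _ h2
    have h4 := hs_inv _ h3
    have e : u' * q * u'⁻¹ = s' * (t' * (s' * (t' * q * t'⁻¹) * s'⁻¹) * t'⁻¹) * s'⁻¹ := by
      rw [hu'def]; group
    rw [e]; exact h4
  -- the chain
  set Q1 := N₀ ⊔ zpowers u' with hQ1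
  set Q2 := Q1 ⊔ zpowers s' with hQ2
  set Q3 := Q2 ⊔ zpowers t' with hQ3
  set Q4 := Q3 ⊔ zpowers v' with hQ4
  have hu'Q1 : u' ∈ Q1 := (le_sup_right : zpowers u' ≤ Q1) (mem_zpowers u')
  have hs'Q2 : s' ∈ Q2 := (le_sup_right : zpowers s' ≤ Q2) (mem_zpowers s')
  have ht'Q3 : t' ∈ Q3 := (le_sup_right : zpowers t' ≤ Q3) (mem_zpowers t')
  have hN₀Q1 : N₀ ≤ Q1 := le_sup_left
  have hQ1Q2 : Q1 ≤ Q2 := le_sup_left
  have hQ2Q3 : Q2 ≤ Q3 := le_sup_left
  have hc1 : Nat.card ↥Q1 ≤ 2 * Nat.card ↥N₀ :=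
    card_sup_zpowers_le (by norm_num) (by rw [pow_two, hu2]; exact N₀.one_mem) hu_inv
  have hs_Q1 : ∀ q ∈ Q1, s' * q * s'⁻¹ ∈ Q1 := by
    apply conj_sup_zpowers_mem
    · intro q hq; exact hN₀Q1 (hs_inv q hq)
    · have e : s' * u' * s'⁻¹ = u'⁻¹ := by
        rw [hu'def, mul_inv_rev, mul_inv_rev, hsi, hti]
        calc s' * (s' * t' * (s' * t')) * s' = (s' * s') * t' * s' * t' * s' := by group
          _ = t' * s' * (t' * s') := by rw [hs2]; group
      rw [e]; exact Q1.inv_mem hu'Q1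
  have hc2 : Nat.card ↥Q2 ≤ 2 * Nat.card ↥Q1 :=
    card_sup_zpowers_le (by norm_num) (by rw [pow_two, hs2]; exact Q1.one_mem) hs_Q1
  have ht_Q2 : ∀ q ∈ Q2, t' * q * t'⁻¹ ∈ Q2 := by
    apply conj_sup_zpowers_mem
    · apply conj_sup_zpowers_mem
      · intro q hq; exact hQ1Q2 (hN₀Q1 (ht_inv q hq))
      · have e : t' * u' * t'⁻¹ = u'⁻¹ := by
          rw [hu'def, mul_inv_rev, mul_inv_rev, hsi, hti]
          calc t' * (s' * t' * (s' * t')) * t' = t' * s' * t' * s' * (t' * t') := by group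
            _ = t' * s' * (t' * s') := by rw [ht2]; group
        rw [e]; exact hQ1Q2 (Q1.inv_mem hu'Q1)
    · have e : t' * s' * t'⁻¹ = s' * u' := by
        rw [hu'def, hti]
        calc t' * s' * t' = (s' * s') * t' * s' * t' := by rw [hs2]; group
          _ = s' * (s' * t' * (s' * t')) := by group
      rw [e]; exact Q2.mul_mem hs'Q2 (hQ1Q2 hu'Q1)
  have hc3 : Nat.card ↥Q3 ≤ 2 * Nat.card ↥Q2 :=
    card_sup_zpowers_le (by norm_num) (by rw [pow_two, ht2]; exact Q2.one_mem) ht_Q2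
  have hvs : v' * s' * v'⁻¹ = s' := by rw [← hsvc]; group
  have hvt : v' * t' * v'⁻¹ = t' := by rw [← htvc]; group
  have hvu : v' * u' * v'⁻¹ = u' := by
    have e : v' * u' * v'⁻¹ =
        (v' * s' * v'⁻¹) * (v' * t' * v'⁻¹) * ((v' * s' * v'⁻¹) * (v' * t' * v'⁻¹)) := by
      rw [hu'def]; group
    rw [e, hvs, hvt, hu'def]
  have hv_Q3 : ∀ q ∈ Q3, v' * q * v'⁻¹ ∈ Q3 := by
    apply conj_sup_zpowers_mem
    · apply conj_sup_zpowers_mem
      · apply conj_sup_zpowers_mem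
        · intro q hq; exact hQ2Q3 (hQ1Q2 (hN₀Q1 (hv_inv q hq)))
        · rw [hvu]; exact hQ2Q3 (hQ1Q2 hu'Q1)
      · rw [hvs]; exact hQ2Q3 hs'Q2
    · rw [hvt]; exact ht'Q3
  have hc4 : Nat.card ↥Q4 ≤ 2 * Nat.card ↥Q3 :=
    card_sup_zpowers_le (by norm_num) (by rw [pow_two, hv2]; exact Q3.one_mem) hv_Q3
  have hcN₀ : Nat.card ↥N₀ ≤ 64 := by
    have := card_le_card_map_of_inf_ker σ N₀ hN₀ker
    rw [hN₀map] at this
    exact this.trans hN64
  have hcQ4 : Nat.card ↥Q4 ≤ 1024 := by omega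
  -- the image of the chain
  have hmap : Q4.map σ =
      N ⊔ zpowers (s * t * (s * t)) ⊔ zpowers s ⊔ zpowers t ⊔ zpowers v := by
    rw [hQ4, hQ3, hQ2, hQ1, Subgroup.map_sup, Subgroup.map_sup, Subgroup.map_sup,
      Subgroup.map_sup, hN₀map, MonoidHom.map_zpowers, MonoidHom.map_zpowers,
      MonoidHom.map_zpowers, MonoidHom.map_zpowers, hu'σ, hs', ht', hv']
  have hcP : 1024 ≤ Nat.card ↥(Q4.map σ) := by rw [hmap]; exact hP
  have hQ4ker : Q4 ⊓ σ.ker = ⊥ := inf_ker_eq_bot_of_card_le σ Q4 (hcQ4.trans hcP)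
  have hcardP : Nat.card ↥(Q4.map σ) = 1024 :=
    le_antisymm ((card_map_le σ Q4).trans hcQ4) hcP
  have hidx : (Q4.map σ).index = m := by
    have := (Q4.map σ).card_mul_index
    rw [hcardP, hG] at this
    omega
  -- transfer
  rw [eq_bot_iff]
  intro x hx
  rw [mem_bot]
  have h1 := pow_index_eq_one_of_compl σ hσ Q4 hQ4ker x hx
  rw [hidx] at h1
  have h2 := hexp x hx
  obtain ⟨k, rfl⟩ := hm
  have : x ^ (2 * k + 1) = x := by
    rw [pow_succ, pow_mul, pow_two, h2, one_pow, one_mul]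
  rw [← this]; exact h1

end Cfsg.Agent.Lib.Helper7.Stem
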