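import Cfsg.Agent.Lib.Helper7.TblSort
import Cfsg.Agent.Lib.Helper7.StemTwoB
import Cfsg.Agent.Lib.Helper7.StemThreeB
import Cfsg.Agent.Lib.Helper7.StemReduce
import Cfsg.Prelude.Def_Spor_Mathieu

/-!
# Explicit elements of `M24` for the computation of its Schur multiplier

AUTO-GENERATED by scratch/schur/gen24.py; everything is re-checked here.
`n1, …, n6` generate the elementary abelian group `N` of order 64 of a sextet group, normalized by `y` (order 15;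
`y ^ 5` is fixed-point-free on `N`) and by the involutions `s, t, v` generating `D₈ × C₂`; `cs, …, ctv` conjugate
`s, t, v, (st)², sv, tv` into `N`.  The list `conjL` holds elements conjugating the class representatives `n1` and
`nB` to all the non-trivial elements of `N`.  `e5, e7, e11, e23` have the orders shown, and `a3, b3` generate a
Sylow 3-subgroup, with commutator `y ^ 5`, `t3` inverting `a3` and `b3`.
-/

set_option autoImplicit false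

namespace Cfsg.Agent.Lib.Helper7.M24Schur
open Cfsg Cfsg.Agent.Lib.Helper7 Cfsg.Agent.Lib.Helper7.Tbl Cfsg.Agent.Lib.Helper7.Stem
open Cfsg.Agent.Lib.Helper7.SylowPair

/-- Straight-line program run on top of the chain entries. -/
def prog : List (ℕ × ℕ) := [(215, 202), (215, 227), (229, 187), (216, 225), (231, 183), (205, 194), (233, 159), (234, 118), (235, 1), (205, 194), (237, 163), (238, 136), (239, 94), (240, 9), (207, 187), (242, 162), (243, 135), (244, 102), (215, 203), (246, 173), (247, 160), (248, 130), (249, 98), (215, 225), (251, 192), (224, 187), (253, 158), (254, 133), (255, 107), (256, 16), (216, 206), (258, 185), (259, 154), (260, 124), (261, 105), (262, 11), (215, 200), (264, 142), (265, 128), (266, 102), (267, 11), (215, 155), (269, 130), (270, 94), (271, 13), (215, 207), (273, 155), (274, 119), (275, 85), (276, 16), (215, 203), (278,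 193), (279, 151), (280, 124), (216, 168), (282, 190), (283, 155), (284, 130), (285, 107), (286, 16), (215, 208), (288, 186), (289, 154), (290, 112), (216, 205), (292, 180), (293, 163), (294, 88), (216, 201), (296, 179), (297, 149), (298, 133), (299, 101), (173, 160), (301, 136), (302, 96), (216, 203), (304, 180), (305, 152), (306, 127), (307, 89), (308, 25), (216, 208), (310, 187), (311, 158), (312, 118), (313, 103), (314, 25), (215, 201), (316, 190), (317, 163), (318, 116), (319, 93), (320, 26), (228, 228), (245, 322), (250, 322), (252, 322), (257, 322), (245, 323), (250, 323), (252, 324), (257, 324), (250, 325), (257, 325), (245, 326), (252, 327), (245, 328), (250, 329), (257, 329), (245, 330), (245, 331), (252, 331), (257, 331), (245, 332), (245, 333), (252, 333), (257, 336), (245, 337), (245, 338), (250, 338), (245, 339), (257, 339), (245, 341), (252,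 342), (245, 343), (245, 344), (245, 345), (250, 346), (245, 347), (257, 347), (245, 349), (257, 349), (245, 351), (252, 351), (245, 352), (245, 353), (252, 354), (245, 357), (245, 322), (250, 322), (257, 322), (245, 367), (257, 367), (252, 368), (257, 368), (245, 370), (252, 370), (245, 372), (250, 372), (257, 372), (245, 373), (250, 374), (250, 376), (252, 376), (257, 377)]

/-- All tables. -/
def allT : List (List ℕ) := runT prog chainT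

/-- All permutations. -/
noncomputable def allP : List (Equiv.Perm GolayPt) := runP prog chainP

theorem all_match : List.Forall₂ Matches allP allT :=
  forall₂_runP_runT _ _ _ chain_match

theorem allP_mem_genH (k : ℕ) : allP.getD k 1 ∈ genH :=
  getD_mem_of_forall (runP_mem genH prog chainP
    (runP_mem genH chainProg gensP gensP_mem_genH)) k

/-- The `k`-th element of the program, in `M24`. -/
noncomputable def elt (k : ℕ) : ↥M24 := ⟨allP.getD k 1, genH_le_M24 (allP_mem_genH k)⟩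

theorem matchS_mk {H : Subgroup (Equiv.Perm GolayPt)} {σ : Equiv.Perm GolayPt} {t : List ℕ}
    (h : Matches σ t) (hσ : σ ∈ H) : MatchS (⟨σ, hσ⟩ : ↥H) t := h

theorem m_elt (k : ℕ) : MatchS (elt k) (allT.getD k idT) :=
  matchS_mk (forall₂_getD (R := Matches) all_match matches_one k) _

/-- Table of `n1`. -/
def n1T : List ℕ := [0, 1, 2, 3, 13, 5, 19, 21, 11, 15, 20, 8, 18, 4, 14, 9, 22, 17, 12, 6, 10, 7, 16, 23]

/-- Table of `n2`. -/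
def n2T : List ℕ := [0, 1, 2, 3, 16, 5, 21, 19, 12, 20, 15, 18, 8, 22, 14, 10, 4, 17, 11, 7, 9, 6, 13, 23]

/-- Table of `n3`. -/
def n3T : List ℕ := [0, 1, 2, 5, 4, 3, 21, 19, 11, 10, 9, 8, 18, 13, 17, 20, 16, 14, 12, 7, 15, 6, 22, 23]

/-- Table of `n4`. -/
def n4T : List ℕ := [0, 1, 2, 14, 4, 17, 7, 6, 12, 15, 20, 18, 8, 13, 3, 9, 16, 5, 11, 21, 10, 19, 22, 23]

/-- Table of `n5`. -/
def n5T : List ℕ := [23, 2, 1, 5, 4, 3, 19, 21, 8, 15, 20, 11, 12, 13, 17, 9, 16, 14, 18, 6, 10, 7, 22, 0]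

/-- Table of `n6`. -/
def n6T : List ℕ := [2, 23, 0, 14, 13, 17, 7, 6, 11, 10, 9, 8, 18, 4, 3, 20, 22, 5, 12, 21, 15, 19, 16, 1]

/-- Table of `y`. -/
def yT : List ℕ := [2, 0, 1, 11, 7, 18, 10, 20, 4, 14, 5, 13, 16, 6, 12, 17, 21, 8, 22, 15, 3, 9, 19, 23]

/-- Table of `s`. -/
def sT : List ℕ := [2, 1, 0, 3, 4, 17, 20, 10, 8, 21, 7, 18, 12, 22, 14, 19, 16, 5, 11, 15, 6, 9, 13, 23]

/-- Table of `t`. -/
def tT : List ℕ := [0, 1, 2, 10, 7, 15, 13, 4, 8, 14, 3, 11, 12, 6, 9, 5, 21, 20, 18, 22, 17, 16, 19, 23]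

/-- Table of `v`. -/
def vT : List ℕ := [11, 8, 18, 3, 4, 17, 19, 7, 1, 9, 10, 0, 23, 22, 14, 20, 16, 5, 2, 6, 15, 21, 13, 12]

/-- Table of `cs`. -/
def csT : List ℕ := [14, 1, 23, 12, 10, 16, 18, 22, 0, 9, 6, 5, 2, 19, 4, 20, 7, 8, 17, 13, 21, 11, 15, 3]

/-- Table of `ct`. -/
def ctT : List ℕ := [18, 0, 23, 6, 19, 13, 21, 16, 12, 17, 4, 11, 8, 22, 9, 7, 10, 14, 1, 15, 20, 5, 3, 2]

/-- Table of `cv`. -/
def cvT : List ℕ := [4, 7, 9, 23, 0, 15, 1, 19, 21, 2, 13, 14, 10, 17, 20, 18, 5, 12, 16, 6, 22, 8, 11, 3]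

/-- Table of `cu`. -/
def cuT : List ℕ := [9, 10, 21, 4, 11, 14, 5, 17, 8, 15, 20, 12, 23, 2, 3, 19, 18, 16, 1, 22, 6, 13, 0, 7]

/-- Table of `csv`. -/
def csvT : List ℕ := [0, 18, 12, 22, 9, 17, 6, 10, 5, 2, 1, 4, 13, 20, 16, 8, 19, 14, 3, 15, 11, 7, 21, 23]

/-- Table of `ctv`. -/
def ctvT : List ℕ := [7, 21, 16, 10, 17, 14, 1, 18, 11, 13, 19, 0, 23, 5, 9, 22, 20, 3, 12, 8, 6, 2, 15, 4]

/-- Table of `e5`. -/
def e5T : List ℕ := [0, 9, 3, 5, 11, 6, 18, 7, 8, 22, 17, 21, 4, 10, 19, 20, 12, 15, 2, 1, 13, 16, 14, 23]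

/-- Table of `e7`. -/
def e7T : List ℕ := [3, 1, 8, 11, 13, 15, 19, 5, 20, 12, 4, 22, 2, 0, 17, 16, 6, 9, 7, 18, 14, 21, 10, 23]

/-- Table of `e11`. -/
def e11T : List ℕ := [17, 8, 7, 20, 0, 13, 6, 14, 4, 2, 5, 16, 22, 3, 10, 11, 12, 15, 9, 1, 21, 18, 19, 23]

/-- Table of `e23`. -/
def e23T : List ℕ := [20, 14, 3, 0, 17, 18, 1, 21, 13, 22, 12, 10, 4, 7, 8, 5, 11, 15, 2, 6, 19, 9, 16, 23]

/-- Table of `a3`. -/
def a3T : List ℕ := [5, 17, 3, 13, 1, 22, 8, 18, 10, 21, 6, 15, 9, 2, 16, 19, 23, 4, 20, 11, 7, 12, 0, 14]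

/-- Table of `b3`. -/
def b3T : List ℕ := [5, 17, 3, 4, 2, 13, 15, 10, 6, 12, 18, 19, 21, 0, 16, 8, 23, 22, 7, 20, 11, 9, 1, 14]

/-- Table of `t3`. -/
def t3T : List ℕ := [5, 17, 3, 2, 4, 0, 8, 18, 6, 9, 10, 19, 21, 13, 23, 15, 16, 1, 7, 11, 20, 12, 22, 14]

theorem tbl_n1 : allT.getD 228 idT = n1T := by decide +kernel
theorem tbl_n2 : allT.getD 224 idT = n2T := by decide +kernel
theorem tbl_n3 : allT.getD 230 idT = n3T := by decide +kernel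
theorem tbl_n4 : allT.getD 232 idT = n4T := by decide +kernel
theorem tbl_n5 : allT.getD 236 idT = n5T := by decide +kernel
theorem tbl_n6 : allT.getD 241 idT = n6T := by decide +kernel
theorem tbl_y : allT.getD 245 idT = yT := by decide +kernel
theorem tbl_s : allT.getD 250 idT = sT := by decide +kernel
theorem tbl_t : allT.getD 252 idT = tT := by decide +kernel
theorem tbl_v : allT.getD 257 idT = vT := by decide +kernel
theorem tbl_cs : allT.getD 263 idT = csT := by decide +kernel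
theorem tbl_ct : allT.getD 268 idT = ctT := by decide +kernel
theorem tbl_cv : allT.getD 272 idT = cvT := by decide +kernel
theorem tbl_cu : allT.getD 277 idT = cuT := by decide +kernel
theorem tbl_csv : allT.getD 281 idT = csvT := by decide +kernel
theorem tbl_ctv : allT.getD 287 idT = ctvT := by decide +kernel
theorem tbl_e5 : allT.getD 291 idT = e5T := by decide +kernel
theorem tbl_e7 : allT.getD 295 idT = e7T := by decide +kernel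
theorem tbl_e11 : allT.getD 300 idT = e11T := by decide +kernel
theorem tbl_e23 : allT.getD 303 idT = e23T := by decide +kernel
theorem tbl_a3 : allT.getD 309 idT = a3T := by decide +kernel
theorem tbl_b3 : allT.getD 315 idT = b3T := by decide +kernel
theorem tbl_t3 : allT.getD 321 idT = t3T := by decide +kernel

/-- The element `n1` of `M24`. -/
noncomputable def n1 : ↥M24 := elt 228

theorem m_n1 : MatchS n1 n1T := by
  rw [← tbl_n1]; exact m_elt 228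

/-- The element `n2` of `M24`. -/
noncomputable def n2 : ↥M24 := elt 224

theorem m_n2 : MatchS n2 n2T := by
  rw [← tbl_n2]; exact m_elt 224

/-- The element `n3` of `M24`. -/
noncomputable def n3 : ↥M24 := elt 230

theorem m_n3 : MatchS n3 n3T := by
  rw [← tbl_n3]; exact m_elt 230

/-- The element `n4` of `M24`. -/
noncomputable def n4 : ↥M24 := elt 232

theorem m_n4 : MatchS n4 n4T := by
  rw [← tbl_n4]; exact m_elt 232

/-- The element `n5` of `M24`. -/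
noncomputable def n5 : ↥M24 := elt 236

theorem m_n5 : MatchS n5 n5T := by
  rw [← tbl_n5]; exact m_elt 236

/-- The element `n6` of `M24`. -/
noncomputable def n6 : ↥M24 := elt 241

theorem m_n6 : MatchS n6 n6T := by
  rw [← tbl_n6]; exact m_elt 241

/-- The element `y` of `M24`. -/
noncomputable def y : ↥M24 := elt 245

theorem m_y : MatchS y yT := by
  rw [← tbl_y]; exact m_elt 245

/-- The element `s` of `M24`. -/
noncomputable def s : ↥M24 := elt 250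

theorem m_s : MatchS s sT := by
  rw [← tbl_s]; exact m_elt 250

/-- The element `t` of `M24`. -/
noncomputable def t : ↥M24 := elt 252

theorem m_t : MatchS t tT := by
  rw [← tbl_t]; exact m_elt 252

/-- The element `v` of `M24`. -/
noncomputable def v : ↥M24 := elt 257

theorem m_v : MatchS v vT := by
  rw [← tbl_v]; exact m_elt 257

/-- The element `cs` of `M24`. -/
noncomputable def cs : ↥M24 := elt 263

theorem m_cs : MatchS cs csT := by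
  rw [← tbl_cs]; exact m_elt 263

/-- The element `ct` of `M24`. -/
noncomputable def ct : ↥M24 := elt 268

theorem m_ct : MatchS ct ctT := by
  rw [← tbl_ct]; exact m_elt 268

/-- The element `cv` of `M24`. -/
noncomputable def cv : ↥M24 := elt 272

theorem m_cv : MatchS cv cvT := by
  rw [← tbl_cv]; exact m_elt 272

/-- The element `cu` of `M24`. -/
noncomputable def cu : ↥M24 := elt 277

theorem m_cu : MatchS cu cuT := by
  rw [← tbl_cu]; exact m_elt 277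

/-- The element `csv` of `M24`. -/
noncomputable def csv : ↥M24 := elt 281

theorem m_csv : MatchS csv csvT := by
  rw [← tbl_csv]; exact m_elt 281

/-- The element `ctv` of `M24`. -/
noncomputable def ctv : ↥M24 := elt 287

theorem m_ctv : MatchS ctv ctvT := by
  rw [← tbl_ctv]; exact m_elt 287

/-- The element `e5` of `M24`. -/
noncomputable def e5 : ↥M24 := elt 291

theorem m_e5 : MatchS e5 e5T := by
  rw [← tbl_e5]; exact m_elt 291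

/-- The element `e7` of `M24`. -/
noncomputable def e7 : ↥M24 := elt 295

theorem m_e7 : MatchS e7 e7T := by
  rw [← tbl_e7]; exact m_elt 295

/-- The element `e11` of `M24`. -/
noncomputable def e11 : ↥M24 := elt 300

theorem m_e11 : MatchS e11 e11T := by
  rw [← tbl_e11]; exact m_elt 300

/-- The element `e23` of `M24`. -/
noncomputable def e23 : ↥M24 := elt 303

theorem m_e23 : MatchS e23 e23T := by
  rw [← tbl_e23]; exact m_elt 303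

/-- The element `a3` of `M24`. -/
noncomputable def a3 : ↥M24 := elt 309

theorem m_a3 : MatchS a3 a3T := by
  rw [← tbl_a3]; exact m_elt 309

/-- The element `b3` of `M24`. -/
noncomputable def b3 : ↥M24 := elt 315

theorem m_b3 : MatchS b3 b3T := by
  rw [← tbl_b3]; exact m_elt 315

/-- The element `t3` of `M24`. -/
noncomputable def t3 : ↥M24 := elt 321

theorem m_t3 : MatchS t3 t3T := by
  rw [← tbl_t3]; exact m_elt 321

/-- Indices of the conjugating elements. -/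
def conjIdx : List ℕ := [322, 323, 324, 325, 326, 327, 328, 329, 330, 331, 332, 333, 334, 335, 336, 337, 338, 339, 340, 341, 342, 343, 344, 345, 346, 347, 348, 349, 350, 351, 352, 353, 354, 355, 356, 357, 358, 359, 360, 361, 362, 363, 364, 365, 366, 367, 368, 369, 370, 371, 372, 373, 374, 375, 376, 377, 378, 379, 380, 381, 382, 383]

/-- Tables of the conjugating elements. -/
def conjL : List (List ℕ) := [
  [0, 1, 2, 3, 4, 5, 6, 7, 8, 9, 10, 11, 12, 13, 14, 15, 16, 17, 18, 19, 20, 21, 22, 23],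
  [2, 0, 1, 11, 7, 18, 10, 20, 4, 14, 5, 13, 16, 6, 12, 17, 21, 8, 22, 15, 3, 9, 19, 23],
  [2, 1, 0, 3, 4, 17, 20, 10, 8, 21, 7, 18, 12, 22, 14, 19, 16, 5, 11, 15, 6, 9, 13, 23],
  [0, 1, 2, 10, 7, 15, 13, 4, 8, 14, 3, 11, 12, 6, 9, 5, 21, 20, 18, 22, 17, 16, 19, 23],
  [11, 8, 18, 3, 4, 17, 19, 7, 1, 9, 10, 0, 23, 22, 14, 20, 16, 5, 2, 6, 15, 21, 13, 12],
  [1, 2, 0, 13, 20, 22, 5, 3, 7, 12, 18, 6, 21, 10, 16, 8, 9, 4, 19, 17, 11, 14, 15, 23],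
  [0, 2, 1, 18, 10, 11, 7, 6, 4, 14, 17, 22, 16, 20, 12, 5, 9, 8, 13, 19, 3, 21, 15, 23],
  [2, 1, 0, 10, 7, 20, 17, 3, 8, 16, 4, 18, 12, 19, 9, 22, 21, 15, 11, 5, 13, 14, 6, 23],
  [18, 8, 11, 3, 4, 5, 15, 10, 1, 21, 7, 2, 23, 13, 14, 6, 16, 17, 0, 20, 19, 9, 22, 12],
  [2, 1, 0, 7, 10, 19, 22, 4, 8, 14, 3, 18, 12, 20, 21, 17, 9, 6, 11, 13, 5, 16, 15, 23],
  [11, 8, 18, 10, 7, 20, 22, 4, 1, 14, 3, 0, 23, 19, 9, 17, 21, 15, 2, 13, 5, 16, 6, 12],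
  [13, 4, 22, 11, 7, 8, 15, 20, 0, 14, 5, 2, 23, 19, 12, 3, 21, 18, 1, 10, 17, 9, 6, 16],
  [1, 2, 0, 6, 17, 19, 15, 10, 4, 12, 18, 13, 16, 3, 21, 8, 14, 7, 22, 20, 11, 9, 5, 23],
  [2, 1, 0, 22, 5, 13, 20, 10, 7, 12, 8, 19, 21, 3, 16, 18, 14, 4, 6, 15, 11, 9, 17, 23],
  [0, 1, 2, 7, 10, 6, 5, 3, 8, 16, 4, 11, 12, 15, 21, 13, 9, 19, 18, 17, 22, 14, 20, 23],
  [18, 8, 11, 10, 7, 15, 5, 3, 1, 16, 4, 2, 23, 6, 9, 13, 21, 20, 0, 17, 22, 14, 19, 12],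
  [22, 4, 13, 11, 7, 18, 17, 5, 0, 9, 20, 1, 23, 6, 12, 10, 21, 8, 2, 3, 15, 14, 19, 16],
  [1, 0, 2, 20, 5, 15, 19, 7, 4, 12, 11, 22, 16, 3, 9, 8, 14, 10, 13, 6, 18, 21, 17, 23],
  [2, 1, 0, 4, 3, 22, 19, 7, 8, 9, 10, 18, 12, 17, 16, 20, 14, 13, 11, 6, 15, 21, 5, 23],
  [18, 8, 11, 7, 10, 6, 13, 4, 1, 14, 3, 2, 23, 15, 21, 5, 9, 19, 0, 22, 17, 16, 20, 12],
  [13, 4, 22, 5, 20, 3, 19, 7, 0, 12, 11, 2, 23, 15, 14, 8, 9, 17, 1, 6, 18, 21, 10, 16],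
  [6, 7, 19, 13, 20, 4, 17, 3, 2, 12, 18, 1, 23, 15, 16, 11, 9, 22, 0, 5, 8, 14, 10, 21],
  [6, 7, 19, 11, 4, 8, 5, 17, 0, 9, 15, 2, 23, 22, 12, 10, 16, 18, 1, 3, 20, 14, 13, 21],
  [11, 8, 18, 7, 10, 19, 17, 3, 1, 16, 4, 0, 23, 20, 21, 22, 9, 6, 2, 5, 13, 14, 15, 12],
  [22, 4, 13, 5, 20, 17, 18, 11, 0, 21, 7, 1, 23, 10, 14, 6, 9, 3, 2, 8, 19, 12, 15, 16],
  [19, 7, 6, 13, 20, 22, 8, 18, 2, 14, 3, 0, 23, 10, 16, 5, 9, 4, 1, 11, 17, 12, 15, 21],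
  [13, 4, 22, 18, 10, 11, 5, 17, 2, 21, 6, 1, 23, 20, 12, 7, 9, 8, 0, 3, 19, 14, 15, 16],
  [0, 2, 1, 3, 18, 17, 15, 20, 7, 16, 13, 19, 21, 11, 14, 4, 12, 5, 6, 10, 22, 9, 8, 23],
  [8, 11, 18, 15, 17, 20, 6, 7, 4, 23, 0, 13, 16, 3, 9, 1, 14, 10, 22, 19, 2, 21, 5, 12],
  [22, 4, 13, 20, 5, 10, 6, 7, 0, 12, 11, 1, 23, 17, 9, 18, 14, 15, 2, 19, 8, 21, 3, 16],
  [6, 7, 19, 15, 17, 10, 22, 4, 0, 12, 11, 2, 23, 5, 9, 8, 14, 20, 1, 13, 18, 16, 3, 21],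
  [10, 20, 15, 6, 3, 7, 8, 11, 1, 16, 22, 0, 23, 17, 21, 13, 14, 19, 2, 18, 4, 12, 5, 9],
  [10, 20, 15, 13, 7, 4, 18, 8, 2, 14, 17, 1, 23, 19, 16, 5, 21, 22, 0, 11, 3, 12, 6, 9],
  [13, 4, 22, 20, 5, 15, 8, 11, 0, 21, 7, 2, 23, 3, 9, 19, 14, 10, 1, 18, 6, 12, 17, 16],
  [13, 4, 22, 17, 6, 5, 11, 18, 2, 9, 10, 1, 23, 7, 14, 20, 21, 3, 0, 8, 15, 12, 19, 16],
  [15, 20, 10, 6, 3, 19, 4, 22, 1, 12, 11, 2, 23, 5, 21, 18, 14, 7, 0, 13, 8, 16, 17, 9],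
  [6, 7, 19, 22, 15, 13, 1, 2, 18, 14, 3, 11, 12, 10, 16, 17, 9, 4, 8, 0, 5, 23, 20, 21],
  [2, 1, 0, 11, 22, 8, 17, 3, 20, 21, 6, 15, 9, 13, 12, 7, 16, 18, 10, 5, 19, 14, 4, 23],
  [11, 18, 8, 3, 2, 5, 20, 15, 7, 16, 22, 6, 21, 0, 14, 4, 23, 17, 19, 10, 13, 9, 1, 12],
  [19, 7, 6, 3, 18, 5, 10, 20, 2, 16, 13, 0, 23, 8, 14, 22, 12, 17, 1, 15, 4, 9, 11, 21],
  [19, 7, 6, 17, 15, 3, 13, 4, 0, 12, 11, 1, 23, 20, 14, 18, 9, 5, 2, 22, 8, 16, 10, 21],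
  [10, 20, 15, 17, 8, 5, 19, 7, 2, 16, 13, 1, 23, 18, 14, 4, 12, 3, 0, 6, 22, 21, 11, 9],
  [5, 3, 17, 10, 11, 20, 4, 13, 0, 21, 19, 2, 23, 8, 9, 6, 12, 15, 1, 22, 7, 16, 18, 14],
  [3, 17, 5, 6, 4, 7, 18, 8, 2, 9, 20, 1, 23, 22, 21, 15, 16, 19, 0, 11, 10, 12, 13, 14],
  [17, 3, 5, 10, 11, 15, 7, 19, 0, 16, 13, 1, 23, 18, 9, 22, 12, 20, 2, 6, 4, 21, 8, 14],
  [2, 0, 1, 11, 7, 18, 10, 20, 4, 14, 5, 13, 16, 6, 12, 17, 21, 8, 22, 15, 3, 9, 19, 23],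
  [2, 1, 0, 3, 4, 17, 20, 10, 8, 21, 7, 18, 12, 22, 14, 19, 16, 5, 11, 15, 6, 9, 13, 23],
  [11, 8, 18, 3, 4, 17, 19, 7, 1, 9, 10, 0, 23, 22, 14, 20, 16, 5, 2, 6, 15, 21, 13, 12],
  [1, 2, 0, 13, 20, 22, 5, 3, 7, 12, 18, 6, 21, 10, 16, 8, 9, 4, 19, 17, 11, 14, 15, 23],
  [18, 11, 8, 0, 7, 2, 10, 15, 4, 14, 17, 22, 16, 19, 23, 5, 21, 1, 13, 20, 3, 9, 6, 12],
  [2, 1, 0, 10, 7, 20, 17, 3, 8, 16, 4, 18, 12, 19, 9, 22, 21, 15, 11, 5, 13, 14, 6, 23],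
  [18, 8, 11, 3, 4, 5, 15, 10, 1, 21, 7, 2, 23, 13, 14, 6, 16, 17, 0, 20, 19, 9, 22, 12],
  [0, 1, 2, 6, 3, 19, 18, 11, 20, 16, 22, 10, 9, 5, 21, 4, 14, 7, 15, 8, 13, 12, 17, 23],
  [1, 2, 0, 6, 17, 19, 15, 10, 4, 12, 18, 13, 16, 3, 21, 8, 14, 7, 22, 20, 11, 9, 5, 23],
  [1, 0, 2, 5, 20, 3, 8, 11, 4, 21, 7, 22, 16, 15, 14, 19, 9, 17, 13, 18, 6, 12, 10, 23],
  [0, 1, 2, 7, 10, 6, 5, 3, 8, 16, 4, 11, 12, 15, 21, 13, 9, 19, 18, 17, 22, 14, 20, 23],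
  [18, 8, 11, 10, 7, 15, 5, 3, 1, 16, 4, 2, 23, 6, 9, 13, 21, 20, 0, 17, 22, 14, 19, 12],
  [22, 4, 13, 11, 7, 18, 17, 5, 0, 9, 20, 1, 23, 6, 12, 10, 21, 8, 2, 3, 15, 14, 19, 16],
  [2, 1, 0, 20, 3, 15, 11, 18, 6, 16, 13, 7, 21, 17, 9, 4, 14, 10, 19, 8, 22, 12, 5, 23],
  [1, 2, 0, 17, 6, 3, 8, 18, 4, 9, 10, 13, 16, 19, 14, 15, 21, 5, 22, 11, 20, 12, 7, 23],
  [1, 0, 2, 15, 17, 10, 8, 11, 7, 16, 4, 19, 21, 5, 9, 22, 14, 20, 6, 18, 13, 12, 3, 23],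
  [11, 8, 18, 7, 10, 19, 17, 3, 1, 16, 4, 0, 23, 20, 21, 22, 9, 6, 2, 5, 13, 14, 15, 12]]

theorem conjL_eq : conjIdx.map (fun k => allT.getD k idT) = conjL := by decide +kernel

/-- Table of `y ^ 5`. -/
def zT : List ℕ := [1, 2, 0, 5, 13, 17, 19, 6, 11, 9, 15, 18, 12, 22, 14, 20, 16, 3, 8, 7, 10, 21, 4, 23]

/-- Table of `(s t)²`. -/
def uT : List ℕ := [0, 1, 2, 4, 3, 13, 15, 10, 8, 21, 7, 11, 12, 5, 16, 6, 14, 22, 18, 20, 19, 9, 17, 23]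

/-- Tables of the 16 words in `(st)², s, t, v`. -/
def DL : List (List ℕ) := [
  [0, 1, 2, 3, 4, 5, 6, 7, 8, 9, 10, 11, 12, 13, 14, 15, 16, 17, 18, 19, 20, 21, 22, 23],
  [0, 1, 2, 4, 3, 13, 15, 10, 8, 21, 7, 11, 12, 5, 16, 6, 14, 22, 18, 20, 19, 9, 17, 23],
  [2, 1, 0, 3, 4, 17, 20, 10, 8, 21, 7, 18, 12, 22, 14, 19, 16, 5, 11, 15, 6, 9, 13, 23],
  [2, 1, 0, 4, 3, 22, 19, 7, 8, 9, 10, 18, 12, 17, 16, 20, 14, 13, 11, 6, 15, 21, 5, 23],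
  [0, 1, 2, 10, 7, 15, 13, 4, 8, 14, 3, 11, 12, 6, 9, 5, 21, 20, 18, 22, 17, 16, 19, 23],
  [0, 1, 2, 7, 10, 6, 5, 3, 8, 16, 4, 11, 12, 15, 21, 13, 9, 19, 18, 17, 22, 14, 20, 23],
  [2, 1, 0, 10, 7, 20, 17, 3, 8, 16, 4, 18, 12, 19, 9, 22, 21, 15, 11, 5, 13, 14, 6, 23],
  [2, 1, 0, 7, 10, 19, 22, 4, 8, 14, 3, 18, 12, 20, 21, 17, 9, 6, 11, 13, 5, 16, 15, 23],
  [11, 8, 18, 3, 4, 17, 19, 7, 1, 9, 10, 0, 23, 22, 14, 20, 16, 5, 2, 6, 15, 21, 13, 12],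
  [11, 8, 18, 4, 3, 22, 20, 10, 1, 21, 7, 0, 23, 17, 16, 19, 14, 13, 2, 15, 6, 9, 5, 12],
  [18, 8, 11, 3, 4, 5, 15, 10, 1, 21, 7, 2, 23, 13, 14, 6, 16, 17, 0, 20, 19, 9, 22, 12],
  [18, 8, 11, 4, 3, 13, 6, 7, 1, 9, 10, 2, 23, 5, 16, 15, 14, 22, 0, 19, 20, 21, 17, 12],
  [11, 8, 18, 10, 7, 20, 22, 4, 1, 14, 3, 0, 23, 19, 9, 17, 21, 15, 2, 13, 5, 16, 6, 12],
  [11, 8, 18, 7, 10, 19, 17, 3, 1, 16, 4, 0, 23, 20, 21, 22, 9, 6, 2, 5, 13, 14, 15, 12],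
  [18, 8, 11, 10, 7, 15, 5, 3, 1, 16, 4, 2, 23, 6, 9, 13, 21, 20, 0, 17, 22, 14, 19, 12],
  [18, 8, 11, 7, 10, 6, 13, 4, 1, 14, 3, 2, 23, 15, 21, 5, 9, 19, 0, 22, 17, 16, 20, 12]]

/-- Tables of the 64 words in `n1, …, n6`. -/
def NL : List (List ℕ) := [
  [0, 1, 2, 3, 4, 5, 6, 7, 8, 9, 10, 11, 12, 13, 14, 15, 16, 17, 18, 19, 20, 21, 22, 23],
  [0, 1, 2, 3, 13, 5, 19, 21, 11, 15, 20, 8, 18, 4, 14, 9, 22, 17, 12, 6, 10, 7, 16, 23],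
  [0, 1, 2, 3, 16, 5, 21, 19, 12, 20, 15, 18, 8, 22, 14, 10, 4, 17, 11, 7, 9, 6, 13, 23],
  [0, 1, 2, 3, 22, 5, 7, 6, 18, 10, 9, 12, 11, 16, 14, 20, 13, 17, 8, 21, 15, 19, 4, 23],
  [0, 1, 2, 5, 4, 3, 21, 19, 11, 10, 9, 8, 18, 13, 17, 20, 16, 14, 12, 7, 15, 6, 22, 23],
  [0, 1, 2, 5, 13, 3, 7, 6, 8, 20, 15, 11, 12, 4, 17, 10, 22, 14, 18, 21, 9, 19, 16, 23],
  [0, 1, 2, 5, 16, 3, 6, 7, 18, 15, 20, 12, 11, 22, 17, 9, 4, 14, 8, 19, 10, 21, 13, 23],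
  [0, 1, 2, 5, 22, 3, 19, 21, 12, 9, 10, 18, 8, 16, 17, 15, 13, 14, 11, 6, 20, 7, 4, 23],
  [0, 1, 2, 14, 4, 17, 7, 6, 12, 15, 20, 18, 8, 13, 3, 9, 16, 5, 11, 21, 10, 19, 22, 23],
  [0, 1, 2, 14, 13, 17, 21, 19, 18, 9, 10, 12, 11, 4, 3, 15, 22, 5, 8, 7, 20, 6, 16, 23],
  [0, 1, 2, 14, 16, 17, 19, 21, 8, 10, 9, 11, 12, 22, 3, 20, 4, 5, 18, 6, 15, 7, 13, 23],
  [0, 1, 2, 14, 22, 17, 6, 7, 11, 20, 15, 8, 18, 16, 3, 10, 13, 5, 12, 19, 9, 21, 4, 23],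
  [0, 1, 2, 17, 4, 14, 19, 21, 18, 20, 15, 12, 11, 13, 5, 10, 16, 3, 8, 6, 9, 7, 22, 23],
  [0, 1, 2, 17, 13, 14, 6, 7, 12, 10, 9, 18, 8, 4, 5, 20, 22, 3, 11, 19, 15, 21, 16, 23],
  [0, 1, 2, 17, 16, 14, 7, 6, 11, 9, 10, 8, 18, 22, 5, 15, 4, 3, 12, 21, 20, 19, 13, 23],
  [0, 1, 2, 17, 22, 14, 21, 19, 8, 15, 20, 11, 12, 16, 5, 9, 13, 3, 18, 7, 10, 6, 4, 23],
  [23, 2, 1, 5, 4, 3, 19, 21, 8, 15, 20, 11, 12, 13, 17, 9, 16, 14, 18, 6, 10, 7, 22, 0],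
  [23, 2, 1, 5, 13, 3, 6, 7, 11, 9, 10, 8, 18, 4, 17, 15, 22, 14, 12, 19, 20, 21, 16, 0],
  [23, 2, 1, 5, 16, 3, 7, 6, 12, 10, 9, 18, 8, 22, 17, 20, 4, 14, 11, 21, 15, 19, 13, 0],
  [23, 2, 1, 5, 22, 3, 21, 19, 18, 20, 15, 12, 11, 16, 17, 10, 13, 14, 8, 7, 9, 6, 4, 0],
  [23, 2, 1, 3, 4, 5, 7, 6, 11, 20, 15, 8, 18, 13, 14, 10, 16, 17, 12, 21, 9, 19, 22, 0],
  [23, 2, 1, 3, 13, 5, 21, 19, 8, 10, 9, 11, 12, 4, 14, 20, 22, 17, 18, 7, 15, 6, 16, 0],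
  [23, 2, 1, 3, 16, 5, 19, 21, 18, 9, 10, 12, 11, 22, 14, 15, 4, 17, 8, 6, 20, 7, 13, 0],
  [23, 2, 1, 3, 22, 5, 6, 7, 12, 15, 20, 18, 8, 16, 14, 9, 13, 17, 11, 19, 10, 21, 4, 0],
  [23, 2, 1, 17, 4, 14, 21, 19, 12, 9, 10, 18, 8, 13, 5, 15, 16, 3, 11, 7, 20, 6, 22, 0],
  [23, 2, 1, 17, 13, 14, 7, 6, 18, 15, 20, 12, 11, 4, 5, 9, 22, 3, 8, 21, 10, 19, 16, 0],
  [23, 2, 1, 17, 16, 14, 6, 7, 8, 20, 15, 11, 12, 22, 5, 10, 4, 3, 18, 19, 9, 21, 13, 0],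
  [23, 2, 1, 17, 22, 14, 19, 21, 11, 10, 9, 8, 18, 16, 5, 20, 13, 3, 12, 6, 15, 7, 4, 0],
  [23, 2, 1, 14, 4, 17, 6, 7, 18, 10, 9, 12, 11, 13, 3, 20, 16, 5, 8, 19, 15, 21, 22, 0],
  [23, 2, 1, 14, 13, 17, 19, 21, 12, 20, 15, 18, 8, 4, 3, 10, 22, 5, 11, 6, 9, 7, 16, 0],
  [23, 2, 1, 14, 16, 17, 21, 19, 11, 15, 20, 8, 18, 22, 3, 9, 4, 5, 12, 7, 10, 6, 13, 0],
  [23, 2, 1, 14, 22, 17, 7, 6, 8, 9, 10, 11, 12, 16, 3, 15, 13, 5, 18, 21, 20, 19, 4, 0],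
  [2, 23, 0, 14, 13, 17, 7, 6, 11, 10, 9, 8, 18, 4, 3, 20, 22, 5, 12, 21, 15, 19, 16, 1],
  [2, 23, 0, 14, 4, 17, 21, 19, 8, 20, 15, 11, 12, 13, 3, 10, 16, 5, 18, 7, 9, 6, 22, 1],
  [2, 23, 0, 14, 22, 17, 19, 21, 18, 15, 20, 12, 11, 16, 3, 9, 13, 5, 8, 6, 10, 7, 4, 1],
  [2, 23, 0, 14, 16, 17, 6, 7, 12, 9, 10, 18, 8, 22, 3, 15, 4, 5, 11, 19, 20, 21, 13, 1],
  [2, 23, 0, 17, 13, 14, 19, 21, 8, 9, 10, 11, 12, 4, 5, 15, 22, 3, 18, 6, 20, 7, 16, 1],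
  [2, 23, 0, 17, 4, 14, 6, 7, 11, 15, 20, 8, 18, 13, 5, 9, 16, 3, 12, 19, 10, 21, 22, 1],
  [2, 23, 0, 17, 22, 14, 7, 6, 12, 20, 15, 18, 8, 16, 5, 10, 13, 3, 11, 21, 9, 19, 4, 1],
  [2, 23, 0, 17, 16, 14, 21, 19, 18, 10, 9, 12, 11, 22, 5, 20, 4, 3, 8, 7, 15, 6, 13, 1],
  [2, 23, 0, 3, 13, 5, 6, 7, 18, 20, 15, 12, 11, 4, 14, 10, 22, 17, 8, 19, 9, 21, 16, 1],
  [2, 23, 0, 3, 4, 5, 19, 21, 12, 10, 9, 18, 8, 13, 14, 20, 16, 17, 11, 6, 15, 7, 22, 1],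
  [2, 23, 0, 3, 22, 5, 21, 19, 11, 9, 10, 8, 18, 16, 14, 15, 13, 17, 12, 7, 20, 6, 4, 1],
  [2, 23, 0, 3, 16, 5, 7, 6, 8, 15, 20, 11, 12, 22, 14, 9, 4, 17, 18, 21, 10, 19, 13, 1],
  [2, 23, 0, 5, 13, 3, 21, 19, 12, 15, 20, 18, 8, 4, 17, 9, 22, 14, 11, 7, 10, 6, 16, 1],
  [2, 23, 0, 5, 4, 3, 7, 6, 18, 9, 10, 12, 11, 13, 17, 15, 16, 14, 8, 21, 20, 19, 22, 1],
  [2, 23, 0, 5, 22, 3, 6, 7, 8, 10, 9, 11, 12, 16, 17, 20, 13, 14, 18, 19, 15, 21, 4, 1],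
  [2, 23, 0, 5, 16, 3, 19, 21, 11, 20, 15, 8, 18, 22, 17, 10, 4, 14, 12, 6, 9, 7, 13, 1],
  [1, 0, 23, 17, 13, 14, 21, 19, 11, 20, 15, 8, 18, 4, 5, 10, 22, 3, 12, 7, 9, 6, 16, 2],
  [1, 0, 23, 17, 4, 14, 7, 6, 8, 10, 9, 11, 12, 13, 5, 20, 16, 3, 18, 21, 15, 19, 22, 2],
  [1, 0, 23, 17, 22, 14, 6, 7, 18, 9, 10, 12, 11, 16, 5, 15, 13, 3, 8, 19, 20, 21, 4, 2],
  [1, 0, 23, 17, 16, 14, 19, 21, 12, 15, 20, 18, 8, 22, 5, 9, 4, 3, 11, 6, 10, 7, 13, 2],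
  [1, 0, 23, 14, 13, 17, 6, 7, 8, 15, 20, 11, 12, 4, 3, 9, 22, 5, 18, 19, 10, 21, 16, 2],
  [1, 0, 23, 14, 4, 17, 19, 21, 11, 9, 10, 8, 18, 13, 3, 15, 16, 5, 12, 6, 20, 7, 22, 2],
  [1, 0, 23, 14, 22, 17, 21, 19, 12, 10, 9, 18, 8, 16, 3, 20, 13, 5, 11, 7, 15, 6, 4, 2],
  [1, 0, 23, 14, 16, 17, 7, 6, 18, 20, 15, 12, 11, 22, 3, 10, 4, 5, 8, 21, 9, 19, 13, 2],
  [1, 0, 23, 5, 13, 3, 19, 21, 18, 10, 9, 12, 11, 4, 17, 20, 22, 14, 8, 6, 15, 7, 16, 2],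
  [1, 0, 23, 5, 4, 3, 6, 7, 12, 20, 15, 18, 8, 13, 17, 10, 16, 14, 11, 19, 9, 21, 22, 2],
  [1, 0, 23, 5, 22, 3, 7, 6, 11, 15, 20, 8, 18, 16, 17, 9, 13, 14, 12, 21, 10, 19, 4, 2],
  [1, 0, 23, 5, 16, 3, 21, 19, 8, 9, 10, 11, 12, 22, 17, 15, 4, 14, 18, 7, 20, 6, 13, 2],
  [1, 0, 23, 3, 13, 5, 7, 6, 12, 9, 10, 18, 8, 4, 14, 15, 22, 17, 11, 21, 20, 19, 16, 2],
  [1, 0, 23, 3, 4, 5, 21, 19, 18, 15, 20, 12, 11, 13, 14, 9, 16, 17, 8, 7, 10, 6, 22, 2],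
  [1, 0, 23, 3, 22, 5, 19, 21, 8, 20, 15, 11, 12, 16, 14, 10, 13, 17, 18, 6, 9, 7, 4, 2],
  [1, 0, 23, 3, 16, 5, 6, 7, 11, 10, 9, 8, 18, 22, 14, 20, 4, 17, 12, 19, 15, 21, 13, 2]]

/-- Pairs of indices in `DL` and `NL`, sorted by the codes of the products. -/
def pairs1024 : List (ℕ × ℕ) := [(2, 61), (2, 62), (2, 63), (2, 60), (3, 61), (3, 62), (3, 63), (3, 60), (2, 49), (2, 50), (2, 51), (2, 48), (7, 51), (7, 49), (7, 50), (7, 48), (7, 63), (7, 61), (7, 62), (7, 60), (6, 54), (6, 53), (6, 52), (6, 55), (6, 62), (6, 61), (6, 60), (6, 63), (3, 49), (3, 50), (3, 51), (3, 48), (2, 53), (2, 54), (2, 55), (2, 52), (6, 50), (6, 49), (6, 48), (6, 51), (3, 53), (3, 54), (3, 55), (3, 52), (2, 57), (2, 58), (2, 59), (2, 56), (7, 59), (7, 57), (7, 58), (7, 56), (6, 58), (6, 57), (6, 56), (6, 59), (7, 55), (7, 53), (7, 54), (7, 52), (3, 57), (3, 58), (3, 59), (3,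 56), (0, 20), (0, 21), (0, 22), (0, 23), (1, 20), (1, 21), (1, 22), (1, 23), (0, 16), (0, 17), (0, 18), (0, 19), (5, 18), (5, 16), (5, 17), (5, 19), (5, 22), (5, 20), (5, 21), (5, 23), (4, 29), (4, 28), (4, 31), (4, 30), (4, 21), (4, 20), (4, 23), (4, 22), (1, 16), (1, 17), (1, 18), (1, 19), (0, 28), (0, 29), (0, 30), (0, 31), (4, 17), (4, 16), (4, 19), (4, 18), (1, 28), (1, 29), (1, 30), (1, 31), (0, 24), (0, 25), (0, 26), (0, 27), (5, 26), (5, 24), (5, 25), (5, 27), (4, 25), (4, 24), (4, 27), (4, 26), (5, 30), (5, 28), (5, 29), (5, 31), (1, 24), (1, 25), (1, 26), (1, 27), (2, 41), (2, 42), (2, 43), (2, 40), (3, 41), (3, 42), (3, 43), (3, 40), (2, 37), (2, 38), (2, 39), (2, 36), (7, 39), (7, 37), (7, 38), (7, 36), (7, 43), (7, 41), (7, 42), (7, 40), (6, 34), (6, 33), (6, 32), (6, 35), (6, 42), (6, 41), (6, 40), (6, 43), (3, 37), (3, 38), (3, 39), (3,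 36), (2, 33), (2, 34), (2, 35), (2, 32), (6, 38), (6, 37), (6, 36), (6, 39), (3, 33), (3, 34), (3, 35), (3, 32), (2, 45), (2, 46), (2, 47), (2, 44), (7, 47), (7, 45), (7, 46), (7, 44), (6, 46), (6, 45), (6, 44), (6, 47), (7, 35), (7, 33), (7, 34), (7, 32), (3, 45), (3, 46), (3, 47), (3, 44), (0, 41), (0, 40), (0, 43), (0, 42), (1, 41), (1, 40), (1, 43), (1, 42), (0, 45), (0, 44), (0, 47), (0, 46), (5, 47), (5, 45), (5, 44), (5, 46), (5, 43), (5, 41), (5, 40), (5, 42), (4, 32), (4, 33), (4, 34), (4, 35), (4, 40), (4, 41), (4, 42), (4, 43), (1, 45), (1, 44), (1, 47), (1, 46), (0, 33), (0, 32), (0, 35), (0, 34), (4, 44), (4, 45), (4, 46), (4, 47), (1, 33), (1, 32), (1, 35), (1, 34), (0, 37), (0, 36), (0, 39), (0, 38), (5, 39), (5, 37), (5, 36), (5, 38), (4, 36), (4, 37), (4, 38), (4, 39), (5, 35), (5, 33), (5, 32), (5, 34), (1, 37), (1, 36), (1, 39), (1,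 38), (0, 61), (0, 60), (0, 63), (0, 62), (1, 61), (1, 60), (1, 63), (1, 62), (0, 57), (0, 56), (0, 59), (0, 58), (5, 59), (5, 57), (5, 56), (5, 58), (5, 63), (5, 61), (5, 60), (5, 62), (4, 52), (4, 53), (4, 54), (4, 55), (4, 60), (4, 61), (4, 62), (4, 63), (1, 57), (1, 56), (1, 59), (1, 58), (0, 53), (0, 52), (0, 55), (0, 54), (4, 56), (4, 57), (4, 58), (4, 59), (1, 53), (1, 52), (1, 55), (1, 54), (0, 49), (0, 48), (0, 51), (0, 50), (5, 51), (5, 49), (5, 48), (5, 50), (4, 48), (4, 49), (4, 50), (4, 51), (5, 55), (5, 53), (5, 52), (5, 54), (1, 49), (1, 48), (1, 51), (1, 50), (2, 20), (2, 23), (2, 22), (2, 21), (3, 20), (3, 23), (3, 22), (3, 21), (2, 24), (2, 27), (2, 26), (2, 25), (7, 26), (7, 24), (7, 27), (7, 25), (7, 22), (7, 20), (7, 23), (7, 21), (6, 31), (6, 28), (6, 29), (6, 30), (6, 23), (6, 20), (6, 21), (6, 22), (3, 24), (3, 27), (3, 26), (3,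 25), (2, 28), (2, 31), (2, 30), (2, 29), (6, 27), (6, 24), (6, 25), (6, 26), (3, 28), (3, 31), (3, 30), (3, 29), (2, 16), (2, 19), (2, 18), (2, 17), (7, 18), (7, 16), (7, 19), (7, 17), (6, 19), (6, 16), (6, 17), (6, 18), (7, 30), (7, 28), (7, 31), (7, 29), (3, 16), (3, 19), (3, 18), (3, 17), (10, 41), (10, 40), (10, 43), (10, 42), (11, 41), (11, 40), (11, 43), (11, 42), (10, 45), (10, 44), (10, 47), (10, 46), (15, 47), (15, 45), (15, 44), (15, 46), (15, 43), (15, 41), (15, 40), (15, 42), (14, 32), (14, 33), (14, 34), (14, 35), (14, 40), (14, 41), (14, 42), (14, 43), (11, 45), (11, 44), (11, 47), (11, 46), (10, 33), (10, 32), (10, 35), (10, 34), (14, 44), (14, 45), (14, 46), (14, 47), (11, 33), (11, 32), (11, 35), (11, 34), (10, 37), (10, 36), (10, 39), (10, 38), (15, 39), (15, 37), (15, 36), (15, 38), (14, 36), (14, 37), (14, 38), (14, 39), (15, 35), (15,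 33), (15, 32), (15, 34), (11, 37), (11, 36), (11, 39), (11, 38), (8, 41), (8, 42), (8, 43), (8, 40), (9, 41), (9, 42), (9, 43), (9, 40), (8, 37), (8, 38), (8, 39), (8, 36), (13, 39), (13, 37), (13, 38), (13, 36), (13, 43), (13, 41), (13, 42), (13, 40), (12, 34), (12, 33), (12, 32), (12, 35), (12, 42), (12, 41), (12, 40), (12, 43), (9, 37), (9, 38), (9, 39), (9, 36), (8, 33), (8, 34), (8, 35), (8, 32), (12, 38), (12, 37), (12, 36), (12, 39), (9, 33), (9, 34), (9, 35), (9, 32), (8, 45), (8, 46), (8, 47), (8, 44), (13, 47), (13, 45), (13, 46), (13, 44), (12, 46), (12, 45), (12, 44), (12, 47), (13, 35), (13, 33), (13, 34), (13, 32), (9, 45), (9, 46), (9, 47), (9, 44), (10, 61), (10, 60), (10, 63), (10, 62), (11, 61), (11, 60), (11, 63), (11, 62), (10, 57), (10, 56), (10, 59), (10, 58), (15, 59), (15, 57), (15, 56), (15, 58), (15, 63), (15, 61), (15, 60), (15,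 62), (14, 52), (14, 53), (14, 54), (14, 55), (14, 60), (14, 61), (14, 62), (14, 63), (11, 57), (11, 56), (11, 59), (11, 58), (10, 53), (10, 52), (10, 55), (10, 54), (14, 56), (14, 57), (14, 58), (14, 59), (11, 53), (11, 52), (11, 55), (11, 54), (10, 49), (10, 48), (10, 51), (10, 50), (15, 51), (15, 49), (15, 48), (15, 50), (14, 48), (14, 49), (14, 50), (14, 51), (15, 55), (15, 53), (15, 52), (15, 54), (11, 49), (11, 48), (11, 51), (11, 50), (8, 20), (8, 23), (8, 22), (8, 21), (9, 20), (9, 23), (9, 22), (9, 21), (8, 24), (8, 27), (8, 26), (8, 25), (13, 26), (13, 24), (13, 27), (13, 25), (13, 22), (13, 20), (13, 23), (13, 21), (12, 31), (12, 28), (12, 29), (12, 30), (12, 23), (12, 20), (12, 21), (12, 22), (9, 24), (9, 27), (9, 26), (9, 25), (8, 28), (8, 31), (8, 30), (8, 29), (12, 27), (12, 24), (12, 25), (12, 26), (9, 28), (9, 31), (9, 30), (9, 29), (8,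 16), (8, 19), (8, 18), (8, 17), (13, 18), (13, 16), (13, 19), (13, 17), (12, 19), (12, 16), (12, 17), (12, 18), (13, 30), (13, 28), (13, 31), (13, 29), (9, 16), (9, 19), (9, 18), (9, 17), (8, 0), (8, 3), (8, 2), (8, 1), (9, 0), (9, 3), (9, 2), (9, 1), (8, 12), (8, 15), (8, 14), (8, 13), (13, 14), (13, 12), (13, 15), (13, 13), (13, 2), (13, 0), (13, 3), (13, 1), (12, 11), (12, 8), (12, 9), (12, 10), (12, 3), (12, 0), (12, 1), (12, 2), (9, 12), (9, 15), (9, 14), (9, 13), (8, 8), (8, 11), (8, 10), (8, 9), (12, 15), (12, 12), (12, 13), (12, 14), (9, 8), (9, 11), (9, 10), (9, 9), (8, 4), (8, 7), (8, 6), (8, 5), (13, 6), (13, 4), (13, 7), (13, 5), (12, 7), (12, 4), (12, 5), (12, 6), (13, 10), (13, 8), (13, 11), (13, 9), (9, 4), (9, 7), (9, 6), (9, 5), (10, 0), (10, 1), (10, 2), (10, 3), (11, 0), (11, 1), (11, 2), (11, 3), (10, 4), (10, 5), (10, 6), (10, 7),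 (15, 6), (15, 4), (15, 5), (15, 7), (15, 2), (15, 0), (15, 1), (15, 3), (14, 9), (14, 8), (14, 11), (14, 10), (14, 1), (14, 0), (14, 3), (14, 2), (11, 4), (11, 5), (11, 6), (11, 7), (10, 8), (10, 9), (10, 10), (10, 11), (14, 5), (14, 4), (14, 7), (14, 6), (11, 8), (11, 9), (11, 10), (11, 11), (10, 12), (10, 13), (10, 14), (10, 15), (15, 14), (15, 12), (15, 13), (15, 15), (14, 13), (14, 12), (14, 15), (14, 14), (15, 10), (15, 8), (15, 9), (15, 11), (11, 12), (11, 13), (11, 14), (11, 15), (8, 61), (8, 62), (8, 63), (8, 60), (9, 61), (9, 62), (9, 63), (9, 60), (8, 49), (8, 50), (8, 51), (8, 48), (13, 51), (13, 49), (13, 50), (13, 48), (13, 63), (13, 61), (13, 62), (13, 60), (12, 54), (12, 53), (12, 52), (12, 55), (12, 62), (12, 61), (12, 60), (12, 63), (9, 49), (9, 50), (9, 51), (9, 48), (8, 53), (8, 54), (8, 55), (8, 52), (12, 50), (12, 49), (12, 48), (12,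 51), (9, 53), (9, 54), (9, 55), (9, 52), (8, 57), (8, 58), (8, 59), (8, 56), (13, 59), (13, 57), (13, 58), (13, 56), (12, 58), (12, 57), (12, 56), (12, 59), (13, 55), (13, 53), (13, 54), (13, 52), (9, 57), (9, 58), (9, 59), (9, 56), (10, 20), (10, 21), (10, 22), (10, 23), (11, 20), (11, 21), (11, 22), (11, 23), (10, 16), (10, 17), (10, 18), (10, 19), (15, 18), (15, 16), (15, 17), (15, 19), (15, 22), (15, 20), (15, 21), (15, 23), (14, 29), (14, 28), (14, 31), (14, 30), (14, 21), (14, 20), (14, 23), (14, 22), (11, 16), (11, 17), (11, 18), (11, 19), (10, 28), (10, 29), (10, 30), (10, 31), (14, 17), (14, 16), (14, 19), (14, 18), (11, 28), (11, 29), (11, 30), (11, 31), (10, 24), (10, 25), (10, 26), (10, 27), (15, 26), (15, 24), (15, 25), (15, 27), (14, 25), (14, 24), (14, 27), (14, 26), (15, 30), (15, 28), (15, 29), (15, 31), (11, 24), (11, 25), (11, 26), (11,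 27), (0, 0), (0, 1), (0, 2), (0, 3), (1, 0), (1, 1), (1, 2), (1, 3), (0, 4), (0, 5), (0, 6), (0, 7), (5, 6), (5, 4), (5, 5), (5, 7), (5, 2), (5, 0), (5, 1), (5, 3), (4, 9), (4, 8), (4, 11), (4, 10), (4, 1), (4, 0), (4, 3), (4, 2), (1, 4), (1, 5), (1, 6), (1, 7), (0, 8), (0, 9), (0, 10), (0, 11), (4, 5), (4, 4), (4, 7), (4, 6), (1, 8), (1, 9), (1, 10), (1, 11), (0, 12), (0, 13), (0, 14), (0, 15), (5, 14), (5, 12), (5, 13), (5, 15), (4, 13), (4, 12), (4, 15), (4, 14), (5, 10), (5, 8), (5, 9), (5, 11), (1, 12), (1, 13), (1, 14), (1, 15), (2, 0), (2, 3), (2, 2), (2, 1), (3, 0), (3, 3), (3, 2), (3, 1), (2, 12), (2, 15), (2, 14), (2, 13), (7, 14), (7, 12), (7, 15), (7, 13), (7, 2), (7, 0), (7, 3), (7, 1), (6, 11), (6, 8), (6, 9), (6, 10), (6, 3), (6, 0), (6, 1), (6, 2), (3, 12), (3, 15), (3, 14), (3, 13), (2, 8), (2, 11), (2, 10), (2, 9), (6, 15), (6, 12), (6,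 13), (6, 14), (3, 8), (3, 11), (3, 10), (3, 9), (2, 4), (2, 7), (2, 6), (2, 5), (7, 6), (7, 4), (7, 7), (7, 5), (6, 7), (6, 4), (6, 5), (6, 6), (7, 10), (7, 8), (7, 11), (7, 9), (3, 4), (3, 7), (3, 6), (3, 5)]

/-- Indices of 27 words in the generators of the Sylow 3-subgroup. -/
def ks27 : List ℕ := [0, 16, 48, 4, 20, 52, 12, 28, 60, 1, 17, 49, 5, 21, 53, 13, 29, 61, 3, 19, 51, 7, 23, 55, 15, 31, 63]

end Cfsg.Agent.Lib.Helper7.M24Schur
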