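import Mathlib
import Cfsg.Prelude.Def_GeometricClasses
import Cfsg.Agent.Lib.Helper55.Oe.Defs

set_option autoImplicit false
set_option linter.style.haveILetI false
set_option linter.unusedSectionVars false

namespace Cfsg.Agent.Lib.Helper7.OeFH

open Cfsg Cfsg.Geo
open scoped Matrix

variable {n : ℕ} {F : Type*} [Field F]
variable {K : Type*} [Field K] [Algebra F K]

/-! ### the quadratic form and its polar form -/

section quad

variable {Q : (Fin n → F) → F}

theorem Q_add (u v : Fin n → F) : Q (u + v) = Q u + Q v + QuadraticMap.polar Q u v := by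
  unfold QuadraticMap.polar
  ring

theorem Q_zero (hQ : IsNondegenerateQuadraticForm Q) : Q 0 = 0 := by
  have := hQ.smul 0 0
  simpa using this

theorem polar_self (hQ : IsNondegenerateQuadraticForm Q) (v : Fin n → F) :
    QuadraticMap.polar Q v v = 2 * Q v := by
  unfold QuadraticMap.polar
  have : v + v = (2 : F) • v := by rw [two_smul]
  rw [this, hQ.smul]
  ring

theorem polar_symm (u v : Fin n → F) : QuadraticMap.polar Q u v = QuadraticMap.polar Q v u :=
  QuadraticMap.polar_comm Q u v

/-- the polar form as a bilinear map -/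
noncomputable def Bl (hQ : IsNondegenerateQuadraticForm Q) :
    (Fin n → F) →ₗ[F] (Fin n → F) →ₗ[F] F :=
  LinearMap.mk₂ F (fun u v => QuadraticMap.polar Q u v)
    hQ.polar_bilinear.add_left (fun c x v => by simpa using hQ.polar_bilinear.smul_left c x v)
    hQ.polar_bilinear.add_right (fun c v x => by simpa using hQ.polar_bilinear.smul_right c v x)

@[simp] theorem Bl_apply (hQ : IsNondegenerateQuadraticForm Q) (u v : Fin n → F) :
    Bl hQ u v = QuadraticMap.polar Q u v := rfl

theorem polar_zero_right (hQ : IsNondegenerateQuadraticForm Q) (u : Fin n → F) :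
    QuadraticMap.polar Q u 0 = 0 := by
  rw [← Bl_apply hQ, map_zero]

theorem polar_zero_left (hQ : IsNondegenerateQuadraticForm Q) (u : Fin n → F) :
    QuadraticMap.polar Q 0 u = 0 := by
  rw [← Bl_apply hQ, map_zero, LinearMap.zero_apply]

theorem polar_neg_right (hQ : IsNondegenerateQuadraticForm Q) (u v : Fin n → F) :
    QuadraticMap.polar Q u (-v) = -QuadraticMap.polar Q u v := by
  rw [← Bl_apply hQ, map_neg, Bl_apply]

theorem polar_sub_right (hQ : IsNondegenerateQuadraticForm Q) (u v w : Fin n → F) :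
    QuadraticMap.polar Q u (v - w) = QuadraticMap.polar Q u v - QuadraticMap.polar Q u w := by
  rw [← Bl_apply hQ, map_sub, Bl_apply, Bl_apply]

end quad

/-! ### the action of `K` -/

section action

variable (ι : K →ₐ[F] Matrix (Fin n) (Fin n) F)

/-- `z ↦ z • v` as an `F`-linear map -/
def actL (v : Fin n → F) : K →ₗ[F] (Fin n → F) where
  toFun z := ι z *ᵥ v
  map_add' x y := by rw [map_add, Matrix.add_mulVec]
  map_smul' c x := by rw [map_smul, Matrix.smul_mulVec]; rfl

@[simp] theorem actL_apply (v : Fin n → F) (z : K) : actL ι v z = ι z *ᵥ v := rfl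

theorem act_mul (x y : K) (v : Fin n → F) : ι x *ᵥ (ι y *ᵥ v) = ι (x * y) *ᵥ v := by
  rw [Matrix.mulVec_mulVec, map_mul]

theorem act_one (v : Fin n → F) : ι 1 *ᵥ v = v := by
  rw [map_one, Matrix.one_mulVec]

theorem act_algebraMap (c : F) (v : Fin n → F) : ι (algebraMap F K c) *ᵥ v = c • v := by
  rw [AlgHom.commutes, Algebra.algebraMap_eq_smul_one, Matrix.smul_mulVec, Matrix.one_mulVec]

theorem act_eq_zero {x : K} {v : Fin n → F} (h : ι x *ᵥ v = 0) (hx : x ≠ 0) : v = 0 := by
  have := congrArg (fun w => ι x⁻¹ *ᵥ w) h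
  simp only [act_mul, inv_mul_cancel₀ hx, act_one, Matrix.mulVec_zero] at this
  exact this

theorem act_add (x y : K) (v : Fin n → F) : ι (x + y) *ᵥ v = ι x *ᵥ v + ι y *ᵥ v := by
  rw [map_add, Matrix.add_mulVec]

theorem act_zero (v : Fin n → F) : ι (0 : K) *ᵥ v = 0 := by
  rw [map_zero, Matrix.zero_mulVec]

theorem act_neg (x : K) (v : Fin n → F) : ι (-x) *ᵥ v = -(ι x *ᵥ v) := by
  rw [map_neg, Matrix.neg_mulVec]

end action

/-! ### functionals on `K` -/

section functionals

variable [Finite F]

theorem finite_K (hr : 0 < Module.finrank F K) : Finite K := by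
  haveI : Module.Finite F K := Module.finite_of_finrank_pos hr
  exact Module.finite_of_finite F

/-- a functional vanishing on `d * squares` vanishes on `d * K` -/
theorem sq_span (hr : 0 < Module.finrank F K) (φ : K →ₗ[F] F) (d : K) (h : ∀ z : K, φ (d * z ^ 2) = 0) :
    ∀ z : K, φ (d * z) = 0 := by
  intro z
  by_cases h2 : (2 : F) = 0
  · have h2K : (2 : K) = 0 := by
      have := congrArg (algebraMap F K) h2
      rwa [map_ofNat, map_zero] at this
    haveI := finite_K (F := F) hr
    haveI : CharP K 2 := CharTwo.of_one_ne_zero_of_two_eq_zero one_ne_zero h2K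
    obtain ⟨s, hs⟩ := isSquare_of_charTwo' z
    rw [hs, ← sq]
    exact h s
  · have e : d * ((z + 1) ^ 2) - d * z ^ 2 - d * 1 ^ 2 = (2 : F) • (d * z) := by
      rw [Algebra.smul_def, map_ofNat]; ring
    have := congrArg φ e
    rw [map_sub, map_sub, h, h, h, map_smul, smul_eq_mul] at this
    have h' : (2 : F) * φ (d * z) = 0 := by rw [← this]; ring
    exact (mul_eq_zero.mp h').resolve_left h2

/-- trace-free duality: every functional is `Λ (d * ·)` -/
theorem exists_dual (hr : 0 < Module.finrank F K) (Λ : K →ₗ[F] F) (hΛ : Λ ≠ 0) (φ : K →ₗ[F] F) :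
    ∃ d : K, ∀ z, φ z = Λ (d * z) := by
  haveI : Module.Finite F K := Module.finite_of_finrank_pos hr
  let T : K →ₗ[F] (K →ₗ[F] F) := (LinearMap.mul F K).compr₂ Λ
  have hT : ∀ d z, T d z = Λ (d * z) := fun d z => rfl
  have hinj : Function.Injective T := by
    rw [injective_iff_map_eq_zero]
    intro d hd
    by_contra hd0
    apply hΛ
    ext z
    have := congrArg (fun f => f (d⁻¹ * z)) hd
    simp only [hT, LinearMap.zero_apply] at this
    rw [← mul_assoc, mul_inv_cancel₀ hd0, one_mul] at this
    exact this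
  have hsurj : Function.Surjective T := by
    apply (LinearMap.injective_iff_surjective_of_finrank_eq_finrank _).mp hinj
    exact (Subspace.dual_finrank_eq (K := F) (V := K)).symm
  obtain ⟨d, hd⟩ := hsurj φ
  exact ⟨d, fun z => by rw [← hd, hT]⟩

theorem dual_unique (Λ : K →ₗ[F] F) (hΛ : Λ ≠ 0) (d : K) (h : ∀ z, Λ (d * z) = 0) : d = 0 := by
  by_contra hd0
  apply hΛ
  ext z
  have := h (d⁻¹ * z)
  rw [← mul_assoc, mul_inv_cancel₀ hd0, one_mul] at this
  exact this

end functionals

end Cfsg.Agent.Lib.Helper7.OeFH
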