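import Mathlib
import Cfsg.Prelude.Def_GeometricClasses
import Cfsg.Agent.Lib.Helper55.Oe.Defs
import Cfsg.Agent.Lib.Helper7.OeFHBasic

set_option autoImplicit false
set_option linter.style.haveILetI false
set_option linter.unusedSectionVars false

namespace Cfsg.Agent.Lib.Helper7.OeFH

open Cfsg Cfsg.Geo
open scoped Matrix

variable {n : ℕ} {F : Type*} [Field F]
variable {K : Type*} [Field K] [Algebra F K]

/-- coordinates of the `K`-plane: `Q (x u + y w) = Λ (a x² + x y + c y²)` -/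
structure Coord (Q : (Fin n → F) → F) (ι : K →ₐ[F] Matrix (Fin n) (Fin n) F) where
  u : Fin n → F
  w : Fin n → F
  Λ : K →ₗ[F] F
  a : K
  c : K
  bij : Function.Bijective (fun p : K × K => ι p.1 *ᵥ u + ι p.2 *ᵥ w)
  hΛ : Λ ≠ 0
  Qc : ∀ x y : K, Q (ι x *ᵥ u + ι y *ᵥ w) = Λ (a * x ^ 2 + x * y + c * y ^ 2)

namespace Coord

variable {Q : (Fin n → F) → F} {ι : K →ₐ[F] Matrix (Fin n) (Fin n) F} (C : Coord Q ι)

/-- the coordinate map -/
def phi (p : K × K) : Fin n → F := ι p.1 *ᵥ C.u + ι p.2 *ᵥ C.w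

theorem phi_surj : Function.Surjective C.phi := C.bij.2
theorem phi_inj : Function.Injective C.phi := C.bij.1

theorem phi_add (p p' : K × K) : C.phi (p + p') = C.phi p + C.phi p' := by
  unfold phi
  rw [Prod.fst_add, Prod.snd_add, act_add, act_add]
  abel

theorem phi_act (z : K) (p : K × K) : ι z *ᵥ C.phi p = C.phi (z * p.1, z * p.2) := by
  unfold phi
  rw [Matrix.mulVec_add, act_mul, act_mul]

theorem Q_phi (p : K × K) : Q (C.phi p) = C.Λ (C.a * p.1 ^ 2 + p.1 * p.2 + C.c * p.2 ^ 2) :=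
  C.Qc p.1 p.2

theorem B_phi (p p' : K × K) : QuadraticMap.polar Q (C.phi p) (C.phi p') =
    C.Λ (2 * C.a * p.1 * p'.1 + p.1 * p'.2 + p'.1 * p.2 + 2 * C.c * p.2 * p'.2) := by
  unfold QuadraticMap.polar
  rw [← phi_add, C.Q_phi, C.Q_phi, C.Q_phi, ← map_sub, ← map_sub]
  congr 1
  simp only [Prod.fst_add, Prod.snd_add]
  ring

theorem phi_zero : C.phi 0 = 0 := by
  unfold phi
  simp

/-- the discriminant does not vanish -/
theorem disc_ne_zero (hQ : IsNondegenerateQuadraticForm Q) : 1 - 4 * C.a * C.c ≠ 0 := by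
  intro h0
  have hv : C.phi (1, -(2 * C.a)) ≠ 0 := by
    intro h
    rw [← C.phi_zero] at h
    have := congrArg Prod.fst (C.phi_inj h)
    simp at this
  obtain ⟨-, x, hx⟩ := hQ.nondegenerate _ hv
  obtain ⟨p', rfl⟩ := C.phi_surj x
  apply hx
  rw [B_phi]
  have : 2 * C.a * (1 : K) * p'.1 + 1 * p'.2 + p'.1 * -(2 * C.a) + 2 * C.c * -(2 * C.a) * p'.2 =
      (1 - 4 * C.a * C.c) * p'.2 := by ring
  rw [this, h0, zero_mul, map_zero]

/-- the key operator in coordinates -/
def T (p : K × K) : K × K := (p.1 + C.c * p.2, -(C.a * p.1))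

theorem exists_Y0 : ∃ Y : Matrix (Fin n) (Fin n) F, ∀ p : K × K, Y *ᵥ C.phi p = C.phi (C.T p) := by
  classical
  -- the coordinate map as a linear equivalence
  let Φl : (K × K) →ₗ[F] (Fin n → F) := (actL ι C.u).coprod (actL ι C.w)
  have hΦl : ∀ p, Φl p = C.phi p := fun p => by
    simp [Φl, phi, LinearMap.coprod_apply]
  have hbij : Function.Bijective Φl := by
    have : (Φl : K × K → Fin n → F) = C.phi := funext hΦl
    rw [this]; exact C.bij
  let Φ : (K × K) ≃ₗ[F] (Fin n → F) := LinearEquiv.ofBijective Φl hbij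
  let Tl : (K × K) →ₗ[F] (K × K) :=
    { toFun := C.T
      map_add' := by
        intro p p'
        simp only [T, Prod.fst_add, Prod.snd_add, Prod.mk_add_mk]
        ext <;> simp <;> ring
      map_smul' := by
        intro s p
        simp only [T, Prod.smul_fst, Prod.smul_snd, RingHom.id_apply, Prod.smul_mk]
        ext <;> simp [Algebra.smul_def] <;> ring }
  refine ⟨LinearMap.toMatrix' ((Φ : (K × K) →ₗ[F] (Fin n → F)) ∘ₗ Tl ∘ₗ (Φ.symm : (Fin n → F) →ₗ[F] (K × K))), ?_⟩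
  intro p
  rw [← Matrix.toLin'_apply, Matrix.toLin'_toMatrix']
  have h1 : C.phi p = Φ p := (hΦl p).symm
  rw [h1]
  simp only [LinearMap.coe_comp, LinearEquiv.coe_coe, Function.comp_apply, LinearEquiv.symm_apply_apply]
  exact hΦl _


theorem T_smul (z : K) (p : K × K) : C.T (z * p.1, z * p.2) = (z * (C.T p).1, z * (C.T p).2) := by
  simp only [T]
  ext <;> simp <;> ring

end Coord

theorem mat_ext {A B : Matrix (Fin n) (Fin n) F} (h : ∀ v, A *ᵥ v = B *ᵥ v) : A = B := by
  apply Matrix.toLin'.injective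
  apply LinearMap.ext
  intro v
  rw [Matrix.toLin'_apply, Matrix.toLin'_apply]
  exact h v

namespace Coord

variable {Q : (Fin n → F) → F} {ι : K →ₐ[F] Matrix (Fin n) (Fin n) F} (C : Coord Q ι)
/-- a matrix commuting with `K` acts by a `2 × 2` matrix over `K` in coordinates -/
theorem exists_mat_of_comm {Z : Matrix (Fin n) (Fin n) F} (hZ : ∀ z : K, Z * ι z = ι z * Z) :
    ∃ p q r t : K, ∀ x : K × K, Z *ᵥ C.phi x = C.phi (x.1 * p + x.2 * q, x.1 * r + x.2 * t) := by
  obtain ⟨⟨p, r⟩, hpr⟩ := C.phi_surj (Z *ᵥ C.u)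
  obtain ⟨⟨q, t⟩, hqt⟩ := C.phi_surj (Z *ᵥ C.w)
  refine ⟨p, q, r, t, fun x => ?_⟩
  have e1 : ∀ (z : K) (v : Fin n → F), Z *ᵥ (ι z *ᵥ v) = ι z *ᵥ (Z *ᵥ v) := by
    intro z v
    rw [Matrix.mulVec_mulVec, hZ, ← Matrix.mulVec_mulVec]
  conv_lhs => rw [phi, Matrix.mulVec_add, e1, e1, ← hpr, ← hqt, phi_act, phi_act, ← phi_add]
  simp only [Prod.mk_add_mk]

variable {Y : Matrix (Fin n) (Fin n) F} (hY : ∀ p : K × K, Y *ᵥ C.phi p = C.phi (C.T p))

include hY

theorem Y_comm (z : K) : Y * ι z = ι z * Y := by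
  apply mat_ext
  intro v
  obtain ⟨p, rfl⟩ := C.phi_surj v
  rw [← Matrix.mulVec_mulVec, ← Matrix.mulVec_mulVec, phi_act, hY, hY, phi_act, T_smul]

theorem Y_polar (v : Fin n → F) : QuadraticMap.polar Q (Y *ᵥ v) v = Q v := by
  obtain ⟨p, rfl⟩ := C.phi_surj v
  rw [hY, B_phi, C.Q_phi]
  congr 1
  simp only [T]
  ring

theorem Y_sq : Y * Y = Y - ι (C.a * C.c) := by
  apply mat_ext
  intro v
  obtain ⟨p, rfl⟩ := C.phi_surj v
  rw [← Matrix.mulVec_mulVec, hY, hY, Matrix.sub_mulVec, hY, phi_act]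
  have e : C.phi (C.T (C.T p)) + C.phi (C.a * C.c * p.1, C.a * C.c * p.2) = C.phi (C.T p) := by
    rw [← phi_add]
    congr 1
    simp only [T, Prod.mk_add_mk]
    ext <;> simp <;> ring
  rw [← e]
  abel

theorem Y_adj (hQ : IsNondegenerateQuadraticForm Q) (u' v' : Fin n → F) :
    QuadraticMap.polar Q (Y *ᵥ u') v' + QuadraticMap.polar Q u' (Y *ᵥ v') = QuadraticMap.polar Q u' v' := by
  have h1 := C.Y_polar hY (u' + v')
  have h2 := C.Y_polar hY u'
  have h3 := C.Y_polar hY v'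
  rw [Matrix.mulVec_add, ← Bl_apply hQ, map_add, map_add, LinearMap.add_apply, LinearMap.add_apply] at h1
  simp only [Bl_apply] at h1
  rw [Q_add (Q := Q), h2, h3] at h1
  rw [polar_symm u' (Y *ᵥ v')]
  linear_combination h1

/-- `{Z ∈ Cent(K) | B(Z v, v) = 0 ∀ v} = K (2 Y - 1)` -/
theorem alt_comm_eq [Finite F] (hQ : IsNondegenerateQuadraticForm Q) (hr : 0 < Module.finrank F K)
    {Z : Matrix (Fin n) (Fin n) F} (hZ : ∀ z : K, Z * ι z = ι z * Z)
    (halt : ∀ v, QuadraticMap.polar Q (Z *ᵥ v) v = 0) : ∃ p : K, Z = ι p * (2 • Y - 1) := by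
  obtain ⟨p, q, r, t, hmat⟩ := C.exists_mat_of_comm hZ
  have key : ∀ x y : K, C.Λ ((2 * C.a * p + r) * x ^ 2 + (2 * C.a * q + p + t + 2 * C.c * r) * (x * y) +
      (q + 2 * C.c * t) * y ^ 2) = 0 := by
    intro x y
    have := halt (C.phi (x, y))
    rw [hmat, B_phi] at this
    rw [← this]
    congr 1
    simp only
    ring
  have h1 : 2 * C.a * p + r = 0 := by
    apply dual_unique C.Λ C.hΛ
    apply sq_span hr
    intro z
    have := key z 0
    simpa using this
  have h2 : q + 2 * C.c * t = 0 := by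
    apply dual_unique C.Λ C.hΛ
    apply sq_span hr
    intro z
    have := key 0 z
    simpa using this
  have h3 : 2 * C.a * q + p + t + 2 * C.c * r = 0 := by
    apply dual_unique C.Λ C.hΛ
    intro z
    have := key z 1
    rw [h1, h2] at this
    simpa using this
  have hd := C.disc_ne_zero hQ
  have ht : t = -p := by
    have hr' : r = -(2 * C.a * p) := by linear_combination h1
    have hq' : q = -(2 * C.c * t) := by linear_combination h2
    rw [hr', hq'] at h3
    have : (p + t) * (1 - 4 * C.a * C.c) = 0 := by linear_combination h3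
    rcases mul_eq_zero.mp this with h | h
    · linear_combination h
    · exact absurd h hd
  refine ⟨p, ?_⟩
  apply mat_ext
  intro v
  obtain ⟨x, rfl⟩ := C.phi_surj v
  rw [hmat, ← Matrix.mulVec_mulVec, Matrix.sub_mulVec, Matrix.smul_mulVec, Matrix.one_mulVec, hY,
    two_smul, ← phi_add]
  have e : C.phi (C.T x + C.T x) - C.phi x = C.phi (C.T x + C.T x - x) := by
    have := C.phi_add (C.T x + C.T x - x) x
    rw [sub_add_cancel] at this
    rw [this]; abel
  rw [e, phi_act]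
  congr 1
  have hr' : r = -(2 * C.a * p) := by linear_combination h1
  have hq' : q = 2 * C.c * p := by rw [ht] at h2; linear_combination h2
  simp only [T, Prod.fst_add, Prod.snd_add, Prod.fst_sub, Prod.snd_sub]
  ext
  · simp only; rw [hq']; ring
  · simp only; rw [hr', ht]; ring

end Coord

end Cfsg.Agent.Lib.Helper7.OeFH
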