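import Mathlib
import Cfsg.Prelude.Def_GeometricClasses
import Cfsg.Agent.Lib.Helper55.Oe.Defs
import Cfsg.Agent.Lib.Helper7.OeFHCoord

set_option autoImplicit false
set_option linter.style.haveILetI false
set_option linter.unusedSectionVars false

namespace Cfsg.Agent.Lib.Helper7.OeFH

open Cfsg Cfsg.Geo
open scoped Matrix

variable {n : ℕ} {F : Type*} [Field F] [Finite F]
variable {K : Type*} [Field K] [Algebra F K]
variable {Q : (Fin n → F) → F} (ι : K →ₐ[F] Matrix (Fin n) (Fin n) F)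

/-- `K` is self-adjoint for the polar form -/
def SA (Q : (Fin n → F) → F) (ι : K →ₐ[F] Matrix (Fin n) (Fin n) F) : Prop :=
  ∀ (x : K) (u v : Fin n → F), QuadraticMap.polar Q (ι x *ᵥ u) v = QuadraticMap.polar Q u (ι x *ᵥ v)

variable {ι}

theorem SA.polar_sq (hsa : SA Q ι) (hQ : IsNondegenerateQuadraticForm Q) (z : K) (v : Fin n → F) :
    QuadraticMap.polar Q v (ι (z ^ 2) *ᵥ v) = 2 * Q (ι z *ᵥ v) := by
  rw [pow_two, ← act_mul, ← hsa, polar_self hQ]

/-- a functional `ψ` with `ψ (z²) = Q (z v)` -/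
theorem exists_sqFunctional (hQ : IsNondegenerateQuadraticForm Q) (hr : 0 < Module.finrank F K)
    (hsa : SA Q ι) (v : Fin n → F) : ∃ ψ : K →ₗ[F] F, ∀ z : K, ψ (z ^ 2) = Q (ι z *ᵥ v) := by
  by_cases h2 : (2 : F) = 0
  · -- characteristic 2
    have h2K : (2 : K) = 0 := by
      have := congrArg (algebraMap F K) h2
      rwa [map_ofNat, map_zero] at this
    haveI := finite_K (F := F) hr
    haveI : CharP K 2 := CharTwo.of_one_ne_zero_of_two_eq_zero one_ne_zero h2K
    haveI : CharP F 2 := CharTwo.of_one_ne_zero_of_two_eq_zero one_ne_zero h2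
    haveI : ExpChar K 2 := ExpChar.prime Nat.prime_two
    let sq2 : K ≃+* K := frobeniusEquiv K 2
    have hsq2 : ∀ z : K, sq2 z = z ^ 2 := fun z => by simp [sq2, frobeniusEquiv_apply, frobenius_def]
    have hsymm : ∀ z : K, (sq2.symm z) ^ 2 = z := fun z => by rw [← hsq2, RingEquiv.apply_symm_apply]
    -- polar vanishes on `K v`
    have hpol : ∀ s s' : K, QuadraticMap.polar Q (ι s *ᵥ v) (ι s' *ᵥ v) = 0 := by
      intro s s'
      rw [hsa, act_mul]
      have : s * s' = (sq2.symm (s * s')) ^ 2 := (hsymm _).symm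
      rw [this, hsa.polar_sq hQ, h2, zero_mul]
    refine ⟨{ toFun := fun z => Q (ι (sq2.symm z) *ᵥ v), map_add' := ?_, map_smul' := ?_ }, ?_⟩
    · intro z z'
      rw [map_add, act_add, Q_add (Q := Q), hpol, add_zero]
    · intro c z
      simp only [RingHom.id_apply]
      obtain ⟨c', hc'⟩ := isSquare_of_charTwo' c
      have e : sq2.symm (c • z) = algebraMap F K c' * sq2.symm z := by
        rw [RingEquiv.symm_apply_eq, map_mul, RingEquiv.apply_symm_apply, hsq2, Algebra.smul_def, hc',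
          map_mul, sq]
      rw [e, ← act_mul, act_algebraMap, hQ.smul, hc', sq, smul_eq_mul]
    · intro z
      simp only [LinearMap.coe_mk, AddHom.coe_mk]
      rw [← hsq2, RingEquiv.symm_apply_apply]
  · refine ⟨(2 : F)⁻¹ • ((Bl hQ v).comp (actL ι v)), fun z => ?_⟩
    rw [LinearMap.smul_apply, LinearMap.comp_apply, actL_apply, Bl_apply, hsa.polar_sq hQ, smul_eq_mul,
      ← mul_assoc, inv_mul_cancel₀ h2, one_mul]

theorem exists_coord (hQ : IsNondegenerateQuadraticForm Q) {r : ℕ} (hr : Module.finrank F K = r)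
    (hrpos : 0 < r) (hn : n = 2 * r) (hsa : SA Q ι) : Nonempty (Coord Q ι) := by
  classical
  have hrK : 0 < Module.finrank F K := by rw [hr]; exact hrpos
  haveI : Module.Finite F K := Module.finite_of_finrank_pos hrK
  have hnpos : 0 < n := by omega
  -- a non-zero vector
  obtain ⟨u, hu⟩ : ∃ u : Fin n → F, u ≠ 0 := by
    refine ⟨fun _ => 1, fun h => ?_⟩
    have := congrFun h ⟨0, hnpos⟩
    simp at this
  obtain ⟨w₀, hw₀⟩ := (hQ.nondegenerate u hu).2
  -- a vector outside `K u`
  have hlt : LinearMap.range (actL ι u) < ⊤ := by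
    rw [lt_top_iff_ne_top]
    intro htop
    have h1 : Module.finrank F (LinearMap.range (actL ι u)) ≤ Module.finrank F K :=
      LinearMap.finrank_range_le _
    rw [htop, finrank_top, Module.finrank_fin_fun, hr] at h1
    omega
  obtain ⟨w₁, -, hw₁⟩ := SetLike.exists_of_lt hlt
  -- choice of `w`
  obtain ⟨w, hwr, z₀, hz₀⟩ : ∃ w, w ∉ LinearMap.range (actL ι u) ∧
      ∃ z : K, QuadraticMap.polar Q u (ι z *ᵥ w) ≠ 0 := by
    by_cases hw₀r : w₀ ∈ LinearMap.range (actL ι u)
    · by_cases hex : ∃ z : K, QuadraticMap.polar Q u (ι z *ᵥ w₁) ≠ 0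
      · exact ⟨w₁, hw₁, hex⟩
      · push Not at hex
        refine ⟨w₁ + w₀, fun h => hw₁ ?_, 1, ?_⟩
        · have := Submodule.sub_mem _ h hw₀r
          rwa [add_sub_cancel_right] at this
        · rw [act_one, ← Bl_apply hQ, map_add, Bl_apply, Bl_apply]
          have := hex 1
          rw [act_one] at this
          rw [this, zero_add]
          exact hw₀
    · exact ⟨w₀, hw₀r, 1, by rw [act_one]; exact hw₀⟩
  -- the coordinate map
  let Φl : (K × K) →ₗ[F] (Fin n → F) := (actL ι u).coprod (actL ι w)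
  have hΦl : ∀ p : K × K, Φl p = ι p.1 *ᵥ u + ι p.2 *ᵥ w := fun p => by
    simp [Φl, LinearMap.coprod_apply]
  have hinj : Function.Injective Φl := by
    rw [injective_iff_map_eq_zero]
    rintro ⟨x, y⟩ hxy
    rw [hΦl] at hxy
    simp only at hxy
    have hy : y = 0 := by
      by_contra hy0
      apply hwr
      refine ⟨-(y⁻¹ * x), ?_⟩
      rw [actL_apply]
      have := congrArg (fun v => ι y⁻¹ *ᵥ v) hxy
      simp only [Matrix.mulVec_add, act_mul, inv_mul_cancel₀ hy0, act_one, Matrix.mulVec_zero] at this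
      rw [act_neg]
      exact neg_eq_of_add_eq_zero_right this
    subst hy
    rw [act_zero, add_zero] at hxy
    have hx : x = 0 := by
      by_contra hx0
      exact hu (act_eq_zero ι hxy hx0)
    rw [hx]
    rfl
  have hfin : Module.finrank F (K × K) = Module.finrank F (Fin n → F) := by
    rw [Module.finrank_prod, hr, Module.finrank_fin_fun, hn]; ring
  have hbij : Function.Bijective Φl :=
    ⟨hinj, (LinearMap.injective_iff_surjective_of_finrank_eq_finrank hfin).mp hinj⟩
  -- the functional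
  let Λ : K →ₗ[F] F := (Bl hQ u).comp (actL ι w)
  have hΛapp : ∀ z, Λ z = QuadraticMap.polar Q u (ι z *ᵥ w) := fun z => rfl
  have hΛ : Λ ≠ 0 := by
    intro h
    apply hz₀
    rw [← hΛapp, h, LinearMap.zero_apply]
  obtain ⟨ψu, hψu⟩ := exists_sqFunctional hQ hrK hsa u
  obtain ⟨ψw, hψw⟩ := exists_sqFunctional hQ hrK hsa w
  obtain ⟨a, ha⟩ := exists_dual hrK Λ hΛ ψu
  obtain ⟨c, hc⟩ := exists_dual hrK Λ hΛ ψw
  refine ⟨{ u := u, w := w, Λ := Λ, a := a, c := c, bij := ?_, hΛ := hΛ, Qc := ?_ }⟩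
  · have : (fun p : K × K => ι p.1 *ᵥ u + ι p.2 *ᵥ w) = Φl := funext fun p => (hΦl p).symm
    rw [this]; exact hbij
  · intro x y
    rw [Q_add (Q := Q), ← hψu, ← hψw, ha, hc, hsa, act_mul, ← hΛapp, ← map_add, ← map_add]
    congr 1
    ring

end Cfsg.Agent.Lib.Helper7.OeFH
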