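import Mathlib
import Cfsg.Prelude.Def_GeometricClasses
import Cfsg.Agent.Lib.Helper55.Oe.Defs
import Cfsg.Agent.Lib.Helper7.OeFHExist

set_option autoImplicit false
set_option linter.style.haveILetI false
set_option linter.unusedSectionVars false

namespace Cfsg.Agent.Lib.Helper7.OeFH

open Cfsg Cfsg.Geo Cfsg.Agent.Lib.Helper55.Oe
open scoped Matrix MatrixGroups

variable {n : ℕ} {F : Type*} [Field F] [Finite F]
variable {K : Type*} [Field K] [Algebra F K]
variable {Q : (Fin n → F) → F} {ι : K →ₐ[F] Matrix (Fin n) (Fin n) F}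

/-- the eigenspace of `Y` for the eigenvalue `ρ ∈ K` -/
def eig (Y : Matrix (Fin n) (Fin n) F) (ι : K →ₐ[F] Matrix (Fin n) (Fin n) F) (ρ : K) :
    Submodule F (Fin n → F) :=
  LinearMap.ker (Matrix.toLin' (Y - ι ρ))

theorem mem_eig {Y : Matrix (Fin n) (Fin n) F} {ρ : K} {v : Fin n → F} :
    v ∈ eig Y ι ρ ↔ Y *ᵥ v = ι ρ *ᵥ v := by
  unfold eig
  rw [LinearMap.mem_ker, Matrix.toLin'_apply, Matrix.sub_mulVec, sub_eq_zero]

namespace Coord

variable (C : Coord Q ι) {Y : Matrix (Fin n) (Fin n) F}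
  (hY : ∀ p : K × K, Y *ᵥ C.phi p = C.phi (C.T p))

include hY

theorem eig_act {ρ : K} {v : Fin n → F} (hv : v ∈ eig Y ι ρ) (z : K) : ι z *ᵥ v ∈ eig Y ι ρ := by
  rw [mem_eig] at hv ⊢
  rw [Matrix.mulVec_mulVec, C.Y_comm hY, ← Matrix.mulVec_mulVec, hv, act_mul, act_mul, mul_comm]

theorem finrank_eig_le {r : ℕ} (hr : Module.finrank F K = r) (hrpos : 0 < r) (ρ : K) :
    Module.finrank F (eig Y ι ρ) ≤ r := by
  haveI : Module.Finite F K := Module.finite_of_finrank_pos (by rw [hr]; exact hrpos)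
  have key : ∀ ρ' : K, ρ' ≠ 0 → ∀ (v₁ : Fin n → F),
      (∀ v ∈ eig Y ι ρ, ∃ x : K, v = ι x *ᵥ v₁) → Module.finrank F (eig Y ι ρ) ≤ r := by
    intro ρ' _ v₁ hsub
    have hle : eig Y ι ρ ≤ LinearMap.range (actL ι v₁) := by
      intro v hv
      obtain ⟨x, hx⟩ := hsub v hv
      exact ⟨x, hx.symm⟩
    calc Module.finrank F (eig Y ι ρ) ≤ Module.finrank F (LinearMap.range (actL ι v₁)) :=
          Submodule.finrank_mono hle
      _ ≤ Module.finrank F K := LinearMap.finrank_range_le _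
      _ = r := hr
  -- coordinates of an eigenvector
  have hcoord : ∀ p : K × K, C.phi p ∈ eig Y ι ρ → p.1 + C.c * p.2 = ρ * p.1 ∧ -(C.a * p.1) = ρ * p.2 := by
    intro p hp
    rw [mem_eig, hY, phi_act] at hp
    have := C.phi_inj hp
    simp only [T, Prod.mk.injEq] at this
    exact this
  by_cases hρ : ρ = 0
  · -- then 1 - ρ ≠ 0
    apply key 1 one_ne_zero (ι (-C.c) *ᵥ C.u + C.w)
    intro v hv
    obtain ⟨p, rfl⟩ := C.phi_surj v
    obtain ⟨h1, -⟩ := hcoord p hv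
    refine ⟨p.2, ?_⟩
    rw [Matrix.mulVec_add, act_mul]
    have : p.1 = p.2 * -C.c := by rw [hρ] at h1; linear_combination h1
    rw [phi, this]
  · apply key ρ hρ (C.u + ι (-(C.a / ρ)) *ᵥ C.w)
    intro v hv
    obtain ⟨p, rfl⟩ := C.phi_surj v
    obtain ⟨-, h2⟩ := hcoord p hv
    refine ⟨p.1, ?_⟩
    rw [Matrix.mulVec_add, act_mul]
    have : p.2 = p.1 * -(C.a / ρ) := by field_simp; linear_combination -h2
    rw [phi]
    conv_lhs => rw [this]


omit hY in
theorem root_symm {ρ : K} (hρ : ρ ^ 2 - ρ + C.a * C.c = 0) : (1 - ρ) ^ 2 - (1 - ρ) + C.a * C.c = 0 := by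
  linear_combination hρ

omit hY in
theorem delta_ne (hQ : IsNondegenerateQuadraticForm Q) {ρ : K} (hρ : ρ ^ 2 - ρ + C.a * C.c = 0) :
    1 - 2 * ρ ≠ 0 := by
  intro h
  apply C.disc_ne_zero hQ
  have : 1 - 4 * C.a * C.c = (1 - 2 * ρ) ^ 2 - 4 * (ρ ^ 2 - ρ + C.a * C.c) := by ring
  rw [this, h, hρ]; ring

theorem Y_mul_sub {ρ : K} (hρ : ρ ^ 2 - ρ + C.a * C.c = 0) :
    Y * (Y - ι ρ) = ι (1 - ρ) * (Y - ι ρ) := by
  have h0 : ι (ρ - ρ ^ 2 - C.a * C.c) = 0 := by
    have : ρ - ρ ^ 2 - C.a * C.c = 0 := by linear_combination -hρ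
    rw [this, map_zero]
  rw [← sub_eq_zero]
  rw [map_sub, map_sub, map_pow, pow_two] at h0
  rw [mul_sub, C.Y_sq hY, C.Y_comm hY ρ, map_sub, map_one, sub_mul, one_mul, mul_sub]
  rw [← h0]
  abel

theorem sub_mem_eig {ρ : K} (hρ : ρ ^ 2 - ρ + C.a * C.c = 0) (v : Fin n → F) :
    (Y - ι ρ) *ᵥ v ∈ eig Y ι (1 - ρ) := by
  rw [mem_eig, Matrix.mulVec_mulVec, Matrix.mulVec_mulVec, C.Y_mul_sub hY hρ]

theorem eig_disjoint (hQ : IsNondegenerateQuadraticForm Q) {ρ : K} (hρ : ρ ^ 2 - ρ + C.a * C.c = 0) :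
    Disjoint (eig Y ι ρ) (eig Y ι (1 - ρ)) := by
  rw [Submodule.disjoint_def]
  intro v h1 h2
  rw [mem_eig] at h1 h2
  have h3 : ι (1 - 2 * ρ) *ᵥ v = 0 := by
    have : (1 : K) - 2 * ρ = (1 - ρ) - ρ := by ring
    rw [this, map_sub, Matrix.sub_mulVec, ← h1, ← h2, sub_self]
  exact act_eq_zero ι h3 (C.delta_ne hQ hρ)

theorem eig_sup (hQ : IsNondegenerateQuadraticForm Q) {ρ : K} (hρ : ρ ^ 2 - ρ + C.a * C.c = 0) :
    eig Y ι ρ ⊔ eig Y ι (1 - ρ) = ⊤ := by
  rw [eq_top_iff]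
  intro v _
  have hd := C.delta_ne hQ hρ
  have h1 : ι (1 - 2 * ρ)⁻¹ *ᵥ ((Y - ι ρ) *ᵥ v) ∈ eig Y ι (1 - ρ) :=
    C.eig_act hY (C.sub_mem_eig hY hρ v) _
  have h2 : ι (1 - 2 * ρ)⁻¹ *ᵥ ((Y - ι (1 - ρ)) *ᵥ v) ∈ eig Y ι ρ := by
    have := C.eig_act hY (C.sub_mem_eig hY (C.root_symm hρ) v) (1 - 2 * ρ)⁻¹
    rwa [sub_sub_cancel] at this
  have e : v = -(ι (1 - 2 * ρ)⁻¹ *ᵥ ((Y - ι (1 - ρ)) *ᵥ v)) + ι (1 - 2 * ρ)⁻¹ *ᵥ ((Y - ι ρ) *ᵥ v) := by
    rw [neg_add_eq_sub, ← Matrix.mulVec_sub, ← Matrix.sub_mulVec]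
    have h3 : ι (1 - 2 * ρ) = ι (1 - ρ) - ι ρ := by
      rw [← map_sub]; congr 1; ring
    have : (Y - ι ρ) - (Y - ι (1 - ρ)) = ι (1 - 2 * ρ) := by
      rw [h3]; abel
    rw [this, act_mul, inv_mul_cancel₀ hd, act_one]
  rw [e]
  exact Submodule.add_mem_sup (Submodule.neg_mem _ h2) h1

theorem finrank_eig (hQ : IsNondegenerateQuadraticForm Q) {r : ℕ} (hr : Module.finrank F K = r)
    (hrpos : 0 < r) (hn : n = 2 * r) {ρ : K} (hρ : ρ ^ 2 - ρ + C.a * C.c = 0) :
    Module.finrank F (eig Y ι ρ) = r ∧ Module.finrank F (eig Y ι (1 - ρ)) = r := by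
  have h1 := C.finrank_eig_le hY hr hrpos ρ
  have h2 := C.finrank_eig_le hY hr hrpos (1 - ρ)
  have h3 := Submodule.finrank_sup_add_finrank_inf_eq (eig Y ι ρ) (eig Y ι (1 - ρ))
  rw [C.eig_sup hY hQ hρ, (C.eig_disjoint hY hQ hρ).eq_bot, finrank_top, finrank_bot,
    Module.finrank_fin_fun] at h3
  omega

/-- eigenvectors are singular -/
theorem eig_sing (hQ : IsNondegenerateQuadraticForm Q) (hsa : SA Q ι) {r : ℕ}
    (hr : Module.finrank F K = r) (hrpos : 0 < r) {ρ : K} (hρ : ρ ^ 2 - ρ + C.a * C.c = 0)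
    {v : Fin n → F} (hv : v ∈ eig Y ι ρ) : Q v = 0 := by
  have hrK : 0 < Module.finrank F K := by rw [hr]; exact hrpos
  -- `B (ι (2ρ - 1) v', v') = 0` on the eigenspace
  have h1 : ∀ v' ∈ eig Y ι ρ, QuadraticMap.polar Q (ι (1 - 2 * ρ) *ᵥ v') v' = 0 := by
    intro v' hv'
    rw [mem_eig] at hv'
    have ha := C.Y_adj hY hQ v' v'
    have hp := C.Y_polar hY v'
    rw [hv'] at ha hp
    have e : (1 : K) - 2 * ρ = 1 - ρ - ρ := by ring
    rw [e, map_sub, map_sub, map_one, Matrix.sub_mulVec, Matrix.sub_mulVec, Matrix.one_mulVec,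
      ← Bl_apply hQ, map_sub, map_sub, LinearMap.sub_apply, LinearMap.sub_apply]
    simp only [Bl_apply]
    rw [polar_symm v' (ι ρ *ᵥ v')] at ha
    rw [polar_self hQ, hp]
    ring
  -- the functional `z ↦ B (v, ι z v)` vanishes
  let φ : K →ₗ[F] F := (Bl hQ v).comp (actL ι v)
  have hφ : ∀ z, φ z = QuadraticMap.polar Q v (ι z *ᵥ v) := fun z => rfl
  have h2 : ∀ z : K, φ ((1 - 2 * ρ) * z ^ 2) = 0 := by
    intro z
    have := h1 _ (C.eig_act hY hv z)
    rw [act_mul, hsa, act_mul] at this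
    have e : (1 - 2 * ρ) * z ^ 2 = (1 - 2 * ρ) * z * z := by ring
    rw [hφ, e]
    exact this
  have h3 := sq_span hrK φ _ h2
  have h4 : ∀ z : K, φ z = 0 := by
    intro z
    have := h3 ((1 - 2 * ρ)⁻¹ * z)
    rwa [← mul_assoc, mul_inv_cancel₀ (C.delta_ne hQ hρ), one_mul] at this
  have hp := C.Y_polar hY v
  rw [mem_eig] at hv
  rw [hv, hsa, ← hφ, h4] at hp
  exact hp.symm


/-- vectors generating totally singular `K`-lines are eigenvectors -/
theorem sing_mem (hr : 0 < Module.finrank F K) {ρ : K} (hρ : ρ ^ 2 - ρ + C.a * C.c = 0)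
    {v : Fin n → F} (hv : ∀ z : K, Q (ι z *ᵥ v) = 0) : v ∈ eig Y ι ρ ∨ v ∈ eig Y ι (1 - ρ) := by
  obtain ⟨⟨x, y⟩, rfl⟩ := C.phi_surj v
  have hκ : C.a * x ^ 2 + x * y + C.c * y ^ 2 = 0 := by
    apply dual_unique C.Λ C.hΛ
    apply sq_span hr
    intro z
    have := hv z
    rw [phi_act, C.Q_phi] at this
    rw [← this]
    congr 1
    simp only
    ring
  by_cases hy : y = 0
  · subst hy
    by_cases hx : x = 0
    · subst hx
      left
      have : C.phi ((0 : K), (0 : K)) = 0 := C.phi_zero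
      rw [this]
      exact Submodule.zero_mem _
    · have ha : C.a = 0 := by
        have : C.a * x ^ 2 = 0 := by linear_combination hκ
        rcases mul_eq_zero.mp this with h | h
        · exact h
        · exact absurd ((pow_eq_zero_iff two_ne_zero).mp h) hx
      have hYv : Y *ᵥ C.phi (x, 0) = C.phi (x, 0) := by
        rw [hY]
        congr 1
        simp [T, ha]
      have hρ' : ρ * (ρ - 1) = 0 := by rw [ha] at hρ; linear_combination hρ
      rcases mul_eq_zero.mp hρ' with h | h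
      · right
        rw [mem_eig, hYv, h, sub_zero, act_one]
      · left
        have : ρ = 1 := by linear_combination h
        rw [mem_eig, hYv, this, act_one]
  · set l : K := -(C.a * x) / y with hl
    have hYv : Y *ᵥ C.phi (x, y) = ι l *ᵥ C.phi (x, y) := by
      rw [hY, phi_act]
      congr 1
      simp only [T, Prod.mk.injEq]
      constructor
      · rw [hl]; field_simp; linear_combination hκ
      · rw [hl]; field_simp
    have hlroot : l ^ 2 - l + C.a * C.c = 0 := by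
      rw [hl]; field_simp; linear_combination C.a * hκ
    have : (l - ρ) * (l - (1 - ρ)) = 0 := by linear_combination hlroot - hρ
    rcases mul_eq_zero.mp this with h | h
    · left
      have : l = ρ := by linear_combination h
      rw [mem_eig, hYv, this]
    · right
      have : l = 1 - ρ := by linear_combination h
      rw [mem_eig, hYv, this]

end Coord

/-- a subspace inside the union of two subspaces lies in one of them -/
theorem le_or_le_of_forall_mem {W D₀ D₁ : Submodule F (Fin n → F)}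
    (h : ∀ w ∈ W, w ∈ D₀ ∨ w ∈ D₁) : W ≤ D₀ ∨ W ≤ D₁ := by
  by_contra hcon
  push Not at hcon
  obtain ⟨h0, h1⟩ := hcon
  obtain ⟨w₀, hw₀W, hw₀⟩ := SetLike.not_le_iff_exists.mp h0
  obtain ⟨w₁, hw₁W, hw₁⟩ := SetLike.not_le_iff_exists.mp h1
  have hw₀' : w₀ ∈ D₁ := (h w₀ hw₀W).resolve_left hw₀
  have hw₁' : w₁ ∈ D₀ := (h w₁ hw₁W).resolve_right hw₁
  rcases h (w₀ + w₁) (W.add_mem hw₀W hw₁W) with h2 | h2
  · apply hw₀
    have := D₀.sub_mem h2 hw₁'
    rwa [add_sub_cancel_right] at this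
  · apply hw₁
    have := D₁.sub_mem h2 hw₀'
    rwa [add_sub_cancel_left] at this

/-- case (i): the polynomial `t² - t + ac` has a root in `K` -/
theorem outTSPair_of_root (hQ : IsNondegenerateQuadraticForm Q) (hsa : SA Q ι) {r : ℕ}
    (hr : Module.finrank F K = r) (hrpos : 0 < r) (hn : n = 2 * r) (C : Coord Q ι)
    {Y : Matrix (Fin n) (Fin n) F} (hY : ∀ p : K × K, Y *ᵥ C.phi p = C.phi (C.T p))
    {ρ : K} (hρ : ρ ^ 2 - ρ + C.a * C.c = 0) (H : Subgroup (GL (Fin n) F))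
    (hiso : ∀ h ∈ H, ∀ v, Q ((h : Matrix (Fin n) (Fin n) F) *ᵥ v) = Q v)
    (hnorm : ∀ h ∈ H, ∀ z : K, ∃ z' : K,
      ι z * (h : Matrix (Fin n) (Fin n) F) = (h : Matrix (Fin n) (Fin n) F) * ι z') :
    OutTSPair Q H := by
  classical
  have hrK : 0 < Module.finrank F K := by rw [hr]; exact hrpos
  set D₀ := eig Y ι ρ with hD₀
  set D₁ := eig Y ι (1 - ρ) with hD₁
  have hdisj : Disjoint D₀ D₁ := C.eig_disjoint hY hQ hρ
  have hsup : D₀ ⊔ D₁ = ⊤ := C.eig_sup hY hQ hρ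
  obtain ⟨hf0, hf1⟩ := C.finrank_eig hY hQ hr hrpos hn hρ
  have hs0 : ∀ v ∈ D₀, ∀ z : K, Q (ι z *ᵥ v) = 0 := fun v hv z =>
    C.eig_sing hY hQ hsa hr hrpos hρ (C.eig_act hY hv z)
  have hs1 : ∀ v ∈ D₁, ∀ z : K, Q (ι z *ᵥ v) = 0 := fun v hv z =>
    C.eig_sing hY hQ hsa hr hrpos (C.root_symm hρ) (C.eig_act hY hv z)
  let D : Fin 2 → Submodule F (Fin n → F) := ![D₀, D₁]
  have hDdec : IsMDecomposition r D := by
    refine ⟨le_refl 2, hrpos, ?_, ?_, ?_⟩
    · intro i; fin_cases i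
      · exact hf0
      · exact hf1
    · rw [iSupIndep_pair (i := (0 : Fin 2)) (j := 1) (by decide) (by decide)]
      exact hdisj
    · rw [eq_top_iff, ← hsup]
      exact sup_le (le_iSup D 0) (le_iSup D 1)
  refine ⟨r, D, hDdec, ?_, ?_⟩
  · intro i; fin_cases i
    · intro v hv
      have := hs0 v hv 1
      rwa [act_one] at this
    · intro v hv
      have := hs1 v hv 1
      rwa [act_one] at this
  · intro h hh
    set hm : Matrix (Fin n) (Fin n) F := (h : Matrix (Fin n) (Fin n) F) with hhm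
    have hinj : Function.Injective (Matrix.toLin' hm) := by
      intro v v' hvv
      rw [Matrix.toLin'_apply, Matrix.toLin'_apply] at hvv
      have := congrArg (fun w => ((h⁻¹ : GL (Fin n) F) : Matrix (Fin n) (Fin n) F) *ᵥ w) hvv
      simpa [hhm, Matrix.mulVec_mulVec] using this
    -- `h` preserves the singular cone
    have hcone : ∀ v, (∀ z : K, Q (ι z *ᵥ v) = 0) → ∀ z : K, Q (ι z *ᵥ (hm *ᵥ v)) = 0 := by
      intro v hv z
      obtain ⟨z', hz'⟩ := hnorm h hh z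
      rw [Matrix.mulVec_mulVec, hz', ← Matrix.mulVec_mulVec, hiso h hh]
      exact hv z'
    have himg : ∀ W : Submodule F (Fin n → F), (∀ v ∈ W, ∀ z : K, Q (ι z *ᵥ v) = 0) →
        Module.finrank F W = r → W.map (Matrix.toLin' hm) = D₀ ∨ W.map (Matrix.toLin' hm) = D₁ := by
      intro W hW hWr
      have hfr : Module.finrank F (W.map (Matrix.toLin' hm)) = r := by
        rw [← hWr]
        exact (LinearEquiv.finrank_eq (Submodule.equivMapOfInjective _ hinj W)).symm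
      have hmem : ∀ w ∈ W.map (Matrix.toLin' hm), w ∈ D₀ ∨ w ∈ D₁ := by
        rintro _ ⟨v, hv, rfl⟩
        rw [Matrix.toLin'_apply]
        exact C.sing_mem hY hrK hρ (hcone v (hW v hv))
      rcases le_or_le_of_forall_mem hmem with hle | hle
      · left
        exact Submodule.eq_of_le_of_finrank_eq hle (by rw [hfr, hf0])
      · right
        exact Submodule.eq_of_le_of_finrank_eq hle (by rw [hfr, hf1])
    have hne : D₀ ≠ D₁ := by
      intro he
      rw [← he, disjoint_self] at hdisj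
      have h0 : Module.finrank F D₀ = 0 := by rw [hdisj, finrank_bot]
      have h0' : Module.finrank F D₀ = r := hf0
      omega
    have hmapinj : D₀.map (Matrix.toLin' hm) ≠ D₁.map (Matrix.toLin' hm) := fun he =>
      hne (Submodule.map_injective_of_injective hinj he)
    rcases himg D₀ hs0 hf0 with h0 | h0 <;> rcases himg D₁ hs1 hf1 with h1 | h1
    · exact absurd (h0.trans h1.symm) hmapinj
    · refine ⟨1, fun i => ?_⟩
      fin_cases i
      · exact h0
      · exact h1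
    · refine ⟨Equiv.swap 0 1, fun i => ?_⟩
      fin_cases i
      · simpa [D] using h0
      · simpa [D] using h1
    · exact absurd (h0.trans h1.symm) hmapinj

end Cfsg.Agent.Lib.Helper7.OeFH
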