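import Mathlib
import Cfsg.Prelude.Def_GeometricClasses
import Cfsg.Agent.Lib.Helper55.Oe.Defs
import Cfsg.Agent.Lib.Helper7.OeFHExist
import Cfsg.Agent.Lib.Helper30.AschUU3

set_option autoImplicit false
set_option linter.style.haveILetI false
set_option linter.unusedSectionVars false

namespace Cfsg.Agent.Lib.Helper7.OeFH

open Cfsg Cfsg.Geo Cfsg.Agent.Lib.Helper55.Oe
open scoped Matrix MatrixGroups

variable {n : ℕ} {F : Type*} [Field F] [Finite F]
variable {K : Type*} [Field K] [Algebra F K]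
variable {Q : (Fin n → F) → F} {ι : K →ₐ[F] Matrix (Fin n) (Fin n) F}

namespace Coord

variable (C : Coord Q ι)

/-- `α + β T` in coordinates -/
def elc (α β : K) (p : K × K) : K × K := (α * p.1 + β * (C.T p).1, α * p.2 + β * (C.T p).2)

theorem phi_sub (p p' : K × K) : C.phi (p - p') = C.phi p - C.phi p' := by
  have := C.phi_add (p - p') p'
  rw [sub_add_cancel] at this
  rw [this]; abel

variable {Y : Matrix (Fin n) (Fin n) F}

/-- the element `α + β Y` -/
def el (Y : Matrix (Fin n) (Fin n) F) (ι : K →ₐ[F] Matrix (Fin n) (Fin n) F) (α β : K) :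
    Matrix (Fin n) (Fin n) F := ι α + ι β * Y

variable (hY : ∀ p : K × K, Y *ᵥ C.phi p = C.phi (C.T p))

include hY

theorem el_phi (α β : K) (p : K × K) : el Y ι α β *ᵥ C.phi p = C.phi (C.elc α β p) := by
  unfold el
  rw [Matrix.add_mulVec, ← Matrix.mulVec_mulVec, hY, phi_act, phi_act, ← phi_add]
  rfl

theorem el_eq_of_elc {α β : K} {M : Matrix (Fin n) (Fin n) F}
    (h : ∀ p, M *ᵥ C.phi p = C.phi (C.elc α β p)) : M = el Y ι α β := by
  apply mat_ext
  intro v
  obtain ⟨p, rfl⟩ := C.phi_surj v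
  rw [h, C.el_phi hY]

theorem el_mul (α β α' β' : K) : el Y ι α β * el Y ι α' β' =
    el Y ι (α * α' - β * β' * (C.a * C.c)) (α * β' + β * α' + β * β') := by
  apply C.el_eq_of_elc hY
  intro p
  rw [← Matrix.mulVec_mulVec, C.el_phi hY, C.el_phi hY]
  congr 1
  simp only [elc, T]
  ext <;> simp only <;> ring

theorem el_one : el Y ι 1 0 = 1 := by
  unfold el
  rw [map_one, map_zero, zero_mul, add_zero]

omit hY in
theorem el_add (α β α' β' : K) : el Y ι α β + el Y ι α' β' = el Y ι (α + α') (β + β') := by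
  unfold el
  rw [map_add, map_add, add_mul]
  abel

omit hY in
theorem el_zero : el Y ι 0 0 = 0 := by
  unfold el
  rw [map_zero, zero_mul, add_zero]

omit hY in
theorem el_algebraMap (c : F) : el Y ι (algebraMap F K c) 0 = algebraMap F _ c := by
  unfold el
  rw [map_zero, zero_mul, add_zero, AlgHom.commutes]

theorem el_inj {α β : K} (h : el Y ι α β = 0) : α = 0 ∧ β = 0 := by
  have h1 := C.el_phi hY α β (1, 0)
  have h2 := C.el_phi hY α β (0, 1)
  rw [h, Matrix.zero_mulVec, ← C.phi_zero] at h1 h2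
  have e1 := C.phi_inj h1
  have e2 := C.phi_inj h2
  simp only [elc, T, Prod.zero_eq_mk, Prod.mk.injEq, mul_one, mul_zero, add_zero, zero_add,
    neg_zero] at e1 e2
  have hα : α = 0 := e2.2.symm
  refine ⟨hα, ?_⟩
  rw [hα, zero_add] at e1
  exact e1.1.symm

/-- the subalgebra `L = K + K Y` -/
def L : Subalgebra F (Matrix (Fin n) (Fin n) F) where
  carrier := {m | ∃ α β : K, m = el Y ι α β}
  mul_mem' := by
    rintro _ _ ⟨α, β, rfl⟩ ⟨α', β', rfl⟩
    exact ⟨_, _, C.el_mul hY α β α' β'⟩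
  one_mem' := ⟨1, 0, (C.el_one hY).symm⟩
  add_mem' := by
    rintro _ _ ⟨α, β, rfl⟩ ⟨α', β', rfl⟩
    exact ⟨_, _, el_add α β α' β'⟩
  zero_mem' := ⟨0, 0, el_zero.symm⟩
  algebraMap_mem' c := ⟨algebraMap F K c, 0, (el_algebraMap c).symm⟩

theorem mem_L {m : Matrix (Fin n) (Fin n) F} : m ∈ C.L hY ↔ ∃ α β : K, m = el Y ι α β := Iff.rfl

theorem L_comm (x y : Matrix (Fin n) (Fin n) F) (hx : x ∈ C.L hY) (hy : y ∈ C.L hY) : x * y = y * x := by
  obtain ⟨α, β, rfl⟩ := hx
  obtain ⟨α', β', rfl⟩ := hy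
  rw [C.el_mul hY, C.el_mul hY]
  congr 1 <;> ring

/-- the norm form -/
def nrm (α β : K) : K := α ^ 2 + α * β + β ^ 2 * (C.a * C.c)

theorem el_conj_mul (α β : K) : el Y ι α β * el Y ι (α + β) (-β) = ι (C.nrm α β) := by
  rw [C.el_mul hY]
  have h1 : α * (α + β) - β * -β * (C.a * C.c) = C.nrm α β := by unfold nrm; ring
  have h2 : α * -β + β * (α + β) + β * -β = 0 := by ring
  rw [h1, h2]
  unfold el
  rw [map_zero, zero_mul, add_zero]

omit hY in
theorem nrm_ne_zero (hirr : ∀ ρ : K, ρ ^ 2 - ρ + C.a * C.c ≠ 0) {α β : K} (h : α ≠ 0 ∨ β ≠ 0) :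
    C.nrm α β ≠ 0 := by
  unfold nrm
  by_cases hβ : β = 0
  · subst hβ
    have hα : α ≠ 0 := h.resolve_right (by simp)
    simpa using hα
  · intro h0
    apply hirr (-(α / β))
    field_simp
    linear_combination h0

theorem L_inv (hirr : ∀ ρ : K, ρ ^ 2 - ρ + C.a * C.c ≠ 0) (x : Matrix (Fin n) (Fin n) F)
    (hx : x ∈ C.L hY) (hx0 : x ≠ 0) : ∃ y ∈ C.L hY, x * y = 1 := by
  obtain ⟨α, β, rfl⟩ := hx
  have hne : α ≠ 0 ∨ β ≠ 0 := by
    by_contra hcon
    push Not at hcon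
    apply hx0
    rw [hcon.1, hcon.2]
    exact el_zero
  have hN := C.nrm_ne_zero hirr hne
  refine ⟨el Y ι (α + β) (-β) * el Y ι (C.nrm α β)⁻¹ 0, (C.L hY).mul_mem ⟨_, _, rfl⟩ ⟨_, _, rfl⟩, ?_⟩
  rw [← mul_assoc, C.el_conj_mul hY]
  unfold el
  rw [map_zero, zero_mul, add_zero, ← map_mul, mul_inv_cancel₀ hN, map_one]


theorem finrank_L {r : ℕ} (hr : Module.finrank F K = r) (hrpos : 0 < r) :
    Module.finrank F (C.L hY) = 2 * r := by
  haveI : Module.Finite F K := Module.finite_of_finrank_pos (by rw [hr]; exact hrpos)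
  let f : (K × K) →ₗ[F] Matrix (Fin n) (Fin n) F :=
    ι.toLinearMap.comp (LinearMap.fst F K K) +
      (LinearMap.mulRight F Y).comp (ι.toLinearMap.comp (LinearMap.snd F K K))
  have hf : ∀ p : K × K, f p = el Y ι p.1 p.2 := fun p => rfl
  have hinj : Function.Injective f := by
    rw [injective_iff_map_eq_zero]
    rintro ⟨α, β⟩ h
    rw [hf] at h
    obtain ⟨h1, h2⟩ := C.el_inj hY h
    simp only at h1 h2
    rw [h1, h2]; rfl
  have hrange : LinearMap.range f = Subalgebra.toSubmodule (C.L hY) := by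
    ext m
    constructor
    · rintro ⟨p, rfl⟩
      exact ⟨p.1, p.2, hf p⟩
    · rintro ⟨α, β, rfl⟩
      exact ⟨(α, β), hf _⟩
  have h1 := LinearMap.finrank_range_of_inj hinj
  rw [hrange, Module.finrank_prod, hr] at h1
  have h2 : Module.finrank F (C.L hY) = Module.finrank F (Subalgebra.toSubmodule (C.L hY)) := rfl
  rw [h2, h1]; ring

theorem el_adj (hQ : IsNondegenerateQuadraticForm Q) (hsa : SA Q ι) (α β : K) (v v' : Fin n → F) :
    QuadraticMap.polar Q (el Y ι α β *ᵥ v) v' =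
      QuadraticMap.polar Q v (el Y ι (α + β) (-β) *ᵥ v') := by
  unfold el
  rw [Matrix.add_mulVec, Matrix.add_mulVec, ← Matrix.mulVec_mulVec, ← Matrix.mulVec_mulVec,
    hQ.polar_bilinear.add_left, hQ.polar_bilinear.add_right, hsa α, hsa β, act_add,
    hQ.polar_bilinear.add_right, act_neg, polar_neg_right hQ]
  have h1 := C.Y_adj hY hQ v (ι β *ᵥ v')
  have e : Y *ᵥ (ι β *ᵥ v') = ι β *ᵥ (Y *ᵥ v') := by
    rw [Matrix.mulVec_mulVec, Matrix.mulVec_mulVec, C.Y_comm hY]
  rw [e] at h1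
  linear_combination h1

end Coord

/-- an isometry preserves the polar form -/
theorem polar_map_of_isometry {g : Matrix (Fin n) (Fin n) F} (hg : ∀ v, Q (g *ᵥ v) = Q v)
    (u v : Fin n → F) : QuadraticMap.polar Q (g *ᵥ u) (g *ᵥ v) = QuadraticMap.polar Q u v := by
  unfold QuadraticMap.polar
  rw [← Matrix.mulVec_add, hg, hg, hg]

namespace Coord

variable (C : Coord Q ι) {Y : Matrix (Fin n) (Fin n) F}
  (hY : ∀ p : K × K, Y *ᵥ C.phi p = C.phi (C.T p))

include hY

theorem L_norm (hQ : IsNondegenerateQuadraticForm Q) (hr : 0 < Module.finrank F K)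
    (H : Subgroup (GL (Fin n) F))
    (hiso : ∀ h ∈ H, ∀ v, Q ((h : Matrix (Fin n) (Fin n) F) *ᵥ v) = Q v)
    (hnorm : ∀ h ∈ H, ∀ z : K, ∃ z' : K,
      ι z * (h : Matrix (Fin n) (Fin n) F) = (h : Matrix (Fin n) (Fin n) F) * ι z') :
    ∀ h ∈ H, ∀ k ∈ C.L hY,
      (h : Matrix (Fin n) (Fin n) F) * k * ((h⁻¹ : GL (Fin n) F) : Matrix (Fin n) (Fin n) F) ∈ C.L hY := by
  intro h hh
  set hm : Matrix (Fin n) (Fin n) F := (h : Matrix (Fin n) (Fin n) F) with hhm
  set hi : Matrix (Fin n) (Fin n) F := ((h⁻¹ : GL (Fin n) F) : Matrix (Fin n) (Fin n) F) with hhi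
  have hmi : hm * hi = 1 := by rw [hhm, hhi, ← Units.val_mul, mul_inv_cancel, Units.val_one]
  have him : hi * hm = 1 := by rw [hhm, hhi, ← Units.val_mul, inv_mul_cancel, Units.val_one]
  -- conjugates of `ι z`
  have hconj : ∀ z : K, ∃ z' : K, hm * ι z * hi = ι z' := by
    intro z
    obtain ⟨z', hz'⟩ := hnorm h⁻¹ (H.inv_mem hh) z
    refine ⟨z', ?_⟩
    rw [mul_assoc, ← hhi] at *
    rw [hz', ← mul_assoc, hmi, one_mul]
  -- the conjugate of `Y`
  have hYc : hm * Y * hi ∈ C.L hY := by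
    have hcomm : ∀ z : K, (hm * Y * hi - Y) * ι z = ι z * (hm * Y * hi - Y) := by
      intro z
      obtain ⟨z₁, hz₁⟩ := hnorm h hh z
      rw [← hhm] at hz₁
      have h1 : hi * ι z = ι z₁ * hi := by
        calc hi * ι z = hi * ι z * (hm * hi) := by rw [hmi, mul_one]
          _ = hi * (ι z * hm) * hi := by simp only [mul_assoc]
          _ = hi * (hm * ι z₁) * hi := by rw [hz₁]
          _ = (hi * hm) * ι z₁ * hi := by simp only [mul_assoc]
          _ = ι z₁ * hi := by rw [him, one_mul]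
      rw [sub_mul, mul_sub, C.Y_comm hY z]
      congr 1
      calc hm * Y * hi * ι z = hm * Y * (hi * ι z) := by rw [mul_assoc]
        _ = hm * Y * (ι z₁ * hi) := by rw [h1]
        _ = hm * (Y * ι z₁) * hi := by simp only [mul_assoc]
        _ = hm * (ι z₁ * Y) * hi := by rw [C.Y_comm hY]
        _ = (hm * ι z₁) * Y * hi := by simp only [mul_assoc]
        _ = (ι z * hm) * Y * hi := by rw [hz₁]
        _ = ι z * (hm * Y * hi) := by simp only [mul_assoc]
    have halt : ∀ v, QuadraticMap.polar Q ((hm * Y * hi - Y) *ᵥ v) v = 0 := by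
      intro v
      rw [Matrix.sub_mulVec, ← Bl_apply hQ, map_sub, LinearMap.sub_apply, Bl_apply, Bl_apply,
        C.Y_polar hY]
      set w := hi *ᵥ v with hw
      have hv : v = hm *ᵥ w := by rw [hw, Matrix.mulVec_mulVec, hmi, Matrix.one_mulVec]
      have e1 : (hm * Y * hi) *ᵥ v = hm *ᵥ (Y *ᵥ w) := by
        rw [hw, Matrix.mulVec_mulVec, Matrix.mulVec_mulVec]
      have : QuadraticMap.polar Q ((hm * Y * hi) *ᵥ v) v = Q v := by
        rw [e1]
        conv_lhs => rw [hv]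
        rw [polar_map_of_isometry (hiso h hh), C.Y_polar hY]
        conv_rhs => rw [hv]
        rw [hiso h hh]
      rw [this, sub_self]
    obtain ⟨p, hp⟩ := C.alt_comm_eq hY hQ hr hcomm halt
    refine ⟨-p, 1 + 2 * p, ?_⟩
    have : hm * Y * hi = Y + ι p * (2 • Y - 1) := by rw [← hp]; abel
    rw [this]
    unfold el
    rw [map_neg, map_add, map_one, map_mul, map_ofNat, add_mul, one_mul, mul_sub, mul_one, two_smul]
    rw [mul_assoc, two_mul, mul_add]
    abel
  rintro k ⟨α, β, rfl⟩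
  obtain ⟨α', hα'⟩ := hconj α
  obtain ⟨β', hβ'⟩ := hconj β
  have e2 : hm * (ι β * Y) * hi = (hm * ι β * hi) * (hm * Y * hi) := by
    calc hm * (ι β * Y) * hi = hm * ι β * (1 : Matrix (Fin n) (Fin n) F) * Y * hi := by
          simp only [mul_assoc, one_mul]
      _ = hm * ι β * (hi * hm) * Y * hi := by rw [him]
      _ = (hm * ι β * hi) * (hm * Y * hi) := by simp only [mul_assoc]
  have : hm * el Y ι α β * hi = ι α' + ι β' * (hm * Y * hi) := by
    unfold el
    rw [mul_add, add_mul, hα', e2, hβ']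
  rw [this]
  exact (C.L hY).add_mem ⟨α', 0, by unfold el; rw [map_zero, zero_mul, add_zero]⟩
    ((C.L hY).mul_mem ⟨β', 0, by unfold el; rw [map_zero, zero_mul, add_zero]⟩ hYc)

end Coord

end Cfsg.Agent.Lib.Helper7.OeFH
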