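import Mathlib
import Cfsg.Prelude.Def_GeometricClasses
import Cfsg.Agent.Lib.Helper55.Oe.Defs
import Cfsg.Agent.Lib.Helper7.OeFHCaseB

set_option autoImplicit false
set_option linter.style.haveILetI false
set_option linter.unusedSectionVars false

namespace Cfsg.Agent.Lib.Helper7.OeFH

open Cfsg Cfsg.Geo Cfsg.Agent.Lib.Helper55.Oe
open scoped Matrix MatrixGroups

variable {n : ℕ} {F : Type*} [Field F] [Fintype F]
variable {K : Type*} [Field K] [Algebra F K]
variable {Q : (Fin n → F) → F} {ι : K →ₐ[F] Matrix (Fin n) (Fin n) F}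

/-- the roots of `X^q - X` in `K` are the elements of `F` -/
theorem mem_base_of_pow_card (x : K) (h : x ^ Fintype.card F = x) : ∃ c : F, algebraMap F K c = x := by
  classical
  set q := Fintype.card F with hq
  have hq1 : 1 < q := Fintype.one_lt_card
  let P : Polynomial K := Polynomial.X ^ q - Polynomial.X
  have hP0 : P ≠ 0 := FiniteField.X_pow_card_sub_X_ne_zero K hq1
  have hPdeg : P.natDegree = q := FiniteField.X_pow_card_sub_X_natDegree_eq K hq1
  have hroot : ∀ y : K, y ^ q = y → y ∈ P.roots.toFinset := by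
    intro y hy
    rw [Multiset.mem_toFinset, Polynomial.mem_roots hP0]
    simp [P, hy]
  let S : Finset K := Finset.univ.image (algebraMap F K)
  have hScard : S.card = q := by
    rw [Finset.card_image_of_injective _ (algebraMap F K).injective, Finset.card_univ]
  have hSsub : S ⊆ P.roots.toFinset := by
    intro y hy
    obtain ⟨c, -, rfl⟩ := Finset.mem_image.mp hy
    apply hroot
    rw [← map_pow, FiniteField.pow_card]
  have hle : P.roots.toFinset.card ≤ S.card := by
    rw [hScard]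
    calc P.roots.toFinset.card ≤ Multiset.card P.roots := Multiset.toFinset_card_le _
      _ ≤ P.natDegree := Polynomial.card_roots' P
      _ = q := hPdeg
  have heq := Finset.eq_of_subset_of_card_le hSsub hle
  have hx : x ∈ S := by rw [heq]; exact hroot x h
  obtain ⟨c, -, hc⟩ := Finset.mem_image.mp hx
  exact ⟨c, hc⟩

theorem mem_base_of_pow_sq {r : ℕ} (hr : Module.finrank F K = r) (hodd : Odd r) (x : K)
    (h : x ^ (Fintype.card F ^ 2) = x) : ∃ c : F, algebraMap F K c = x := by
  classical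
  set q := Fintype.card F with hq
  have hrpos : 0 < r := hodd.pos
  haveI : Module.Finite F K := Module.finite_of_finrank_pos (by rw [hr]; exact hrpos)
  haveI : Finite K := Module.finite_of_finite F
  haveI : Fintype K := Fintype.ofFinite K
  have hcard : Fintype.card K = q ^ r := by rw [Module.card_eq_pow_finrank (K := F) (V := K), hr]
  have hxr : x ^ (q ^ r) = x := by rw [← hcard]; exact FiniteField.pow_card x
  obtain ⟨m, hm⟩ := hodd
  have heven : ∀ k : ℕ, x ^ (q ^ (2 * k)) = x := by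
    intro k
    induction k with
    | zero => simp
    | succ k ih =>
      have : q ^ (2 * (k + 1)) = q ^ (2 * k) * q ^ 2 := by rw [← pow_add]; ring_nf
      rw [this, pow_mul, ih, h]
  apply mem_base_of_pow_card
  have : q ^ r = q ^ (2 * m) * q := by rw [hm, pow_succ]
  rw [this, pow_mul, heven] at hxr
  exact hxr

theorem adj_pow {k k' : Matrix (Fin n) (Fin n) F}
    (h : ∀ u v, QuadraticMap.polar Q (k *ᵥ u) v = QuadraticMap.polar Q u (k' *ᵥ v)) (m : ℕ) :
    ∀ u v, QuadraticMap.polar Q ((k ^ m) *ᵥ u) v = QuadraticMap.polar Q u ((k' ^ m) *ᵥ v) := by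
  induction m with
  | zero => intro u v; simp
  | succ m ih =>
    intro u v
    rw [pow_succ, ← Matrix.mulVec_mulVec, ih, pow_succ', ← Matrix.mulVec_mulVec, h]

theorem adj_unique (hQ : IsNondegenerateQuadraticForm Q) {A A' : Matrix (Fin n) (Fin n) F}
    (h : ∀ u v, QuadraticMap.polar Q u (A *ᵥ v) = QuadraticMap.polar Q u (A' *ᵥ v)) : A = A' := by
  apply mat_ext
  intro v
  by_contra hne
  have hne' : A *ᵥ v - A' *ᵥ v ≠ 0 := sub_ne_zero.mpr hne
  obtain ⟨⟨x, hx⟩, -⟩ := hQ.nondegenerate _ hne'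
  apply hx
  rw [polar_sub_right hQ, h, sub_self]


open Coord in
/-- case (ii): the polynomial `t² - t + ac` has no root in `K` -/
theorem outFieldU_of_irred (hQ : IsNondegenerateQuadraticForm Q) (hsa : SA Q ι) {r : ℕ}
    (hr : Module.finrank F K = r) (hodd : Odd r) (hn : n = 2 * r) (C : Coord Q ι)
    {Y : Matrix (Fin n) (Fin n) F} (hY : ∀ p : K × K, Y *ᵥ C.phi p = C.phi (C.T p))
    (hirr : ∀ ρ : K, ρ ^ 2 - ρ + C.a * C.c ≠ 0) (H : Subgroup (GL (Fin n) F))
    (hiso : ∀ h ∈ H, ∀ v, Q ((h : Matrix (Fin n) (Fin n) F) *ᵥ v) = Q v)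
    (hnorm : ∀ h ∈ H, ∀ z : K, ∃ z' : K,
      ι z * (h : Matrix (Fin n) (Fin n) F) = (h : Matrix (Fin n) (Fin n) F) * ι z') :
    OutFieldU Q H := by
  classical
  have hrpos : 0 < r := hodd.pos
  have hrK : 0 < Module.finrank F K := by rw [hr]; exact hrpos
  have hnpos : 0 < n := by omega
  haveI : Nonempty (Fin n) := ⟨⟨0, hnpos⟩⟩
  haveI : Nontrivial (Matrix (Fin n) (Fin n) F) := inferInstance
  set L := C.L hY with hL
  have hfield : IsField ↥L :=
    { exists_pair_ne := ⟨0, 1, fun h => zero_ne_one (congrArg Subtype.val h)⟩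
      mul_comm := fun a b => Subtype.ext (C.L_comm hY a.1 b.1 a.2 b.2)
      mul_inv_cancel := fun {a} ha => by
        obtain ⟨y, hyL, hy⟩ := C.L_inv hY hirr a.1 a.2 (fun h => ha (Subtype.ext h))
        exact ⟨⟨y, hyL⟩, Subtype.ext hy⟩ }
  have hdvd : 2 ∣ Module.finrank F ↥L := by
    rw [hL, C.finrank_L hY hr hrpos]
    exact dvd_mul_right 2 r
  obtain ⟨L₂, hmem, hfs, hnormL₂⟩ :=
    Cfsg.Agent.Lib.Helper30.AschUU3.exists_subfield_of_prime_dvd H L hfield
      (fun x hx y hy => C.L_comm hY x y hx hy)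
      (C.L_inv hY hirr) (C.L_norm hY hQ hrK H hiso hnorm) 2 hdvd
  set q := Fintype.card F with hq
  have hιinj : Function.Injective ι := ι.toRingHom.injective
  -- the adjoint of an element of `L₂`
  have hadj : ∀ α β : K, el Y ι α β ∈ L₂ → el Y ι (α + β) (-β) ∈ L₂ := by
    intro α β hk
    rw [hmem] at hk ⊢
    refine ⟨⟨_, _, rfl⟩, ?_⟩
    apply adj_unique hQ
    intro u v
    rw [← adj_pow (C.el_adj hY hQ hsa α β) (q ^ 2), hk.2, C.el_adj hY hQ hsa]
  refine ⟨L₂, hfs, ?_, ?_, ?_, hnormL₂⟩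
  · -- adjoint closed
    intro k hk
    obtain ⟨α, β, rfl⟩ := ((hmem k).mp hk).1
    exact ⟨_, hadj α β hk, C.el_adj hY hQ hsa α β⟩
  · -- not self-adjoint
    intro hSA
    have hsub : ∀ k ∈ L₂, ∃ c : F, k = algebraMap F (Matrix (Fin n) (Fin n) F) c := by
      intro k hk
      obtain ⟨α, β, rfl⟩ := ((hmem _).mp hk).1
      have hkk : el Y ι (α + β) (-β) = el Y ι α β := by
        apply adj_unique hQ
        intro u v
        rw [← C.el_adj hY hQ hsa, hSA _ hk]
      have hβ : β = 0 := by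
        have h0 : el Y ι β (-β + -β) = 0 := by
          have := el_add (Y := Y) (ι := ι) (α + β) (-β) (-α) (-β)
          rw [hkk] at this
          have h2 : el Y ι α β + el Y ι (-α) (-β) = 0 := by
            rw [el_add, add_neg_cancel, add_neg_cancel, el_zero]
          rw [h2] at this
          rw [this]
          congr 1
          ring
        exact (C.el_inj hY h0).1
      subst hβ
      have hpow := ((hmem _).mp hk).2
      have hel : el Y ι α 0 = ι α := by unfold el; rw [map_zero, zero_mul, add_zero]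
      rw [hel, ← map_pow] at hpow
      obtain ⟨c, hc⟩ := mem_base_of_pow_sq hr hodd α (hιinj hpow)
      refine ⟨c, ?_⟩
      rw [hel, ← hc, AlgHom.commutes]
    have hle : L₂ ≤ ⊥ := by
      intro k hk
      obtain ⟨c, rfl⟩ := hsub k hk
      exact Subalgebra.algebraMap_mem _ c
    have h1 : Module.finrank F ↥L₂ = 1 := by
      rw [le_bot_iff.mp hle]
      exact Subalgebra.finrank_bot
    rw [hfs.finrank_eq] at h1
    omega
  · -- similarities
    intro k hk
    obtain ⟨α, β, rfl⟩ := ((hmem _).mp hk).1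
    have hk' := hadj α β hk
    have hprod : el Y ι α β * el Y ι (α + β) (-β) ∈ L₂ := L₂.mul_mem hk hk'
    rw [C.el_conj_mul hY] at hprod
    have hpow := ((hmem _).mp hprod).2
    rw [← map_pow] at hpow
    obtain ⟨c, hc⟩ := mem_base_of_pow_sq hr hodd _ (hιinj hpow)
    refine ⟨c, fun v => ?_⟩
    have hYL : Y ∈ L := ⟨0, 1, by unfold el; rw [map_zero, map_one, zero_add, one_mul]⟩
    have e1 : el Y ι (α + β) (-β) * Y * el Y ι α β = Y * ι (C.nrm α β) := by
      rw [C.L_comm hY _ _ ⟨_, _, rfl⟩ hYL, mul_assoc, C.L_comm hY _ _ ⟨_, _, rfl⟩ ⟨α, β, rfl⟩,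
        C.el_conj_mul hY]
    have e2 : el Y ι (α + β) (-β) *ᵥ (Y *ᵥ (el Y ι α β *ᵥ v)) = c • (Y *ᵥ v) := by
      rw [Matrix.mulVec_mulVec, Matrix.mulVec_mulVec, e1, ← Matrix.mulVec_mulVec, ← hc,
        act_algebraMap, Matrix.mulVec_smul]
    rw [← C.Y_polar hY (el Y ι α β *ᵥ v), polar_symm, C.el_adj hY hQ hsa, e2,
      hQ.polar_bilinear.smul_right, polar_symm, C.Y_polar hY]

end Cfsg.Agent.Lib.Helper7.OeFH
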