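import Mathlib
import Cfsg.Prelude.Def_GeometricClasses
import Cfsg.Agent.Lib.Helper99.AschDefs
import Cfsg.Agent.Lib.Helper55.Oe.Defs
import Cfsg.Agent.Lib.Helper7.OeFHCaseA
import Cfsg.Agent.Lib.Helper7.OeFHCaseB2

set_option autoImplicit false
set_option linter.style.haveILetI false
set_option linter.unusedSectionVars false

namespace Cfsg.Agent.Lib.Helper7.OeFH

open Cfsg Cfsg.Geo Cfsg.Agent.Lib.Helper55.Oe
open scoped Matrix MatrixGroups

variable {n : ℕ} {F : Type*} [Field F] [Fintype F]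

/-- the abstract form of ASCHOE-[E-FIELDHALF]: `K` a field with an embedding into the matrix algebra -/
theorem core {K : Type*} [Field K] [Algebra F K] {Q : (Fin n → F) → F}
    (ι : K →ₐ[F] Matrix (Fin n) (Fin n) F) (hQ : IsNondegenerateQuadraticForm Q) (hsa : SA Q ι)
    {r : ℕ} (hr : Module.finrank F K = r) (hodd : Odd r) (hn : n = 2 * r)
    (H : Subgroup (GL (Fin n) F))
    (hiso : ∀ h ∈ H, ∀ v, Q ((h : Matrix (Fin n) (Fin n) F) *ᵥ v) = Q v)
    (hnorm : ∀ h ∈ H, ∀ z : K, ∃ z' : K,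
      ι z * (h : Matrix (Fin n) (Fin n) F) = (h : Matrix (Fin n) (Fin n) F) * ι z') :
    OutTSPair Q H ∨ OutFieldU Q H := by
  obtain ⟨C⟩ := exists_coord hQ hr hodd.pos hn hsa
  obtain ⟨Y, hY⟩ := C.exists_Y0
  by_cases hroot : ∃ ρ : K, ρ ^ 2 - ρ + C.a * C.c = 0
  · obtain ⟨ρ, hρ⟩ := hroot
    exact Or.inl (outTSPair_of_root hQ hsa hr hodd.pos hn C hY hρ H hiso hnorm)
  · push Not at hroot
    exact Or.inr (outFieldU_of_irred hQ hsa hr hodd hn C hY hroot H hiso hnorm)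

end Cfsg.Agent.Lib.Helper7.OeFH

namespace Cfsg.Agent.Lib.Helper55.Oe

open Cfsg Cfsg.Geo Cfsg.Agent.Lib.Helper99.Asch Cfsg.Agent.Lib.Helper7.OeFH
open scoped MatrixGroups Matrix Kronecker

variable {n : ℕ} {F : Type*} [Field F] [Fintype F]

/-- ASCHOE-[E-FIELDHALF] -/
theorem tsPair_or_fieldU_of_selfAdjoint_field_half {Q : (Fin n → F) → F}
    (hQ : IsNondegenerateQuadraticForm Q) {H : Subgroup (GL (Fin n) F)} (hH : H ≤ isometryGroup F Q)
    (r : ℕ) (hn : n = 2 * r) (hr : Odd r) (K : Subalgebra F (Matrix (Fin n) (Fin n) F))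
    (hK : IsFieldSubalgebra r K) (hsa : IsSelfAdjointFor (QuadraticMap.polar Q) K)
    (hle : H ≤ subalgebraNormalizer K) : OutTSPair Q H ∨ OutFieldU Q H := by
  classical
  have hnpos : 0 < n := by have := hr.pos; omega
  haveI : Nonempty (Fin n) := ⟨⟨0, hnpos⟩⟩
  haveI : Nontrivial (Matrix (Fin n) (Fin n) F) := inferInstance
  have hfield : IsField ↥K :=
    { exists_pair_ne := ⟨0, 1, fun h => zero_ne_one (congrArg Subtype.val h)⟩
      mul_comm := fun a b => Subtype.ext (hK.comm a.1 a.2 b.1 b.2)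
      mul_inv_cancel := fun {a} ha => by
        obtain ⟨y, hyK, hy⟩ := hK.inv a.1 a.2 (fun h => ha (Subtype.ext h))
        exact ⟨⟨y, hyK⟩, Subtype.ext hy⟩ }
  letI instFld : Field ↥K := hfield.toField
  have hiso : ∀ h ∈ H, ∀ v, Q ((h : Matrix (Fin n) (Fin n) F) *ᵥ v) = Q v := by
    intro h hh v
    exact hH hh v v
  have hnorm : ∀ h ∈ H, ∀ z : ↥K, ∃ z' : ↥K,
      K.val z * (h : Matrix (Fin n) (Fin n) F) = (h : Matrix (Fin n) (Fin n) F) * K.val z' := by
    intro h hh z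
    have hmem := hle hh
    have hk : ((h⁻¹ : GL (Fin n) F) : Matrix (Fin n) (Fin n) F) * z.1 * (h : Matrix (Fin n) (Fin n) F) ∈ K := by
      rw [hmem]
      have : (h : Matrix (Fin n) (Fin n) F) *
          (((h⁻¹ : GL (Fin n) F) : Matrix (Fin n) (Fin n) F) * z.1 * (h : Matrix (Fin n) (Fin n) F)) *
          ((h⁻¹ : GL (Fin n) F) : Matrix (Fin n) (Fin n) F) = z.1 := by
        simp only [← mul_assoc]
        rw [← Units.val_mul, mul_inv_cancel, Units.val_one, one_mul, mul_assoc, ← Units.val_mul,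
          mul_inv_cancel, Units.val_one, mul_one]
      rw [this]
      exact z.2
    refine ⟨⟨_, hk⟩, ?_⟩
    show z.1 * (h : Matrix (Fin n) (Fin n) F) = (h : Matrix (Fin n) (Fin n) F) *
      (((h⁻¹ : GL (Fin n) F) : Matrix (Fin n) (Fin n) F) * z.1 * (h : Matrix (Fin n) (Fin n) F))
    simp only [← mul_assoc]
    rw [← Units.val_mul, mul_inv_cancel, Units.val_one, one_mul]
  have hsa' : SA Q K.val := by
    intro x u v
    exact hsa x.1 x.2 u v
  exact core K.val hQ hsa' hK.finrank_eq hr hn H hiso hnorm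

end Cfsg.Agent.Lib.Helper55.Oe
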