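import Mathlib

/-!
# Helper7: Sylow subgroups from explicit generator data

Generic lemmas (Mathlib only):
* `closure_image_mem_list`: the image of `closure S` under a monoid hom lies in a list that contains `1` and
  is closed under left multiplication by the images of the generators (finite group).
* `card_closure_eq_length`: order of `closure S` from an explicit duplicate-free list.
* `range_mulEquiv_of_ker_eq`: two homs with equal kernels have isomorphic ranges.
* `sylow_mulEquiv_of_card`: a subgroup of order `p^n` in a group whose order is not divisible by `p^(n+1)` is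
  isomorphic to every Sylow `p`-subgroup.
-/

set_option autoImplicit false

namespace Cfsg.Agent.Lib.Helper7.SylowPair

open Subgroup

theorem closure_image_mem_list {G M : Type*} [Group G] [Finite G] [Monoid M] (φ : G →* M)
    (S : Set G) (L : List M) (h1 : (1 : M) ∈ L)
    (hmul : ∀ s ∈ S, ∀ m ∈ L, φ s * m ∈ L) :
    ∀ x ∈ closure S, φ x ∈ L := by
  intro x hx
  have hx' : x ∈ Submonoid.closure S := by
    rw [← Subgroup.closure_toSubmonoid_of_finite]; exact hx
  clear hx
  induction hx' using Submonoid.closure_induction_left with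
  | one => simpa using h1
  | mul_left s hs y _ ih =>
    rw [map_mul]
    exact hmul s hs _ ih

theorem card_closure_eq_length {G : Type*} [Group G] [Finite G] (S : Set G) (L : List G)
    (hnd : L.Nodup) (h1 : (1 : G) ∈ L) (hmul : ∀ s ∈ S, ∀ m ∈ L, s * m ∈ L)
    (hsub : ∀ m ∈ L, m ∈ closure S) : Nat.card (closure S) = L.length := by
  classical
  have hle : ∀ x ∈ closure S, x ∈ L := by
    intro x hx
    simpa using closure_image_mem_list (MonoidHom.id G) S L h1 (by simpa using hmul) x hx
  have hset : ((closure S : Subgroup G) : Set G) = (L.toFinset : Set G) := by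
    ext x
    simp only [SetLike.mem_coe, List.coe_toFinset, Set.mem_ofPred_eq]
    exact ⟨hle x, hsub x⟩
  have h := Set.ncard_coe_finset L.toFinset
  rw [← hset] at h
  rw [List.toFinset_card_of_nodup hnd] at h
  rw [← h]
  rfl

/-- Two homomorphisms out of the same group with the same kernel have isomorphic ranges. -/
noncomputable def rangeMulEquivOfKerEq {D A B : Type*} [Group D] [Group A] [Group B]
    (f : D →* A) (g : D →* B) (h : f.ker = g.ker) : f.range ≃* g.range :=
  (QuotientGroup.quotientKerEquivRange f).symm.trans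
    ((QuotientGroup.quotientMulEquivOfEq h).trans (QuotientGroup.quotientKerEquivRange g))

theorem sylow_mulEquiv_of_card {G : Type*} [Group G] [Finite G] {p : ℕ} [Fact p.Prime]
    (H : Subgroup G) (n : ℕ) (hH : Nat.card H = p ^ n) (hG : ¬ p ^ (n + 1) ∣ Nat.card G)
    (P : Sylow p G) : Nonempty (↥(P : Subgroup G) ≃* ↥H) := by
  have hpg : IsPGroup p H := IsPGroup.of_card hH
  obtain ⟨Q, hQ⟩ := hpg.exists_le_sylow
  have hQc := Sylow.card_eq_multiplicity Q
  set k := (Nat.card G).factorization p with hk
  have hdiv : p ^ k ∣ Nat.card G := Nat.ordProj_dvd _ _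
  have hkn : k ≤ n := by
    by_contra hlt
    rw [not_le] at hlt
    exact hG ((pow_dvd_pow p hlt).trans hdiv)
  have hle : Nat.card (Q : Subgroup G) ≤ Nat.card H := by
    rw [hQc, hH]
    exact Nat.pow_le_pow_right (Fact.out : p.Prime).pos hkn
  have heq : H = (Q : Subgroup G) := Subgroup.eq_of_le_of_card_ge hQ hle
  exact ⟨(Sylow.equiv P Q).trans (MulEquiv.subgroupCongr heq.symm)⟩

/-- Transport version: a subgroup `H` of a group `G'` isomorphic to `G`. -/
theorem sylow_mulEquiv_of_card_of_mulEquiv {G G' : Type*} [Group G] [Finite G] [Group G']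
    {p : ℕ} [Fact p.Prime] (e : G' ≃* G)
    (H : Subgroup G') (n : ℕ) (hH : Nat.card H = p ^ n) (hG : ¬ p ^ (n + 1) ∣ Nat.card G)
    (P : Sylow p G) : Nonempty (↥(P : Subgroup G) ≃* ↥H) := by
  have e1 : H ≃* H.map e.toMonoidHom := H.equivMapOfInjective e.toMonoidHom e.injective
  have hc : Nat.card (H.map e.toMonoidHom) = p ^ n := by
    rw [← hH]; exact Nat.card_congr e1.symm.toEquiv
  obtain ⟨e2⟩ := sylow_mulEquiv_of_card (H.map e.toMonoidHom) n hc hG P
  exact ⟨e2.trans e1.symm⟩

/-! ### Polycyclic words and explicit orders of closures -/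

/-- polycyclic word: for `gens = [a₁, …, aₖ]` and bits `b` of `n`, `aₖ^bₖ₋₁ * ⋯ * a₁^b₀`. -/
def pcw {M : Type*} [Monoid M] : List M → ℕ → M
  | [], _ => 1
  | g :: rest, n => pcw rest (n / 2) * (if n % 2 = 1 then g else 1)

theorem pcw_zero {M : Type*} [Monoid M] (gens : List M) : pcw gens 0 = 1 := by
  induction gens with
  | nil => rfl
  | cons g rest ih => simp [pcw, ih]

theorem pcw_mem_closure {G : Type*} [Group G] (gens : List G) (n : ℕ) :
    pcw gens n ∈ closure {x | x ∈ gens} := by
  induction gens generalizing n with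
  | nil => simp [pcw]
  | cons g rest ih =>
    have hsub : closure {x | x ∈ rest} ≤ closure {x | x ∈ g :: rest} :=
      closure_mono (fun x hx => List.mem_cons_of_mem _ hx)
    simp only [pcw]
    refine mul_mem (hsub (ih _)) ?_
    split_ifs
    · exact subset_closure (List.mem_cons_self)
    · exact one_mem _

def chkClosed {G : Type*} [Monoid G] [DecidableEq G] (gens : List G) (N : ℕ)
    (tbl : List (List ℕ)) : Bool :=
  (List.range gens.length).all fun k => (List.range N).all fun n =>
    decide (gens.getD k 1 * pcw gens n = pcw gens ((tbl.getD k []).getD n 0)) &&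
      decide ((tbl.getD k []).getD n 0 < N)

def chkNodup {G : Type*} [Monoid G] [DecidableEq G] (gens : List G) (N : ℕ) : Bool :=
  decide (((List.range N).map (pcw gens)).Nodup)

theorem card_closure_of_chk {G : Type*} [Group G] [Finite G] [DecidableEq G] (gens : List G)
    (N : ℕ) (tbl : List (List ℕ)) (hN : 0 < N) (h1 : chkClosed gens N tbl = true)
    (h2 : chkNodup gens N = true) : Nat.card (closure {x | x ∈ gens}) = N := by
  have hlen : ((List.range N).map (pcw gens)).length = N := by simp
  rw [← hlen]
  apply card_closure_eq_length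
  · exact of_decide_eq_true h2
  · rw [List.mem_map]
    exact ⟨0, List.mem_range.mpr hN, pcw_zero gens⟩
  · intro s hs m hm
    rw [List.mem_map] at hm ⊢
    obtain ⟨n, hn, rfl⟩ := hm
    obtain ⟨k, hk, rfl⟩ := List.getElem_of_mem hs
    unfold chkClosed at h1
    rw [List.all_eq_true] at h1
    have h3 := h1 k (List.mem_range.mpr hk)
    rw [List.all_eq_true] at h3
    have h4 := h3 n hn
    rw [Bool.and_eq_true] at h4
    have h5 := of_decide_eq_true h4.1
    have h6 := of_decide_eq_true h4.2
    refine ⟨_, List.mem_range.mpr h6, ?_⟩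
    rw [← h5, List.getD_eq_getElem _ _ hk]
  · intro m hm
    rw [List.mem_map] at hm
    obtain ⟨n, _, rfl⟩ := hm
    exact pcw_mem_closure gens n

/-! ### Closure induction in finite groups without inverses -/

theorem closure_forall_of_finite {G : Type*} [Group G] [Finite G] (S : Set G) (p : G → Prop)
    (h1 : p 1) (hS : ∀ s ∈ S, p s) (hmul : ∀ x y, p x → p y → p (x * y)) :
    ∀ x ∈ closure S, p x := by
  intro x hx
  have hx' : x ∈ Submonoid.closure S := by
    rw [← Subgroup.closure_toSubmonoid_of_finite]; exact hx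
  clear hx
  induction hx' using Submonoid.closure_induction with
  | mem s hs => exact hS s hs
  | one => exact h1
  | mul x y _ _ hx hy => exact hmul x y hx hy

/-! ### Sylow subgroups of two groups through a common correspondence -/

theorem sylow_mulEquiv_of_injective {D G₁ G₂ : Type*} [Group D] [Group G₁] [Group G₂]
    [Finite D] [Finite G₁] [Finite G₂] {p : ℕ} [Fact p.Prime] (f : D →* G₁) (g : D →* G₂)
    (hf : Function.Injective f) (n : ℕ) (hg : p ^ n ∣ Nat.card g.range)
    (h₁ : ¬ p ^ (n + 1) ∣ Nat.card G₁) (h₂ : ¬ p ^ (n + 1) ∣ Nat.card G₂)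
    (P₁ : Sylow p G₁) (P₂ : Sylow p G₂) :
    Nonempty (↥(P₁ : Subgroup G₁) ≃* ↥(P₂ : Subgroup G₂)) := by
  have hpp : p.Prime := Fact.out
  have hD1 : Nat.card D ∣ Nat.card G₁ := Subgroup.card_dvd_of_injective f hf
  have hrD : Nat.card g.range ∣ Nat.card D :=
    Subgroup.card_dvd_of_surjective g.rangeRestrict g.rangeRestrict_surjective
  have hcard : Nat.card D = Nat.card g.ker * Nat.card g.range := by
    have h := Subgroup.card_eq_card_quotient_mul_card_subgroup g.ker
    rw [h, Nat.card_congr (QuotientGroup.quotientKerEquivRange g).toEquiv, mul_comm]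
  have hnD : ¬ p ^ (n + 1) ∣ Nat.card D := fun h => h₁ (h.trans hD1)
  obtain T := (default : Sylow p D)
  have hTc := Sylow.card_eq_multiplicity T
  set k := (Nat.card D).factorization p with hk
  have hDpos : Nat.card D ≠ 0 := Nat.card_pos.ne'
  have hkn : k = n := by
    apply le_antisymm
    · by_contra hlt
      rw [not_le] at hlt
      exact hnD ((pow_dvd_pow p hlt).trans (Nat.ordProj_dvd _ _))
    · exact (hpp.pow_dvd_iff_le_factorization hDpos).mp (hg.trans hrD)
  rw [hkn] at hTc
  -- the kernel of g has order prime to p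
  have hker : ¬ p ∣ Nat.card g.ker := by
    intro hdvd
    apply hnD
    rw [hcard, pow_succ, mul_comm]
    exact mul_dvd_mul hdvd hg
  -- g is injective on T
  have hginj : Function.Injective (g.comp (T : Subgroup D).subtype) := by
    rw [injective_iff_map_eq_one]
    intro x hx
    have hxk : (x : D) ∈ g.ker := hx
    have ho1 : orderOf (x : D) ∣ Nat.card g.ker := by
      have := orderOf_dvd_natCard (⟨(x : D), hxk⟩ : g.ker)
      rwa [Subgroup.orderOf_mk] at this
    have ho2 : orderOf (x : D) ∣ p ^ n := by
      have := orderOf_dvd_natCard x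
      rwa [← Subgroup.orderOf_coe, hTc] at this
    obtain ⟨j, _, hj⟩ := (Nat.dvd_prime_pow hpp).mp ho2
    have hj0 : j = 0 := by
      by_contra hne
      apply hker
      refine dvd_trans ?_ ho1
      rw [hj]
      exact dvd_pow_self p hne
    rw [hj0, pow_zero, orderOf_eq_one_iff] at hj
    exact Subtype.ext hj
  have hfinj : Function.Injective (f.comp (T : Subgroup D).subtype) :=
    hf.comp Subtype.val_injective
  -- the two images
  have e₁ : ↥(T : Subgroup D) ≃* (f.comp (T : Subgroup D).subtype).range :=
    MonoidHom.ofInjective hfinj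
  have e₂ : ↥(T : Subgroup D) ≃* (g.comp (T : Subgroup D).subtype).range :=
    MonoidHom.ofInjective hginj
  have c₁ : Nat.card (f.comp (T : Subgroup D).subtype).range = p ^ n := by
    rw [← hTc]; exact Nat.card_congr e₁.symm.toEquiv
  have c₂ : Nat.card (g.comp (T : Subgroup D).subtype).range = p ^ n := by
    rw [← hTc]; exact Nat.card_congr e₂.symm.toEquiv
  obtain ⟨a₁⟩ := sylow_mulEquiv_of_card _ n c₁ h₁ P₁
  obtain ⟨a₂⟩ := sylow_mulEquiv_of_card _ n c₂ h₂ P₂
  exact ⟨a₁.trans (e₁.symm.trans (e₂.trans a₂.symm))⟩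

/-- Sylow `p`-subgroups of `G₁` and `G₂` are isomorphic as soon as some finite group `D` maps to both,
with `ker f ≤ ker g`, the image in `G₂` of order divisible by `p^n`, and neither order divisible by
`p^(n+1)`. -/
theorem sylow_mulEquiv_of_ker_le {D G₁ G₂ : Type*} [Group D] [Group G₁] [Group G₂]
    [Finite D] [Finite G₁] [Finite G₂] {p : ℕ} [Fact p.Prime] (f : D →* G₁) (g : D →* G₂)
    (hfg : f.ker ≤ g.ker) (n : ℕ) (hg : p ^ n ∣ Nat.card g.range)
    (h₁ : ¬ p ^ (n + 1) ∣ Nat.card G₁) (h₂ : ¬ p ^ (n + 1) ∣ Nat.card G₂)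
    (P₁ : Sylow p G₁) (P₂ : Sylow p G₂) :
    Nonempty (↥(P₁ : Subgroup G₁) ≃* ↥(P₂ : Subgroup G₂)) := by
  have hr : (QuotientGroup.lift f.ker g hfg).range = g.range := by
    ext y
    constructor
    · rintro ⟨x, rfl⟩
      induction x using QuotientGroup.induction_on with
      | H x => exact ⟨x, rfl⟩
    · rintro ⟨x, rfl⟩
      exact ⟨(x : D ⧸ f.ker), rfl⟩
  exact sylow_mulEquiv_of_injective (QuotientGroup.kerLift f) (QuotientGroup.lift f.ker g hfg)
    (QuotientGroup.kerLift_injective f) n (by rw [hr]; exact hg) h₁ h₂ P₁ P₂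

end Cfsg.Agent.Lib.Helper7.SylowPair
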