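import Mathlib
import Cfsg.Prelude.Def_Classical
import Cfsg.Agent.Lib.Helper7.SylowPair
import Cfsg.Agent.Lib.Helper7.IsoTransfer
import Cfsg.Agent.Lib.Helper5.SymplecticCenter

/-!
# Helper7: explicit 2-subgroup data in `Sp₄(3)` matching a Sylow 2-subgroup of `A₈`

Data generated by `scratch/s2931/genA.py`: six generators of a subgroup `Q₈ ≀ 2` of order 128 of
`Sp₄(3)` (modulo `±1`), paired with their (even) action on 8 alternating matrices up to sign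
(`A ↦ g A gᵀ`).
-/

set_option autoImplicit false

namespace Cfsg.Agent.Lib.Helper7.S2931A

open Subgroup Matrix Cfsg.Agent.Lib.Helper7.SylowPair

abbrev I4 := Fin 2 ⊕ Fin 2
abbrev M4 := Matrix I4 I4 (ZMod 3)
abbrev P8 := Equiv.Perm (Fin 8)
abbrev A8 := ↥(alternatingGroup (Fin 8))
abbrev Sp3 := ↥(Matrix.symplecticGroup (Fin 2) (ZMod 3))

def idx4 : I4 → ℕ
  | .inl i => i.val
  | .inr i => 2 + i.val

def mk4 (l : List (ZMod 3)) : M4 := fun i j => l.getD (4 * idx4 i + idx4 j) 0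

def mkP (f g : List (Fin 8)) (h1 : ∀ i : Fin 8, g.getD (f.getD i.val 0).val 0 = i)
    (h2 : ∀ i : Fin 8, f.getD (g.getD i.val 0).val 0 = i) : P8 :=
  ⟨fun i => f.getD i.val 0, fun i => g.getD i.val 0, h1, h2⟩

def matsA : List M4 := [
  mk4 [0, 0, 0, 1, 0, 0, 1, 0, 0, 2, 0, 0, 2, 0, 0, 0],
  mk4 [0, 0, 0, 1, 0, 0, 2, 0, 0, 2, 0, 0, 1, 0, 0, 0],
  mk4 [0, 0, 1, 0, 0, 0, 0, 1, 2, 0, 0, 0, 0, 2, 0, 0],
  mk4 [0, 0, 0, 1, 1, 0, 0, 0, 0, 2, 0, 0, 0, 0, 1, 0],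
  mk4 [0, 1, 0, 1, 1, 0, 1, 0, 0, 1, 0, 2, 1, 0, 2, 0],
  mk4 [0, 0, 0, 1, 1, 0, 1, 0, 0, 2, 0, 0, 1, 0, 2, 0]]

def permsA : List P8 := [
  mkP [0, 1, 2, 7, 6, 5, 4, 3] [0, 1, 2, 7, 6, 5, 4, 3] (by decide) (by decide),
  mkP [1, 0, 5, 4, 3, 2, 7, 6] [1, 0, 5, 4, 3, 2, 7, 6] (by decide) (by decide),
  mkP [1, 0, 5, 3, 4, 2, 6, 7] [1, 0, 5, 3, 4, 2, 6, 7] (by decide) (by decide),
  mkP [5, 2, 0, 6, 4, 1, 3, 7] [2, 5, 1, 6, 4, 0, 3, 7] (by decide) (by decide),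
  mkP [2, 5, 0, 3, 4, 1, 6, 7] [2, 5, 0, 3, 4, 1, 6, 7] (by decide) (by decide),
  mkP [6, 3, 4, 2, 1, 7, 5, 0] [7, 4, 3, 1, 2, 6, 0, 5] (by decide) (by decide)]

def tblA : List (List ℕ) := [
  [1, 0, 3, 2, 5, 4, 7, 6, 14, 15, 12, 13, 10, 11, 8, 9, 17, 16, 19, 18, 21, 20, 23, 22, 30, 31, 28, 29, 26, 27, 24, 25, 48, 49, 50, 51, 52, 53, 54, 55, 56, 57, 58, 59, 60, 61, 62, 63, 32, 33, 34, 35, 36, 37, 38, 39, 40, 41, 42, 43, 44, 45, 46, 47],
  [2, 3, 0, 1, 6, 7, 4, 5, 13, 12, 15, 14, 9, 8, 11, 10, 18, 19, 16, 17, 22, 23, 20, 21, 29, 28, 31, 30, 25, 24, 27, 26, 51, 50, 49, 48, 55, 54, 53, 52, 59, 58, 57, 56, 63, 62, 61, 60, 35, 34, 33, 32, 39, 38, 37, 36, 43, 42, 41, 40, 47, 46, 45, 44],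
  [4, 5, 6, 7, 0, 1, 2, 3, 12, 13, 14, 15, 8, 9, 10, 11, 20, 21, 22, 23, 16, 17, 18, 19, 28, 29, 30, 31, 24, 25, 26, 27, 39, 38, 37, 36, 35, 34, 33, 32, 47, 46, 45, 44, 43, 42, 41, 40, 55, 54, 53, 52, 51, 50, 49, 48, 63, 62, 61, 60, 59, 58, 57, 56],
  [8, 9, 10, 11, 12, 13, 14, 15, 4, 5, 6, 7, 0, 1, 2, 3, 28, 29, 30, 31, 24, 25, 26, 27, 16, 17, 18, 19, 20, 21, 22, 23, 57, 56, 59, 58, 61, 60, 63, 62, 50, 51, 48, 49, 54, 55, 52, 53, 45, 44, 47, 46, 41, 40, 43, 42, 38, 39, 36, 37, 34, 35, 32, 33],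
  [16, 17, 18, 19, 20, 21, 22, 23, 24, 25, 26, 27, 28, 29, 30, 31, 0, 1, 2, 3, 4, 5, 6, 7, 8, 9, 10, 11, 12, 13, 14, 15, 33, 32, 35, 34, 37, 36, 39, 38, 46, 47, 44, 45, 42, 43, 40, 41, 49, 48, 51, 50, 53, 52, 55, 54, 62, 63, 60, 61, 58, 59, 56, 57],
  [32, 33, 34, 35, 36, 37, 38, 39, 40, 41, 42, 43, 44, 45, 46, 47, 48, 49, 50, 51, 52, 53, 54, 55, 56, 57, 58, 59, 60, 61, 62, 63, 18, 19, 16, 17, 22, 23, 20, 21, 29, 28, 31, 30, 25, 24, 27, 26, 2, 3, 0, 1, 6, 7, 4, 5, 13, 12, 15, 14, 9, 8, 11, 10]]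

def altsA : List M4 := [
  mk4 [0, 0, 1, 1, 0, 0, 2, 1, 2, 1, 0, 0, 2, 2, 0, 0],
  mk4 [0, 0, 1, 2, 0, 0, 1, 1, 2, 2, 0, 0, 1, 2, 0, 0],
  mk4 [0, 1, 1, 0, 2, 0, 0, 1, 2, 0, 0, 2, 0, 2, 1, 0],
  mk4 [0, 1, 1, 1, 2, 0, 1, 1, 2, 2, 0, 1, 2, 2, 2, 0],
  mk4 [0, 1, 1, 2, 2, 0, 2, 1, 2, 1, 0, 1, 1, 2, 2, 0],
  mk4 [0, 1, 2, 0, 2, 0, 0, 2, 1, 0, 0, 2, 0, 1, 1, 0],
  mk4 [0, 1, 2, 1, 2, 0, 1, 2, 1, 2, 0, 1, 2, 1, 2, 0],
  mk4 [0, 1, 2, 2, 2, 0, 2, 2, 1, 1, 0, 1, 1, 1, 2, 0]]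


def aM (i : Fin 8) : M4 := altsA.getD i.val 0

def chkSp : Bool := (List.range 6).all fun k =>
  decide (matsA.getD k 1 * Matrix.J (Fin 2) (ZMod 3) * (matsA.getD k 1)ᵀ = Matrix.J (Fin 2) (ZMod 3))

def chkAct : Bool := (List.range 6).all fun k =>
  decide (∀ i : Fin 8,
    matsA.getD k 1 * aM i * (matsA.getD k 1)ᵀ = aM (permsA.getD k 1 i) ∨
    matsA.getD k 1 * aM i * (matsA.getD k 1)ᵀ = -aM (permsA.getD k 1 i))

def chkSign : Bool := (List.range 6).all fun k =>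
  decide (Equiv.Perm.sign (permsA.getD k 1) = 1)

theorem chkSp_true : chkSp = true := by decide +kernel
theorem chkAct_true : chkAct = true := by decide +kernel
theorem chkSign_true : chkSign = true := by decide +kernel
theorem aM_inj : ∀ i j : Fin 8, (aM i = aM j ∨ aM i = -aM j) → i = j := by decide +kernel
theorem chkClosedA : chkClosed permsA 64 tblA = true := by decide +kernel
theorem chkNodupA : chkNodup permsA 64 = true := by decide +kernel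

/-! ### Glue -/

theorem mats_sp (k : ℕ) (hk : k < 6) :
    matsA.getD k 1 ∈ Matrix.symplecticGroup (Fin 2) (ZMod 3) := by
  have h := chkSp_true
  unfold chkSp at h
  rw [List.all_eq_true] at h
  rw [SymplecticGroup.mem_iff]
  exact of_decide_eq_true (h k (List.mem_range.mpr hk))

theorem mats_act (k : ℕ) (hk : k < 6) (i : Fin 8) :
    matsA.getD k 1 * aM i * (matsA.getD k 1)ᵀ = aM (permsA.getD k 1 i) ∨
    matsA.getD k 1 * aM i * (matsA.getD k 1)ᵀ = -aM (permsA.getD k 1 i) := by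
  have h := chkAct_true
  unfold chkAct at h
  rw [List.all_eq_true] at h
  exact of_decide_eq_true (h k (List.mem_range.mpr hk)) i

theorem perms_sign (k : ℕ) (hk : k < 6) : Equiv.Perm.sign (permsA.getD k 1) = 1 := by
  have h := chkSign_true
  unfold chkSign at h
  rw [List.all_eq_true] at h
  exact of_decide_eq_true (h k (List.mem_range.mpr hk))

def sA (k : Fin 6) : Sp3 := ⟨matsA.getD k.val 1, mats_sp k.val k.isLt⟩

def pA (k : Fin 6) : A8 :=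
  ⟨permsA.getD k.val 1, Equiv.Perm.mem_alternatingGroup.mpr (perms_sign k.val k.isLt)⟩

/-- the generating pairs -/
def SA : Set (Sp3 × A8) := Set.range fun k : Fin 6 => (sA k, pA k)

/-- the compatibility property -/
def compatA (x : Sp3 × A8) : Prop :=
  ∀ i : Fin 8, (x.1 : M4) * aM i * (x.1 : M4)ᵀ = aM ((x.2 : P8) i) ∨
    (x.1 : M4) * aM i * (x.1 : M4)ᵀ = -aM ((x.2 : P8) i)

theorem compatA_closure : ∀ x ∈ closure SA, compatA x := by
  apply closure_forall_of_finite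
  · intro i
    left
    simp
  · rintro _ ⟨k, rfl⟩ i
    exact mats_act k.val k.isLt i
  · intro x y hx hy i
    have h1 : (((x * y).1 : Sp3) : M4) = (x.1 : M4) * (y.1 : M4) := rfl
    have h2 : (((x * y).2 : A8) : P8) i = (x.2 : P8) ((y.2 : P8) i) := rfl
    rw [h1, h2, Matrix.transpose_mul]
    have h3 : (x.1 : M4) * (y.1 : M4) * aM i * ((y.1 : M4)ᵀ * (x.1 : M4)ᵀ) =
        (x.1 : M4) * ((y.1 : M4) * aM i * (y.1 : M4)ᵀ) * (x.1 : M4)ᵀ := by
      simp only [Matrix.mul_assoc]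
    rw [h3]
    rcases hy i with h | h <;> rcases hx ((y.2 : P8) i) with h' | h' <;> rw [h]
    · left; exact h'
    · right; exact h'
    · right; rw [Matrix.mul_neg, Matrix.neg_mul, h']
    · left; rw [Matrix.mul_neg, Matrix.neg_mul, h', neg_neg]

theorem image_SA :
    ((fun x : Sp3 × A8 => ((x.2 : A8) : P8)) '' SA : Set P8) = {x | x ∈ permsA} := by
  ext π
  constructor
  · rintro ⟨_, ⟨k, rfl⟩, rfl⟩
    show permsA.getD k.val 1 ∈ permsA
    rw [List.getD_eq_getElem _ _ (show k.val < permsA.length from k.isLt)]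
    exact List.getElem_mem _
  · intro h
    obtain ⟨k, hk, rfl⟩ := List.getElem_of_mem h
    refine ⟨_, ⟨⟨k, hk⟩, rfl⟩, ?_⟩
    show permsA.getD k 1 = permsA[k]
    rw [List.getD_eq_getElem _ _ hk]

theorem card_snd_range :
    Nat.card ((MonoidHom.snd Sp3 A8).comp (closure SA).subtype).range = 64 := by
  have hinj : Function.Injective (alternatingGroup (Fin 8)).subtype := Subtype.val_injective
  rw [← Subgroup.card_map_of_injective hinj]
  have h1 : (((MonoidHom.snd Sp3 A8).comp (closure SA).subtype).range).map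
      (alternatingGroup (Fin 8)).subtype = closure {x | x ∈ permsA} := by
    rw [MonoidHom.range_comp, Subgroup.range_subtype, Subgroup.map_map, MonoidHom.map_closure]
    congr 1
    exact image_SA
  rw [h1]
  exact card_closure_of_chk permsA 64 tblA (by norm_num) chkClosedA chkNodupA

theorem card_A8 : Nat.card A8 = 20160 := by
  rw [nat_card_alternatingGroup]
  simp [Nat.factorial]

/-- Sylow 2-subgroups of `A₈` are isomorphic to those of `PSp₄(F)` for a field `F` receiving `ZMod 3`,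
provided `2^7` does not divide the order of `PSp₄(F)`. -/
theorem sylow_equiv {F : Type*} [Field F] [Fintype F] (φ : ZMod 3 →+* F)
    (h₁ : ¬ 2 ^ 7 ∣ Nat.card (Cfsg.PSp 2 F))
    (P₁ : Sylow 2 (Cfsg.PSp 2 F)) (P₂ : Sylow 2 A8) :
    Nonempty (↥(P₂ : Subgroup A8) ≃* ↥(P₁ : Subgroup (Cfsg.PSp 2 F))) := by
  have : Fact (Nat.Prime 2) := ⟨Nat.prime_two⟩
  have key := sylow_mulEquiv_of_ker_le
    ((QuotientGroup.mk' (Subgroup.center (Matrix.symplecticGroup (Fin 2) F))).comp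
      ((IsoTransfer.spMap φ).comp ((MonoidHom.fst Sp3 A8).comp (closure SA).subtype)))
    ((MonoidHom.snd Sp3 A8).comp (closure SA).subtype) ?_ 6 ?_ h₁ ?_ P₁ P₂
  · obtain ⟨e⟩ := key
    exact ⟨e.symm⟩
  · intro x hx
    rw [MonoidHom.mem_ker] at hx ⊢
    have hx1 : IsoTransfer.spMap φ (x : Sp3 × A8).1 ∈
        Subgroup.center (Matrix.symplecticGroup (Fin 2) F) := by
      rw [← QuotientGroup.eq_one_iff]
      exact hx
    have hx2 := Cfsg.Agent.Lib.Helper5.symplecticGroup_center_eq_one_or_neg_one _ hx1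
    rw [IsoTransfer.spMap_val] at hx2
    have hφ : Function.Injective (fun M : M4 => M.map φ) := Matrix.map_injective φ.injective
    have hx3 : ((x : Sp3 × A8).1 : M4) = 1 ∨ ((x : Sp3 × A8).1 : M4) = -1 := by
      rcases hx2 with h | h
      · left
        apply hφ
        show ((x : Sp3 × A8).1 : M4).map φ = (1 : M4).map φ
        rw [h, Matrix.map_one _ (map_zero φ) (map_one φ)]
      · right
        apply hφ
        show ((x : Sp3 × A8).1 : M4).map φ = (-1 : M4).map φ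
        rw [h, Matrix.map_neg _ (fun a => map_neg φ a), Matrix.map_one _ (map_zero φ) (map_one φ)]
    have hc := compatA_closure x.1 x.2
    show (x : Sp3 × A8).2 = 1
    apply Subtype.ext
    ext i
    have h2 := hc i
    have h3 : aM i = aM (((x : Sp3 × A8).2 : P8) i) ∨ aM i = -aM (((x : Sp3 × A8).2 : P8) i) := by
      rcases hx3 with h | h <;> rw [h] at h2 <;> simpa using h2
    rw [← aM_inj _ _ h3]
    rfl
  · rw [card_snd_range]
    norm_num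
  · rw [card_A8]
    norm_num


end Cfsg.Agent.Lib.Helper7.S2931A
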