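import Mathlib
import Cfsg.Prelude.Def_Classical
import Cfsg.Agent.Lib.Helper7.SylowPair
import Cfsg.Agent.Lib.Helper7.IsoTransfer

/-!
# Helper7: explicit 2-subgroup data in `GO₆⁻(2)` matching a Sylow 2-subgroup of `S₈`

Data generated by `scratch/s2931/genB.py`: seven polycyclic generators of a subgroup of order 128 of the
isometry group of `quadFormMinus 2 (ZMod 2) 1 1`, paired with their action on an orbit of 8 singular vectors.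
-/

set_option autoImplicit false

namespace Cfsg.Agent.Lib.Helper7.S2931B

open Subgroup Matrix Cfsg.Agent.Lib.Helper7.SylowPair

abbrev I6 := (Fin 2 ⊕ Fin 2) ⊕ Fin 2
abbrev M6 := Matrix I6 I6 (ZMod 2)
abbrev P8 := Equiv.Perm (Fin 8)

def idx6 : I6 → ℕ
  | .inl (.inl i) => i.val
  | .inl (.inr i) => 2 + i.val
  | .inr i => 4 + i.val

def mk6 (l : List (ZMod 2)) : M6 := fun i j => l.getD (6 * idx6 i + idx6 j) 0

def mkV (l : List (ZMod 2)) : I6 → ZMod 2 := fun j => l.getD (idx6 j) 0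

def mkP (f g : List (Fin 8)) (h1 : ∀ i : Fin 8, g.getD (f.getD i.val 0).val 0 = i)
    (h2 : ∀ i : Fin 8, f.getD (g.getD i.val 0).val 0 = i) : P8 :=
  ⟨fun i => f.getD i.val 0, fun i => g.getD i.val 0, h1, h2⟩

/-- the quadratic form of minus type in dimension 6 over `ZMod 2` -/
def QB : (I6 → ZMod 2) → ZMod 2 := Cfsg.quadFormMinus 2 (ZMod 2) 1 1

def matsB : List M6 := [
  mk6 [1, 0, 0, 1, 0, 0, 0, 1, 1, 0, 0, 0, 0, 0, 1, 0, 0, 0, 0, 0, 0, 1, 0, 0, 0, 0, 0, 0, 1, 0, 0, 0, 0, 0, 0, 1],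
  mk6 [1, 0, 0, 0, 0, 0, 0, 1, 0, 0, 0, 0, 0, 0, 1, 0, 0, 0, 0, 0, 0, 1, 0, 0, 0, 0, 0, 0, 1, 1, 0, 0, 0, 0, 0, 1],
  mk6 [1, 0, 0, 0, 0, 0, 0, 1, 0, 1, 0, 1, 0, 0, 1, 0, 0, 0, 0, 0, 0, 1, 0, 0, 0, 0, 0, 1, 1, 0, 0, 0, 0, 0, 0, 1],
  mk6 [1, 0, 0, 0, 0, 0, 0, 1, 0, 1, 1, 0, 0, 0, 1, 0, 0, 0, 0, 0, 0, 1, 0, 0, 0, 0, 0, 0, 1, 0, 0, 0, 0, 1, 0, 1],
  mk6 [1, 0, 1, 0, 0, 1, 0, 1, 0, 0, 0, 0, 0, 0, 1, 0, 0, 0, 0, 0, 0, 1, 0, 0, 0, 0, 1, 0, 1, 0, 0, 0, 0, 0, 0, 1],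
  mk6 [1, 0, 1, 0, 1, 0, 0, 1, 0, 0, 0, 0, 0, 0, 1, 0, 0, 0, 0, 0, 0, 1, 0, 0, 0, 0, 0, 0, 1, 0, 0, 0, 1, 0, 0, 1],
  mk6 [1, 1, 0, 0, 0, 0, 0, 1, 0, 0, 0, 0, 0, 0, 1, 0, 0, 0, 0, 0, 1, 1, 0, 0, 0, 0, 0, 0, 1, 0, 0, 0, 0, 0, 0, 1]]

def invsB : List M6 := [
  mk6 [1, 0, 0, 1, 0, 0, 0, 1, 1, 0, 0, 0, 0, 0, 1, 0, 0, 0, 0, 0, 0, 1, 0, 0, 0, 0, 0, 0, 1, 0, 0, 0, 0, 0, 0, 1],
  mk6 [1, 0, 0, 0, 0, 0, 0, 1, 0, 0, 0, 0, 0, 0, 1, 0, 0, 0, 0, 0, 0, 1, 0, 0, 0, 0, 0, 0, 1, 1, 0, 0, 0, 0, 0, 1],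
  mk6 [1, 0, 0, 0, 0, 0, 0, 1, 0, 1, 0, 1, 0, 0, 1, 0, 0, 0, 0, 0, 0, 1, 0, 0, 0, 0, 0, 1, 1, 0, 0, 0, 0, 0, 0, 1],
  mk6 [1, 0, 0, 0, 0, 0, 0, 1, 0, 1, 1, 0, 0, 0, 1, 0, 0, 0, 0, 0, 0, 1, 0, 0, 0, 0, 0, 0, 1, 0, 0, 0, 0, 1, 0, 1],
  mk6 [1, 0, 1, 0, 0, 1, 0, 1, 0, 0, 0, 0, 0, 0, 1, 0, 0, 0, 0, 0, 0, 1, 0, 0, 0, 0, 1, 0, 1, 0, 0, 0, 0, 0, 0, 1],
  mk6 [1, 0, 1, 0, 1, 0, 0, 1, 0, 0, 0, 0, 0, 0, 1, 0, 0, 0, 0, 0, 0, 1, 0, 0, 0, 0, 0, 0, 1, 0, 0, 0, 1, 0, 0, 1],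
  mk6 [1, 1, 0, 0, 0, 0, 0, 1, 0, 0, 0, 0, 0, 0, 1, 0, 0, 0, 0, 0, 1, 1, 0, 0, 0, 0, 0, 0, 1, 0, 0, 0, 0, 0, 0, 1]]

def permsB : List P8 := [
  mkP [1, 0, 3, 2, 5, 4, 7, 6] [1, 0, 3, 2, 5, 4, 7, 6] (by decide) (by decide),
  mkP [0, 1, 2, 3, 6, 7, 4, 5] [0, 1, 2, 3, 6, 7, 4, 5] (by decide) (by decide),
  mkP [2, 3, 0, 1, 6, 7, 4, 5] [2, 3, 0, 1, 6, 7, 4, 5] (by decide) (by decide),
  mkP [4, 5, 6, 7, 0, 1, 2, 3] [4, 5, 6, 7, 0, 1, 2, 3] (by decide) (by decide),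
  mkP [0, 1, 2, 3, 5, 4, 7, 6] [0, 1, 2, 3, 5, 4, 7, 6] (by decide) (by decide),
  mkP [0, 1, 3, 2, 4, 5, 7, 6] [0, 1, 3, 2, 4, 5, 7, 6] (by decide) (by decide),
  mkP [0, 1, 3, 2, 5, 4, 7, 6] [0, 1, 3, 2, 5, 4, 7, 6] (by decide) (by decide)]

def tblB : List (List ℕ) := [
  [1, 0, 3, 2, 5, 4, 7, 6, 9, 8, 11, 10, 13, 12, 15, 14, 17, 16, 19, 18, 21, 20, 23, 22, 25, 24, 27, 26, 29, 28, 31, 30, 33, 32, 35, 34, 37, 36, 39, 38, 41, 40, 43, 42, 45, 44, 47, 46, 49, 48, 51, 50, 53, 52, 55, 54, 57, 56, 59, 58, 61, 60, 63, 62, 65, 64, 67, 66, 69, 68, 71, 70, 73, 72, 75, 74, 77, 76, 79, 78, 81, 80, 83, 82, 85, 84, 87, 86, 89, 88, 91, 90, 93, 92, 95, 94, 97, 96, 99, 98, 101, 100, 103, 102, 105, 104, 107, 106, 109, 108, 111, 110, 113, 112, 115, 114, 117, 116, 119, 118, 121, 120, 123, 122, 125, 124, 127, 126],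
  [2, 3, 0, 1, 6, 7, 4, 5, 14, 15, 12, 13, 10, 11, 8, 9, 18, 19, 16, 17, 22, 23, 20, 21, 30, 31, 28, 29, 26, 27, 24, 25, 50, 51, 48, 49, 54, 55, 52, 53, 62, 63, 60, 61, 58, 59, 56, 57, 34, 35, 32, 33, 38, 39, 36, 37, 46, 47, 44, 45, 42, 43, 40, 41, 66, 67, 64, 65, 70, 71, 68, 69, 78, 79, 76, 77, 74, 75, 72, 73, 82, 83, 80, 81, 86, 87, 84, 85, 94, 95, 92, 93, 90, 91, 88, 89, 114, 115, 112, 113, 118, 119, 116, 117, 126, 127, 124, 125, 122, 123, 120, 121, 98, 99, 96, 97, 102, 103, 100, 101, 110, 111, 108, 109, 106, 107, 104, 105],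
  [4, 5, 6, 7, 0, 1, 2, 3, 12, 13, 14, 15, 8, 9, 10, 11, 20, 21, 22, 23, 16, 17, 18, 19, 28, 29, 30, 31, 24, 25, 26, 27, 37, 36, 39, 38, 33, 32, 35, 34, 45, 44, 47, 46, 41, 40, 43, 42, 53, 52, 55, 54, 49, 48, 51, 50, 61, 60, 63, 62, 57, 56, 59, 58, 85, 84, 87, 86, 81, 80, 83, 82, 93, 92, 95, 94, 89, 88, 91, 90, 69, 68, 71, 70, 65, 64, 67, 66, 77, 76, 79, 78, 73, 72, 75, 74, 116, 117, 118, 119, 112, 113, 114, 115, 124, 125, 126, 127, 120, 121, 122, 123, 100, 101, 102, 103, 96, 97, 98, 99, 108, 109, 110, 111, 104, 105, 106, 107],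
  [8, 9, 10, 11, 12, 13, 14, 15, 0, 1, 2, 3, 4, 5, 6, 7, 25, 24, 27, 26, 29, 28, 31, 30, 17, 16, 19, 18, 21, 20, 23, 22, 40, 41, 42, 43, 44, 45, 46, 47, 32, 33, 34, 35, 36, 37, 38, 39, 57, 56, 59, 58, 61, 60, 63, 62, 49, 48, 51, 50, 53, 52, 55, 54, 105, 104, 107, 106, 109, 108, 111, 110, 97, 96, 99, 98, 101, 100, 103, 102, 120, 121, 122, 123, 124, 125, 126, 127, 112, 113, 114, 115, 116, 117, 118, 119, 73, 72, 75, 74, 77, 76, 79, 78, 65, 64, 67, 66, 69, 68, 71, 70, 88, 89, 90, 91, 92, 93, 94, 95, 80, 81, 82, 83, 84, 85, 86, 87],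
  [16, 17, 18, 19, 20, 21, 22, 23, 24, 25, 26, 27, 28, 29, 30, 31, 0, 1, 2, 3, 4, 5, 6, 7, 8, 9, 10, 11, 12, 13, 14, 15, 48, 49, 50, 51, 52, 53, 54, 55, 56, 57, 58, 59, 60, 61, 62, 63, 32, 33, 34, 35, 36, 37, 38, 39, 40, 41, 42, 43, 44, 45, 46, 47, 80, 81, 82, 83, 84, 85, 86, 87, 88, 89, 90, 91, 92, 93, 94, 95, 64, 65, 66, 67, 68, 69, 70, 71, 72, 73, 74, 75, 76, 77, 78, 79, 112, 113, 114, 115, 116, 117, 118, 119, 120, 121, 122, 123, 124, 125, 126, 127, 96, 97, 98, 99, 100, 101, 102, 103, 104, 105, 106, 107, 108, 109, 110, 111],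
  [32, 33, 34, 35, 36, 37, 38, 39, 40, 41, 42, 43, 44, 45, 46, 47, 48, 49, 50, 51, 52, 53, 54, 55, 56, 57, 58, 59, 60, 61, 62, 63, 0, 1, 2, 3, 4, 5, 6, 7, 8, 9, 10, 11, 12, 13, 14, 15, 16, 17, 18, 19, 20, 21, 22, 23, 24, 25, 26, 27, 28, 29, 30, 31, 96, 97, 98, 99, 100, 101, 102, 103, 104, 105, 106, 107, 108, 109, 110, 111, 112, 113, 114, 115, 116, 117, 118, 119, 120, 121, 122, 123, 124, 125, 126, 127, 64, 65, 66, 67, 68, 69, 70, 71, 72, 73, 74, 75, 76, 77, 78, 79, 80, 81, 82, 83, 84, 85, 86, 87, 88, 89, 90, 91, 92, 93, 94, 95],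
  [64, 65, 66, 67, 68, 69, 70, 71, 72, 73, 74, 75, 76, 77, 78, 79, 80, 81, 82, 83, 84, 85, 86, 87, 88, 89, 90, 91, 92, 93, 94, 95, 96, 97, 98, 99, 100, 101, 102, 103, 104, 105, 106, 107, 108, 109, 110, 111, 112, 113, 114, 115, 116, 117, 118, 119, 120, 121, 122, 123, 124, 125, 126, 127, 0, 1, 2, 3, 4, 5, 6, 7, 8, 9, 10, 11, 12, 13, 14, 15, 16, 17, 18, 19, 20, 21, 22, 23, 24, 25, 26, 27, 28, 29, 30, 31, 32, 33, 34, 35, 36, 37, 38, 39, 40, 41, 42, 43, 44, 45, 46, 47, 48, 49, 50, 51, 52, 53, 54, 55, 56, 57, 58, 59, 60, 61, 62, 63]]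

def vecsB : List (List (ZMod 2)) := [
  [0, 0, 0, 1, 0, 0],
  [1, 0, 0, 1, 0, 0],
  [0, 1, 0, 1, 1, 0],
  [1, 1, 0, 1, 1, 0],
  [0, 1, 0, 1, 0, 1],
  [1, 1, 0, 1, 0, 1],
  [0, 1, 0, 1, 1, 1],
  [1, 1, 0, 1, 1, 1]]


def vB (i : Fin 8) : I6 → ZMod 2 := mkV (vecsB.getD i.val [])

def chkInv : Bool := (List.range 7).all fun k =>
  decide (matsB.getD k 1 * invsB.getD k 1 = 1) && decide (invsB.getD k 1 * matsB.getD k 1 = 1)

def chkIso : Bool := (List.range 7).all fun k =>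
  decide (∀ c0 c1 c2 c3 c4 c5 : ZMod 2,
    QB (matsB.getD k 1 *ᵥ mkV [c0, c1, c2, c3, c4, c5]) = QB (mkV [c0, c1, c2, c3, c4, c5]))

def chkAct : Bool := (List.range 7).all fun k =>
  decide (∀ i : Fin 8, matsB.getD k 1 *ᵥ vB i = vB (permsB.getD k 1 i))

theorem chkInv_true : chkInv = true := by decide +kernel
theorem chkIso_true : chkIso = true := by decide +kernel
theorem chkAct_true : chkAct = true := by decide +kernel
theorem vB_injective : Function.Injective vB := by decide +kernel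
theorem chkClosedB : chkClosed permsB 128 tblB = true := by decide +kernel
theorem chkNodupB : chkNodup permsB 128 = true := by decide +kernel

/-! ### Glue -/

abbrev G0 := ↥(Cfsg.isometryGroup (ZMod 2) QB)

theorem mkV_eta (u : I6 → ZMod 2) :
    u = mkV [u (.inl (.inl 0)), u (.inl (.inl 1)), u (.inl (.inr 0)), u (.inl (.inr 1)),
      u (.inr 0), u (.inr 1)] := by
  funext j
  rcases j with (j | j) | j <;> fin_cases j <;> rfl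

theorem mats_inv (k : ℕ) (hk : k < 7) :
    matsB.getD k 1 * invsB.getD k 1 = 1 ∧ invsB.getD k 1 * matsB.getD k 1 = 1 := by
  have h := chkInv_true
  unfold chkInv at h
  rw [List.all_eq_true] at h
  have h2 := h k (List.mem_range.mpr hk)
  rw [Bool.and_eq_true] at h2
  exact ⟨of_decide_eq_true h2.1, of_decide_eq_true h2.2⟩

theorem mats_iso (k : ℕ) (hk : k < 7) (u : I6 → ZMod 2) :
    QB (matsB.getD k 1 *ᵥ u) = QB u := by
  have h := chkIso_true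
  unfold chkIso at h
  rw [List.all_eq_true] at h
  have h2 := of_decide_eq_true (h k (List.mem_range.mpr hk))
  rw [mkV_eta u]
  exact h2 _ _ _ _ _ _

theorem mats_act (k : ℕ) (hk : k < 7) (i : Fin 8) :
    matsB.getD k 1 *ᵥ vB i = vB (permsB.getD k 1 i) := by
  have h := chkAct_true
  unfold chkAct at h
  rw [List.all_eq_true] at h
  exact of_decide_eq_true (h k (List.mem_range.mpr hk)) i

/-- the generators as elements of the isometry group -/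
def gB (k : Fin 7) : G0 :=
  ⟨⟨matsB.getD k.val 1, invsB.getD k.val 1, (mats_inv k.val k.isLt).1, (mats_inv k.val k.isLt).2⟩,
    (IsoTransfer.mem_isometryGroup_iff' QB _).mpr (mats_iso k.val k.isLt)⟩

theorem gB_val (k : Fin 7) : ((gB k : Matrix.GeneralLinearGroup I6 (ZMod 2)) : M6) =
    matsB.getD k.val 1 := rfl

/-- the generating pairs -/
def SB : Set (G0 × P8) := Set.range fun k : Fin 7 => (gB k, permsB.getD k.val 1)

/-- the compatibility property -/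
def compatB (x : G0 × P8) : Prop :=
  ∀ i : Fin 8, ((x.1 : Matrix.GeneralLinearGroup I6 (ZMod 2)) : M6) *ᵥ vB i = vB (x.2 i)

theorem compatB_closure : ∀ x ∈ closure SB, compatB x := by
  apply closure_forall_of_finite
  · intro i
    simp
  · rintro _ ⟨k, rfl⟩ i
    exact mats_act k.val k.isLt i
  · intro x y hx hy i
    have : ((((x * y).1 : G0) : Matrix.GeneralLinearGroup I6 (ZMod 2)) : M6) =
        ((x.1 : Matrix.GeneralLinearGroup I6 (ZMod 2)) : M6) *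
          ((y.1 : Matrix.GeneralLinearGroup I6 (ZMod 2)) : M6) := rfl
    rw [this, ← Matrix.mulVec_mulVec, hy i, hx (y.2 i)]
    rfl

theorem snd_image_SB : (Prod.snd '' SB : Set P8) = {x | x ∈ permsB} := by
  ext π
  constructor
  · rintro ⟨_, ⟨k, rfl⟩, rfl⟩
    show permsB.getD k.val 1 ∈ permsB
    rw [List.getD_eq_getElem _ _ (show k.val < permsB.length from k.isLt)]
    exact List.getElem_mem _
  · intro h
    obtain ⟨k, hk, rfl⟩ := List.getElem_of_mem h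
    refine ⟨_, ⟨⟨k, hk⟩, rfl⟩, ?_⟩
    show permsB.getD k 1 = permsB[k]
    rw [List.getD_eq_getElem _ _ hk]

theorem card_snd_range :
    Nat.card ((MonoidHom.snd G0 P8).comp (closure SB).subtype).range = 128 := by
  have h1 : ((MonoidHom.snd G0 P8).comp (closure SB).subtype).range =
      closure {x | x ∈ permsB} := by
    rw [MonoidHom.range_comp, Subgroup.range_subtype, MonoidHom.map_closure]
    congr 1
    exact snd_image_SB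
  rw [h1]
  exact card_closure_of_chk permsB 128 tblB (by norm_num) chkClosedB chkNodupB

theorem card_P8 : Nat.card P8 = 40320 := by
  rw [Nat.card_eq_fintype_card, Fintype.card_perm, Fintype.card_fin]
  rfl

/-- Sylow 2-subgroups of `S₈` are isomorphic to those of any finite group `G₁` of order not divisible
by `2^8` into which the isometry group `GO₆⁻(2)` embeds. -/
theorem sylow_equiv {G₁ : Type*} [Group G₁] [Finite G₁] (τ : G0 →* G₁)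
    (hτ : Function.Injective τ) (h₁ : ¬ 2 ^ 8 ∣ Nat.card G₁)
    (P₁ : Sylow 2 G₁) (P₂ : Sylow 2 P8) :
    Nonempty (↥(P₂ : Subgroup P8) ≃* ↥(P₁ : Subgroup G₁)) := by
  haveI : Fact (Nat.Prime 2) := ⟨Nat.prime_two⟩
  have key := sylow_mulEquiv_of_ker_le
    (τ.comp ((MonoidHom.fst G0 P8).comp (closure SB).subtype))
    ((MonoidHom.snd G0 P8).comp (closure SB).subtype) ?_ 7 ?_ h₁ ?_ P₁ P₂
  · obtain ⟨e⟩ := key
    exact ⟨e.symm⟩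
  · intro x hx
    rw [MonoidHom.mem_ker] at hx ⊢
    have hx1 : (x : G0 × P8).1 = 1 := by
      apply hτ
      rw [map_one]
      exact hx
    have hc := compatB_closure x.1 x.2
    show (x : G0 × P8).2 = 1
    ext i
    have h2 := hc i
    rw [hx1] at h2
    simp only [OneMemClass.coe_one, Units.val_one, Matrix.one_mulVec] at h2
    have h3 := vB_injective h2
    rw [← h3]
    rfl
  · rw [card_snd_range]
    norm_num
  · rw [card_P8]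
    norm_num


end Cfsg.Agent.Lib.Helper7.S2931B
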