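/-
helper7: S2283 module [ISO] (helper13's sheet notes/helper13_S2283_modules.lean.txt): the special unitary group `GJ σ` of the
antidiagonal hermitian form is isomorphic to `Cfsg.SU 3 F q` by a base change `P`.
`exists_iso_of` takes the base change `P` (module [PMAT]) as a hypothesis.
-/
import Mathlib
import Cfsg.Prelude.Def_Classical
import Cfsg.Agent.S0837
import Cfsg.Agent.Lib.Helper13.SU3GDefs

set_option autoImplicit false

namespace Cfsg.Agent.Lib.Helper7.SU3G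

open Matrix Cfsg.Agent.Lib.Helper13.SU3G

variable {F : Type*} [Field F]

local notation "SL3" => Matrix.SpecialLinearGroup (Fin 3) F

/-- conjugation by `P ∈ GL₃(F)` on `SL₃(F)` -/
def conjSL (P : GL (Fin 3) F) : SL3 ≃* SL3 where
  toFun g := ⟨(P : Matrix (Fin 3) (Fin 3) F) * (g : Matrix (Fin 3) (Fin 3) F) *
      ((P⁻¹ : GL (Fin 3) F) : Matrix (Fin 3) (Fin 3) F), by
    rw [Matrix.det_units_conj]; exact g.2⟩
  invFun g := ⟨((P⁻¹ : GL (Fin 3) F) : Matrix (Fin 3) (Fin 3) F) * (g : Matrix (Fin 3) (Fin 3) F) *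
      (P : Matrix (Fin 3) (Fin 3) F), by
    rw [Matrix.det_units_conj']; exact g.2⟩
  left_inv g := by
    apply Subtype.ext
    show ((P⁻¹ : GL (Fin 3) F) : Matrix (Fin 3) (Fin 3) F) *
      ((P : Matrix (Fin 3) (Fin 3) F) * (g : Matrix (Fin 3) (Fin 3) F) *
        ((P⁻¹ : GL (Fin 3) F) : Matrix (Fin 3) (Fin 3) F)) * (P : Matrix (Fin 3) (Fin 3) F) = g
    have h1 : ((P⁻¹ : GL (Fin 3) F) : Matrix (Fin 3) (Fin 3) F) * (P : Matrix (Fin 3) (Fin 3) F) = 1 := by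
      rw [← Units.val_mul, inv_mul_cancel, Units.val_one]
    calc _ = (((P⁻¹ : GL (Fin 3) F) : Matrix (Fin 3) (Fin 3) F) * (P : Matrix (Fin 3) (Fin 3) F)) *
          (g : Matrix (Fin 3) (Fin 3) F) *
          (((P⁻¹ : GL (Fin 3) F) : Matrix (Fin 3) (Fin 3) F) * (P : Matrix (Fin 3) (Fin 3) F)) := by
          simp only [Matrix.mul_assoc]
      _ = g := by rw [h1, Matrix.one_mul, Matrix.mul_one]
  right_inv g := by
    apply Subtype.ext
    show (P : Matrix (Fin 3) (Fin 3) F) *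
      (((P⁻¹ : GL (Fin 3) F) : Matrix (Fin 3) (Fin 3) F) * (g : Matrix (Fin 3) (Fin 3) F) *
        (P : Matrix (Fin 3) (Fin 3) F)) * ((P⁻¹ : GL (Fin 3) F) : Matrix (Fin 3) (Fin 3) F) = g
    have h1 : (P : Matrix (Fin 3) (Fin 3) F) * ((P⁻¹ : GL (Fin 3) F) : Matrix (Fin 3) (Fin 3) F) = 1 := by
      rw [← Units.val_mul, mul_inv_cancel, Units.val_one]
    calc _ = ((P : Matrix (Fin 3) (Fin 3) F) * ((P⁻¹ : GL (Fin 3) F) : Matrix (Fin 3) (Fin 3) F)) *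
          (g : Matrix (Fin 3) (Fin 3) F) *
          ((P : Matrix (Fin 3) (Fin 3) F) * ((P⁻¹ : GL (Fin 3) F) : Matrix (Fin 3) (Fin 3) F)) := by
          simp only [Matrix.mul_assoc]
      _ = g := by rw [h1, Matrix.one_mul, Matrix.mul_one]
  map_mul' g g' := by
    apply Subtype.ext
    show (P : Matrix (Fin 3) (Fin 3) F) * ((g * g' : SL3) : Matrix (Fin 3) (Fin 3) F) *
        ((P⁻¹ : GL (Fin 3) F) : Matrix (Fin 3) (Fin 3) F) =
      ((P : Matrix (Fin 3) (Fin 3) F) * (g : Matrix (Fin 3) (Fin 3) F) *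
        ((P⁻¹ : GL (Fin 3) F) : Matrix (Fin 3) (Fin 3) F)) *
      ((P : Matrix (Fin 3) (Fin 3) F) * (g' : Matrix (Fin 3) (Fin 3) F) *
        ((P⁻¹ : GL (Fin 3) F) : Matrix (Fin 3) (Fin 3) F))
    have h1 : ((P⁻¹ : GL (Fin 3) F) : Matrix (Fin 3) (Fin 3) F) * (P : Matrix (Fin 3) (Fin 3) F) = 1 := by
      rw [← Units.val_mul, inv_mul_cancel, Units.val_one]
    rw [Matrix.SpecialLinearGroup.coe_mul]
    calc _ = (P : Matrix (Fin 3) (Fin 3) F) * (g : Matrix (Fin 3) (Fin 3) F) * 1 *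
          (g' : Matrix (Fin 3) (Fin 3) F) * ((P⁻¹ : GL (Fin 3) F) : Matrix (Fin 3) (Fin 3) F) := by
          simp only [Matrix.mul_assoc, Matrix.one_mul]
      _ = _ := by rw [← h1]; simp only [Matrix.mul_assoc]

theorem coe_conjSL (P : GL (Fin 3) F) (g : SL3) :
    ((conjSL P g : SL3) : Matrix (Fin 3) (Fin 3) F) =
      (P : Matrix (Fin 3) (Fin 3) F) * (g : Matrix (Fin 3) (Fin 3) F) *
        ((P⁻¹ : GL (Fin 3) F) : Matrix (Fin 3) (Fin 3) F) := rfl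

theorem slToMat_apply (g : SL3) : Cfsg.slToMat 3 F g = (g : Matrix (Fin 3) (Fin 3) F) := rfl

/-- the base change maps `GJ σ` onto `SU 3 F q` -/
theorem map_conjSL_GJ {q : ℕ} (σ : F →+* F) (hσq : ∀ x, σ x = x ^ q) (P : GL (Fin 3) F)
    (hP : ∀ x y : Fin 3 → F, Cfsg.Agent.S0837.hf σ ((P : Matrix (Fin 3) (Fin 3) F) *ᵥ x)
        ((P : Matrix (Fin 3) (Fin 3) F) *ᵥ y) = hJ σ x y) :
    (GJ σ).map (conjSL P).toMonoidHom = Cfsg.SU 3 F q := by
  have h1 : ((P⁻¹ : GL (Fin 3) F) : Matrix (Fin 3) (Fin 3) F) * (P : Matrix (Fin 3) (Fin 3) F) = 1 := by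
    rw [← Units.val_mul, inv_mul_cancel, Units.val_one]
  have h2 : (P : Matrix (Fin 3) (Fin 3) F) * ((P⁻¹ : GL (Fin 3) F) : Matrix (Fin 3) (Fin 3) F) = 1 := by
    rw [← Units.val_mul, mul_inv_cancel, Units.val_one]
  have key : ∀ g : SL3, g ∈ GJ σ ↔ conjSL P g ∈ Cfsg.SU 3 F q := by
    intro g
    constructor
    · intro hg u v
      rw [slToMat_apply, coe_conjSL, Cfsg.Agent.S0837.hermForm_eq_hf σ hσq,
        Cfsg.Agent.S0837.hermForm_eq_hf σ hσq]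
      rw [mem_GJ_iff] at hg
      have e : ∀ w : Fin 3 → F, ((P : Matrix (Fin 3) (Fin 3) F) * (g : Matrix (Fin 3) (Fin 3) F) *
          ((P⁻¹ : GL (Fin 3) F) : Matrix (Fin 3) (Fin 3) F)) *ᵥ w =
          (P : Matrix (Fin 3) (Fin 3) F) *ᵥ ((g : Matrix (Fin 3) (Fin 3) F) *ᵥ
            (((P⁻¹ : GL (Fin 3) F) : Matrix (Fin 3) (Fin 3) F) *ᵥ w)) := by
        intro w
        rw [Matrix.mulVec_mulVec, Matrix.mulVec_mulVec]
      rw [e u, e v, hP, hg, ← hP, Matrix.mulVec_mulVec, Matrix.mulVec_mulVec, h2,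
        Matrix.one_mulVec, Matrix.one_mulVec]
    · intro hg
      rw [mem_GJ_iff]
      intro x y
      have hg' := hg ((P : Matrix (Fin 3) (Fin 3) F) *ᵥ x) ((P : Matrix (Fin 3) (Fin 3) F) *ᵥ y)
      rw [slToMat_apply, coe_conjSL, Cfsg.Agent.S0837.hermForm_eq_hf σ hσq,
        Cfsg.Agent.S0837.hermForm_eq_hf σ hσq, hP] at hg'
      have e : ∀ w : Fin 3 → F, ((P : Matrix (Fin 3) (Fin 3) F) * (g : Matrix (Fin 3) (Fin 3) F) *
          ((P⁻¹ : GL (Fin 3) F) : Matrix (Fin 3) (Fin 3) F)) *ᵥ ((P : Matrix (Fin 3) (Fin 3) F) *ᵥ w) =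
          (P : Matrix (Fin 3) (Fin 3) F) *ᵥ ((g : Matrix (Fin 3) (Fin 3) F) *ᵥ w) := by
        intro w
        rw [Matrix.mulVec_mulVec, Matrix.mulVec_mulVec, Matrix.mul_assoc, Matrix.mul_assoc, h1,
          Matrix.mul_one]
      rw [e x, e y, hP] at hg'
      exact hg'
  ext g
  constructor
  · rintro ⟨g₀, hg₀, rfl⟩
    exact (key g₀).mp hg₀
  · intro hg
    refine ⟨(conjSL P).symm g, ?_, ?_⟩
    · rw [SetLike.mem_coe, key, MulEquiv.apply_symm_apply]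
      exact hg
    · exact (conjSL P).apply_symm_apply g

/-- **[ISO]** with the base change `P` as a hypothesis -/
theorem exists_iso_of {q : ℕ} (σ : F →+* F) (hσq : ∀ x, σ x = x ^ q) (P : GL (Fin 3) F)
    (hP : ∀ x y : Fin 3 → F, Cfsg.Agent.S0837.hf σ ((P : Matrix (Fin 3) (Fin 3) F) *ᵥ x)
        ((P : Matrix (Fin 3) (Fin 3) F) *ᵥ y) = hJ σ x y) :
    ∃ e : ↥(GJ σ) ≃* ↥(Cfsg.SU 3 F q), ∀ g : ↥(GJ σ),
      (((e g : ↥(Cfsg.SU 3 F q)) : SL3) : Matrix (Fin 3) (Fin 3) F) =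
        (P : Matrix (Fin 3) (Fin 3) F) * ((g : SL3) : Matrix (Fin 3) (Fin 3) F) *
          ((P⁻¹ : GL (Fin 3) F) : Matrix (Fin 3) (Fin 3) F) := by
  refine ⟨((conjSL P).subgroupMap (GJ σ)).trans
    (MulEquiv.subgroupCongr (map_conjSL_GJ σ hσq P hP)), ?_⟩
  intro g
  rfl

end Cfsg.Agent.Lib.Helper7.SU3G
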