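/-
helper7: S2283 module [TVMEM] (hedge; helper13's sheet notes/helper13_S2283_modules.lean.txt): all unitary transvections of
the antidiagonal model lie in a subgroup `H` containing the upper unitriangular unitary elements and one element `v ∈ GJ σ`
moving the isotropic point `⟨e₀⟩`.  Self-contained (own copies of the [TVJ], [MEM] lemmas used).
-/
import Mathlib
import Cfsg.Prelude.Def_Classical
import Cfsg.Agent.Lib.Helper13.SU3GDefs

set_option autoImplicit false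

namespace Cfsg.Agent.Lib.Helper7.SU3G

open Matrix Cfsg.Agent.Lib.Helper13.SU3G

variable {F : Type*} [Field F]

local notation "SL3" => Matrix.SpecialLinearGroup (Fin 3) F

theorem tvJ_mulVec (σ : F →+* F) (z : Fin 3 → F) (c : F) (x : Fin 3 → F) :
    tvJ σ z c *ᵥ x = x + (c * hJ σ x z) • z := by
  have r0 : Fin.rev (0 : Fin 3) = 2 := rfl
  have r1 : Fin.rev (1 : Fin 3) = 1 := rfl
  have r2 : Fin.rev (2 : Fin 3) = 0 := rfl
  ext i
  rw [tvJ, Matrix.add_mulVec, Matrix.one_mulVec]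
  simp only [Pi.add_apply, Pi.smul_apply, smul_eq_mul, Matrix.mulVec, dotProduct,
    Fin.sum_univ_three, Matrix.smul_apply, Matrix.vecMulVec_apply, hJ, r0, r1, r2]
  ring

theorem mat_ext_mulVec {A B : Matrix (Fin 3) (Fin 3) F} (h : ∀ x : Fin 3 → F, A *ᵥ x = B *ᵥ x) :
    A = B := by
  ext i j
  have := congrFun (h (Pi.single j 1)) i
  simpa using this

theorem tvJ_conj (σ : F →+* F) {g : SL3} (hg : g ∈ GJ σ) (z : Fin 3 → F) (c : F) :
    (g : Matrix (Fin 3) (Fin 3) F) * tvJ σ z c * ((g⁻¹ : SL3) : Matrix (Fin 3) (Fin 3) F) =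
      tvJ σ ((g : Matrix (Fin 3) (Fin 3) F) *ᵥ z) c := by
  apply mat_ext_mulVec
  intro x
  have hgg : (g : Matrix (Fin 3) (Fin 3) F) * ((g⁻¹ : SL3) : Matrix (Fin 3) (Fin 3) F) = 1 := by
    rw [← Matrix.SpecialLinearGroup.coe_mul, mul_inv_cancel, Matrix.SpecialLinearGroup.coe_one]
  set y := ((g⁻¹ : SL3) : Matrix (Fin 3) (Fin 3) F) *ᵥ x with hy
  have hgy : (g : Matrix (Fin 3) (Fin 3) F) *ᵥ y = x := by
    rw [hy, Matrix.mulVec_mulVec, hgg, Matrix.one_mulVec]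
  rw [← Matrix.mulVec_mulVec, ← Matrix.mulVec_mulVec, ← hy, tvJ_mulVec, tvJ_mulVec,
    Matrix.mulVec_add, Matrix.mulVec_smul, hgy]
  have h1 := (mem_GJ_iff σ g).mp hg y z
  rw [hgy] at h1
  rw [h1]

theorem tvJ_smul (σ : F →+* F) (l : F) (z : Fin 3 → F) (c : F) :
    tvJ σ (l • z) c = tvJ σ z (l * σ l * c) := by
  ext i j
  simp only [tvJ, Matrix.add_apply, Matrix.smul_apply, Matrix.vecMulVec_apply, Pi.smul_apply,
    smul_eq_mul, map_mul]
  ring

theorem tvJ_e0 (σ : F →+* F) (c : F) : tvJ σ ![1, 0, 0] c = uM σ 0 c := by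
  have r0 : Fin.rev (0 : Fin 3) = 2 := rfl
  have r1 : Fin.rev (1 : Fin 3) = 1 := rfl
  have r2 : Fin.rev (2 : Fin 3) = 0 := rfl
  have key : ∀ i j : Fin 3, tvJ σ ![1, 0, 0] c i j =
      (1 : Matrix (Fin 3) (Fin 3) F) i j + c * ((![1, 0, 0] : Fin 3 → F) i *
        σ ((![1, 0, 0] : Fin 3 → F) (Fin.rev j))) := by
    intro i j
    simp only [tvJ, Matrix.add_apply, Matrix.smul_apply, Matrix.vecMulVec_apply, smul_eq_mul]
  ext i j
  rw [key]
  fin_cases i <;> fin_cases j <;> simp [uM, r0, r1, r2]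

theorem uS_mem (σ : F →+* F) (hσ2 : ∀ x, σ (σ x) = x) {a b : F} (h : b + σ b + a * σ a = 0) :
    uS σ a b ∈ GJ σ := by
  rw [mem_GJ_iff]
  intro x y
  simp only [hJ, coe_uS, uM, Matrix.mulVec, dotProduct, Fin.sum_univ_three, Matrix.of_apply,
    Matrix.cons_val', Matrix.cons_val_zero, Matrix.cons_val_one, Matrix.cons_val_two,
    Matrix.empty_val', Matrix.cons_val_fin_one, Matrix.head_cons, Matrix.tail_cons, Matrix.head_fin_const]
  simp only [map_add, map_mul, map_neg, map_one, map_zero, hσ2]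
  linear_combination (x 2 * σ (y 2)) * h

/-- the statement for vectors of the form `l • (g e₀)` -/
theorem tvJ_mem_of_eq (σ : F →+* F) (hσ2 : ∀ x, σ (σ x) = x)
    (H : Subgroup SL3) (hU : ∀ a b : F, b + σ b + a * σ a = 0 → uS σ a b ∈ H)
    {g : SL3} (hgH : g ∈ H) (hgG : g ∈ GJ σ) (l : F) (c : F) (hc : c + σ c = 0) :
    ∃ k : SL3, k ∈ H ∧ (k : Matrix (Fin 3) (Fin 3) F) =
      tvJ σ (l • ((g : Matrix (Fin 3) (Fin 3) F) *ᵥ ![1, 0, 0])) c := by
  have hc' : l * σ l * c + σ (l * σ l * c) + 0 * σ 0 = 0 := by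
    simp only [map_mul, hσ2]
    linear_combination (l * σ l) * hc
  refine ⟨g * uS σ 0 (l * σ l * c) * g⁻¹, ?_, ?_⟩
  · exact H.mul_mem (H.mul_mem hgH (hU _ _ hc')) (H.inv_mem hgH)
  · rw [tvJ_smul, ← tvJ_conj σ hgG, tvJ_e0, Matrix.SpecialLinearGroup.coe_mul,
      Matrix.SpecialLinearGroup.coe_mul, coe_uS]

/-- an isotropic vector with last coordinate `≠ 0` is a multiple of `k e₂`, `k` upper unitriangular unitary -/
theorem exists_uS_of_isotropic (σ : F →+* F) (hσ2 : ∀ x, σ (σ x) = x) (y : Fin 3 → F)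
    (hy : hJ σ y y = 0) (hy2 : y 2 ≠ 0) :
    ∃ a b : F, b + σ b + a * σ a = 0 ∧ y = y 2 • (uM σ a b *ᵥ ![0, 0, 1]) := by
  have hs2 : σ (y 2) ≠ 0 := by
    intro h0
    apply hy2
    have := hσ2 (y 2)
    rw [h0, map_zero] at this
    exact this.symm
  refine ⟨-σ (y 1 / y 2), y 0 / y 2, ?_, ?_⟩
  · simp only [map_div₀, map_neg, hσ2]
    simp only [hJ] at hy
    field_simp
    linear_combination hy
  · ext i
    fin_cases i
    · simp [uM, Matrix.mulVec, dotProduct, Fin.sum_univ_three]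
      field_simp
    · simp [uM, Matrix.mulVec, dotProduct, Fin.sum_univ_three, hσ2]
      field_simp
    · simp [uM, Matrix.mulVec, dotProduct, Fin.sum_univ_three]

theorem tvJ_mem (σ : F →+* F) (hσ2 : ∀ x, σ (σ x) = x)
    (H : Subgroup SL3) (hU : ∀ a b : F, b + σ b + a * σ a = 0 → uS σ a b ∈ H)
    (v : SL3) (hvG : v ∈ GJ σ) (hv : v ∈ H) (hv20 : (v : Matrix (Fin 3) (Fin 3) F) 2 0 ≠ 0)
    (z : Fin 3 → F) (c : F) (hz : hJ σ z z = 0) (hc : c + σ c = 0) :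
    ∃ g : SL3, g ∈ H ∧ (g : Matrix (Fin 3) (Fin 3) F) = tvJ σ z c := by
  have hinj : ∀ x : F, σ x = 0 → x = 0 := by
    intro x hx
    have := hσ2 x
    rw [hx, map_zero] at this
    exact this.symm
  by_cases hz2 : z 2 = 0
  · -- `z = z 0 • e₀`
    have hz1 : z 1 = 0 := by
      simp only [hJ, hz2, map_zero, mul_zero, zero_mul, zero_add, add_zero] at hz
      rcases mul_eq_zero.mp hz with h | h
      · exact h
      · exact hinj _ h
    have hze : z = z 0 • (((1 : SL3) : Matrix (Fin 3) (Fin 3) F) *ᵥ ![1, 0, 0]) := by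
      rw [Matrix.SpecialLinearGroup.coe_one, Matrix.one_mulVec]
      ext i
      fin_cases i
      · simp
      · simp [hz1]
      · simp [hz2]
    have := tvJ_mem_of_eq σ hσ2 H hU (H.one_mem) ((GJ σ).one_mem) (z 0) c hc
    rw [hze]
    exact this
  · -- `e₂` is a multiple of `g₀ e₀`
    set y := (v : Matrix (Fin 3) (Fin 3) F) *ᵥ ![1, 0, 0] with hydef
    have hy2 : y 2 = (v : Matrix (Fin 3) (Fin 3) F) 2 0 := by
      simp [hydef, Matrix.mulVec, dotProduct, Fin.sum_univ_three]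
    have hyiso : hJ σ y y = 0 := by
      rw [hydef, (mem_GJ_iff σ v).mp hvG]
      simp [hJ]
    have hy2' : y 2 ≠ 0 := by rw [hy2]; exact hv20
    obtain ⟨a₀, b₀, hab₀, hyk⟩ := exists_uS_of_isotropic σ hσ2 y hyiso hy2'
    obtain ⟨a, b, hab, hzk⟩ := exists_uS_of_isotropic σ hσ2 z hz hz2
    -- `g := uS a b * (uS a₀ b₀)⁻¹ * v`
    set k₀ := uS σ a₀ b₀ with hk₀
    set k := uS σ a b with hk
    have hk₀H : k₀ ∈ H := hU _ _ hab₀
    have hkH : k ∈ H := hU _ _ hab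
    have hk₀G : k₀ ∈ GJ σ := uS_mem σ hσ2 hab₀
    have hkG : k ∈ GJ σ := uS_mem σ hσ2 hab
    have hgH : k * k₀⁻¹ * v ∈ H := H.mul_mem (H.mul_mem hkH (H.inv_mem hk₀H)) hv
    have hgG : k * k₀⁻¹ * v ∈ GJ σ :=
      (GJ σ).mul_mem ((GJ σ).mul_mem hkG ((GJ σ).inv_mem hk₀G)) hvG
    have hinv : ((k₀⁻¹ : SL3) : Matrix (Fin 3) (Fin 3) F) * (k₀ : Matrix (Fin 3) (Fin 3) F) = 1 := by
      rw [← Matrix.SpecialLinearGroup.coe_mul, inv_mul_cancel, Matrix.SpecialLinearGroup.coe_one]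
    -- `(k * k₀⁻¹ * v) e₀ = y 2 • k e₂`
    have h3 : ((k₀⁻¹ : SL3) : Matrix (Fin 3) (Fin 3) F) *ᵥ y = y 2 • ![0, 0, 1] := by
      conv_lhs => rw [hyk]
      rw [Matrix.mulVec_smul, ← coe_uS, ← hk₀, Matrix.mulVec_mulVec, hinv, Matrix.one_mulVec]
    have e1 : ((k * k₀⁻¹ * v : SL3) : Matrix (Fin 3) (Fin 3) F) *ᵥ ![1, 0, 0] =
        y 2 • ((k : Matrix (Fin 3) (Fin 3) F) *ᵥ ![0, 0, 1]) := by
      rw [Matrix.SpecialLinearGroup.coe_mul, Matrix.SpecialLinearGroup.coe_mul,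
        ← Matrix.mulVec_mulVec, ← Matrix.mulVec_mulVec, ← hydef, h3, Matrix.mulVec_smul]
    have hzz : z = (z 2 / y 2) • (((k * k₀⁻¹ * v : SL3) : Matrix (Fin 3) (Fin 3) F) *ᵥ ![1, 0, 0]) := by
      rw [e1, smul_smul, div_mul_cancel₀ _ hy2', hk, coe_uS]
      exact hzk
    have := tvJ_mem_of_eq σ hσ2 H hU hgH hgG (z 2 / y 2) c hc
    rw [← hzz] at this
    exact this

end Cfsg.Agent.Lib.Helper7.SU3G
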