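import Mathlib

/-!
# Scott's lemma for permutation modules (the Ree inequality)

For permutations `x y z` of a finite set `α` with `x * y * z = 1`, the operators
`D σ : v ↦ v - v ∘ σ` on `α → ℚ` satisfy
`2 * (card α - #orbit representatives of ⟨x, y⟩) ≤ rk x + rk y + rk z`, where `rk σ` is the rank of
`D σ`.  For `σ` of prime order `p` with `f` fixed points, `p * rk σ = (p - 1) * (card α - f)`.
-/

set_option autoImplicit false
set_option linter.unusedSectionVars false

namespace Cfsg.Agent.Lib.Helper7.Scott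

open Module

variable {α : Type*} [Fintype α] [DecidableEq α]

/-- `v ↦ v ∘ σ` as a linear map. -/
def R (σ : Equiv.Perm α) : (α → ℚ) →ₗ[ℚ] (α → ℚ) := LinearMap.funLeft ℚ ℚ σ

@[simp] theorem R_apply (σ : Equiv.Perm α) (v : α → ℚ) (a : α) : R σ v a = v (σ a) := rfl

/-- `v ↦ v - v ∘ σ`. -/
def D (σ : Equiv.Perm α) : (α → ℚ) →ₗ[ℚ] (α → ℚ) := LinearMap.id - R σ

@[simp] theorem D_apply (σ : Equiv.Perm α) (v : α → ℚ) (a : α) : D σ v a = v a - v (σ a) := rfl

/-- The rank of `D σ`. -/
noncomputable def rk (σ : Equiv.Perm α) : ℕ := finrank ℚ (LinearMap.range (D σ))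

theorem D_eq (σ : Equiv.Perm α) (v : α → ℚ) : D σ v = v - R σ v := rfl

theorem self_eq_R_add_D (σ : Equiv.Perm α) (u : α → ℚ) : u = R σ u + D σ u := by
  rw [D_eq]; abel

theorem apply_inv (g : Equiv.Perm α) (a : α) : g (g⁻¹ a) = a := by
  rw [Equiv.Perm.inv_def]; exact g.apply_symm_apply a

/-- The basis vector at `a`. -/
def e (a : α) : α → ℚ := Pi.single a 1

theorem e_apply (a c : α) : e a c = if c = a then 1 else 0 := by
  unfold e; rw [Pi.single_apply]

theorem D_e (σ : Equiv.Perm α) (b : α) : D σ (e (σ b)) = e (σ b) - e b := by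
  ext c
  simp only [D_apply, e_apply, Pi.sub_apply, EmbeddingLike.apply_eq_iff_eq]

section scott

variable (x y z : Equiv.Perm α)

/-- The first map of Scott's complex. -/
def beta : (α → ℚ) →ₗ[ℚ]
    (LinearMap.range (D x) × LinearMap.range (D y) × LinearMap.range (D z)) :=
  LinearMap.prod (D x).rangeRestrict (LinearMap.prod (D y).rangeRestrict (D z).rangeRestrict)

/-- The second map of Scott's complex. -/
def delta : (LinearMap.range (D x) × LinearMap.range (D y) × LinearMap.range (D z)) →ₗ[ℚ]
    (α → ℚ) :=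
  LinearMap.coprod ((R z).comp ((R y).comp (LinearMap.range (D x)).subtype))
    (LinearMap.coprod ((R z).comp (LinearMap.range (D y)).subtype) (LinearMap.range (D z)).subtype)

theorem delta_apply (u : LinearMap.range (D x) × LinearMap.range (D y) × LinearMap.range (D z)) :
    delta x y z u = R z (R y (u.1 : α → ℚ)) + (R z (u.2.1 : α → ℚ) + (u.2.2 : α → ℚ)) := rfl

theorem beta_fst (v : α → ℚ) : ((beta x y z v).1 : α → ℚ) = D x v := rfl

theorem beta_snd_fst (v : α → ℚ) : ((beta x y z v).2.1 : α → ℚ) = D y v := rfl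

theorem beta_snd_snd (v : α → ℚ) : ((beta x y z v).2.2 : α → ℚ) = D z v := rfl

theorem delta_beta (h : x * y * z = 1) (v : α → ℚ) : delta x y z (beta x y z v) = 0 := by
  rw [delta_apply, beta_fst, beta_snd_fst, beta_snd_snd]
  ext a
  have h1 : x (y (z a)) = a := by
    have := congrArg (fun σ : Equiv.Perm α => σ a) h
    simpa [Equiv.Perm.mul_apply] using this
  simp only [Pi.add_apply, R_apply, D_apply, Pi.zero_apply, h1]
  ring

theorem range_Dz_le : LinearMap.range (D z) ≤ LinearMap.range (delta x y z) := by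
  rintro _ ⟨v, rfl⟩
  refine ⟨(0, 0, ⟨D z v, v, rfl⟩), ?_⟩
  rw [delta_apply]
  simp

theorem range_Dy_le : LinearMap.range (D y) ≤ LinearMap.range (delta x y z) := by
  rintro _ ⟨v, rfl⟩
  refine ⟨(0, ⟨D y v, v, rfl⟩, ⟨D z (D y v), D y v, rfl⟩), ?_⟩
  rw [delta_apply]
  simp only [Submodule.coe_zero, map_zero, zero_add]
  exact (self_eq_R_add_D z (D y v)).symm

theorem range_Dx_le : LinearMap.range (D x) ≤ LinearMap.range (delta x y z) := by
  rintro _ ⟨v, rfl⟩
  refine ⟨(⟨D x v, v, rfl⟩, ⟨D y (D x v), D x v, rfl⟩, ⟨D z (D x v), D x v, rfl⟩), ?_⟩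
  rw [delta_apply]
  simp only
  rw [D_eq y (D x v), D_eq z (D x v), map_sub]
  abel

/-- A vector killed by `D x` and `D y` is invariant under the group generated by `x`, `y`. -/
theorem invariant_of_mem_closure {v : α → ℚ} (hx : D x v = 0) (hy : D y v = 0)
    {g : Equiv.Perm α} (hg : g ∈ Subgroup.closure {x, y}) (a : α) : v (g a) = v a := by
  have hx' : ∀ a, v (x a) = v a := fun a => by
    have := congrFun hx a
    simp only [D_apply, Pi.zero_apply, sub_eq_zero] at this
    exact this.symm
  have hy' : ∀ a, v (y a) = v a := fun a => by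
    have := congrFun hy a
    simp only [D_apply, Pi.zero_apply, sub_eq_zero] at this
    exact this.symm
  induction hg using Subgroup.closure_induction generalizing a with
  | mem g hg =>
    rcases hg with rfl | hg
    · exact hx' a
    · rw [Set.mem_singleton_iff] at hg; subst hg; exact hy' a
  | one => rfl
  | mul g h _ _ ihg ihh => rw [Equiv.Perm.mul_apply, ihg, ihh]
  | inv g _ ih =>
    have := ih (g⁻¹ a)
    rw [apply_inv] at this
    exact this.symm

theorem mem_ker_beta {v : α → ℚ} (hv : v ∈ LinearMap.ker (beta x y z)) :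
    D x v = 0 ∧ D y v = 0 := by
  rw [LinearMap.mem_ker] at hv
  constructor
  · rw [← beta_fst x y z v, hv]; rfl
  · rw [← beta_snd_fst x y z v, hv]; rfl

theorem finrank_ker_beta_le (S : Finset α)
    (hS : ∀ a, ∃ s ∈ S, ∃ g ∈ Subgroup.closure {x, y}, g s = a) :
    finrank ℚ (LinearMap.ker (beta x y z)) ≤ S.card := by
  let ρ : (α → ℚ) →ₗ[ℚ] (S → ℚ) := LinearMap.funLeft ℚ ℚ (Subtype.val : S → α)
  have hinj : Function.Injective (ρ.comp (LinearMap.ker (beta x y z)).subtype) := by
    rw [← LinearMap.ker_eq_bot, LinearMap.ker_eq_bot']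
    rintro ⟨v, hv⟩ h0
    obtain ⟨h1, h2⟩ := mem_ker_beta x y z hv
    apply Subtype.ext
    ext a
    obtain ⟨s, hs, g, hg, rfl⟩ := hS a
    show v (g s) = 0
    rw [invariant_of_mem_closure x y h1 h2 hg s]
    exact congrFun h0 ⟨s, hs⟩
  calc finrank ℚ (LinearMap.ker (beta x y z)) ≤ finrank ℚ (S → ℚ) :=
        LinearMap.finrank_le_finrank_of_injective hinj
    _ = S.card := by simp

theorem sub_mem_range_delta {g : Equiv.Perm α} (hg : g ∈ Subgroup.closure {x, y}) (b : α) :
    e (g b) - e b ∈ LinearMap.range (delta x y z) := by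
  induction hg using Subgroup.closure_induction generalizing b with
  | mem g hg =>
    rcases hg with rfl | hg
    · exact range_Dx_le g y z ⟨e (g b), D_e g b⟩
    · rw [Set.mem_singleton_iff] at hg; subst hg
      exact range_Dy_le x g z ⟨e (g b), D_e g b⟩
  | one => simp
  | mul g h _ _ ihg ihh =>
    have : e ((g * h) b) - e b = (e (g (h b)) - e (h b)) + (e (h b) - e b) := by
      rw [Equiv.Perm.mul_apply]; abel
    rw [this]
    exact Submodule.add_mem _ (ihg (h b)) (ihh b)
  | inv g _ ih =>
    have := ih (g⁻¹ b)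
    rw [apply_inv] at this
    have h2 : e (g⁻¹ b) - e b = -(e b - e (g⁻¹ b)) := by abel
    rw [h2]
    exact Submodule.neg_mem _ this

theorem card_le_finrank_range_delta (S : Finset α)
    (hS : ∀ a, ∃ s ∈ S, ∃ g ∈ Subgroup.closure {x, y}, g s = a) :
    Fintype.card α ≤ finrank ℚ (LinearMap.range (delta x y z)) + S.card := by
  choose r hrS hr using hS
  let ε : (α → ℚ) →ₗ[ℚ] (S → ℚ) :=
    { toFun := fun v s => ∑ a, if r a = (s : α) then v a else 0
      map_add' := by
        intro v w; ext s
        simp only [Pi.add_apply, ← Finset.sum_add_distrib]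
        apply Finset.sum_congr rfl; intro a _; split_ifs <;> simp
      map_smul' := by
        intro c v; ext s
        simp only [Pi.smul_apply, smul_eq_mul, RingHom.id_apply, Finset.mul_sum]
        apply Finset.sum_congr rfl; intro a _; split_ifs <;> simp }
  have hker : LinearMap.ker ε ≤ LinearMap.range (delta x y z) := by
    intro v hv
    rw [LinearMap.mem_ker] at hv
    have hv' : ∀ c : α, (∑ a, if r a = c then v a else 0) = 0 := by
      intro c
      by_cases hc : c ∈ S
      · exact congrFun hv ⟨c, hc⟩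
      · apply Finset.sum_eq_zero
        intro a _
        rw [if_neg]
        intro h; rw [← h] at hc; exact hc (hrS a)
    have hsum : v = ∑ a, v a • (e a - e (r a)) := by
      ext c
      simp only [Finset.sum_apply, Pi.smul_apply, Pi.sub_apply, e_apply, smul_eq_mul, mul_sub,
        Finset.sum_sub_distrib, mul_ite, mul_one, mul_zero]
      rw [Finset.sum_ite_eq Finset.univ c v, if_pos (Finset.mem_univ c)]
      have := hv' c
      have h2 : (∑ a, if c = r a then v a else 0) = ∑ a, if r a = c then v a else 0 := by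
        apply Finset.sum_congr rfl; intro a _; simp only [eq_comm]
      rw [h2, this, sub_zero]
    rw [hsum]
    apply Submodule.sum_mem
    intro a _
    apply Submodule.smul_mem
    obtain ⟨g, hg, hga⟩ := hr a
    have := sub_mem_range_delta x y z hg (r a)
    rwa [hga] at this
  have h1 := LinearMap.finrank_range_add_finrank_ker ε
  have h2 : finrank ℚ (LinearMap.range ε) ≤ S.card := by
    calc finrank ℚ (LinearMap.range ε) ≤ finrank ℚ (S → ℚ) := Submodule.finrank_le _
      _ = S.card := by simp
  have h3 := Submodule.finrank_mono hker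
  have h4 : finrank ℚ (α → ℚ) = Fintype.card α := by simp
  omega

/-- **Scott's lemma** for the permutation module: if `x * y * z = 1` and every point is in the
orbit of a point of `S` under `⟨x, y⟩`, then `2 (|α| - |S|) ≤ rk x + rk y + rk z`. -/
theorem scott (h : x * y * z = 1) (S : Finset α)
    (hS : ∀ a, ∃ s ∈ S, ∃ g ∈ Subgroup.closure {x, y}, g s = a) :
    2 * Fintype.card α ≤ rk x + rk y + rk z + 2 * S.card := by
  have h1 : finrank ℚ (LinearMap.range (D x) × LinearMap.range (D y) × LinearMap.range (D z)) =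
      rk x + (rk y + rk z) := by
    simp only [rk, Module.finrank_prod]
  have h2 := LinearMap.finrank_range_add_finrank_ker (delta x y z)
  have h3 := LinearMap.finrank_range_add_finrank_ker (beta x y z)
  have h4 : LinearMap.range (beta x y z) ≤ LinearMap.ker (delta x y z) := by
    rintro _ ⟨v, rfl⟩
    exact delta_beta x y z h v
  have h5 := Submodule.finrank_mono h4
  have h6 := finrank_ker_beta_le x y z S hS
  have h7 := card_le_finrank_range_delta x y z S hS
  have h8 : finrank ℚ (α → ℚ) = Fintype.card α := by simp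
  omega

end scott

/-! ### The rank of `D g` for `g` of prime order -/

/-- The number of fixed points. -/
def fixCount (σ : Equiv.Perm α) : ℕ := (Finset.univ.filter fun a => σ a = a).card

theorem trace_R (σ : Equiv.Perm α) : LinearMap.trace ℚ (α → ℚ) (R σ) = (fixCount σ : ℚ) := by
  rw [LinearMap.trace_eq_matrix_trace ℚ (Pi.basisFun ℚ α), LinearMap.toMatrix_eq_toMatrix',
    Matrix.trace]
  simp only [Matrix.diag_apply, LinearMap.toMatrix'_apply, R_apply, Pi.single_apply]
  rw [fixCount, Finset.card_filter]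
  push_cast
  rfl

theorem R_mul (σ τ : Equiv.Perm α) (v : α → ℚ) : R τ (R σ v) = R (σ * τ) v := rfl

theorem R_one (v : α → ℚ) : R (1 : Equiv.Perm α) v = v := rfl

theorem fixCount_one : fixCount (1 : Equiv.Perm α) = Fintype.card α := by
  simp [fixCount, Finset.card_univ]

theorem fixCount_pow {g : Equiv.Perm α} {p : ℕ} (hp : p.Prime) (hg : orderOf g = p) {k : ℕ}
    (hk0 : 0 < k) (hkp : k < p) : fixCount (g ^ k) = fixCount g := by
  have hcop : Nat.Coprime k (orderOf g) := by
    rw [hg]
    exact Nat.coprime_comm.mp ((Nat.Prime.coprime_iff_not_dvd hp).mpr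
      (Nat.not_dvd_of_pos_of_lt hk0 hkp))
  obtain ⟨m, hm⟩ := exists_pow_eq_self_of_coprime hcop
  unfold fixCount
  congr 1
  ext a
  simp only [Finset.mem_filter, Finset.mem_univ, true_and]
  constructor
  · intro h
    have : ((g ^ k) ^ m) a = a := by
      rw [Equiv.Perm.pow_apply_eq_self_of_apply_eq_self h]
    rwa [hm] at this
  · intro h
    exact Equiv.Perm.pow_apply_eq_self_of_apply_eq_self h k

/-- The averaging operator. -/
noncomputable def avg (g : Equiv.Perm α) (p : ℕ) : (α → ℚ) →ₗ[ℚ] (α → ℚ) :=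
  (p : ℚ)⁻¹ • ∑ k ∈ Finset.range p, R (g ^ k)

theorem isProj_avg {g : Equiv.Perm α} {p : ℕ} (hp : 0 < p) (hg : g ^ p = 1) :
    LinearMap.IsProj (LinearMap.ker (D g)) (avg g p) := by
  have hp' : (p : ℚ) ≠ 0 := by exact_mod_cast hp.ne'
  constructor
  · intro v
    rw [LinearMap.mem_ker, D_eq, sub_eq_zero]
    unfold avg
    simp only [LinearMap.smul_apply, LinearMap.sum_apply, map_smul, map_sum]
    congr 1
    have : ∀ k, R g (R (g ^ k) v) = R (g ^ (k + 1)) v := fun k => by
      rw [R_mul, pow_succ]
    simp only [this]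
    obtain ⟨q, rfl⟩ : ∃ q, p = q + 1 := ⟨p - 1, by omega⟩
    rw [Finset.sum_range_succ' (fun k => R (g ^ k) v),
      Finset.sum_range_succ (fun k => R (g ^ (k + 1)) v), hg, pow_zero]
  · intro v hv
    rw [LinearMap.mem_ker, D_eq, sub_eq_zero] at hv
    have hk : ∀ k, R (g ^ k) v = v := by
      intro k
      induction k with
      | zero => rfl
      | succ k ih => rw [pow_succ, ← R_mul, ih, ← hv]
    unfold avg
    simp only [LinearMap.smul_apply, LinearMap.sum_apply, hk, Finset.sum_const, Finset.card_range]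
    rw [← Nat.cast_smul_eq_nsmul ℚ, smul_smul, inv_mul_cancel₀ hp', one_smul]

/-- For `g` of prime order `p`: `p * rk g + (p - 1) * #fixed points = (p - 1) * |α|`. -/
theorem rk_prime {g : Equiv.Perm α} {p : ℕ} (hp : p.Prime) (hg : orderOf g = p) :
    p * rk g + (p - 1) * fixCount g = (p - 1) * Fintype.card α := by
  have hproj := isProj_avg hp.pos (g := g) (by rw [← hg]; exact pow_orderOf_eq_one g)
  have htr := hproj.trace
  obtain ⟨q, rfl⟩ : ∃ q, p = q + 1 := ⟨p - 1, by have := hp.pos; omega⟩
  have hsum : (∑ k ∈ Finset.range (q + 1), (fixCount (g ^ k) : ℚ)) =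
      q * fixCount g + Fintype.card α := by
    rw [Finset.sum_range_succ' (fun k => (fixCount (g ^ k) : ℚ)), pow_zero, fixCount_one]
    congr 1
    rw [Finset.sum_congr rfl (fun k hk => by
      rw [fixCount_pow hp hg (Nat.succ_pos k) (by have := Finset.mem_range.mp hk; omega)])]
    simp
  have htr2 : LinearMap.trace ℚ (α → ℚ) (avg g (q + 1)) =
      ((q + 1 : ℕ) : ℚ)⁻¹ * (q * fixCount g + Fintype.card α) := by
    unfold avg
    rw [map_smul, map_sum]
    simp only [trace_R, smul_eq_mul]
    rw [hsum]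
  have hrn := LinearMap.finrank_range_add_finrank_ker (D g)
  have hn : finrank ℚ (α → ℚ) = Fintype.card α := by simp
  rw [htr2] at htr
  have hq : ((q + 1 : ℕ) : ℚ) ≠ 0 := by positivity
  have h1 : (q * fixCount g + Fintype.card α : ℚ) =
      ((q + 1 : ℕ) : ℚ) * (finrank ℚ (LinearMap.ker (D g)) : ℚ) := by
    rw [← htr, ← mul_assoc, mul_inv_cancel₀ hq, one_mul]
  have h2 : (rk g : ℚ) + (finrank ℚ (LinearMap.ker (D g)) : ℚ) = Fintype.card α := by
    unfold rk
    rw [← hn]
    exact_mod_cast hrn
  have h3 : (((q + 1) * rk g + (q + 1 - 1) * fixCount g : ℕ) : ℚ) =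
      (((q + 1 - 1) * Fintype.card α : ℕ) : ℚ) := by
    simp only [Nat.add_sub_cancel]
    push_cast at h1 h2 ⊢
    have : (finrank ℚ (LinearMap.ker (D g)) : ℚ) = Fintype.card α - rk g := by linarith
    rw [this] at h1
    linarith
  exact_mod_cast h3

end Cfsg.Agent.Lib.Helper7.Scott
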