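import Cfsg.Agent.Lib.Helper7.M12Chain

/-!
# Data for the simplicity proofs of `M23`, `M22`, `M11`

For each of the three groups `X` (the stabilizer in `M24` of `∞`; of `∞` and `0`; of the dodecad `d0`
and `∞`) we give an element `a` of prime order (`23`, `11`, `11`) and an element `c` of `X` such that
`a` and `c * a * c⁻¹` generate `X`; this is certified by a stabilizer chain of words in these two
elements.  AUTO-GENERATED by scratch/gen_simple.py; everything is re-checked here.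
-/

set_option autoImplicit false

namespace Cfsg.Agent.Lib.Helper7
open Cfsg

/-- The table of a conjugate. -/
theorem matches_conj {a c : Equiv.Perm GolayPt} {aT cT gT : List ℕ} (ha : Matches a aT)
    (hc : Matches c cT) (h : compT gT cT = compT cT aT) : Matches (c * a * c⁻¹) gT := by
  intro p'
  obtain ⟨p, rfl⟩ : ∃ p, c p = p' := ⟨c⁻¹ p', by simp⟩
  have h1 : (c * a * c⁻¹) (c p) = (c * a) p := by simp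
  rw [h1, matches_mul hc ha p, ← h, getD_compT _ _ (idx_lt p), hc p]

/-- The table of the `M12`-chain element `vP i q`. -/
def vT (i q : ℕ) : List ℕ := chainT2.getD ((lookupM12.getD i []).getD q 0) idT

/-- The table of the `M11`-chain element `cP i q`. -/
def cT (i q : ℕ) : List ℕ := chainT2.getD ((lookupM11.getD i []).getD q 0) idT

theorem matches_vP (i q : ℕ) : Matches (vP i q) (vT i q) :=
  forall₂_getD chain2_match matches_one _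

theorem matches_cP (i q : ℕ) : Matches (cP i q) (cT i q) :=
  forall₂_getD chain2_match matches_one _

/-! ### Data for `23` -/

/-- The element of prime order for `23`. -/
noncomputable def a23 : Equiv.Perm GolayPt := shiftPerm

/-- The conjugating element for `23`. -/
noncomputable def c23 : Equiv.Perm GolayPt := cubeTwist

/-- Table of `a23`. -/
def a23T : List ℕ := gensT.getD 0 []

/-- Table of `c23`. -/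
def c23T : List ℕ := gensT.getD 2 []

/-- Table of `c23 * a23 * c23⁻¹`. -/
def g23T : List ℕ :=
  [18, 5, 21, 2, 22, 16, 3, 19, 9, 17, 20, 4, 7, 11, 0, 13, 12, 15, 6, 8, 14, 1, 10, 23]

theorem matches_a23 : Matches a23 a23T := matches_shiftPerm

theorem matches_c23 : Matches c23 c23T := matches_cubeTwist

theorem g23T_check : compT g23T c23T = compT c23T a23T := by decide +kernel

/-- The two generators. -/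
noncomputable def gens23P : List (Equiv.Perm GolayPt) := [a23, c23 * a23 * c23⁻¹]

/-- Tables of the two generators. -/
def gens23T : List (List ℕ) := [a23T, g23T]

theorem gens23_match : List.Forall₂ Matches gens23P gens23T :=
  List.Forall₂.cons matches_a23 (List.Forall₂.cons
    (matches_conj matches_a23 matches_c23 g23T_check) List.Forall₂.nil)

/-- The straight-line program for `23`. -/
@[irreducible] def prog23 : List (ℕ × ℕ) :=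
  [
   (0, 0), (2, 0), (3, 0), (4, 0), (5, 0), (6, 0), (7, 0), (8, 0), (9, 0), (10, 0), (11, 0),
   (12, 0), (13, 0), (14, 0), (15, 0), (16, 0), (17, 0), (18, 0), (19, 0), (20, 0), (21, 0),
   (5, 1), (23, 23), (24, 23), (25, 23), (1, 0), (27, 1), (28, 0), (1, 29), (29, 28), (29, 0),
   (2, 27), (0, 30), (0, 1), (32, 31), (36, 1), (33, 31), (36, 34), (36, 0), (35, 40), (39, 37),
   (0, 38), (0, 43), (41, 44), (45, 0), (41, 33), (13, 47), (25, 48), (24, 49), (25, 49), (26, 49),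
   (50, 23), (50, 49), (51, 23), (51, 49), (52, 23), (52, 49), (53, 23), (53, 49), (54, 49),
   (56, 23), (58, 23), (61, 49), (62, 23), (65, 49), (49, 49), (67, 49), (68, 49), (69, 49),
   (70, 49), (49, 46), (67, 46), (68, 46), (69, 46), (70, 46), (71, 46), (75, 49), (75, 46),
   (76, 49), (76, 46), (77, 49), (77, 46), (78, 46), (81, 46), (45, 46), (11, 86), (59, 87),
   (71, 88), (89, 89), (90, 89), (91, 89), (46, 33), (9, 93), (53, 94), (82, 95), (89, 96),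
   (90, 96), (91, 96), (96, 89), (97, 89), (98, 89), (101, 89), (101, 96), (102, 89), (102, 96),
   (103, 96), (104, 96), (105, 89), (106, 89), (42, 37), (5, 111), (25, 112), (79, 113), (96, 114),
   (115, 115), (111, 46), (5, 117), (25, 118), (71, 119), (109, 120), (115, 121), (116, 121),
   (121, 115), (121, 121), (122, 121), (124, 115), (125, 115), (126, 115), (47, 117), (6, 130),
   (50, 131), (67, 132), (91, 133), (115, 134), (123, 134), (125, 134), (127, 134), (134, 134)]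

/-- The tables of all entries produced by `prog23`. -/
@[irreducible] def tabs23 : List (List ℕ) :=
  [[1, 2, 3, 4, 5, 6, 7, 8, 9, 10, 11, 12, 13, 14, 15, 16, 17, 18, 19, 20, 21, 22, 0, 23],
   [18, 5, 21, 2, 22, 16, 3, 19, 9, 17, 20, 4, 7, 11, 0, 13, 12, 15, 6, 8, 14, 1, 10, 23],
   [2, 3, 4, 5, 6, 7, 8, 9, 10, 11, 12, 13, 14, 15, 16, 17, 18, 19, 20, 21, 22, 0, 1, 23],
   [3, 4, 5, 6, 7, 8, 9, 10, 11, 12, 13, 14, 15, 16, 17, 18, 19, 20, 21, 22, 0, 1, 2, 23],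
   [4, 5, 6, 7, 8, 9, 10, 11, 12, 13, 14, 15, 16, 17, 18, 19, 20, 21, 22, 0, 1, 2, 3, 23],
   [5, 6, 7, 8, 9, 10, 11, 12, 13, 14, 15, 16, 17, 18, 19, 20, 21, 22, 0, 1, 2, 3, 4, 23],
   [6, 7, 8, 9, 10, 11, 12, 13, 14, 15, 16, 17, 18, 19, 20, 21, 22, 0, 1, 2, 3, 4, 5, 23],
   [7, 8, 9, 10, 11, 12, 13, 14, 15, 16, 17, 18, 19, 20, 21, 22, 0, 1, 2, 3, 4, 5, 6, 23],
   [8, 9, 10, 11, 12, 13, 14, 15, 16, 17, 18, 19, 20, 21, 22, 0, 1, 2, 3, 4, 5, 6, 7, 23],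
   [9, 10, 11, 12, 13, 14, 15, 16, 17, 18, 19, 20, 21, 22, 0, 1, 2, 3, 4, 5, 6, 7, 8, 23],
   [10, 11, 12, 13, 14, 15, 16, 17, 18, 19, 20, 21, 22, 0, 1, 2, 3, 4, 5, 6, 7, 8, 9, 23],
   [11, 12, 13, 14, 15, 16, 17, 18, 19, 20, 21, 22, 0, 1, 2, 3, 4, 5, 6, 7, 8, 9, 10, 23],
   [12, 13, 14, 15, 16, 17, 18, 19, 20, 21, 22, 0, 1, 2, 3, 4, 5, 6, 7, 8, 9, 10, 11, 23],
   [13, 14, 15, 16, 17, 18, 19, 20, 21, 22, 0, 1, 2, 3, 4, 5, 6, 7, 8, 9, 10, 11, 12, 23],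
   [14, 15, 16, 17, 18, 19, 20, 21, 22, 0, 1, 2, 3, 4, 5, 6, 7, 8, 9, 10, 11, 12, 13, 23],
   [15, 16, 17, 18, 19, 20, 21, 22, 0, 1, 2, 3, 4, 5, 6, 7, 8, 9, 10, 11, 12, 13, 14, 23],
   [16, 17, 18, 19, 20, 21, 22, 0, 1, 2, 3, 4, 5, 6, 7, 8, 9, 10, 11, 12, 13, 14, 15, 23],
   [17, 18, 19, 20, 21, 22, 0, 1, 2, 3, 4, 5, 6, 7, 8, 9, 10, 11, 12, 13, 14, 15, 16, 23],
   [18, 19, 20, 21, 22, 0, 1, 2, 3, 4, 5, 6, 7, 8, 9, 10, 11, 12, 13, 14, 15, 16, 17, 23],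
   [19, 20, 21, 22, 0, 1, 2, 3, 4, 5, 6, 7, 8, 9, 10, 11, 12, 13, 14, 15, 16, 17, 18, 23],
   [20, 21, 22, 0, 1, 2, 3, 4, 5, 6, 7, 8, 9, 10, 11, 12, 13, 14, 15, 16, 17, 18, 19, 23],
   [21, 22, 0, 1, 2, 3, 4, 5, 6, 7, 8, 9, 10, 11, 12, 13, 14, 15, 16, 17, 18, 19, 20, 23],
   [22, 0, 1, 2, 3, 4, 5, 6, 7, 8, 9, 10, 11, 12, 13, 14, 15, 16, 17, 18, 19, 20, 21, 23],
   [0, 10, 3, 7, 4, 21, 8, 1, 14, 22, 2, 9, 12, 16, 5, 18, 17, 20, 11, 13, 19, 6, 15, 23],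
   [0, 2, 7, 1, 4, 6, 14, 10, 5, 15, 3, 22, 12, 17, 21, 11, 20, 19, 9, 16, 13, 8, 18, 23],
   [0, 3, 1, 10, 4, 8, 5, 2, 21, 18, 7, 15, 12, 20, 6, 9, 19, 13, 22, 17, 16, 14, 11, 23],
   [0, 7, 10, 2, 4, 14, 21, 3, 6, 11, 1, 18, 12, 19, 8, 22, 13, 16, 15, 20, 17, 5, 9, 23],
   [5, 21, 2, 22, 16, 3, 19, 9, 17, 20, 4, 7, 11, 0, 13, 12, 15, 6, 8, 14, 1, 10, 18, 23],
   [8, 3, 10, 2, 18, 15, 22, 14, 20, 6, 1, 16, 9, 7, 5, 0, 11, 12, 19, 17, 13, 21, 4, 23],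
   [3, 10, 2, 18, 15, 22, 14, 20, 6, 1, 16, 9, 7, 5, 0, 11, 12, 19, 17, 13, 21, 4, 8, 23],
   [2, 20, 21, 6, 13, 10, 0, 14, 3, 5, 12, 17, 19, 16, 18, 4, 7, 8, 15, 11, 1, 22, 9, 23],
   [6, 18, 16, 2, 17, 11, 8, 0, 21, 14, 10, 12, 1, 20, 22, 3, 9, 7, 13, 19, 5, 4, 15, 23],
   [10, 2, 18, 15, 22, 14, 20, 6, 1, 16, 9, 7, 5, 0, 11, 12, 19, 17, 13, 21, 4, 8, 3, 23],
   [7, 0, 4, 1, 18, 5, 21, 11, 19, 22, 6, 9, 13, 2, 15, 14, 17, 8, 10, 16, 3, 12, 20, 23],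
   [3, 21, 22, 7, 14, 11, 1, 15, 4, 6, 13, 18, 20, 17, 19, 5, 8, 9, 16, 12, 2, 0, 10, 23],
   [19, 6, 22, 3, 0, 17, 4, 20, 10, 18, 21, 5, 8, 12, 1, 14, 13, 16, 7, 9, 15, 2, 11, 23],
   [20, 13, 19, 18, 17, 7, 1, 10, 8, 11, 9, 5, 2, 4, 3, 15, 16, 6, 0, 21, 14, 22, 12, 23],
   [0, 7, 22, 19, 12, 16, 18, 21, 11, 6, 14, 17, 10, 5, 20, 4, 2, 15, 1, 8, 3, 13, 9, 23],
   [21, 10, 17, 4, 8, 9, 19, 7, 12, 15, 6, 13, 0, 3, 20, 1, 22, 11, 2, 16, 5, 18, 14, 23],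
   [18, 22, 12, 10, 3, 5, 13, 15, 17, 1, 4, 0, 14, 6, 21, 7, 8, 11, 16, 2, 19, 20, 9, 23],
   [13, 19, 18, 17, 7, 1, 10, 8, 11, 9, 5, 2, 4, 3, 15, 16, 6, 0, 21, 14, 22, 12, 20, 23],
   [12, 9, 7, 16, 20, 6, 21, 10, 5, 18, 17, 22, 0, 3, 14, 13, 4, 19, 2, 1, 11, 8, 15, 23],
   [18, 15, 9, 2, 14, 8, 16, 20, 0, 13, 21, 11, 4, 5, 19, 3, 12, 7, 22, 17, 10, 6, 1, 23],
   [22, 11, 18, 5, 9, 10, 20, 8, 13, 16, 7, 14, 1, 4, 21, 2, 0, 12, 3, 17, 6, 19, 15, 23],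
   [0, 12, 19, 6, 10, 11, 21, 9, 14, 17, 8, 15, 2, 5, 22, 3, 1, 13, 4, 18, 7, 20, 16, 23],
   [12, 0, 1, 21, 17, 22, 8, 18, 14, 19, 5, 13, 7, 6, 15, 16, 9, 3, 20, 2, 10, 11, 4, 23],
   [0, 1, 21, 17, 22, 8, 18, 14, 19, 5, 13, 7, 6, 15, 16, 9, 3, 20, 2, 10, 11, 4, 12, 23],
   [10, 12, 20, 9, 2, 6, 8, 22, 1, 15, 21, 18, 3, 7, 13, 14, 19, 5, 17, 4, 16, 0, 11, 23],
   [0, 2, 10, 22, 15, 19, 21, 12, 14, 5, 11, 8, 16, 20, 3, 4, 9, 18, 7, 17, 6, 13, 1, 23],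
   [0, 1, 7, 11, 9, 17, 14, 12, 6, 8, 15, 21, 19, 16, 10, 4, 18, 22, 2, 13, 5, 20, 3, 23],
   [0, 2, 10, 22, 15, 19, 21, 12, 14, 5, 11, 8, 16, 20, 3, 4, 9, 18, 7, 17, 6, 13, 1, 23],
   [0, 3, 2, 15, 18, 13, 6, 12, 5, 21, 9, 14, 17, 19, 7, 4, 22, 11, 1, 20, 8, 16, 10, 23],
   [0, 7, 3, 18, 11, 16, 8, 12, 21, 6, 22, 5, 20, 13, 1, 4, 15, 9, 10, 19, 14, 17, 2, 23],
   [0, 11, 22, 12, 15, 13, 14, 2, 3, 1, 10, 5, 16, 9, 19, 7, 18, 6, 8, 20, 17, 21, 4, 23],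
   [0, 2, 12, 8, 5, 18, 3, 16, 21, 14, 4, 13, 17, 9, 11, 15, 7, 1, 10, 20, 19, 6, 22, 23],
   [0, 9, 15, 12, 18, 16, 5, 3, 7, 10, 2, 21, 17, 22, 13, 1, 11, 8, 14, 19, 20, 6, 4, 23],
   [0, 3, 12, 14, 21, 11, 7, 17, 6, 5, 4, 16, 20, 22, 9, 18, 1, 10, 2, 19, 13, 8, 15, 23],
   [0, 22, 18, 12, 11, 17, 21, 7, 1, 2, 3, 6, 20, 15, 16, 10, 9, 14, 5, 13, 19, 8, 4, 23],
   [0, 7, 12, 5, 6, 9, 1, 20, 8, 21, 4, 17, 19, 15, 22, 11, 10, 2, 3, 13, 16, 14, 18, 23],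
   [0, 10, 12, 2, 15, 21, 3, 11, 19, 4, 22, 1, 16, 18, 13, 8, 6, 17, 5, 9, 20, 14, 7, 23],
   [0, 11, 2, 5, 1, 6, 19, 16, 14, 3, 7, 21, 20, 18, 10, 15, 8, 4, 22, 9, 13, 17, 12, 23],
   [0, 2, 16, 13, 14, 1, 11, 17, 3, 21, 15, 6, 20, 7, 4, 5, 10, 22, 12, 9, 18, 19, 8, 23],
   [0, 4, 14, 17, 21, 8, 6, 3, 9, 15, 12, 5, 20, 1, 11, 2, 10, 13, 16, 22, 19, 7, 18, 23],
   [0, 4, 5, 20, 6, 14, 8, 7, 22, 18, 12, 21, 19, 10, 9, 3, 2, 16, 17, 15, 13, 1, 11, 23],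
   [0, 2, 17, 6, 21, 22, 4, 20, 11, 3, 5, 19, 9, 10, 15, 14, 12, 8, 16, 7, 1, 18, 13, 23],
   [0, 12, 17, 3, 21, 7, 9, 4, 11, 18, 14, 15, 20, 10, 8, 16, 13, 19, 5, 1, 22, 6, 2, 23],
   [0, 12, 4, 15, 18, 19, 8, 20, 9, 11, 16, 6, 1, 13, 14, 21, 5, 2, 17, 10, 7, 22, 3, 23],
   [0, 1, 12, 21, 8, 22, 10, 19, 14, 6, 4, 20, 13, 18, 15, 9, 2, 3, 7, 16, 17, 5, 11, 23],
   [0, 1, 19, 20, 6, 3, 15, 13, 10, 14, 9, 5, 16, 2, 4, 8, 7, 11, 12, 18, 22, 17, 21, 23],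
   [0, 1, 13, 5, 14, 11, 4, 16, 15, 10, 8, 17, 18, 7, 9, 6, 12, 21, 19, 2, 3, 22, 20, 23],
   [0, 1, 16, 17, 10, 21, 9, 18, 4, 15, 6, 22, 2, 12, 8, 14, 19, 20, 13, 7, 11, 3, 5, 23],
   [0, 1, 18, 22, 15, 20, 8, 2, 9, 4, 14, 3, 7, 19, 6, 10, 13, 5, 16, 12, 21, 11, 17, 23],
   [0, 1, 20, 22, 3, 6, 2, 10, 13, 17, 16, 12, 14, 4, 18, 8, 11, 5, 7, 15, 21, 9, 19, 23],
   [0, 1, 5, 3, 11, 14, 7, 15, 16, 22, 18, 19, 10, 9, 2, 6, 21, 17, 12, 4, 20, 8, 13, 23],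
   [0, 1, 17, 11, 21, 10, 12, 4, 18, 3, 2, 13, 15, 8, 7, 14, 20, 22, 19, 9, 5, 6, 16, 23],
   [0, 1, 22, 21, 20, 15, 19, 9, 2, 11, 7, 16, 4, 6, 12, 10, 5, 3, 13, 8, 17, 14, 18, 23],
   [0, 1, 3, 20, 5, 4, 13, 8, 7, 21, 12, 18, 9, 14, 19, 15, 17, 11, 16, 6, 22, 10, 2, 23],
   [0, 1, 11, 5, 17, 9, 16, 6, 12, 20, 19, 2, 8, 10, 13, 4, 22, 21, 18, 14, 3, 15, 7, 23],
   [0, 1, 9, 16, 11, 3, 12, 4, 19, 2, 10, 14, 8, 5, 7, 20, 13, 18, 22, 6, 15, 17, 21, 23],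
   [0, 1, 14, 3, 18, 2, 13, 12, 8, 15, 6, 9, 19, 10, 5, 11, 21, 17, 22, 7, 16, 20, 4, 23],
   [0, 1, 8, 18, 21, 11, 19, 9, 13, 7, 15, 10, 6, 17, 12, 5, 16, 2, 3, 14, 4, 22, 20, 23],
   [0, 1, 10, 11, 2, 7, 16, 19, 6, 4, 14, 8, 13, 15, 17, 21, 20, 22, 3, 12, 18, 5, 9, 23],
   [0, 1, 6, 2, 20, 21, 13, 8, 16, 12, 4, 15, 14, 22, 19, 17, 18, 7, 11, 10, 9, 3, 5, 23],
   [0, 1, 15, 21, 7, 12, 18, 13, 14, 9, 10, 6, 16, 4, 22, 20, 5, 3, 11, 19, 2, 17, 8, 23],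
   [0, 1, 17, 18, 21, 19, 22, 7, 6, 3, 5, 4, 12, 20, 13, 2, 16, 15, 9, 10, 14, 11, 8, 23],
   [0, 1, 5, 22, 9, 6, 3, 17, 12, 7, 15, 19, 16, 21, 20, 4, 11, 18, 10, 14, 8, 2, 13, 23],
   [12, 0, 11, 3, 4, 14, 20, 15, 2, 22, 6, 18, 8, 16, 9, 19, 21, 10, 1, 5, 13, 17, 7, 23],
   [0, 11, 22, 14, 15, 2, 8, 3, 13, 10, 17, 6, 19, 4, 20, 7, 9, 21, 12, 16, 1, 5, 18, 23],
   [0, 1, 7, 13, 8, 12, 19, 2, 18, 22, 17, 3, 9, 15, 20, 11, 4, 14, 16, 6, 10, 21, 5, 23],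
   [0, 1, 2, 19, 9, 7, 12, 18, 16, 17, 5, 22, 4, 10, 21, 3, 15, 6, 13, 8, 14, 11, 20, 23],
   [0, 1, 2, 8, 17, 18, 4, 13, 15, 6, 7, 20, 9, 5, 11, 19, 3, 12, 10, 16, 21, 22, 14, 23],
   [0, 1, 2, 16, 6, 13, 9, 10, 3, 12, 18, 14, 17, 7, 22, 8, 19, 4, 5, 15, 11, 20, 21, 23],
   [0, 1, 2, 15, 12, 10, 17, 5, 19, 4, 13, 21, 6, 18, 20, 16, 8, 9, 7, 3, 22, 14, 11, 23],
   [14, 0, 22, 1, 2, 8, 4, 7, 10, 12, 18, 5, 15, 21, 9, 16, 20, 19, 13, 3, 17, 6, 11, 23],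
   [0, 9, 8, 10, 11, 17, 13, 16, 19, 21, 4, 14, 1, 7, 18, 2, 6, 5, 22, 12, 3, 15, 20, 23],
   [0, 1, 3, 10, 5, 6, 9, 18, 20, 21, 15, 19, 11, 2, 8, 22, 14, 13, 4, 16, 12, 7, 17, 23],
   [0, 1, 2, 4, 21, 13, 12, 11, 9, 3, 17, 10, 15, 6, 16, 5, 19, 22, 20, 18, 14, 8, 7, 23],
   [0, 1, 2, 9, 11, 10, 4, 22, 17, 19, 6, 5, 3, 12, 15, 7, 8, 20, 14, 13, 21, 16, 18, 23],
   [0, 1, 2, 17, 22, 5, 9, 20, 6, 8, 12, 7, 19, 4, 3, 18, 16, 14, 21, 10, 11, 15, 13, 23],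
   [0, 1, 2, 6, 20, 7, 17, 14, 12, 16, 4, 18, 8, 9, 19, 13, 15, 21, 11, 5, 22, 3, 10, 23],
   [0, 1, 2, 18, 3, 11, 15, 20, 19, 22, 13, 7, 21, 17, 8, 4, 5, 12, 6, 9, 16, 10, 14, 23],
   [0, 1, 2, 13, 19, 22, 3, 14, 8, 20, 10, 18, 11, 6, 16, 9, 7, 4, 12, 17, 15, 5, 21, 23],
   [0, 1, 2, 10, 8, 20, 19, 21, 16, 14, 5, 13, 22, 12, 15, 17, 18, 9, 4, 6, 3, 7, 11, 23],
   [0, 1, 2, 17, 20, 14, 11, 12, 7, 4, 22, 21, 19, 10, 5, 13, 9, 3, 6, 8, 16, 18, 15, 23],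
   [0, 1, 2, 19, 5, 6, 11, 18, 20, 13, 4, 10, 9, 3, 7, 22, 17, 21, 15, 12, 16, 8, 14, 23],
   [0, 1, 2, 6, 14, 21, 22, 4, 18, 9, 20, 11, 8, 5, 7, 10, 17, 19, 12, 16, 15, 13, 3, 23],
   [0, 1, 2, 8, 7, 12, 22, 13, 14, 10, 9, 5, 17, 19, 18, 20, 6, 11, 3, 4, 15, 16, 21, 23],
   [0, 1, 2, 20, 18, 10, 19, 21, 4, 17, 3, 22, 13, 11, 9, 14, 8, 15, 16, 6, 5, 7, 12, 23],
   [0, 1, 2, 5, 8, 3, 9, 10, 13, 19, 21, 4, 22, 11, 17, 6, 12, 14, 16, 15, 7, 20, 18, 23],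
   [0, 1, 2, 16, 9, 4, 8, 12, 17, 19, 21, 3, 14, 20, 13, 6, 10, 22, 5, 18, 7, 11, 15, 23],
   [0, 1, 2, 4, 10, 13, 17, 3, 6, 11, 12, 21, 7, 9, 16, 8, 20, 22, 19, 14, 18, 5, 15, 23],
   [18, 20, 1, 17, 4, 12, 22, 6, 11, 16, 19, 7, 21, 8, 10, 14, 9, 3, 15, 0, 2, 5, 13, 23],
   [0, 2, 6, 22, 9, 17, 4, 11, 16, 21, 1, 12, 3, 13, 15, 19, 14, 8, 20, 5, 7, 10, 18, 23],
   [0, 1, 5, 11, 18, 13, 4, 15, 19, 14, 3, 12, 10, 20, 9, 17, 6, 21, 16, 8, 2, 7, 22, 23],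
   [0, 1, 2, 9, 22, 10, 18, 11, 7, 5, 3, 19, 6, 16, 15, 17, 13, 20, 21, 8, 14, 12, 4, 23],
   [0, 1, 2, 3, 7, 17, 20, 10, 11, 13, 4, 18, 12, 19, 5, 22, 6, 14, 8, 9, 16, 15, 21, 23],
   [0, 1, 2, 3, 10, 14, 16, 4, 18, 19, 7, 8, 12, 9, 17, 21, 20, 5, 11, 13, 6, 22, 15, 23],
   [18, 20, 5, 3, 13, 11, 15, 10, 0, 12, 8, 6, 22, 14, 9, 16, 17, 2, 1, 19, 7, 4, 21, 23],
   [0, 2, 10, 8, 18, 16, 20, 15, 5, 17, 13, 11, 4, 19, 14, 21, 22, 7, 6, 1, 12, 9, 3, 23],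
   [0, 1, 7, 21, 22, 19, 16, 9, 8, 13, 20, 15, 4, 17, 6, 14, 11, 2, 5, 3, 12, 18, 10, 23],
   [0, 1, 2, 11, 17, 12, 13, 4, 9, 19, 21, 10, 15, 5, 8, 6, 3, 18, 20, 22, 7, 16, 14, 23],
   [0, 1, 2, 3, 22, 14, 20, 9, 19, 18, 11, 21, 6, 4, 17, 8, 16, 5, 7, 15, 12, 10, 13, 23],
   [0, 1, 2, 3, 21, 5, 16, 13, 9, 8, 18, 15, 20, 7, 14, 11, 6, 17, 10, 22, 12, 4, 19, 23],
   [0, 1, 2, 3, 15, 17, 6, 19, 13, 11, 8, 22, 16, 10, 5, 18, 20, 14, 4, 21, 12, 7, 9, 23],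
   [0, 1, 2, 3, 9, 5, 12, 11, 21, 4, 22, 7, 6, 15, 14, 13, 20, 17, 19, 18, 16, 8, 10, 23],
   [0, 1, 2, 3, 13, 17, 12, 18, 15, 7, 21, 10, 20, 22, 5, 19, 16, 14, 9, 8, 6, 11, 4, 23],
   [0, 1, 2, 3, 19, 14, 12, 8, 22, 10, 15, 4, 16, 21, 17, 9, 6, 5, 13, 11, 20, 18, 7, 23],
   [0, 1, 2, 3, 11, 17, 16, 22, 7, 15, 9, 19, 6, 18, 5, 10, 12, 14, 21, 4, 20, 13, 8, 23],
   [0, 1, 2, 3, 18, 14, 6, 21, 10, 22, 13, 9, 20, 8, 17, 4, 12, 5, 15, 7, 16, 19, 11, 23],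
   [0, 1, 2, 3, 8, 5, 20, 15, 4, 21, 19, 13, 16, 11, 14, 7, 12, 17, 22, 10, 6, 9, 18, 23],
   [17, 16, 6, 9, 7, 18, 14, 21, 10, 3, 1, 8, 11, 13, 15, 19, 5, 20, 12, 4, 22, 2, 0, 23],
   [0, 22, 12, 15, 13, 1, 20, 4, 16, 9, 7, 14, 17, 19, 21, 2, 11, 3, 18, 10, 5, 8, 6, 23],
   [0, 1, 16, 4, 20, 2, 6, 15, 9, 5, 12, 3, 18, 17, 13, 10, 8, 22, 7, 11, 19, 14, 21, 23],
   [0, 1, 2, 8, 17, 12, 10, 9, 6, 22, 13, 21, 7, 3, 18, 4, 14, 11, 19, 20, 16, 15, 5, 23],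
   [0, 1, 2, 3, 4, 17, 18, 12, 9, 21, 7, 20, 10, 16, 5, 6, 22, 14, 15, 11, 19, 8, 13, 23],
   [0, 1, 2, 3, 7, 14, 8, 12, 13, 15, 10, 16, 4, 6, 17, 20, 21, 5, 22, 18, 9, 11, 19, 23],
   [0, 1, 2, 3, 15, 14, 4, 16, 11, 7, 19, 12, 8, 20, 17, 6, 9, 5, 18, 22, 21, 13, 10, 23],
   [0, 1, 2, 3, 13, 14, 9, 20, 7, 11, 18, 6, 21, 16, 17, 12, 4, 5, 19, 10, 8, 15, 22, 23],
   [0, 1, 2, 3, 11, 14, 21, 6, 15, 13, 22, 20, 9, 12, 17, 16, 8, 5, 10, 19, 4, 7, 18, 23],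
   [0, 1, 2, 3, 4, 14, 15, 10, 21, 8, 12, 19, 7, 22, 17, 18, 13, 5, 6, 20, 11, 9, 16, 23]]

theorem runT_prog23 : runT prog23 gens23T = tabs23 := by
  decide +kernel

/-- The permutations produced by `prog23`. -/
noncomputable def chain23P : List (Equiv.Perm GolayPt) := runP prog23 gens23P

theorem chain23_match : List.Forall₂ Matches chain23P tabs23 := by
  rw [← runT_prog23]
  exact forall₂_runP_runT _ _ _ gens23_match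

/-- `lookup23[i][q]`: index in `tabs23` of the entry for level `i` and point `q`. -/
def lookup23 : List (List ℕ) :=
  [[145, 145, 145, 145, 145, 145, 145, 145, 145, 145, 145, 145, 145, 145, 145, 145, 145, 145, 145, 145, 145, 145, 145, 145],
   [145, 22, 21, 20, 19, 18, 17, 16, 15, 14, 13, 12, 11, 10, 9, 8, 7, 6, 5, 4, 3, 2, 0, 145],
   [145, 145, 25, 24, 60, 61, 58, 23, 57, 53, 26, 59, 66, 62, 52, 55, 56, 54, 51, 65, 64, 63, 50, 145],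
   [145, 145, 145, 82, 81, 79, 72, 71, 75, 78, 74, 77, 70, 68, 73, 84, 67, 80, 49, 69, 83, 85, 76, 145],
   [145, 145, 145, 145, 100, 108, 101, 110, 91, 96, 107, 109, 97, 104, 98, 89, 90, 103, 106, 92, 102, 99, 105, 145],
   [145, 145, 145, 145, 145, 145, 136, 116, 129, 124, 115, 126, 135, 121, 145, 128, 137, 145, 123, 127, 138, 122, 125, 145],
   [145, 145, 145, 145, 145, 145, 145, 145, 145, 145, 145, 145, 145, 145, 134, 145, 145, 139, 145, 145, 145, 145, 145, 145]]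

set_option maxRecDepth 100000 in
theorem chain23_check : ∀ i < 7, 1 ≤ i → ∀ q < 24, orbitOK i q = true →
    goodT i q (tabs23.getD ((lookup23.getD i []).getD q 0) idT) = true := by
  decide +kernel

/-! ### Data for `22` -/

/-- The element of prime order for `22`. -/
noncomputable def a22 : Equiv.Perm GolayPt := uP 2 4

/-- The conjugating element for `22`. -/
noncomputable def c22 : Equiv.Perm GolayPt := uP 2 2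

/-- Table of `a22`. -/
def a22T : List ℕ := uT 2 4

/-- Table of `c22`. -/
def c22T : List ℕ := uT 2 2

/-- Table of `c22 * a22 * c22⁻¹`. -/
def g22T : List ℕ :=
  [0, 3, 21, 12, 9, 22, 16, 13, 20, 18, 6, 10, 7, 2, 15, 17, 4, 1, 5, 14, 11, 19, 8, 23]

theorem matches_a22 : Matches a22 a22T := matches_uP 2 4

theorem matches_c22 : Matches c22 c22T := matches_uP 2 2

theorem g22T_check : compT g22T c22T = compT c22T a22T := by decide +kernel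

/-- The two generators. -/
noncomputable def gens22P : List (Equiv.Perm GolayPt) := [a22, c22 * a22 * c22⁻¹]

/-- Tables of the two generators. -/
def gens22T : List (List ℕ) := [a22T, g22T]

theorem gens22_match : List.Forall₂ Matches gens22P gens22T :=
  List.Forall₂.cons matches_a22 (List.Forall₂.cons
    (matches_conj matches_a22 matches_c22 g22T_check) List.Forall₂.nil)

/-- The straight-line program for `22`. -/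
@[irreducible] def prog22 : List (ℕ × ℕ) :=
  [
   (0, 0), (2, 0), (3, 0), (4, 0), (5, 0), (6, 0), (7, 0), (8, 0), (9, 0), (0, 1), (5, 1), (6, 1),
   (7, 1), (8, 1), (1, 1), (11, 0), (14, 1), (16, 0), (17, 0), (1, 0), (0, 11), (0, 22), (23, 1),
   (16, 1), (24, 0), (25, 16), (1, 16), (26, 27), (22, 28), (28, 1), (21, 1), (17, 26), (16, 30),
   (30, 31), (32, 33), (36, 29), (34, 33), (38, 1), (17, 37), (30, 1), (39, 40), (12, 42),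
   (43, 43), (44, 43), (45, 43), (41, 40), (14, 47), (44, 48), (45, 48), (46, 48), (48, 43),
   (48, 48), (49, 43), (50, 48), (51, 48), (52, 48), (53, 43), (53, 48), (54, 43), (55, 43),
   (58, 43), (60, 43), (36, 37), (7, 64), (46, 65), (66, 66), (67, 66), (40, 42), (13, 69),
   (48, 70), (67, 71), (66, 72), (67, 72), (68, 72), (73, 66), (73, 72), (74, 66), (74, 72),
   (75, 66), (75, 72), (76, 72), (77, 66), (78, 72), (79, 66), (81, 66), (84, 66), (85, 72),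
   (72, 72), (36, 35), (5, 90), (76, 91), (72, 92), (89, 92), (92, 72), (92, 92), (93, 72),
   (93, 92), (94, 72), (94, 92), (64, 33), (8, 101), (59, 102), (67, 103), (93, 104), (89, 105),
   (93, 105), (95, 105), (96, 105), (105, 105)]

/-- The tables of all entries produced by `prog22`. -/
@[irreducible] def tabs22 : List (List ℕ) :=
  [[0, 21, 11, 10, 1, 15, 16, 12, 22, 17, 6, 14, 20, 9, 19, 3, 13, 8, 2, 4, 18, 7, 5, 23],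
   [0, 3, 21, 12, 9, 22, 16, 13, 20, 18, 6, 10, 7, 2, 15, 17, 4, 1, 5, 14, 11, 19, 8, 23],
   [0, 7, 14, 6, 21, 3, 13, 20, 5, 8, 16, 19, 18, 17, 4, 10, 9, 22, 11, 1, 2, 12, 15, 23],
   [0, 12, 19, 16, 7, 10, 9, 18, 15, 22, 13, 4, 2, 8, 1, 6, 17, 5, 14, 21, 11, 20, 3, 23],
   [0, 20, 4, 13, 12, 6, 17, 2, 3, 5, 9, 1, 11, 22, 21, 16, 8, 15, 19, 7, 14, 18, 10, 23],
   [0, 18, 1, 9, 20, 16, 8, 11, 10, 15, 17, 21, 14, 5, 7, 13, 22, 3, 4, 12, 19, 2, 6, 23],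
   [0, 2, 21, 17, 18, 13, 22, 14, 6, 3, 8, 7, 19, 15, 12, 9, 5, 10, 1, 20, 4, 11, 16, 23],
   [0, 11, 7, 8, 2, 9, 5, 19, 16, 10, 22, 12, 4, 3, 20, 17, 15, 6, 21, 18, 1, 14, 13, 23],
   [0, 14, 12, 22, 11, 17, 15, 4, 13, 6, 5, 20, 1, 10, 18, 8, 3, 16, 7, 2, 21, 19, 9, 23],
   [0, 19, 20, 5, 14, 8, 3, 1, 9, 16, 15, 18, 21, 6, 2, 22, 10, 13, 12, 11, 7, 4, 17, 23],
   [0, 4, 18, 15, 19, 22, 10, 21, 17, 13, 3, 2, 7, 16, 11, 5, 6, 9, 20, 14, 12, 1, 8, 23],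
   [0, 10, 7, 20, 17, 5, 13, 9, 18, 2, 16, 6, 12, 11, 3, 8, 1, 21, 15, 19, 14, 4, 22, 23],
   [0, 9, 2, 14, 15, 6, 22, 5, 19, 4, 8, 17, 11, 1, 13, 3, 20, 18, 16, 7, 21, 12, 10, 23],
   [0, 17, 11, 19, 3, 16, 5, 15, 4, 1, 22, 8, 14, 21, 9, 10, 18, 2, 13, 12, 7, 20, 6, 23],
   [0, 8, 14, 4, 10, 13, 15, 3, 1, 21, 5, 22, 19, 7, 17, 6, 2, 11, 9, 20, 12, 18, 16, 23],
   [0, 22, 19, 1, 6, 9, 3, 10, 21, 7, 15, 5, 4, 12, 8, 16, 11, 14, 17, 18, 20, 2, 13, 23],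
   [0, 12, 19, 7, 18, 8, 4, 2, 11, 5, 16, 6, 13, 21, 17, 1, 9, 3, 22, 15, 10, 14, 20, 23],
   [0, 4, 6, 16, 10, 8, 1, 12, 22, 21, 13, 3, 14, 2, 19, 20, 11, 18, 7, 17, 15, 9, 5, 23],
   [0, 4, 18, 19, 21, 16, 2, 7, 12, 9, 15, 5, 3, 14, 6, 11, 10, 8, 13, 17, 22, 20, 1, 23],
   [0, 14, 6, 16, 12, 1, 9, 13, 20, 3, 4, 17, 10, 5, 15, 7, 21, 11, 19, 18, 22, 2, 8, 23],
   [0, 9, 3, 13, 4, 20, 11, 14, 5, 18, 1, 19, 15, 21, 17, 16, 2, 22, 6, 10, 7, 12, 8, 23],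
   [0, 19, 10, 6, 3, 17, 4, 7, 8, 1, 16, 15, 11, 18, 14, 12, 2, 20, 21, 9, 5, 13, 22, 23],
   [0, 6, 12, 18, 8, 15, 9, 17, 2, 11, 13, 16, 20, 14, 10, 22, 21, 7, 3, 4, 19, 1, 5, 23],
   [0, 16, 20, 2, 22, 3, 17, 8, 11, 14, 9, 13, 18, 19, 6, 5, 7, 12, 10, 1, 4, 21, 15, 23],
   [0, 2, 21, 18, 14, 15, 7, 19, 4, 10, 17, 9, 8, 20, 5, 12, 22, 16, 3, 6, 13, 1, 11, 23],
   [0, 7, 14, 13, 5, 20, 9, 21, 10, 22, 4, 16, 2, 19, 1, 3, 18, 12, 8, 17, 6, 15, 11, 23],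
   [0, 1, 9, 17, 2, 12, 22, 8, 11, 16, 7, 5, 13, 10, 6, 18, 20, 4, 21, 14, 3, 19, 15, 23],
   [0, 2, 17, 21, 8, 10, 5, 14, 16, 20, 18, 9, 19, 15, 12, 7, 22, 13, 11, 3, 4, 1, 6, 23],
   [0, 7, 14, 13, 5, 20, 9, 21, 10, 22, 4, 16, 2, 19, 1, 3, 18, 12, 8, 17, 6, 15, 11, 23],
   [0, 9, 4, 19, 11, 7, 12, 6, 20, 3, 21, 16, 14, 18, 13, 8, 15, 10, 5, 17, 2, 1, 22, 23],
   [0, 17, 10, 14, 15, 19, 11, 1, 13, 5, 8, 21, 12, 4, 6, 18, 3, 20, 2, 7, 9, 22, 16, 23],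
   [0, 13, 15, 2, 22, 11, 18, 19, 6, 8, 9, 4, 21, 14, 3, 12, 5, 7, 20, 1, 16, 17, 10, 23],
   [0, 6, 13, 11, 1, 22, 2, 18, 5, 21, 4, 16, 7, 10, 12, 20, 3, 19, 17, 14, 15, 9, 8, 23],
   [0, 4, 21, 18, 6, 14, 5, 22, 3, 11, 12, 8, 2, 13, 1, 7, 15, 10, 9, 19, 16, 17, 20, 23],
   [0, 3, 16, 17, 1, 15, 6, 12, 21, 8, 11, 14, 13, 18, 4, 22, 7, 10, 19, 2, 5, 20, 9, 23],
   [0, 4, 18, 10, 16, 21, 2, 7, 11, 13, 5, 15, 22, 6, 14, 12, 19, 1, 9, 17, 3, 20, 8, 23],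
   [0, 1, 9, 17, 2, 12, 22, 8, 11, 16, 7, 5, 13, 10, 6, 18, 20, 4, 21, 14, 3, 19, 15, 23],
   [0, 16, 2, 14, 5, 8, 13, 22, 3, 17, 19, 20, 6, 21, 10, 11, 18, 7, 12, 4, 9, 1, 15, 23],
   [0, 1, 20, 19, 6, 4, 15, 9, 17, 14, 13, 21, 16, 18, 3, 12, 22, 11, 8, 2, 7, 10, 5, 23],
   [0, 19, 10, 16, 14, 5, 22, 18, 7, 8, 15, 13, 9, 20, 12, 11, 6, 1, 4, 3, 21, 2, 17, 23],
   [0, 11, 6, 19, 8, 22, 2, 5, 16, 18, 17, 15, 1, 9, 13, 3, 7, 12, 14, 10, 21, 4, 20, 23],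
   [0, 14, 22, 12, 5, 16, 3, 4, 9, 2, 11, 8, 1, 10, 18, 20, 15, 17, 19, 6, 21, 7, 13, 23],
   [0, 13, 22, 3, 7, 17, 10, 5, 6, 4, 1, 11, 19, 8, 20, 16, 18, 9, 12, 15, 2, 14, 21, 23],
   [0, 1, 10, 14, 5, 18, 8, 6, 22, 15, 9, 17, 7, 19, 21, 20, 16, 4, 11, 3, 2, 13, 12, 23],
   [0, 1, 9, 21, 18, 11, 22, 8, 12, 20, 15, 4, 6, 3, 13, 2, 16, 5, 17, 14, 10, 19, 7, 23],
   [0, 1, 15, 13, 11, 17, 12, 22, 7, 2, 20, 5, 8, 14, 19, 10, 16, 18, 4, 21, 9, 3, 6, 23],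
   [0, 1, 20, 19, 17, 4, 7, 12, 6, 10, 2, 18, 22, 21, 3, 9, 16, 11, 5, 13, 15, 14, 8, 23],
   [0, 8, 3, 6, 9, 13, 22, 16, 15, 19, 17, 20, 14, 2, 10, 12, 4, 1, 18, 11, 7, 5, 21, 23],
   [0, 1, 4, 15, 21, 7, 16, 2, 6, 20, 11, 12, 17, 14, 5, 19, 10, 8, 9, 22, 3, 13, 18, 23],
   [0, 1, 18, 2, 19, 8, 16, 9, 22, 10, 4, 6, 5, 13, 11, 14, 15, 12, 20, 7, 21, 3, 17, 23],
   [0, 1, 11, 10, 3, 22, 16, 15, 12, 9, 5, 8, 18, 19, 17, 21, 20, 7, 2, 6, 13, 14, 4, 23],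
   [0, 1, 17, 9, 14, 12, 16, 20, 7, 15, 18, 22, 11, 3, 4, 13, 2, 6, 10, 8, 19, 21, 5, 23],
   [0, 1, 11, 5, 7, 9, 6, 16, 18, 19, 20, 8, 2, 22, 13, 3, 10, 21, 12, 15, 4, 14, 17, 23],
   [0, 1, 21, 19, 13, 2, 10, 4, 16, 3, 12, 17, 8, 5, 7, 22, 11, 6, 20, 18, 15, 14, 9, 23],
   [0, 1, 4, 11, 8, 20, 22, 16, 17, 14, 10, 12, 9, 7, 3, 21, 15, 19, 6, 2, 18, 13, 5, 23],
   [0, 1, 3, 21, 14, 15, 20, 11, 16, 13, 8, 18, 7, 17, 22, 6, 5, 12, 9, 4, 10, 19, 2, 23],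
   [0, 1, 14, 13, 21, 20, 2, 17, 16, 19, 22, 11, 6, 4, 12, 8, 18, 7, 15, 5, 9, 3, 10, 23],
   [0, 1, 7, 3, 14, 16, 10, 11, 6, 4, 8, 2, 21, 13, 9, 15, 20, 18, 19, 17, 5, 22, 12, 23],
   [0, 1, 12, 7, 2, 20, 16, 10, 9, 22, 3, 6, 4, 18, 14, 15, 11, 13, 17, 19, 21, 5, 8, 23],
   [0, 1, 13, 22, 14, 4, 11, 21, 10, 15, 17, 8, 6, 7, 2, 18, 12, 16, 3, 9, 19, 5, 20, 23],
   [0, 1, 10, 3, 20, 6, 17, 22, 5, 21, 14, 19, 16, 2, 13, 18, 15, 8, 12, 11, 4, 7, 9, 23],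
   [0, 1, 8, 22, 15, 9, 16, 20, 2, 6, 13, 12, 11, 4, 19, 10, 5, 14, 18, 21, 3, 17, 7, 23],
   [0, 1, 3, 14, 20, 17, 9, 16, 8, 15, 22, 13, 10, 19, 5, 21, 11, 2, 6, 7, 12, 18, 4, 23],
   [0, 1, 14, 13, 6, 12, 5, 17, 9, 18, 21, 8, 22, 11, 7, 4, 15, 20, 19, 3, 10, 2, 16, 23],
   [0, 20, 9, 6, 12, 11, 10, 15, 17, 4, 14, 3, 22, 19, 7, 5, 21, 8, 13, 2, 16, 1, 18, 23],
   [0, 1, 10, 5, 4, 12, 22, 17, 6, 2, 20, 8, 13, 18, 19, 9, 14, 16, 3, 7, 15, 11, 21, 23],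
   [0, 1, 2, 4, 17, 22, 8, 11, 7, 20, 15, 6, 21, 5, 13, 10, 3, 16, 19, 12, 9, 18, 14, 23],
   [0, 1, 2, 17, 16, 14, 7, 6, 11, 9, 10, 8, 18, 22, 5, 15, 4, 3, 12, 21, 20, 19, 13, 23],
   [0, 1, 2, 16, 3, 13, 11, 8, 6, 20, 15, 7, 19, 14, 22, 10, 17, 4, 21, 18, 9, 12, 5, 23],
   [0, 9, 20, 19, 5, 12, 17, 22, 2, 8, 11, 15, 10, 16, 21, 7, 14, 18, 1, 3, 6, 13, 4, 23],
   [0, 1, 7, 12, 16, 14, 2, 6, 11, 4, 8, 10, 22, 18, 20, 15, 9, 13, 17, 19, 5, 21, 3, 23],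
   [0, 1, 2, 17, 10, 5, 4, 16, 12, 21, 6, 11, 18, 9, 3, 19, 20, 14, 8, 22, 7, 13, 15, 23],
   [0, 1, 2, 3, 10, 14, 16, 4, 18, 19, 7, 8, 12, 9, 17, 21, 20, 5, 11, 13, 6, 22, 15, 23],
   [0, 1, 2, 4, 15, 13, 3, 17, 19, 12, 11, 7, 21, 20, 16, 18, 9, 22, 6, 5, 8, 14, 10, 23],
   [0, 1, 2, 17, 10, 5, 4, 16, 12, 21, 6, 11, 18, 9, 3, 19, 20, 14, 8, 22, 7, 13, 15, 23],
   [0, 1, 2, 16, 15, 22, 17, 3, 21, 18, 8, 6, 19, 20, 4, 12, 9, 13, 7, 14, 11, 5, 10, 23],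
   [0, 1, 2, 15, 22, 10, 19, 7, 17, 8, 18, 3, 14, 13, 20, 11, 4, 9, 5, 21, 12, 6, 16, 23],
   [0, 1, 2, 4, 11, 16, 9, 15, 6, 5, 17, 19, 21, 12, 22, 14, 8, 13, 7, 20, 3, 10, 18, 23],
   [0, 1, 2, 10, 14, 15, 12, 11, 16, 7, 19, 4, 13, 5, 9, 6, 17, 20, 22, 18, 21, 8, 3, 23],
   [0, 1, 2, 17, 6, 3, 20, 10, 8, 22, 16, 12, 18, 21, 14, 13, 7, 5, 11, 9, 4, 15, 19, 23],
   [0, 1, 2, 15, 13, 10, 21, 6, 3, 11, 12, 17, 5, 22, 20, 8, 16, 9, 14, 19, 18, 7, 4, 23],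
   [0, 1, 2, 16, 8, 4, 9, 15, 7, 14, 3, 21, 19, 18, 13, 5, 11, 22, 6, 20, 17, 10, 12, 23],
   [0, 1, 2, 15, 18, 20, 4, 22, 5, 21, 7, 17, 14, 8, 9, 6, 12, 10, 3, 13, 19, 16, 11, 23],
   [0, 1, 2, 11, 13, 18, 6, 19, 15, 3, 14, 9, 10, 16, 12, 17, 4, 8, 20, 21, 5, 7, 22, 23],
   [0, 1, 2, 10, 19, 9, 17, 14, 22, 18, 11, 16, 13, 7, 20, 8, 21, 15, 4, 5, 12, 3, 6, 23],
   [0, 1, 2, 6, 5, 19, 8, 12, 10, 4, 13, 20, 15, 3, 21, 16, 17, 7, 9, 18, 22, 11, 14, 23],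
   [0, 1, 2, 8, 22, 12, 7, 21, 15, 17, 5, 9, 10, 4, 18, 3, 16, 11, 20, 19, 14, 6, 13, 23],
   [0, 1, 2, 19, 15, 6, 22, 16, 14, 12, 8, 17, 3, 9, 7, 11, 10, 21, 5, 13, 18, 4, 20, 23],
   [0, 1, 2, 6, 13, 21, 17, 5, 9, 18, 12, 10, 15, 4, 7, 11, 22, 19, 20, 3, 8, 14, 16, 23],
   [0, 1, 2, 3, 7, 17, 20, 10, 11, 13, 4, 18, 12, 19, 5, 22, 6, 14, 8, 9, 16, 15, 21, 23],
   [0, 2, 21, 7, 20, 19, 9, 8, 5, 10, 12, 18, 15, 22, 6, 13, 14, 1, 16, 4, 17, 3, 11, 23],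
   [0, 1, 2, 11, 19, 12, 15, 10, 16, 17, 14, 4, 13, 6, 8, 5, 7, 18, 22, 20, 3, 9, 21, 23],
   [0, 1, 2, 3, 21, 14, 11, 18, 4, 9, 20, 22, 13, 19, 17, 10, 7, 5, 16, 12, 15, 8, 6, 23],
   [0, 1, 2, 3, 22, 17, 8, 11, 10, 19, 6, 15, 9, 13, 5, 7, 4, 14, 20, 12, 21, 18, 16, 23],
   [0, 1, 2, 3, 15, 5, 18, 8, 7, 13, 16, 21, 19, 9, 14, 4, 10, 17, 6, 12, 22, 11, 20, 23],
   [0, 1, 2, 3, 20, 17, 7, 21, 16, 12, 18, 4, 13, 9, 5, 8, 15, 14, 22, 19, 11, 6, 10, 23],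
   [0, 1, 2, 3, 8, 17, 22, 16, 21, 9, 15, 6, 19, 12, 5, 20, 18, 14, 7, 13, 10, 4, 11, 23],
   [0, 1, 2, 3, 6, 5, 4, 22, 20, 12, 11, 10, 9, 19, 14, 18, 21, 17, 15, 13, 8, 16, 7, 23],
   [0, 1, 2, 3, 18, 5, 15, 20, 22, 19, 21, 16, 13, 12, 14, 6, 11, 17, 4, 9, 7, 10, 8, 23],
   [0, 1, 2, 3, 16, 14, 10, 15, 6, 12, 8, 7, 19, 13, 17, 11, 22, 5, 21, 9, 18, 20, 4, 23],
   [0, 1, 2, 3, 11, 14, 21, 6, 15, 13, 22, 20, 9, 12, 17, 16, 8, 5, 10, 19, 4, 7, 18, 23],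
   [0, 12, 1, 13, 10, 7, 11, 18, 6, 3, 22, 17, 9, 19, 20, 15, 5, 14, 4, 2, 21, 8, 16, 23],
   [0, 1, 14, 10, 5, 4, 20, 7, 15, 22, 9, 16, 6, 2, 21, 8, 17, 18, 11, 12, 19, 13, 3, 23],
   [0, 1, 2, 17, 4, 14, 19, 21, 18, 20, 15, 12, 11, 13, 5, 10, 16, 3, 8, 6, 9, 7, 22, 23],
   [0, 1, 2, 3, 16, 5, 21, 19, 12, 20, 15, 18, 8, 22, 14, 10, 4, 17, 11, 7, 9, 6, 13, 23],
   [0, 1, 2, 3, 4, 17, 18, 12, 9, 21, 7, 20, 10, 16, 5, 6, 22, 14, 15, 11, 19, 8, 13, 23],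
   [0, 1, 2, 3, 7, 14, 8, 12, 13, 15, 10, 16, 4, 6, 17, 20, 21, 5, 22, 18, 9, 11, 19, 23],
   [0, 1, 2, 3, 22, 14, 20, 9, 19, 18, 11, 21, 6, 4, 17, 8, 16, 5, 7, 15, 12, 10, 13, 23],
   [0, 1, 2, 3, 20, 14, 22, 13, 12, 6, 21, 11, 18, 15, 17, 7, 10, 5, 8, 4, 19, 16, 9, 23],
   [0, 1, 2, 3, 8, 14, 7, 19, 9, 4, 16, 10, 15, 18, 17, 22, 11, 5, 20, 6, 13, 21, 12, 23],
   [0, 1, 2, 3, 4, 14, 15, 10, 21, 8, 12, 19, 7, 22, 17, 18, 13, 5, 6, 20, 11, 9, 16, 23]]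

theorem runT_prog22 : runT prog22 gens22T = tabs22 := by
  decide +kernel

/-- The permutations produced by `prog22`. -/
noncomputable def chain22P : List (Equiv.Perm GolayPt) := runP prog22 gens22P

theorem chain22_match : List.Forall₂ Matches chain22P tabs22 := by
  rw [← runT_prog22]
  exact forall₂_runP_runT _ _ _ gens22_match

/-- `lookup22[i][q]`: index in `tabs22` of the entry for level `i` and point `q`. -/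
def lookup22 : List (List ℕ) :=
  [[116, 116, 116, 116, 116, 116, 116, 116, 116, 116, 116, 116, 116, 116, 116, 116, 116, 116, 116, 116, 116, 116, 116, 116],
   [116, 116, 116, 116, 116, 116, 116, 116, 116, 116, 116, 116, 116, 116, 116, 116, 116, 116, 116, 116, 116, 116, 116, 116],
   [116, 116, 5, 15, 0, 19, 17, 9, 14, 13, 20, 4, 8, 12, 3, 16, 11, 1, 6, 2, 7, 10, 18, 116],
   [116, 116, 116, 49, 58, 53, 56, 48, 61, 45, 46, 57, 52, 60, 59, 44, 51, 62, 50, 54, 43, 63, 55, 116],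
   [116, 116, 116, 116, 68, 79, 73, 75, 80, 83, 81, 76, 87, 85, 74, 86, 66, 67, 82, 88, 77, 84, 78, 116],
   [116, 116, 116, 116, 116, 116, 97, 72, 92, 109, 89, 95, 106, 107, 116, 94, 93, 116, 98, 108, 100, 96, 99, 116],
   [116, 116, 116, 116, 116, 116, 116, 116, 116, 116, 116, 116, 116, 116, 105, 116, 116, 110, 116, 116, 116, 116, 116, 116]]

set_option maxRecDepth 100000 in
theorem chain22_check : ∀ i < 7, 2 ≤ i → ∀ q < 24, orbitOK i q = true →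
    goodT i q (tabs22.getD ((lookup22.getD i []).getD q 0) idT) = true := by
  decide +kernel

/-! ### Data for `11` -/

/-- The element of prime order for `11`. -/
noncomputable def a11 : Equiv.Perm GolayPt := cP 1 10

/-- The conjugating element for `11`. -/
noncomputable def c11 : Equiv.Perm GolayPt := vP 1 1

/-- Table of `a11`. -/
def a11T : List ℕ := cT 1 10

/-- Table of `c11`. -/
def c11T : List ℕ := vT 1 1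

/-- Table of `c11 * a11 * c11⁻¹`. -/
def g11T : List ℕ :=
  [12, 15, 14, 7, 21, 22, 9, 1, 3, 2, 4, 13, 6, 20, 8, 0, 16, 11, 17, 5, 19, 18, 10, 23]

theorem matches_a11 : Matches a11 a11T := matches_cP 1 10

theorem matches_c11 : Matches c11 c11T := matches_vP 1 1

theorem g11T_check : compT g11T c11T = compT c11T a11T := by decide +kernel

/-- The two generators. -/
noncomputable def gens11P : List (Equiv.Perm GolayPt) := [a11, c11 * a11 * c11⁻¹]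

/-- Tables of the two generators. -/
def gens11T : List (List ℕ) := [a11T, g11T]

theorem gens11_match : List.Forall₂ Matches gens11P gens11T :=
  List.Forall₂.cons matches_a11 (List.Forall₂.cons
    (matches_conj matches_a11 matches_c11 g11T_check) List.Forall₂.nil)

/-- The straight-line program for `11`. -/
@[irreducible] def prog11 : List (ℕ × ℕ) :=
  [
   (0, 0), (2, 0), (3, 0), (4, 0), (5, 0), (6, 0), (7, 0), (8, 0), (9, 0), (10, 1), (1, 0), (0, 1),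
   (1, 12), (12, 1), (13, 15), (16, 2), (12, 13), (2, 14), (13, 14), (18, 15), (17, 15), (21, 13),
   (22, 17), (24, 19), (20, 24), (0, 23), (24, 12), (17, 0), (25, 26), (29, 26), (5, 31), (11, 32),
   (33, 11), (34, 11), (34, 32), (35, 11), (37, 11), (38, 11), (39, 11), (30, 0), (10, 41),
   (33, 42), (32, 43), (43, 43), (44, 43), (45, 43), (46, 32), (47, 32), (30, 27), (9, 50),
   (33, 51), (43, 52), (53, 53), (54, 53), (29, 28), (6, 56), (53, 57), (54, 57), (55, 57)]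

/-- The tables of all entries produced by `prog11`. -/
@[irreducible] def tabs11 : List (List ℕ) :=
  [[12, 2, 3, 9, 4, 13, 0, 6, 7, 15, 5, 18, 14, 22, 1, 8, 11, 19, 21, 16, 10, 20, 17, 23],
   [12, 15, 14, 7, 21, 22, 9, 1, 3, 2, 4, 13, 6, 20, 8, 0, 16, 11, 17, 5, 19, 18, 10, 23],
   [14, 3, 9, 15, 4, 22, 12, 0, 6, 8, 13, 21, 1, 17, 2, 7, 18, 16, 20, 11, 5, 10, 19, 23],
   [1, 9, 15, 8, 4, 17, 14, 12, 0, 7, 22, 20, 2, 19, 3, 6, 21, 11, 10, 18, 13, 5, 16, 23],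
   [2, 15, 8, 7, 4, 19, 1, 14, 12, 6, 17, 10, 3, 16, 9, 0, 20, 18, 5, 21, 22, 13, 11, 23],
   [3, 8, 7, 6, 4, 16, 2, 1, 14, 0, 19, 5, 9, 11, 15, 12, 10, 21, 13, 20, 17, 22, 18, 23],
   [9, 7, 6, 0, 4, 11, 3, 2, 1, 12, 16, 13, 15, 18, 8, 14, 5, 20, 22, 10, 19, 17, 21, 23],
   [15, 6, 0, 12, 4, 18, 9, 3, 2, 14, 11, 22, 8, 21, 7, 1, 13, 10, 17, 5, 16, 19, 20, 23],
   [8, 0, 12, 14, 4, 21, 15, 9, 3, 1, 18, 17, 7, 20, 6, 2, 22, 5, 19, 13, 11, 16, 10, 23],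
   [7, 12, 14, 1, 4, 20, 8, 15, 9, 2, 21, 19, 6, 10, 0, 3, 17, 13, 16, 22, 18, 11, 5, 23],
   [6, 14, 1, 2, 4, 10, 7, 8, 15, 3, 20, 16, 0, 5, 12, 9, 19, 22, 11, 17, 21, 18, 13, 23],
   [0, 9, 12, 8, 18, 13, 3, 14, 2, 1, 4, 5, 7, 21, 15, 6, 19, 16, 22, 10, 17, 11, 20, 23],
   [6, 14, 7, 2, 21, 20, 12, 9, 1, 0, 22, 17, 8, 10, 15, 3, 13, 5, 18, 16, 4, 19, 11, 23],
   [14, 8, 1, 6, 20, 17, 15, 2, 9, 3, 4, 22, 0, 10, 7, 12, 11, 18, 19, 13, 16, 21, 5, 23],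
   [9, 8, 1, 14, 18, 19, 6, 2, 15, 12, 10, 11, 3, 4, 0, 7, 20, 22, 17, 16, 21, 5, 13, 23],
   [8, 3, 15, 9, 19, 11, 0, 14, 2, 7, 21, 10, 12, 4, 1, 6, 13, 17, 5, 20, 16, 18, 22, 23],
   [9, 6, 12, 3, 13, 22, 14, 7, 1, 2, 21, 4, 0, 20, 8, 15, 10, 18, 17, 16, 11, 19, 5, 23],
   [8, 3, 2, 15, 13, 5, 0, 9, 14, 1, 20, 19, 6, 18, 12, 7, 17, 10, 11, 4, 22, 21, 16, 23],
   [15, 1, 14, 12, 4, 5, 3, 7, 0, 2, 21, 11, 6, 22, 9, 8, 17, 18, 16, 10, 13, 19, 20, 23],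
   [8, 6, 3, 2, 20, 11, 12, 9, 7, 1, 13, 21, 15, 4, 14, 0, 5, 19, 16, 18, 10, 22, 17, 23],
   [3, 9, 8, 7, 19, 13, 15, 1, 12, 0, 4, 22, 6, 20, 14, 2, 16, 5, 18, 11, 21, 17, 10, 23],
   [0, 12, 8, 2, 10, 11, 15, 9, 14, 7, 19, 21, 6, 4, 1, 3, 22, 18, 5, 13, 17, 16, 20, 23],
   [14, 15, 7, 1, 4, 19, 8, 12, 2, 9, 21, 20, 6, 13, 3, 0, 18, 10, 5, 22, 17, 11, 16, 23],
   [1, 14, 12, 15, 17, 18, 3, 8, 7, 2, 10, 20, 0, 19, 9, 6, 21, 5, 13, 4, 22, 16, 11, 23],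
   [2, 1, 7, 0, 13, 19, 14, 9, 3, 15, 17, 22, 8, 5, 6, 12, 10, 21, 20, 4, 16, 11, 18, 23],
   [3, 14, 0, 7, 16, 22, 8, 15, 9, 1, 5, 11, 12, 13, 6, 2, 19, 4, 10, 20, 17, 18, 21, 23],
   [8, 9, 1, 3, 20, 11, 14, 0, 7, 2, 5, 10, 12, 13, 15, 6, 4, 17, 21, 19, 16, 22, 18, 23],
   [2, 1, 14, 8, 19, 21, 9, 7, 6, 3, 5, 10, 12, 16, 15, 0, 20, 13, 22, 4, 17, 11, 18, 23],
   [14, 6, 9, 7, 11, 16, 8, 15, 1, 2, 18, 21, 3, 17, 12, 0, 5, 19, 20, 10, 13, 4, 22, 23],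
   [6, 2, 15, 1, 13, 18, 8, 0, 9, 7, 5, 11, 12, 16, 3, 14, 19, 4, 21, 17, 20, 22, 10, 23],
   [9, 1, 14, 7, 17, 11, 6, 3, 15, 0, 22, 5, 12, 13, 2, 8, 16, 4, 18, 20, 19, 21, 10, 23],
   [9, 7, 2, 1, 20, 11, 3, 6, 0, 15, 18, 5, 12, 16, 14, 8, 13, 4, 22, 17, 19, 10, 21, 23],
   [0, 1, 7, 8, 17, 5, 6, 2, 3, 12, 13, 16, 9, 10, 15, 14, 11, 4, 18, 21, 20, 19, 22, 23],
   [0, 9, 14, 2, 16, 13, 3, 12, 8, 7, 21, 19, 1, 4, 6, 15, 5, 18, 22, 11, 17, 10, 20, 23],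
   [0, 7, 1, 8, 22, 4, 2, 6, 14, 9, 16, 13, 12, 10, 15, 3, 11, 5, 20, 21, 18, 19, 17, 23],
   [0, 9, 12, 14, 20, 10, 8, 15, 1, 7, 22, 4, 6, 19, 3, 2, 21, 11, 17, 16, 5, 13, 18, 23],
   [0, 7, 6, 14, 5, 4, 2, 1, 8, 12, 10, 11, 9, 16, 3, 15, 13, 22, 20, 19, 18, 21, 17, 23],
   [0, 7, 6, 1, 17, 19, 14, 3, 12, 9, 20, 10, 15, 13, 2, 8, 16, 21, 18, 22, 11, 4, 5, 23],
   [0, 9, 15, 12, 18, 13, 1, 2, 6, 7, 17, 19, 3, 4, 8, 14, 22, 16, 5, 20, 21, 10, 11, 23],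
   [0, 7, 3, 6, 5, 4, 12, 8, 15, 9, 18, 13, 2, 10, 14, 1, 20, 22, 11, 17, 16, 19, 21, 23],
   [0, 9, 2, 15, 11, 10, 6, 14, 3, 7, 5, 4, 8, 19, 1, 12, 17, 20, 21, 18, 22, 13, 16, 23],
   [12, 14, 7, 0, 17, 13, 9, 6, 3, 8, 11, 18, 2, 10, 1, 15, 5, 20, 21, 16, 22, 19, 4, 23],
   [0, 12, 8, 6, 22, 5, 3, 7, 2, 15, 16, 11, 1, 20, 14, 9, 10, 21, 18, 19, 13, 17, 4, 23],
   [0, 1, 8, 3, 20, 13, 2, 12, 14, 15, 5, 19, 9, 17, 6, 7, 21, 10, 22, 11, 4, 18, 16, 23],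
   [0, 1, 3, 8, 20, 10, 7, 9, 15, 14, 5, 21, 12, 4, 6, 2, 19, 13, 22, 16, 17, 18, 11, 23],
   [0, 1, 14, 3, 4, 17, 8, 9, 6, 7, 13, 11, 15, 10, 2, 12, 18, 5, 16, 19, 20, 22, 21, 23],
   [0, 1, 15, 8, 17, 4, 3, 12, 6, 2, 10, 16, 14, 13, 7, 9, 18, 5, 11, 21, 20, 22, 19, 23],
   [0, 1, 6, 3, 20, 10, 14, 15, 2, 12, 17, 19, 7, 5, 8, 9, 22, 13, 21, 11, 4, 16, 18, 23],
   [0, 1, 12, 6, 5, 4, 3, 15, 8, 14, 13, 18, 2, 10, 9, 7, 16, 17, 11, 22, 20, 21, 19, 23],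
   [0, 1, 15, 2, 13, 10, 14, 6, 3, 7, 5, 22, 12, 17, 9, 8, 19, 20, 21, 16, 4, 11, 18, 23],
   [14, 1, 2, 15, 20, 21, 0, 3, 6, 7, 11, 22, 12, 16, 8, 9, 19, 13, 10, 17, 4, 5, 18, 23],
   [0, 12, 14, 3, 18, 11, 7, 1, 8, 15, 19, 5, 6, 17, 9, 2, 22, 10, 21, 13, 4, 20, 16, 23],
   [0, 1, 6, 2, 22, 19, 12, 9, 8, 15, 11, 13, 3, 18, 7, 14, 20, 21, 10, 4, 16, 17, 5, 23],
   [0, 1, 2, 8, 16, 11, 9, 15, 14, 7, 19, 17, 3, 22, 12, 6, 4, 18, 5, 20, 21, 10, 13, 23],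
   [0, 1, 2, 14, 4, 17, 7, 6, 12, 15, 20, 18, 8, 13, 3, 9, 16, 5, 11, 21, 10, 19, 22, 23],
   [0, 1, 2, 12, 16, 18, 15, 9, 3, 6, 21, 5, 14, 22, 8, 7, 4, 11, 17, 10, 19, 20, 13, 23],
   [3, 8, 7, 0, 11, 19, 9, 14, 2, 15, 21, 22, 1, 4, 12, 6, 18, 17, 20, 5, 16, 13, 10, 23],
   [0, 1, 2, 9, 13, 10, 12, 8, 6, 14, 17, 21, 7, 4, 15, 3, 22, 20, 19, 11, 5, 18, 16, 23],
   [0, 1, 2, 7, 22, 19, 3, 14, 9, 12, 18, 10, 15, 16, 6, 8, 13, 21, 20, 17, 11, 5, 4, 23],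
   [0, 1, 2, 15, 13, 20, 8, 12, 7, 3, 5, 19, 6, 4, 9, 14, 22, 10, 21, 18, 17, 11, 16, 23],
   [0, 1, 2, 6, 22, 21, 14, 3, 15, 8, 11, 20, 9, 16, 7, 12, 13, 19, 10, 5, 18, 17, 4, 23]]

theorem runT_prog11 : runT prog11 gens11T = tabs11 := by
  decide +kernel

/-- The permutations produced by `prog11`. -/
noncomputable def chain11P : List (Equiv.Perm GolayPt) := runP prog11 gens11P

theorem chain11_match : List.Forall₂ Matches chain11P tabs11 := by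
  rw [← runT_prog11]
  exact forall₂_runP_runT _ _ _ gens11_match

/-- `lookup11[i][q]`: index in `tabs11` of the entry for level `i` and point `q`. -/
def lookup11 : List (List ℕ) :=
  [[66, 66, 66, 66, 66, 66, 66, 66, 66, 66, 66, 66, 66, 66, 66, 66, 66, 66, 66, 66, 66, 66, 66, 66],
   [66, 8, 7, 6, 66, 66, 0, 2, 3, 5, 66, 66, 10, 66, 9, 4, 66, 66, 66, 66, 66, 66, 66, 66],
   [66, 66, 34, 37, 66, 66, 38, 36, 35, 11, 66, 66, 33, 66, 40, 39, 66, 66, 66, 66, 66, 66, 66, 66],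
   [66, 66, 66, 49, 66, 66, 43, 32, 47, 46, 66, 66, 48, 66, 45, 44, 66, 66, 66, 66, 66, 66, 66, 66],
   [66, 66, 66, 66, 66, 66, 58, 60, 55, 59, 66, 66, 53, 66, 54, 57, 66, 66, 66, 66, 66, 66, 66, 66]]

set_option maxRecDepth 100000 in
theorem chain11_check : ∀ i < 5, 1 ≤ i → ∀ q < 24, okM12 i q = true →
    goodT i q (tabs11.getD ((lookup11.getD i []).getD q 0) idT) = true := by
  decide +kernel

end Cfsg.Agent.Lib.Helper7
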