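import Cfsg.Agent.Lib.Helper7.SimpleData

/-!
# Generation of `M23`, `M22`, `M11` by two conjugate elements of prime order
-/

set_option autoImplicit false

namespace Cfsg.Agent.Lib.Helper7
open Cfsg
open scoped Pointwise

/-- Generic sifting along the base `bp`. -/
theorem sift_generic (G K : Subgroup (Equiv.Perm GolayPt)) (hKG : K ≤ G) (i0 n : ℕ)
    (hstep : ∀ i < n, i0 ≤ i → ∀ g ∈ G, (∀ j < i, g (bp j) = bp j) →
      ∃ u ∈ K, (∀ j < i, u (bp j) = bp j) ∧ u (g (bp i)) = bp i)
    (hlast : ∀ g ∈ G, (∀ j < n, g (bp j) = bp j) → g = 1) :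
    ∀ k i : ℕ, i + k = n → i0 ≤ i → ∀ g ∈ G, (∀ j < i, g (bp j) = bp j) → g ∈ K := by
  intro k
  induction k with
  | zero =>
    intro i hi _ g hg hfix
    have : i = n := by omega
    subst this
    rw [hlast g hg hfix]
    exact K.one_mem
  | succ k ih =>
    intro i hi hi0 g hg hfix
    have hin : i < n := by omega
    obtain ⟨u, hu, hufix, huq⟩ := hstep i hin hi0 g hg hfix
    have hug : u * g ∈ K := by
      apply ih (i + 1) (by omega) (by omega) (u * g) (G.mul_mem (hKG hu) hg)
      intro j hj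
      rw [Equiv.Perm.mul_apply]
      by_cases hji : j < i
      · rw [hfix j hji, hufix j hji]
      · have : j = i := by omega
        subst this
        exact huq
    have : g = u⁻¹ * (u * g) := by group
    rw [this]
    exact K.mul_mem (K.inv_mem hu) hug

/-! ### `M23` -/

theorem exists_chain23_elem (K : Subgroup (Equiv.Perm GolayPt)) (hK : ∀ g ∈ gens23P, g ∈ K)
    {i q : ℕ} (hi : i < 7) (h1 : 1 ≤ i) (hq : q < 24) (h : orbitOK i q = true) :
    ∃ u ∈ K, (∀ j < i, u (bp j) = bp j) ∧ u (pt q) = bp i := by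
  have hgood := chain23_check i hi h1 q hq h
  generalize (lookup23.getD i []).getD q 0 = k at hgood
  have hm : Matches (chain23P.getD k 1) (tabs23.getD k idT) :=
    forall₂_getD chain23_match matches_one k
  generalize tabs23.getD k idT = t at hgood hm
  refine ⟨chain23P.getD k 1, getD_mem_of_forall (runP_mem K prog23 gens23P hK) k, ?_, ?_⟩
  · intro j hj
    simp only [goodT, Bool.and_eq_true, List.all_eq_true, List.mem_range, beq_iff_eq] at hgood
    unfold bp
    exact matches_apply hm (baseL_lt j) (baseL_lt j) (hgood.1 j hj)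
  · simp only [goodT, Bool.and_eq_true, beq_iff_eq] at hgood
    unfold bp
    exact matches_apply hm hq (baseL_lt i) hgood.2

theorem exists_chain22_elem (K : Subgroup (Equiv.Perm GolayPt)) (hK : ∀ g ∈ gens22P, g ∈ K)
    {i q : ℕ} (hi : i < 7) (h1 : 2 ≤ i) (hq : q < 24) (h : orbitOK i q = true) :
    ∃ u ∈ K, (∀ j < i, u (bp j) = bp j) ∧ u (pt q) = bp i := by
  have hgood := chain22_check i hi h1 q hq h
  generalize (lookup22.getD i []).getD q 0 = k at hgood
  have hm : Matches (chain22P.getD k 1) (tabs22.getD k idT) :=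
    forall₂_getD chain22_match matches_one k
  generalize tabs22.getD k idT = t at hgood hm
  refine ⟨chain22P.getD k 1, getD_mem_of_forall (runP_mem K prog22 gens22P hK) k, ?_, ?_⟩
  · intro j hj
    simp only [goodT, Bool.and_eq_true, List.all_eq_true, List.mem_range, beq_iff_eq] at hgood
    unfold bp
    exact matches_apply hm (baseL_lt j) (baseL_lt j) (hgood.1 j hj)
  · simp only [goodT, Bool.and_eq_true, beq_iff_eq] at hgood
    unfold bp
    exact matches_apply hm hq (baseL_lt i) hgood.2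

theorem exists_chain11_elem (K : Subgroup (Equiv.Perm GolayPt)) (hK : ∀ g ∈ gens11P, g ∈ K)
    {i q : ℕ} (hi : i < 5) (h1 : 1 ≤ i) (hq : q < 24) (h : okM12 i q = true) :
    ∃ u ∈ K, (∀ j < i, u (bp j) = bp j) ∧ u (pt q) = bp i := by
  have hgood := chain11_check i hi h1 q hq h
  generalize (lookup11.getD i []).getD q 0 = k at hgood
  have hm : Matches (chain11P.getD k 1) (tabs11.getD k idT) :=
    forall₂_getD chain11_match matches_one k
  generalize tabs11.getD k idT = t at hgood hm
  refine ⟨chain11P.getD k 1, getD_mem_of_forall (runP_mem K prog11 gens11P hK) k, ?_, ?_⟩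
  · intro j hj
    simp only [goodT, Bool.and_eq_true, List.all_eq_true, List.mem_range, beq_iff_eq] at hgood
    unfold bp
    exact matches_apply hm (baseL_lt j) (baseL_lt j) (hgood.1 j hj)
  · simp only [goodT, Bool.and_eq_true, beq_iff_eq] at hgood
    unfold bp
    exact matches_apply hm hq (baseL_lt i) hgood.2

theorem mem_gens_of_pair {K : Subgroup (Equiv.Perm GolayPt)} {a g : Equiv.Perm GolayPt}
    (ha : a ∈ K) (hg : g ∈ K) : ∀ x ∈ [a, g], x ∈ K := by
  intro x hx
  simp only [List.mem_cons, List.not_mem_nil, or_false] at hx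
  rcases hx with rfl | rfl
  · exact ha
  · exact hg

/-- A subgroup of `M24` containing `a23` and its conjugate under `c23` contains the stabilizer
of `∞`. -/
theorem Gst1_le_of_mem (K : Subgroup (Equiv.Perm GolayPt)) (hKG : K ≤ M24) (ha : a23 ∈ K)
    (hc : c23 * a23 * c23⁻¹ ∈ K) : Gst 1 ≤ K := by
  intro g hg
  rw [mem_Gst] at hg
  refine sift_generic M24 K hKG 1 7 ?_ (fun g hg hfix => eq_one_of_fixes_base hg hfix) 6 1
    (by omega) (le_refl 1) g hg.1 hg.2
  intro i hi h1 g hg hfix
  obtain ⟨u, hu, hufix, huq⟩ := exists_chain23_elem K (mem_gens_of_pair ha hc) hi h1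
    (idx_lt (g (bp i))) (orbitOK_of_fixes hg hi hfix)
  rw [pt_idx] at huq
  exact ⟨u, hu, hufix, huq⟩

/-- A subgroup of `M24` containing `a22` and its conjugate under `c22` contains the stabilizer
of `∞` and `0`. -/
theorem Gst2_le_of_mem (K : Subgroup (Equiv.Perm GolayPt)) (hKG : K ≤ M24) (ha : a22 ∈ K)
    (hc : c22 * a22 * c22⁻¹ ∈ K) : Gst 2 ≤ K := by
  intro g hg
  rw [mem_Gst] at hg
  refine sift_generic M24 K hKG 2 7 ?_ (fun g hg hfix => eq_one_of_fixes_base hg hfix) 5 2
    (by omega) (le_refl 2) g hg.1 hg.2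
  intro i hi h1 g hg hfix
  obtain ⟨u, hu, hufix, huq⟩ := exists_chain22_elem K (mem_gens_of_pair ha hc) hi h1
    (idx_lt (g (bp i))) (orbitOK_of_fixes hg hi hfix)
  rw [pt_idx] at huq
  exact ⟨u, hu, hufix, huq⟩

/-- A subgroup of `H12` containing `a11` and its conjugate under `c11` contains `K11`. -/
theorem K11_le_of_mem (K : Subgroup (Equiv.Perm GolayPt)) (hKG : K ≤ H12) (ha : a11 ∈ K)
    (hc : c11 * a11 * c11⁻¹ ∈ K) : K11 ≤ K := by
  intro g hg
  unfold K11 at hg
  rw [mem_Hs] at hg
  refine sift_generic H12 K hKG 1 5 ?_ ?_ 4 1 (by omega) (le_refl 1) g hg.1 hg.2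
  · intro i hi h1 g hg hfix
    obtain ⟨u, hu, hufix, huq⟩ := exists_chain11_elem K (mem_gens_of_pair ha hc) hi h1
      (idx_lt (g (bp i))) (okM12_of_mem_Hs hi (mem_Hs.mpr ⟨hg, hfix⟩))
    rw [pt_idx] at huq
    exact ⟨u, hu, hufix, huq⟩
  · intro g hg hfix
    have : g ∈ Hs 5 := mem_Hs.mpr ⟨hg, hfix⟩
    rw [Hs_five, Subgroup.mem_bot] at this
    exact this

end Cfsg.Agent.Lib.Helper7
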