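/-
helper7: project SQF (S4130, helper85's sheet Lib/Helper85/Sqf/SQF_SHEET.md), module [KNOCHE] (hedge):
a finite `p`-group all of whose class sizes are squarefree has `|P'| ∣ p`.
-/
import Mathlib
import Cfsg.Agent.Lib.Helper85.SqfDefs
import Cfsg.Agent.Lib.Helper84.SqfClass2P

set_option autoImplicit false

namespace Cfsg.Agent.Lib.Helper7.Sqf

open Cfsg Cfsg.Agent.Lib.Helper85.Sqf

variable {G : Type*} [Group G]

/-- in a group of class at most two `y ↦ [u, y]` is a homomorphism -/
def commHom (hcl : ∀ a b c : G, (a * b * a⁻¹ * b⁻¹) * c = c * (a * b * a⁻¹ * b⁻¹)) (u : G) :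
    G →* G :=
  MonoidHom.mk' (fun y => u * y * u⁻¹ * y⁻¹) (by
    intro y z
    have h := hcl u z y⁻¹
    calc u * (y * z) * u⁻¹ * (y * z)⁻¹ = u * y * u⁻¹ * ((u * z * u⁻¹ * z⁻¹) * y⁻¹) := by group
      _ = u * y * u⁻¹ * (y⁻¹ * (u * z * u⁻¹ * z⁻¹)) := by rw [h]
      _ = (u * y * u⁻¹ * y⁻¹) * (u * z * u⁻¹ * z⁻¹) := by group)

theorem commHom_apply (hcl : ∀ a b c : G, (a * b * a⁻¹ * b⁻¹) * c = c * (a * b * a⁻¹ * b⁻¹))
    (u y : G) : commHom hcl u y = u * y * u⁻¹ * y⁻¹ := rfl

theorem commHom_ker (hcl : ∀ a b c : G, (a * b * a⁻¹ * b⁻¹) * c = c * (a * b * a⁻¹ * b⁻¹))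
    (u : G) : (commHom hcl u).ker = Subgroup.centralizer ({u} : Set G) := by
  ext y
  rw [MonoidHom.mem_ker, commHom_apply, Subgroup.mem_centralizer_singleton_iff]
  constructor
  · intro h
    have : u * y = y * u := by
      calc u * y = (u * y * u⁻¹ * y⁻¹) * (y * u) := by group
        _ = y * u := by rw [h, one_mul]
    exact this.symm
  · intro h
    calc u * y * u⁻¹ * y⁻¹ = (y * u) * u⁻¹ * y⁻¹ := by rw [h]
      _ = 1 := by group

/-- two subgroups of prime order `p` that meet non-trivially coincide -/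
theorem eq_of_inf_ne_bot [Finite G] {p : ℕ} [Fact p.Prime] {A B : Subgroup G}
    (hA : Nat.card A = p) (hB : Nat.card B = p) (hAB : A ⊓ B ≠ ⊥) : A = B := by
  have hp : p.Prime := Fact.out
  haveI : Fact (Nat.card A).Prime := ⟨by rw [hA]; exact hp⟩
  rcases Subgroup.eq_bot_or_eq_top_of_prime_card ((A ⊓ B).subgroupOf A) with h0 | h0
  · exfalso
    rw [Subgroup.subgroupOf_eq_bot] at h0
    apply hAB
    have := h0.eq_bot
    rwa [inf_assoc, inf_comm B A, ← inf_assoc, inf_idem] at this
  · rw [Subgroup.subgroupOf_eq_top] at h0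
    apply Subgroup.eq_of_le_of_card_ge (h0.trans inf_le_right)
    rw [hA, hB]

/-- [KNOCHE] -/
theorem card_commutator_dvd_of_pGroup [Finite G] (h : SqF G) {p : ℕ} [Fact p.Prime]
    (hG : IsPGroup p G) : Nat.card (commutator G) ∣ p := by
  have hp : p.Prime := Fact.out
  have hcl := Cfsg.Agent.Lib.Helper84.Sqf.class_two_of_pGroup h hG
  have hmemR : ∀ u y : G, u * y * u⁻¹ * y⁻¹ ∈ (commHom hcl u).range := fun u y => ⟨y, rfl⟩
  have hcardR : ∀ u : G, Nat.card (commHom hcl u).range
      = (Subgroup.centralizer ({u} : Set G)).index := by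
    intro u
    rw [← commHom_ker hcl u, Subgroup.index_ker]
  have hdvd : ∀ u : G, Nat.card (commHom hcl u).range ∣ p := fun u => by
    rw [hcardR]
    exact Cfsg.Agent.Lib.Helper84.Sqf.index_centralizer_dvd_of_pGroup h hG u
  have hcases : ∀ u : G, (commHom hcl u).range = ⊥ ∨ Nat.card (commHom hcl u).range = p := by
    intro u
    rcases (Nat.dvd_prime hp).1 (hdvd u) with h1 | h1
    · left; exact Subgroup.card_eq_one.1 h1
    · right; exact h1
  have hcardp : ∀ u : G, (commHom hcl u).range ≠ ⊥ → Nat.card (commHom hcl u).range = p :=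
    fun u hu => (hcases u).resolve_left hu
  -- membership in the centralizer
  have hcent : ∀ u y : G, u * y * u⁻¹ * y⁻¹ = 1 → y ∈ Subgroup.centralizer ({u} : Set G) := by
    intro u y hy
    rw [← commHom_ker hcl u, MonoidHom.mem_ker, commHom_apply]
    exact hy
  have hcent' : ∀ u y : G, y ∈ Subgroup.centralizer ({u} : Set G) → u * y * u⁻¹ * y⁻¹ = 1 := by
    intro u y hy
    rw [← commHom_ker hcl u, MonoidHom.mem_ker, commHom_apply] at hy
    exact hy
  -- two non-trivial ranges coincide
  have key : ∀ u w : G, (commHom hcl u).range ≠ ⊥ → (commHom hcl w).range ≠ ⊥ →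
      (commHom hcl u).range = (commHom hcl w).range := by
    intro u w hu hw
    by_contra hne
    have hdisj : (commHom hcl u).range ⊓ (commHom hcl w).range = ⊥ := by
      by_contra hcon
      exact hne (eq_of_inf_ne_bot (hcardp u hu) (hcardp w hw) hcon)
    -- `C(uw) ≤ C(u) ⊓ C(w)`
    have hle : Subgroup.centralizer ({u * w} : Set G)
        ≤ Subgroup.centralizer ({u} : Set G) ⊓ Subgroup.centralizer ({w} : Set G) := by
      intro y hy
      have h1 := hcent' (u * w) y hy
      have h2 : (u * w) * y * (u * w)⁻¹ * y⁻¹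
          = (w * y * w⁻¹ * y⁻¹) * (u * y * u⁻¹ * y⁻¹) := by
        have hc := hcl w y u
        calc (u * w) * y * (u * w)⁻¹ * y⁻¹ = u * (w * y * w⁻¹ * y⁻¹) * (y * u⁻¹ * y⁻¹) := by group
          _ = ((w * y * w⁻¹ * y⁻¹) * u) * (y * u⁻¹ * y⁻¹) := by rw [hc]
          _ = (w * y * w⁻¹ * y⁻¹) * (u * y * u⁻¹ * y⁻¹) := by group
      rw [h2] at h1
      have h3 : u * y * u⁻¹ * y⁻¹ = (w * y * w⁻¹ * y⁻¹)⁻¹ := eq_inv_of_mul_eq_one_right h1
      have h4 : u * y * u⁻¹ * y⁻¹ ∈ (commHom hcl u).range ⊓ (commHom hcl w).range :=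
        ⟨hmemR u y, by rw [h3]; exact Subgroup.inv_mem _ (hmemR w y)⟩
      rw [hdisj, Subgroup.mem_bot] at h4
      have h5 : w * y * w⁻¹ * y⁻¹ = 1 := by
        rw [h4] at h3
        exact inv_eq_one.1 h3.symm
      exact ⟨hcent u y h4, hcent w y h5⟩
    -- indices
    have hiu : (Subgroup.centralizer ({u} : Set G)).index = p := by
      rw [← hcardR]; exact hcardp u hu
    have hiw : (Subgroup.centralizer ({w} : Set G)).index = p := by
      rw [← hcardR]; exact hcardp w hw
    have hiuw : (Subgroup.centralizer ({u * w} : Set G)).index = p := by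
      have h1 : (Subgroup.centralizer ({u * w} : Set G)).index ∣ p := by
        rw [← hcardR]; exact hdvd (u * w)
      have h2 : p ∣ (Subgroup.centralizer ({u * w} : Set G)).index := by
        rw [← hiu]; exact Subgroup.index_dvd_of_le (hle.trans inf_le_left)
      exact Nat.dvd_antisymm h1 h2
    -- `C(u) ≤ C(uw) ≤ C(w)`
    have huw : Subgroup.centralizer ({u} : Set G) ≤ Subgroup.centralizer ({u * w} : Set G) := by
      have h1 := Subgroup.relIndex_mul_index (hle.trans inf_le_left)
      rw [hiu, hiuw] at h1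
      have h2 : (Subgroup.centralizer ({u * w} : Set G)).relIndex
          (Subgroup.centralizer ({u} : Set G)) = 1 := by
        have hp0 : 0 < p := hp.pos
        exact Nat.eq_of_mul_eq_mul_right hp0 (by rw [h1, one_mul])
      exact Subgroup.relIndex_eq_one.1 h2
    have huw' : Subgroup.centralizer ({u} : Set G) ≤ Subgroup.centralizer ({w} : Set G) :=
      huw.trans (hle.trans inf_le_right)
    -- an element outside `C(w)`
    obtain ⟨t, ht⟩ : ∃ t : G, t ∉ Subgroup.centralizer ({w} : Set G) := by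
      by_contra hcon
      push Not at hcon
      have : Subgroup.centralizer ({w} : Set G) = ⊤ := (Subgroup.eq_top_iff' _).2 hcon
      rw [this, Subgroup.index_top] at hiw
      exact hp.one_lt.ne' hiw.symm
    have htu : t ∉ Subgroup.centralizer ({u} : Set G) := fun h' => ht (huw' h')
    have h1 : u * t * u⁻¹ * t⁻¹ ≠ 1 := fun h' => htu (hcent u t h')
    have h2 : w * t * w⁻¹ * t⁻¹ ≠ 1 := fun h' => ht (hcent w t h')
    have e1 : t * u * t⁻¹ * u⁻¹ = (u * t * u⁻¹ * t⁻¹)⁻¹ := by group
    have e2 : t * w * t⁻¹ * w⁻¹ = (w * t * w⁻¹ * t⁻¹)⁻¹ := by group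
    have ht0 : (commHom hcl t).range ≠ ⊥ := by
      intro h0
      have := hmemR t u
      rw [h0, Subgroup.mem_bot, e1, inv_eq_one] at this
      exact h1 this
    have hTu : (commHom hcl t).range = (commHom hcl u).range := by
      apply eq_of_inf_ne_bot (hcardp t ht0) (hcardp u hu)
      intro h0
      have : t * u * t⁻¹ * u⁻¹ ∈ (commHom hcl t).range ⊓ (commHom hcl u).range :=
        ⟨hmemR t u, by rw [e1]; exact Subgroup.inv_mem _ (hmemR u t)⟩
      rw [h0, Subgroup.mem_bot, e1, inv_eq_one] at this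
      exact h1 this
    have hTw : (commHom hcl t).range = (commHom hcl w).range := by
      apply eq_of_inf_ne_bot (hcardp t ht0) (hcardp w hw)
      intro h0
      have : t * w * t⁻¹ * w⁻¹ ∈ (commHom hcl t).range ⊓ (commHom hcl w).range :=
        ⟨hmemR t w, by rw [e2]; exact Subgroup.inv_mem _ (hmemR w t)⟩
      rw [h0, Subgroup.mem_bot, e2, inv_eq_one] at this
      exact h2 this
    exact hne (hTu.symm.trans hTw)
  by_cases hall : ∀ u : G, (commHom hcl u).range = ⊥
  · have hle : commutator G ≤ ⊥ := by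
      rw [commutator_def, Subgroup.commutator_le]
      intro a _ b _
      rw [commutatorElement_def]
      have := hmemR a b
      rwa [hall a] at this
    rw [le_bot_iff.1 hle, Subgroup.card_bot]
    exact one_dvd p
  · push Not at hall
    obtain ⟨u₀, hu₀⟩ := hall
    have hle : commutator G ≤ (commHom hcl u₀).range := by
      rw [commutator_def, Subgroup.commutator_le]
      intro a _ b _
      rw [commutatorElement_def]
      by_cases ha : (commHom hcl a).range = ⊥
      · have := hmemR a b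
        rw [ha, Subgroup.mem_bot] at this
        rw [this]
        exact Subgroup.one_mem _
      · rw [← key a u₀ ha hu₀]
        exact hmemR a b
    have := Subgroup.card_dvd_of_le hle
    rwa [hcardp u₀ hu₀] at this

end Cfsg.Agent.Lib.Helper7.Sqf
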