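import Cfsg.Agent.Lib.Helper7.SteinerAut

/-!
# The derived system of a Steiner system at a point
-/

set_option autoImplicit false

namespace Cfsg.Agent.Lib.Helper7
open Cfsg
open scoped Pointwise

section
variable {α : Type*} [DecidableEq α]

/-- The derived system at the point `p`: blocks through `p`, with `p` removed. -/
def derivedSys (B : Set (Finset α)) (p : α) : Set (Finset {a : α // a ≠ p}) :=
  {h | ∃ b ∈ B, p ∈ b ∧ h = Finset.subtype (fun a => a ≠ p) b}

theorem card_subtype_ne {b : Finset α} {p : α} (hp : p ∈ b) :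
    (Finset.subtype (fun a => a ≠ p) b).card + 1 = b.card := by
  rw [Finset.card_subtype, Finset.filter_ne' b p, Finset.card_erase_of_mem hp]
  have : 0 < b.card := Finset.card_pos.mpr ⟨p, hp⟩
  omega

/-- The derived system of an `S(t + 1, k + 1, v + 1)` is an `S(t, k, v)`. -/
theorem derived_steiner {t k : ℕ} {B : Set (Finset α)} (hB : IsSteinerSystem (t + 1) (k + 1) B)
    (p : α) : IsSteinerSystem t k (derivedSys B p) := by
  refine ⟨?_, ?_⟩
  · rintro h ⟨b, hb, hpb, rfl⟩
    have := card_subtype_ne hpb
    rw [hB.1 b hb] at this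
    omega
  · intro s hs
    set s' : Finset α := s.map (Function.Embedding.subtype _) with hs'
    have hps' : p ∉ s' := by
      intro h
      rw [hs', Finset.mem_map] at h
      obtain ⟨a, _, ha⟩ := h
      exact a.2 ha
    have hcard : (insert p s').card = t + 1 := by
      rw [Finset.card_insert_of_notMem hps', hs', Finset.card_map, hs]
    obtain ⟨b, ⟨hb, hsb⟩, huniq⟩ := hB.2 _ hcard
    have hpb : p ∈ b := hsb (Finset.mem_insert_self _ _)
    refine ⟨Finset.subtype (fun a => a ≠ p) b, ⟨⟨b, hb, hpb, rfl⟩, ?_⟩, ?_⟩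
    · intro a ha
      rw [Finset.mem_subtype]
      apply hsb
      apply Finset.mem_insert_of_mem
      rw [hs', Finset.mem_map]
      exact ⟨a, ha, rfl⟩
    · rintro h' ⟨⟨b', hb', hpb', rfl⟩, hsub⟩
      have : b' = b := by
        apply huniq
        refine ⟨hb', ?_⟩
        intro a ha
        rw [Finset.mem_insert] at ha
        rcases ha with rfl | ha
        · exact hpb'
        · rw [hs', Finset.mem_map] at ha
          obtain ⟨a', ha', rfl⟩ := ha
          exact Finset.mem_subtype.mp (hsub ha')
      rw [this]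

/-- The restriction of a permutation fixing `p` to the other points. -/
def restrictFix (g : Equiv.Perm α) {p : α} (hp : g p = p) : Equiv.Perm {a : α // a ≠ p} :=
  g.subtypePerm (fun a => by
    rw [ne_eq, ne_eq, not_iff_not]
    constructor
    · intro h
      exact g.injective (h.trans hp.symm)
    · rintro rfl
      exact hp)

theorem image_restrictFix_subtype (g : Equiv.Perm α) {p : α} (hp : g p = p) (b : Finset α) :
    (Finset.subtype (fun a => a ≠ p) b).image (restrictFix g hp) =
      Finset.subtype (fun a => a ≠ p) (b.image g) := by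
  ext ⟨a, ha⟩
  simp only [Finset.mem_image, Finset.mem_subtype]
  constructor
  · rintro ⟨⟨q, hq⟩, hqb, hqa⟩
    exact ⟨q, hqb, congrArg Subtype.val hqa⟩
  · rintro ⟨q, hqb, hqa⟩
    have hq : q ≠ p := by
      rintro rfl
      exact ha (hqa.symm.trans hp)
    exact ⟨⟨q, hq⟩, hqb, Subtype.ext hqa⟩

theorem restrictFix_mem {B : Set (Finset α)} {g : Equiv.Perm α} (hg : g ∈ setSystemAut B) {p : α}
    (hp : g p = p) : restrictFix g hp ∈ setSystemAut (derivedSys B p) := by
  have key : ∀ k ∈ setSystemAut B, ∀ hk : k p = p, ∀ h ∈ derivedSys B p,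
      h.image (restrictFix k hk) ∈ derivedSys B p := by
    rintro k hkB hk h ⟨b, hb, hpb, rfl⟩
    refine ⟨b.image k, image_mem_of_mem_setSystemAut hkB hb, ?_, image_restrictFix_subtype k hk b⟩
    rw [← hk]
    exact Finset.mem_image_of_mem k hpb
  apply mem_setSystemAut_of_forall (key g hg hp)
  have hp' : (g⁻¹ : Equiv.Perm α) p = p := by
    rw [Equiv.Perm.inv_eq_iff_eq, hp]
  have : (restrictFix g hp)⁻¹ = restrictFix g⁻¹ hp' := by
    ext x
    rfl
  rw [this]
  exact key _ ((setSystemAut B).inv_mem hg) hp'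

/-- If the automorphism group of `B` is `(n + 1)`-transitive, then the automorphism group of the
derived system is `n`-transitive. -/
theorem derived_pretransitive {B : Set (Finset α)} (p : α) (n : ℕ)
    [MulAction.IsMultiplyPretransitive (setSystemAut B) α (n + 1)] :
    MulAction.IsMultiplyPretransitive (setSystemAut (derivedSys B p)) {a : α // a ≠ p} n := by
  refine ⟨fun x y => ?_⟩
  have hinj : ∀ z : Fin n ↪ {a : α // a ≠ p},
      Function.Injective (Fin.cons p (fun i => ((z i : {a : α // a ≠ p}) : α)) : Fin (n + 1) → α) := by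
    intro z
    rw [Fin.cons_injective_iff]
    refine ⟨?_, ?_⟩
    · rintro ⟨i, hi⟩
      exact (z i).2 hi
    · intro i j hij
      exact z.injective (Subtype.ext hij)
  let x' : Fin (n + 1) ↪ α := ⟨_, hinj x⟩
  let y' : Fin (n + 1) ↪ α := ⟨_, hinj y⟩
  obtain ⟨g, hg⟩ := MulAction.exists_smul_eq (setSystemAut B) x' y'
  have hall : ∀ i, (g : Equiv.Perm α) (x' i) = y' i := fun i =>
    congrArg (fun z : Fin (n + 1) ↪ α => z i) hg
  have hp : (g : Equiv.Perm α) p = p := hall 0
  have hi : ∀ i : Fin n, (g : Equiv.Perm α) (x i) = y i := fun i => hall i.succ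
  refine ⟨⟨restrictFix g hp, restrictFix_mem g.2 hp⟩, ?_⟩
  apply Function.Embedding.ext
  intro i
  exact Subtype.ext (hi i)

end

end Cfsg.Agent.Lib.Helper7
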