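import Cfsg.Agent.Lib.Helper7.SteinerEnc

/-!
# Relabelling steps ("without loss of generality") for Steiner systems `S(t, t+1, n)`
-/

set_option autoImplicit false

namespace Cfsg.Agent.Lib.Helper7
open Cfsg

section
variable {α : Type*} [DecidableEq α]

/-- Two distinct blocks of a Steiner system `S(t, k, n)` share fewer than `t` points. -/
theorem steiner_inter_card_lt {t k : ℕ} {B : Set (Finset α)} (hB : IsSteinerSystem t k B)
    {b b' : Finset α} (hb : b ∈ B) (hb' : b' ∈ B) (hne : b ≠ b') : (b ∩ b').card < t := by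
  by_contra hcon
  obtain ⟨s, hs, hsc⟩ := Finset.exists_subset_card_eq (Nat.le_of_not_lt hcon)
  exact hne (steiner_block_unique hB hsc hb hb' (hs.trans Finset.inter_subset_left)
    (hs.trans Finset.inter_subset_right))

/-- The image system under a permutation. -/
def imageSys (τ : Equiv.Perm α) (B : Set (Finset α)) : Set (Finset α) := (fun b => b.image τ) '' B

theorem setSystemIso_imageSys (τ : Equiv.Perm α) (B : Set (Finset α)) :
    SetSystemIso B (imageSys τ B) := ⟨τ, rfl⟩

theorem isSteinerSystem_imageSys {t k : ℕ} {B : Set (Finset α)} (hB : IsSteinerSystem t k B)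
    (τ : Equiv.Perm α) : IsSteinerSystem t k (imageSys τ B) := steiner_image hB τ

/-- One relabelling step: if the blocks in `Pfix` belong to `B`, the block through the `t`-set
`T` is `insert x T` with `x` necessarily in the set `S` of free points, then after swapping `x`
with the target `y₀ ∈ S` the system contains `Pfix` and `insert y₀ T`. -/
theorem exists_perm_wlog {t : ℕ} {B : Set (Finset α)} (hB : IsSteinerSystem t (t + 1) B)
    (Pfix : List (Finset α)) (hPfix : ∀ p ∈ Pfix, p ∈ B) (T S : Finset α) (y₀ : α)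
    (hT : T.card = t) (hTP : ∀ p ∈ Pfix, ¬ T ⊆ p)
    (hS : ∀ x, x ∉ T → (∀ p ∈ Pfix, ((insert x T) ∩ p).card < t) → x ∈ S)
    (hy₀ : y₀ ∈ S) (hSP : ∀ z ∈ S, z ∉ T ∧ ∀ p ∈ Pfix, z ∉ p) :
    ∃ τ : Equiv.Perm α, (∀ p ∈ Pfix, p ∈ imageSys τ B) ∧ insert y₀ T ∈ imageSys τ B := by
  obtain ⟨b, hb, hTb⟩ := steiner_exists_block hB hT
  have hbc : b.card = t + 1 := hB.1 b hb
  have hsd : (b \ T).card = 1 := by
    rw [Finset.card_sdiff_of_subset hTb, hbc, hT]; omega
  obtain ⟨x, hx⟩ := Finset.card_eq_one.mp hsd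
  have hxb : x ∈ b ∧ x ∉ T := by
    have : x ∈ b \ T := by rw [hx]; exact Finset.mem_singleton_self x
    simpa using this
  have hbx : b = insert x T := by
    ext z
    constructor
    · intro hz
      by_cases hzT : z ∈ T
      · exact Finset.mem_insert_of_mem hzT
      · have : z ∈ b \ T := by simp [hz, hzT]
        rw [hx, Finset.mem_singleton] at this
        rw [this]; exact Finset.mem_insert_self _ _
    · intro hz
      rw [Finset.mem_insert] at hz
      rcases hz with rfl | hz
      · exact hxb.1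
      · exact hTb hz
  have hxS : x ∈ S := by
    apply hS x hxb.2
    intro p hp
    rw [← hbx]
    apply steiner_inter_card_lt hB hb (hPfix p hp)
    intro h
    exact hTP p hp (h ▸ hTb)
  refine ⟨Equiv.swap x y₀, ?_, ?_⟩
  · intro p hp
    refine ⟨p, hPfix p hp, ?_⟩
    have hxp : x ∉ p := (hSP x hxS).2 p hp
    have hyp : y₀ ∉ p := (hSP y₀ hy₀).2 p hp
    ext z
    simp only [Finset.mem_image]
    constructor
    · rintro ⟨w, hw, rfl⟩
      rw [Equiv.swap_apply_of_ne_of_ne (by rintro rfl; exact hxp hw) (by rintro rfl; exact hyp hw)]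
      exact hw
    · intro hz
      exact ⟨z, hz, Equiv.swap_apply_of_ne_of_ne (by rintro rfl; exact hxp hz)
        (by rintro rfl; exact hyp hz)⟩
  · refine ⟨b, hb, ?_⟩
    have hyT : y₀ ∉ T := (hSP y₀ hy₀).1
    rw [hbx]
    ext z
    simp only [Finset.mem_image, Finset.mem_insert]
    constructor
    · rintro ⟨w, hw, rfl⟩
      rcases hw with rfl | hw
      · left; exact Equiv.swap_apply_left _ _
      · right
        rw [Equiv.swap_apply_of_ne_of_ne (by rintro rfl; exact hxb.2 hw)
          (by rintro rfl; exact hyT hw)]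
        exact hw
    · rintro (rfl | hz)
      · exact ⟨x, Or.inl rfl, Equiv.swap_apply_left _ _⟩
      · exact ⟨z, Or.inr hz, Equiv.swap_apply_of_ne_of_ne (by rintro rfl; exact hxb.2 hz)
          (by rintro rfl; exact hyT hz)⟩

end

/-! ### The relabelling step in terms of masks -/

section Mask
variable {n : ℕ}

theorem card_decF (m : ℕ) : (decF n m).card = popc n m := by
  unfold popc
  rw [← Finset.card_map Fin.valEmbedding]
  have h2 : (decF n m).map Fin.valEmbedding = (Finset.range n).filter fun i => m.testBit i = true := by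
    ext i
    simp only [Finset.mem_map, Fin.valEmbedding_apply, Finset.mem_filter, Finset.mem_range]
    constructor
    · rintro ⟨j, hj, rfl⟩
      exact ⟨j.isLt, mem_decF.mp hj⟩
    · rintro ⟨hi, hm⟩
      exact ⟨⟨i, hi⟩, mem_decF.mpr hm, rfl⟩
  rw [h2, ← List.toFinset_range, ← List.toFinset_filter,
    List.toFinset_card_of_nodup (List.nodup_range.filter _)]

theorem insert_decF (x : Fin n) (m : ℕ) : insert x (decF n m) = decF n (m ||| 2 ^ (x : ℕ)) := by
  ext i
  rw [Finset.mem_insert, mem_decF, mem_decF, Nat.testBit_or, Nat.testBit_two_pow, Bool.or_eq_true,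
    decide_eq_true_eq]
  constructor
  · rintro (rfl | h)
    · exact Or.inr rfl
    · exact Or.inl h
  · rintro (h | h)
    · exact Or.inr h
    · exact Or.inl (Fin.ext h.symm)

theorem decF_inter (a b : ℕ) : decF n a ∩ decF n b = decF n (a &&& b) := by
  ext i
  simp [mem_decF, Nat.testBit_and]

theorem decF_subset_iff {a b : ℕ} (ha : a < 2 ^ n) (hb : b < 2 ^ n) :
    decF n a ⊆ decF n b ↔ subM a b = true := by
  rw [← subM_encF, encF_decF ha, encF_decF hb]

/-- The relabelling step, with all side conditions stated on masks. -/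
theorem exists_perm_wlog_mask {t : ℕ} {B : Set (Finset (Fin n))}
    (hB : IsSteinerSystem t (t + 1) B) (Pm : List ℕ)
    (hPm : ∀ p ∈ Pm, p < 2 ^ n ∧ decF n p ∈ B) (T S : ℕ) (y₀ : Fin n) (hTlt : T < 2 ^ n)
    (hT : popc n T = t) (hTP : ∀ p ∈ Pm, subM T p = false)
    (hS : ∀ x : Fin n, T.testBit x = false →
      (∀ p ∈ Pm, popc n ((T ||| 2 ^ (x : ℕ)) &&& p) < t) → S.testBit x = true)
    (hy₀ : S.testBit y₀ = true)
    (hSP : ∀ z : Fin n, S.testBit z = true →
      T.testBit z = false ∧ ∀ p ∈ Pm, p.testBit z = false) :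
    ∃ τ : Equiv.Perm (Fin n), (∀ p ∈ Pm, decF n p ∈ imageSys τ B) ∧
      decF n (T ||| 2 ^ (y₀ : ℕ)) ∈ imageSys τ B := by
  obtain ⟨τ, h1, h2⟩ := exists_perm_wlog hB (Pm.map (decF n))
    (by
      intro p hp
      rw [List.mem_map] at hp
      obtain ⟨m, hm, rfl⟩ := hp
      exact (hPm m hm).2)
    (decF n T) (decF n S) y₀ (by rw [card_decF, hT])
    (by
      intro p hp
      rw [List.mem_map] at hp
      obtain ⟨m, hm, rfl⟩ := hp
      rw [decF_subset_iff hTlt (hPm m hm).1, hTP m hm]
      exact Bool.false_ne_true)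
    (by
      intro x hx hcard
      rw [mem_decF]
      apply hS x
      · rw [mem_decF] at hx
        simpa using hx
      · intro m hm
        have := hcard (decF n m) (List.mem_map_of_mem hm)
        rwa [insert_decF, decF_inter, card_decF] at this)
    (mem_decF.mpr hy₀)
    (by
      intro z hz
      obtain ⟨hzT, hzP⟩ := hSP z (mem_decF.mp hz)
      refine ⟨fun h => ?_, fun p hp => ?_⟩
      · rw [mem_decF, hzT] at h
        exact Bool.false_ne_true h
      · rw [List.mem_map] at hp
        obtain ⟨m, hm, rfl⟩ := hp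
        intro h
        rw [mem_decF, hzP m hm] at h
        exact Bool.false_ne_true h)
  refine ⟨τ, fun p hp => h1 _ (List.mem_map_of_mem hp), ?_⟩
  rwa [insert_decF] at h2

end Mask

end Cfsg.Agent.Lib.Helper7
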