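import Cfsg.Agent.Lib.Helper7.Steiner3622Data
import Cfsg.Agent.Lib.Helper7.SteinerDerived
import Cfsg.Agent.Lib.Helper7.SteinerWlog
import Cfsg.Agent.S5627

/-!
# The blocks of an `S(3, 6, 22)` extending the reference plane are lines or hyperovals
-/

set_option autoImplicit false

namespace Cfsg.Agent.Lib.Helper7.S3622
open Cfsg Cfsg.Agent.Lib.Helper7

/-- A finset of `Fin 22` not containing `21` is determined by its restriction. -/
theorem eq_of_subtype_eq {s s' : Finset (Fin 22)} (hs : (21 : Fin 22) ∉ s) (hs' : (21 : Fin 22) ∉ s')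
    (h : Finset.subtype (fun a => a ≠ (21 : Fin 22)) s = Finset.subtype (fun a => a ≠ 21) s') :
    s = s' := by
  ext i
  by_cases hi : i = 21
  · subst hi
    exact ⟨fun h' => absurd h' hs, fun h' => absurd h' hs'⟩
  · have := congrArg (fun u : Finset {a : Fin 22 // a ≠ 21} => (⟨i, hi⟩ : {a : Fin 22 // a ≠ 21}) ∈ u) h
    simpa using this

theorem card_subtype_of_not_mem {s : Finset (Fin 22)} (hs : (21 : Fin 22) ∉ s) :
    (Finset.subtype (fun a => a ≠ (21 : Fin 22)) s).card = s.card := by
  rw [Finset.card_subtype]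
  congr 1
  apply Finset.filter_true_of_mem
  rintro x hx rfl
  exact hs hx

/-- Every block of an `S(3, 6, 22)` on `Fin 22` containing the blocks of `P0` is in `ksT`. -/
theorem cands_complete {B : Set (Finset (Fin 22))} (hB : IsSteinerSystem 3 6 B)
    (hP0 : ∀ p ∈ P0, decF 22 p ∈ B) : ∀ b ∈ B, encF b ∈ ksT := by
  have h1 := pairs_ok
  have h2 := hov_ok
  have h3 := p0_ok
  simp only [pairsOK, List.all_eq_true, List.mem_range, Bool.or_eq_true, beq_iff_eq,
    List.any_eq_true, Bool.and_eq_true] at h1
  simp only [hovOK, Bool.and_eq_true, List.all_eq_true, decide_eq_true_eq, beq_iff_eq] at h2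
  simp only [p0OK, List.all_eq_true, Bool.and_eq_true, decide_eq_true_eq] at h3
  obtain ⟨⟨hhov, hsorted⟩, hlen⟩ := h2
  -- blocks through the point 21
  have hA : ∀ b ∈ B, (21 : Fin 22) ∈ b → encF b ∈ P0 := by
    intro b hb h21
    have hcard : b.card = 6 := hB.1 b hb
    have hc2 : 1 < (b.erase 21).card := by
      rw [Finset.card_erase_of_mem h21, hcard]
      norm_num
    obtain ⟨x, hx, y, hy, hxy⟩ := Finset.one_lt_card.mp hc2
    rw [Finset.mem_erase] at hx hy
    have hx21 : (x : ℕ) < 21 := by
      have := x.isLt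
      have h' : (x : ℕ) ≠ 21 := fun h => hx.1 (Fin.ext h)
      omega
    have hy21 : (y : ℕ) < 21 := by
      have := y.isLt
      have h' : (y : ℕ) ≠ 21 := fun h => hy.1 (Fin.ext h)
      omega
    rcases h1 x hx21 y hy21 with h | ⟨p, hp, hpx, hpy⟩
    · exact absurd (Fin.ext h) hxy
    · obtain ⟨hplt, hp21⟩ := h3 p hp
      have hs : ({x, y, 21} : Finset (Fin 22)).card = 3 := by
        rw [Finset.card_insert_of_notMem, Finset.card_insert_of_notMem, Finset.card_singleton]
        · rw [Finset.mem_singleton]; exact hy.1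
        · rw [Finset.mem_insert, Finset.mem_singleton]
          rintro (h | h)
          · exact hxy h
          · exact hx.1 h
      have hsb : ({x, y, 21} : Finset (Fin 22)) ⊆ b := by
        intro i hi
        simp only [Finset.mem_insert, Finset.mem_singleton] at hi
        rcases hi with rfl | rfl | rfl
        · exact hx.2
        · exact hy.2
        · exact h21
      have hsp : ({x, y, 21} : Finset (Fin 22)) ⊆ decF 22 p := by
        intro i hi
        simp only [Finset.mem_insert, Finset.mem_singleton] at hi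
        rw [mem_decF]
        rcases hi with rfl | rfl | rfl
        · exact hpx
        · exact hpy
        · exact hp21
      have := steiner_block_unique hB hs hb (hP0 p hp) hsb hsp
      rw [this, encF_decF hplt]
      exact hp
  intro b hb
  unfold ksT
  rw [List.mem_append]
  by_cases h21 : (21 : Fin 22) ∈ b
  · exact Or.inl (hA b hb h21)
  right
  -- the derived plane and its hyperovals
  have hDst : IsSteinerSystem 2 5 (derivedSys B (21 : Fin 22)) := derived_steiner hB 21
  have hcardβ : Fintype.card {a : Fin 22 // a ≠ 21} = 21 := by decide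
  have h168 := (Cfsg.Agent.S5627.result hcardβ (derivedSys B (21 : Fin 22)) hDst).2.1
  set Hov : Set (Finset {a : Fin 22 // a ≠ 21}) :=
    {H | H.card = 6 ∧ ∀ l ∈ derivedSys B (21 : Fin 22), (l ∩ H).card ≤ 2} with hHov
  let f : ℕ → Finset {a : Fin 22 // a ≠ 21} := fun m =>
    Finset.subtype (fun a => a ≠ (21 : Fin 22)) (decF 22 m)
  have hnot21 : ∀ m ∈ hov, (21 : Fin 22) ∉ decF 22 m := by
    intro m hm h
    rw [mem_decF] at h
    have := Nat.testBit_lt_two_pow (hhov m hm).1.1
    rw [show ((21 : Fin 22) : ℕ) = 21 from rfl] at h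
    rw [this] at h
    exact Bool.false_ne_true h
  have hlt22 : ∀ m ∈ hov, m < 2 ^ 22 := fun m hm =>
    lt_trans (hhov m hm).1.1 (by norm_num)
  have hfmem : ∀ m ∈ hov, f m ∈ Hov := by
    intro m hm
    refine ⟨?_, ?_⟩
    · show (Finset.subtype (fun a => a ≠ (21 : Fin 22)) (decF 22 m)).card = 6
      rw [card_subtype_of_not_mem (hnot21 m hm), card_decF]
      exact (hhov m hm).1.2
    · rintro l ⟨b', hb', h21b', rfl⟩
      have hp := hA b' hb' h21b'
      have hle := (hhov m hm).2 _ hp
      have : Finset.subtype (fun a => a ≠ (21 : Fin 22)) b' ∩ f m =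
          Finset.subtype (fun a => a ≠ (21 : Fin 22)) (b' ∩ decF 22 m) := by
        ext i
        simp [f]
      rw [this]
      calc (Finset.subtype (fun a => a ≠ (21 : Fin 22)) (b' ∩ decF 22 m)).card
          ≤ (b' ∩ decF 22 m).card := by
            rw [Finset.card_subtype]
            exact Finset.card_filter_le _ _
        _ = (decF 22 (encF b') ∩ decF 22 m).card := by rw [decF_encF]
        _ = popc 22 (m &&& encF b') := by
            rw [decF_inter, card_decF, Nat.land_comm]
        _ ≤ 2 := hle
  have hfinj : Set.InjOn f {m | m ∈ hov} := by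
    intro m hm m' hm' h
    have := eq_of_subtype_eq (hnot21 m hm) (hnot21 m' hm') h
    rw [← encF_decF (hlt22 m hm), ← encF_decF (hlt22 m' hm'), this]
  have himg : f '' {m | m ∈ hov} = Hov := by
    apply Set.eq_of_subset_of_ncard_le
    · rintro _ ⟨m, hm, rfl⟩
      exact hfmem m hm
    · rw [hfinj.ncard_image, hHov, h168]
      have : {m | m ∈ hov} = (↑hov.toFinset : Set ℕ) := by
        ext m
        simp
      rw [this, Set.ncard_coe_finset, List.toFinset_card_of_nodup (nodup_of_sortedLt hsorted), hlen]
    · exact Set.toFinite _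
  have hbH : Finset.subtype (fun a => a ≠ (21 : Fin 22)) b ∈ Hov := by
    refine ⟨?_, ?_⟩
    · rw [card_subtype_of_not_mem h21]
      exact hB.1 b hb
    · rintro l ⟨b', hb', h21b', rfl⟩
      have hne : b' ≠ b := by
        rintro rfl
        exact h21 h21b'
      have hlt := steiner_inter_card_lt hB hb' hb hne
      have : Finset.subtype (fun a => a ≠ (21 : Fin 22)) b' ∩
          Finset.subtype (fun a => a ≠ (21 : Fin 22)) b =
          Finset.subtype (fun a => a ≠ (21 : Fin 22)) (b' ∩ b) := by
        ext i
        simp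
      rw [this]
      have h2 : (Finset.subtype (fun a => a ≠ (21 : Fin 22)) (b' ∩ b)).card ≤ (b' ∩ b).card := by
        rw [Finset.card_subtype]
        exact Finset.card_filter_le _ _
      omega
  rw [← himg] at hbH
  obtain ⟨m, hm, hfm⟩ := hbH
  have : b = decF 22 m := (eq_of_subtype_eq (hnot21 m hm) h21 hfm).symm
  rw [this, encF_decF (hlt22 m hm)]
  exact hm

end Cfsg.Agent.Lib.Helper7.S3622
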