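import Cfsg.Agent.Lib.Helper7.Steiner4511Data
import Cfsg.Agent.Lib.Helper7.SteinerAut

/-!
# Rigidity of the reference Steiner system `S(4, 5, 11)`

An automorphism fixing the points `0, ..., 3` is the identity.
AUTO-GENERATED by scratch/aut_cert.py; everything is re-checked here by the kernel.
-/

set_option autoImplicit false

namespace Cfsg.Agent.Lib.Helper7.S4511
open Cfsg Cfsg.Agent.Lib.Helper7

theorem ref_steiner : IsSteinerSystem 4 5 (sysOf 11 refH) :=
  isSteinerSystem_sysOf tsT ksT refH tsT_eq ksT_eq refH_ok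

set_option maxRecDepth 100000 in
theorem aut_ref_rigid (g : Equiv.Perm (Fin 11)) (hg : g ∈ setSystemAut (sysOf 11 refH))
    (h0 : g 0 = 0) (h1 : g 1 = 1) (h2 : g 2 = 2) (h3 : g 3 = 3) : g = 1 := by
  have hB := ref_steiner
  have k0 : Known g [(0, 0), (1, 1), (2, 2), (3, 3)] :=
    known_cons 0 0 (by rw [h0]; rfl) (known_cons 1 1 (by rw [h1]; rfl) (known_cons 2 2 (by rw [h2]; rfl) (known_cons 3 3 (by rw [h3]; rfl) (known_nil g))))
  have h4 : ((g ⟨4, by norm_num⟩ : Fin 11) : ℕ) = 4 :=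
    known_step hB hg k0 (m := 31) (m' := 31) (y := 4) (y' := 4) (by decide +kernel) _
  obtain ⟨⟨v, hv11⟩, hv⟩ : ∃ v : Fin 11, g 5 = v := ⟨_, rfl⟩
  have k1 : Known g [(0, 0), (1, 1), (2, 2), (3, 3), (4, 4), (5, v)] :=
    known_cons 0 0 (by rw [h0]; rfl) (known_cons 1 1 (by rw [h1]; rfl) (known_cons 2 2 (by rw [h2]; rfl) (known_cons 3 3 (by rw [h3]; rfl) (known_cons 4 4 h4 (known_cons 5 v (by rw [hv]) (known_nil g))))))
  interval_cases v
  · exact absurd (g.injective (hv.trans h0.symm)) (by decide)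
  · exact absurd (g.injective (hv.trans h1.symm)) (by decide)
  · exact absurd (g.injective (hv.trans h2.symm)) (by decide)
  · exact absurd (g.injective (hv.trans h3.symm)) (by decide)
  · have h4' : g 4 = 4 := Fin.ext h4
    exact absurd (g.injective (hv.trans h4'.symm)) (by decide)
  · have h6 : ((g ⟨6, by norm_num⟩ : Fin 11) : ℕ) = 6 :=
      known_step hB hg k1 (m := 103) (m' := 103) (y := 6) (y' := 6) (by decide +kernel) _
    have h7 : ((g ⟨7, by norm_num⟩ : Fin 11) : ℕ) = 7 :=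
      known_step hB hg k1 (m := 171) (m' := 171) (y := 7) (y' := 7) (by decide +kernel) _
    have h8 : ((g ⟨8, by norm_num⟩ : Fin 11) : ℕ) = 8 :=
      known_step hB hg k1 (m := 301) (m' := 301) (y := 8) (y' := 8) (by decide +kernel) _
    have h9 : ((g ⟨9, by norm_num⟩ : Fin 11) : ℕ) = 9 :=
      known_step hB hg k1 (m := 565) (m' := 565) (y := 9) (y' := 9) (by decide +kernel) _
    have h10 : ((g ⟨10, by norm_num⟩ : Fin 11) : ℕ) = 10 :=
      known_step hB hg k1 (m := 1075) (m' := 1075) (y := 10) (y' := 10) (by decide +kernel) _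
    have hall : ∀ i : Fin 11, ((g i : Fin 11) : ℕ) = i := by
      rintro ⟨i, hi⟩
      interval_cases i
      · rw [show (⟨0, hi⟩ : Fin 11) = 0 from rfl, h0]
      · rw [show (⟨1, hi⟩ : Fin 11) = 1 from rfl, h1]
      · rw [show (⟨2, hi⟩ : Fin 11) = 2 from rfl, h2]
      · rw [show (⟨3, hi⟩ : Fin 11) = 3 from rfl, h3]
      · exact h4
      · rw [show (⟨5, hi⟩ : Fin 11) = 5 from rfl, hv]; rfl
      · exact h6
      · exact h7
      · exact h8
      · exact h9
      · exact h10
    exact Equiv.ext fun i => Fin.ext (hall i)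
  · have a : ((g ⟨7, by norm_num⟩ : Fin 11) : ℕ) = 9 :=
      known_step hB hg k1 (m := 171) (m' := 587) (y := 7) (y' := 9) (by decide +kernel) _
    have b : ((g ⟨7, by norm_num⟩ : Fin 11) : ℕ) = 10 :=
      known_step hB hg k1 (m := 182) (m' := 1110) (y := 7) (y' := 10) (by decide +kernel) _
    omega
  · have a : ((g ⟨6, by norm_num⟩ : Fin 11) : ℕ) = 8 :=
      known_step hB hg k1 (m := 103) (m' := 391) (y := 6) (y' := 8) (by decide +kernel) _
    have b : ((g ⟨6, by norm_num⟩ : Fin 11) : ℕ) = 10 :=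
      known_step hB hg k1 (m := 121) (m' := 1177) (y := 6) (y' := 10) (by decide +kernel) _
    omega
  · have a : ((g ⟨6, by norm_num⟩ : Fin 11) : ℕ) = 7 :=
      known_step hB hg k1 (m := 103) (m' := 391) (y := 6) (y' := 7) (by decide +kernel) _
    have b : ((g ⟨6, by norm_num⟩ : Fin 11) : ℕ) = 9 :=
      known_step hB hg k1 (m := 121) (m' := 793) (y := 6) (y' := 9) (by decide +kernel) _
    omega
  · have a : ((g ⟨6, by norm_num⟩ : Fin 11) : ℕ) = 10 :=
      known_step hB hg k1 (m := 103) (m' := 1543) (y := 6) (y' := 10) (by decide +kernel) _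
    have b : ((g ⟨6, by norm_num⟩ : Fin 11) : ℕ) = 8 :=
      known_step hB hg k1 (m := 121) (m' := 793) (y := 6) (y' := 8) (by decide +kernel) _
    omega
  · have a : ((g ⟨6, by norm_num⟩ : Fin 11) : ℕ) = 9 :=
      known_step hB hg k1 (m := 103) (m' := 1543) (y := 6) (y' := 9) (by decide +kernel) _
    have b : ((g ⟨6, by norm_num⟩ : Fin 11) : ℕ) = 7 :=
      known_step hB hg k1 (m := 121) (m' := 1177) (y := 6) (y' := 7) (by decide +kernel) _
    omega

/-- An automorphism of the reference system fixing `0, ..., 3` is trivial. -/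
theorem exists_rigid : ∃ x₀ : Fin 4 ↪ Fin 11, ∀ g ∈ setSystemAut (sysOf 11 refH),
    (∀ i, g (x₀ i) = x₀ i) → g = 1 :=
  ⟨Fin.castLEEmb (by norm_num), fun g hg h => aut_ref_rigid g hg (h 0) (h 1) (h 2) (h 3)⟩

end Cfsg.Agent.Lib.Helper7.S4511
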