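import Cfsg.Agent.Lib.Helper7.Steiner4511Data
import Cfsg.Agent.Lib.Helper7.SteinerWlog

/-!
# Uniqueness of the Steiner system `S(4, 5, 11)`
-/

set_option autoImplicit false

namespace Cfsg.Agent.Lib.Helper7
open Cfsg

/-- Every `S(4, 5, 11)` on `Fin 11` is isomorphic to the reference system. -/
theorem iso_ref_4511 (B : Set (Finset (Fin 11))) (hB : IsSteinerSystem 4 5 B) :
    SetSystemIso B (sysOf 11 S4511.refH) := by
  obtain ⟨τ₀, -, h0⟩ := exists_perm_wlog (t := 4) hB [] (by simp) (decF 11 15) (decF 11 0x7F0) 4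
    (by decide +kernel) (by simp) (by decide +kernel) (by decide +kernel) (by decide +kernel)
  have hB1 := isSteinerSystem_imageSys hB τ₀
  have e0 : insert (4 : Fin 11) (decF 11 15) = decF 11 31 := by decide +kernel
  rw [e0] at h0
  obtain ⟨τ₁, h1P, h1⟩ := exists_perm_wlog (t := 4) hB1 [decF 11 31] (by simpa using h0)
    (decF 11 39) (decF 11 0x7C0) 6 (by decide +kernel) (by decide +kernel) (by decide +kernel) (by decide +kernel) (by decide +kernel)
  have hB2 := isSteinerSystem_imageSys hB1 τ₁
  have e1 : insert (6 : Fin 11) (decF 11 39) = decF 11 103 := by decide +kernel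
  rw [e1] at h1
  have h1a := h1P (decF 11 31) (by simp)
  obtain ⟨τ₂, h2P, h2⟩ := exists_perm_wlog (t := 4) hB2 [decF 11 31, decF 11 103]
    (by
      intro p hp
      simp only [List.mem_cons, List.not_mem_nil, or_false] at hp
      rcases hp with rfl | rfl
      · exact h1a
      · exact h1)
    (decF 11 135) (decF 11 0x700) 8 (by decide +kernel) (by decide +kernel) (by decide +kernel) (by decide +kernel) (by decide +kernel)
  have hB3 := isSteinerSystem_imageSys hB2 τ₂
  have e2 : insert (8 : Fin 11) (decF 11 135) = decF 11 391 := by decide +kernel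
  rw [e2] at h2
  have h2a := h2P (decF 11 31) (by simp)
  have h2b := h2P (decF 11 103) (by simp)
  have hfin : SetSystemIso (imageSys τ₂ (imageSys τ₁ (imageSys τ₀ B))) (sysOf 11 S4511.refH) := by
    apply S4511.iso_ref _ hB3
    intro p hp
    simp only [S4511.P0, List.mem_cons, List.not_mem_nil, or_false] at hp
    rcases hp with rfl | rfl | rfl
    · exact ⟨_, h2, encF_decF (by norm_num)⟩
    · exact ⟨_, h2b, encF_decF (by norm_num)⟩
    · exact ⟨_, h2a, encF_decF (by norm_num)⟩
  exact setSystemIso_trans (setSystemIso_imageSys τ₀ B)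
    (setSystemIso_trans (setSystemIso_imageSys τ₁ _)
      (setSystemIso_trans (setSystemIso_imageSys τ₂ _) hfin))

/-- Every `S(4, 5, 11)` is isomorphic to the reference system on `Fin 11`. -/
theorem steiner_4511_iso_ref {α : Type*} [Fintype α] [DecidableEq α] (hα : Fintype.card α = 11)
    {B : Set (Finset α)} (hB : IsSteinerSystem 4 5 B) : SetSystemIso B (sysOf 11 S4511.refH) := by
  let e := Fintype.equivFinOfCardEq hα
  have h1 : SetSystemIso B ((fun b => b.image e) '' B) := ⟨e, rfl⟩
  exact setSystemIso_trans h1 (iso_ref_4511 _ (steiner_image hB e))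


/-- Uniqueness of `S(4, 5, 11)` (this is statement S0411). -/
theorem steiner_4511_unique {α β : Type*} [Fintype α] [DecidableEq α] [Fintype β] [DecidableEq β]
    (hα : Fintype.card α = 11) (hβ : Fintype.card β = 11) {B : Set (Finset α)} {B' : Set (Finset β)}
    (hB : IsSteinerSystem 4 5 B) (hB' : IsSteinerSystem 4 5 B') : SetSystemIso B B' :=
  setSystemIso_trans (steiner_4511_iso_ref hα hB) (setSystemIso_symm (steiner_4511_iso_ref hβ hB'))

end Cfsg.Agent.Lib.Helper7
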