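import Cfsg.Agent.Lib.Helper7.Steiner5612Aut
import Cfsg.Agent.Lib.Helper7.Steiner4511Rigid
import Cfsg.Agent.Lib.Helper7.SteinerUnique4511
import Cfsg.Agent.Lib.Helper7.SteinerDerived

/-!
# The automorphism group of a Steiner system `S(4, 5, 11)` is sharply 4-transitive
-/

set_option autoImplicit false

namespace Cfsg.Agent.Lib.Helper7
open Cfsg

/-- The automorphism group of any `S(4, 5, 11)` is sharply 4-transitive. -/
theorem aut_4511_sharp {α : Type*} [Fintype α] [DecidableEq α] (hα : Fintype.card α = 11)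
    {B : Set (Finset α)} (hB : IsSteinerSystem 4 5 B) :
    MulAction.IsMultiplyPretransitive (setSystemAut B) α 4 ∧
      ∀ x : Fin 4 ↪ α, MulAction.stabilizer (setSystemAut B) x = ⊥ := by
  have hB2 : IsSteinerSystem 5 6 (sysOf 12 S5612.refH) := S5612.ref_steiner
  have hB1 : IsSteinerSystem 4 5 (derivedSys (sysOf 12 S5612.refH) 0) := derived_steiner hB2 0
  have hcard : Fintype.card {a : Fin 12 // a ≠ 0} = 11 := by decide
  have iso0 : SetSystemIso (derivedSys (sysOf 12 S5612.refH) 0) B :=
    steiner_4511_unique hcard hα hB1 hB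
  have h4 : MulAction.IsMultiplyPretransitive (setSystemAut B) α 4 := by
    have h5 := (aut_5612_sharp (by simp) hB2).1
    have := derived_pretransitive (B := sysOf 12 S5612.refH) 0 4
    exact isMultiplyPretransitive_of_iso iso0 4
  have isoR : SetSystemIso (sysOf 11 S4511.refH) B :=
    setSystemIso_symm (steiner_4511_iso_ref hα hB)
  obtain ⟨x₀, hx₀⟩ := S4511.exists_rigid
  obtain ⟨y₀, hy₀⟩ := exists_rigid_of_iso isoR x₀ hx₀
  exact ⟨h4, stabilizer_eq_bot_of_rigid y₀ hy₀⟩

end Cfsg.Agent.Lib.Helper7
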