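import Cfsg.Agent.Lib.Helper7.Steiner5612Data
import Cfsg.Agent.Lib.Helper7.SteinerAut

/-!
# Rigidity of the reference Steiner system `S(5, 6, 12)`

An automorphism fixing the points `0, ..., 4` is the identity.
AUTO-GENERATED by scratch/aut_cert.py; everything is re-checked here by the kernel.
-/

set_option autoImplicit false

namespace Cfsg.Agent.Lib.Helper7.S5612
open Cfsg Cfsg.Agent.Lib.Helper7

theorem ref_steiner : IsSteinerSystem 5 6 (sysOf 12 refH) :=
  isSteinerSystem_sysOf tsT ksT refH tsT_eq ksT_eq refH_ok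

set_option maxRecDepth 100000 in
theorem aut_ref_rigid (g : Equiv.Perm (Fin 12)) (hg : g ∈ setSystemAut (sysOf 12 refH))
    (h0 : g 0 = 0) (h1 : g 1 = 1) (h2 : g 2 = 2) (h3 : g 3 = 3) (h4 : g 4 = 4) : g = 1 := by
  have hB := ref_steiner
  have k0 : Known g [(0, 0), (1, 1), (2, 2), (3, 3), (4, 4)] :=
    known_cons 0 0 (by rw [h0]; rfl) (known_cons 1 1 (by rw [h1]; rfl) (known_cons 2 2 (by rw [h2]; rfl) (known_cons 3 3 (by rw [h3]; rfl) (known_cons 4 4 (by rw [h4]; rfl) (known_nil g)))))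
  have h5 : ((g ⟨5, by norm_num⟩ : Fin 12) : ℕ) = 5 :=
    known_step hB hg k0 (m := 63) (m' := 63) (y := 5) (y' := 5) (by decide +kernel) _
  obtain ⟨⟨v, hv12⟩, hv⟩ : ∃ v : Fin 12, g 6 = v := ⟨_, rfl⟩
  have k1 : Known g [(0, 0), (1, 1), (2, 2), (3, 3), (4, 4), (5, 5), (6, v)] :=
    known_cons 0 0 (by rw [h0]; rfl) (known_cons 1 1 (by rw [h1]; rfl) (known_cons 2 2 (by rw [h2]; rfl) (known_cons 3 3 (by rw [h3]; rfl) (known_cons 4 4 (by rw [h4]; rfl) (known_cons 5 5 h5 (known_cons 6 v (by rw [hv]) (known_nil g)))))))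
  interval_cases v
  · exact absurd (g.injective (hv.trans h0.symm)) (by decide)
  · exact absurd (g.injective (hv.trans h1.symm)) (by decide)
  · exact absurd (g.injective (hv.trans h2.symm)) (by decide)
  · exact absurd (g.injective (hv.trans h3.symm)) (by decide)
  · exact absurd (g.injective (hv.trans h4.symm)) (by decide)
  · have h5' : g 5 = 5 := Fin.ext h5
    exact absurd (g.injective (hv.trans h5'.symm)) (by decide)
  · have h7 : ((g ⟨7, by norm_num⟩ : Fin 12) : ℕ) = 7 :=
      known_step hB hg k1 (m := 207) (m' := 207) (y := 7) (y' := 7) (by decide +kernel) _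
    have h8 : ((g ⟨8, by norm_num⟩ : Fin 12) : ℕ) = 8 :=
      known_step hB hg k1 (m := 343) (m' := 343) (y := 8) (y' := 8) (by decide +kernel) _
    have h9 : ((g ⟨9, by norm_num⟩ : Fin 12) : ℕ) = 9 :=
      known_step hB hg k1 (m := 603) (m' := 603) (y := 9) (y' := 9) (by decide +kernel) _
    have h10 : ((g ⟨10, by norm_num⟩ : Fin 12) : ℕ) = 10 :=
      known_step hB hg k1 (m := 1131) (m' := 1131) (y := 10) (y' := 10) (by decide +kernel) _
    have h11 : ((g ⟨11, by norm_num⟩ : Fin 12) : ℕ) = 11 :=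
      known_step hB hg k1 (m := 2151) (m' := 2151) (y := 11) (y' := 11) (by decide +kernel) _
    have hall : ∀ i : Fin 12, ((g i : Fin 12) : ℕ) = i := by
      rintro ⟨i, hi⟩
      interval_cases i
      · rw [show (⟨0, hi⟩ : Fin 12) = 0 from rfl, h0]
      · rw [show (⟨1, hi⟩ : Fin 12) = 1 from rfl, h1]
      · rw [show (⟨2, hi⟩ : Fin 12) = 2 from rfl, h2]
      · rw [show (⟨3, hi⟩ : Fin 12) = 3 from rfl, h3]
      · rw [show (⟨4, hi⟩ : Fin 12) = 4 from rfl, h4]
      · exact h5
      · rw [show (⟨6, hi⟩ : Fin 12) = 6 from rfl, hv]; rfl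
      · exact h7
      · exact h8
      · exact h9
      · exact h10
      · exact h11
    exact Equiv.ext fun i => Fin.ext (hall i)
  · have a : ((g ⟨8, by norm_num⟩ : Fin 12) : ℕ) = 10 :=
      known_step hB hg k1 (m := 343) (m' := 1175) (y := 8) (y' := 10) (by decide +kernel) _
    have b : ((g ⟨8, by norm_num⟩ : Fin 12) : ℕ) = 11 :=
      known_step hB hg k1 (m := 365) (m' := 2221) (y := 8) (y' := 11) (by decide +kernel) _
    omega
  · have a : ((g ⟨7, by norm_num⟩ : Fin 12) : ℕ) = 9 :=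
      known_step hB hg k1 (m := 207) (m' := 783) (y := 7) (y' := 9) (by decide +kernel) _
    have b : ((g ⟨7, by norm_num⟩ : Fin 12) : ℕ) = 11 :=
      known_step hB hg k1 (m := 243) (m' := 2355) (y := 7) (y' := 11) (by decide +kernel) _
    omega
  · have a : ((g ⟨7, by norm_num⟩ : Fin 12) : ℕ) = 8 :=
      known_step hB hg k1 (m := 207) (m' := 783) (y := 7) (y' := 8) (by decide +kernel) _
    have b : ((g ⟨7, by norm_num⟩ : Fin 12) : ℕ) = 10 :=
      known_step hB hg k1 (m := 243) (m' := 1587) (y := 7) (y' := 10) (by decide +kernel) _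
    omega
  · have a : ((g ⟨7, by norm_num⟩ : Fin 12) : ℕ) = 11 :=
      known_step hB hg k1 (m := 207) (m' := 3087) (y := 7) (y' := 11) (by decide +kernel) _
    have b : ((g ⟨7, by norm_num⟩ : Fin 12) : ℕ) = 9 :=
      known_step hB hg k1 (m := 243) (m' := 1587) (y := 7) (y' := 9) (by decide +kernel) _
    omega
  · have a : ((g ⟨7, by norm_num⟩ : Fin 12) : ℕ) = 10 :=
      known_step hB hg k1 (m := 207) (m' := 3087) (y := 7) (y' := 10) (by decide +kernel) _
    have b : ((g ⟨7, by norm_num⟩ : Fin 12) : ℕ) = 8 :=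
      known_step hB hg k1 (m := 243) (m' := 2355) (y := 7) (y' := 8) (by decide +kernel) _
    omega

/-- An automorphism of the reference system fixing `0, ..., 4` is trivial. -/
theorem exists_rigid : ∃ x₀ : Fin 5 ↪ Fin 12, ∀ g ∈ setSystemAut (sysOf 12 refH),
    (∀ i, g (x₀ i) = x₀ i) → g = 1 :=
  ⟨Fin.castLEEmb (by norm_num), fun g hg h => aut_ref_rigid g hg (h 0) (h 1) (h 2) (h 3) (h 4)⟩

end Cfsg.Agent.Lib.Helper7.S5612
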