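import Cfsg.Agent.Lib.Helper7.Steiner5612Data
import Cfsg.Agent.Lib.Helper7.SteinerWlog

/-!
# Uniqueness of the Steiner system `S(5, 6, 12)`
-/

set_option autoImplicit false

namespace Cfsg.Agent.Lib.Helper7
open Cfsg

/-- Every `S(5, 6, 12)` on `Fin 12` is isomorphic to the reference system. -/
theorem iso_ref_5612 (B : Set (Finset (Fin 12))) (hB : IsSteinerSystem 5 6 B) :
    SetSystemIso B (sysOf 12 S5612.refH) := by
  -- step 0: the block through {0,1,2,3,4} becomes {0,...,5}
  obtain ⟨τ₀, -, h0⟩ := exists_perm_wlog_mask (n := 12) (t := 5) hB [] (by simp) 31 0xFE0 5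
    (by norm_num) (by decide +kernel) (by simp) (by decide +kernel) (by decide +kernel)
    (by decide +kernel)
  have hB1 := isSteinerSystem_imageSys hB τ₀
  have e0 : (31 ||| 2 ^ ((5 : Fin 12) : ℕ)) = 63 := by decide
  rw [e0] at h0
  -- step 1: the block through {0,1,2,3,6} becomes {0,1,2,3,6,7}
  obtain ⟨τ₁, h1P, h1⟩ := exists_perm_wlog_mask (n := 12) (t := 5) hB1 [63]
    (by
      intro p hp
      simp only [List.mem_cons, List.not_mem_nil, or_false] at hp
      subst hp
      exact ⟨by norm_num, h0⟩)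
    79 0xF80 7 (by norm_num) (by decide +kernel) (by decide +kernel) (by decide +kernel)
    (by decide +kernel) (by decide +kernel)
  have hB2 := isSteinerSystem_imageSys hB1 τ₁
  have e1 : (79 ||| 2 ^ ((7 : Fin 12) : ℕ)) = 207 := by decide
  rw [e1] at h1
  have h1a := h1P 63 (by simp)
  -- step 2: the block through {0,1,2,3,8} becomes {0,1,2,3,8,9}
  obtain ⟨τ₂, h2P, h2⟩ := exists_perm_wlog_mask (n := 12) (t := 5) hB2 [63, 207]
    (by
      intro p hp
      simp only [List.mem_cons, List.not_mem_nil, or_false] at hp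
      rcases hp with rfl | rfl
      · exact ⟨by norm_num, h1a⟩
      · exact ⟨by norm_num, h1⟩)
    271 0xE00 9 (by norm_num) (by decide +kernel) (by decide +kernel) (by decide +kernel)
    (by decide +kernel) (by decide +kernel)
  have hB3 := isSteinerSystem_imageSys hB2 τ₂
  have e2 : (271 ||| 2 ^ ((9 : Fin 12) : ℕ)) = 783 := by decide
  rw [e2] at h2
  have h2a := h2P 63 (by simp)
  have h2b := h2P 207 (by simp)
  have hfin : SetSystemIso (imageSys τ₂ (imageSys τ₁ (imageSys τ₀ B))) (sysOf 12 S5612.refH) := by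
    apply S5612.iso_ref _ hB3
    intro p hp
    simp only [S5612.P0, List.mem_cons, List.not_mem_nil, or_false] at hp
    rcases hp with rfl | rfl | rfl
    · exact ⟨_, h2, encF_decF (by norm_num)⟩
    · exact ⟨_, h2b, encF_decF (by norm_num)⟩
    · exact ⟨_, h2a, encF_decF (by norm_num)⟩
  exact setSystemIso_trans (setSystemIso_imageSys τ₀ B)
    (setSystemIso_trans (setSystemIso_imageSys τ₁ _)
      (setSystemIso_trans (setSystemIso_imageSys τ₂ _) hfin))

/-- Every `S(5, 6, 12)` is isomorphic to the reference system on `Fin 12`. -/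
theorem steiner_5612_iso_ref {α : Type*} [Fintype α] [DecidableEq α] (hα : Fintype.card α = 12)
    {B : Set (Finset α)} (hB : IsSteinerSystem 5 6 B) : SetSystemIso B (sysOf 12 S5612.refH) := by
  let e := Fintype.equivFinOfCardEq hα
  have h1 : SetSystemIso B ((fun b => b.image e) '' B) := ⟨e, rfl⟩
  exact setSystemIso_trans h1 (iso_ref_5612 _ (steiner_image hB e))


/-- Uniqueness of `S(5, 6, 12)` (this is statement S0408). -/
theorem steiner_5612_unique {α β : Type*} [Fintype α] [DecidableEq α] [Fintype β] [DecidableEq β]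
    (hα : Fintype.card α = 12) (hβ : Fintype.card β = 12) {B : Set (Finset α)} {B' : Set (Finset β)}
    (hB : IsSteinerSystem 5 6 B) (hB' : IsSteinerSystem 5 6 B') : SetSystemIso B B' :=
  setSystemIso_trans (steiner_5612_iso_ref hα hB) (setSystemIso_symm (steiner_5612_iso_ref hβ hB'))

end Cfsg.Agent.Lib.Helper7
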