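import Cfsg.Agent.Lib.Helper7.HexadAut
import Cfsg.Agent.Lib.Helper7.Steiner5612Rigid
import Cfsg.Agent.Lib.Helper7.SteinerUnique5612

/-!
# The automorphism group of a Steiner system `S(5, 6, 12)` is sharply 5-transitive
-/

set_option autoImplicit false

namespace Cfsg.Agent.Lib.Helper7
open Cfsg

theorem card_subtype_d0 : Fintype.card {p : GolayPt // p ∈ d0} = 12 := by
  rw [Fintype.card_coe]
  exact d0_mem_dodecads.2

/-- The automorphism group of any `S(5, 6, 12)` is sharply 5-transitive. -/
theorem aut_5612_sharp {α : Type*} [Fintype α] [DecidableEq α] (hα : Fintype.card α = 12)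
    {B : Set (Finset α)} (hB : IsSteinerSystem 5 6 B) :
    MulAction.IsMultiplyPretransitive (setSystemAut B) α 5 ∧
      ∀ x : Fin 5 ↪ α, MulAction.stabilizer (setSystemAut B) x = ⊥ := by
  have iso0 : SetSystemIso (hexads d0) B :=
    steiner_5612_unique card_subtype_d0 hα (hexads_steiner d0_mem_dodecads) hB
  haveI h5 : MulAction.IsMultiplyPretransitive (setSystemAut B) α 5 := by
    haveI := hexads_aut_pretransitive d0_mem_dodecads
    exact isMultiplyPretransitive_of_iso iso0 5
  have isoR : SetSystemIso (sysOf 12 S5612.refH) B :=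
    setSystemIso_symm (steiner_5612_iso_ref hα hB)
  obtain ⟨x₀, hx₀⟩ := S5612.exists_rigid
  obtain ⟨y₀, hy₀⟩ := exists_rigid_of_iso isoR x₀ hx₀
  exact ⟨h5, stabilizer_eq_bot_of_rigid y₀ hy₀⟩

end Cfsg.Agent.Lib.Helper7
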