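import Cfsg.Agent.Lib.Helper7.Steiner5612Tables

/-!
# Certificates for the uniqueness of the Steiner system `S(5, 6, 12)`

AUTO-GENERATED by scratch/gen_steiner.py; everything is re-checked here by the kernel.
-/

set_option autoImplicit false

namespace Cfsg.Agent.Lib.Helper7.S5612
open Cfsg Cfsg.Agent.Lib.Helper7

set_option maxRecDepth 1000000 in
/-- The isomorphisms of the leaves of the search onto the reference system. -/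
@[irreducible] def certs : List (List ℕ) :=
  [
   [0, 1, 2, 3, 4, 5, 6, 7, 8, 9, 10, 11],
   [0, 1, 2, 3, 4, 5, 7, 6, 10, 11, 8, 9],
   [0, 1, 2, 3, 4, 5, 11, 10, 9, 8, 7, 6],
   [0, 1, 2, 3, 4, 5, 9, 8, 11, 10, 6, 7],
   [0, 1, 2, 3, 4, 5, 10, 11, 7, 6, 9, 8],
   [0, 1, 2, 3, 4, 5, 8, 9, 6, 7, 11, 10],
   [0, 1, 2, 3, 4, 5, 7, 6, 10, 11, 9, 8],
   [0, 1, 2, 3, 4, 5, 6, 7, 8, 9, 11, 10],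
   [0, 1, 2, 3, 4, 5, 10, 11, 7, 6, 8, 9],
   [0, 1, 2, 3, 4, 5, 8, 9, 6, 7, 10, 11],
   [0, 1, 2, 3, 4, 5, 11, 10, 9, 8, 6, 7],
   [0, 1, 2, 3, 4, 5, 9, 8, 11, 10, 7, 6],
   [0, 1, 2, 3, 4, 5, 6, 7, 9, 8, 10, 11],
   [0, 1, 2, 3, 4, 5, 7, 6, 11, 10, 8, 9],
   [0, 1, 2, 3, 4, 5, 11, 10, 8, 9, 7, 6],
   [0, 1, 2, 3, 4, 5, 9, 8, 10, 11, 6, 7],
   [0, 1, 2, 3, 4, 5, 10, 11, 6, 7, 9, 8],
   [0, 1, 2, 3, 4, 5, 8, 9, 7, 6, 11, 10],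
   [0, 1, 2, 3, 4, 5, 7, 6, 11, 10, 9, 8],
   [0, 1, 2, 3, 4, 5, 6, 7, 9, 8, 11, 10],
   [0, 1, 2, 3, 4, 5, 10, 11, 6, 7, 8, 9],
   [0, 1, 2, 3, 4, 5, 8, 9, 7, 6, 10, 11],
   [0, 1, 2, 3, 4, 5, 11, 10, 8, 9, 6, 7],
   [0, 1, 2, 3, 4, 5, 9, 8, 10, 11, 7, 6],
   [0, 1, 2, 3, 4, 5, 9, 8, 6, 7, 11, 10],
   [0, 1, 2, 3, 4, 5, 11, 10, 7, 6, 9, 8],
   [0, 1, 2, 3, 4, 5, 8, 9, 11, 10, 6, 7],
   [0, 1, 2, 3, 4, 5, 10, 11, 9, 8, 7, 6],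
   [0, 1, 2, 3, 4, 5, 6, 7, 10, 11, 8, 9],
   [0, 1, 2, 3, 4, 5, 7, 6, 8, 9, 10, 11],
   [0, 1, 2, 3, 4, 5, 8, 9, 10, 11, 6, 7],
   [0, 1, 2, 3, 4, 5, 10, 11, 8, 9, 7, 6],
   [0, 1, 2, 3, 4, 5, 9, 8, 7, 6, 11, 10],
   [0, 1, 2, 3, 4, 5, 11, 10, 6, 7, 9, 8],
   [0, 1, 2, 3, 4, 5, 7, 6, 9, 8, 10, 11],
   [0, 1, 2, 3, 4, 5, 6, 7, 11, 10, 8, 9],
   [0, 1, 2, 3, 4, 5, 9, 8, 6, 7, 10, 11],
   [0, 1, 2, 3, 4, 5, 11, 10, 7, 6, 8, 9],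
   [0, 1, 2, 3, 4, 5, 8, 9, 11, 10, 7, 6],
   [0, 1, 2, 3, 4, 5, 10, 11, 9, 8, 6, 7],
   [0, 1, 2, 3, 4, 5, 6, 7, 10, 11, 9, 8],
   [0, 1, 2, 3, 4, 5, 7, 6, 8, 9, 11, 10],
   [0, 1, 2, 3, 4, 5, 8, 9, 10, 11, 7, 6],
   [0, 1, 2, 3, 4, 5, 10, 11, 8, 9, 6, 7],
   [0, 1, 2, 3, 4, 5, 9, 8, 7, 6, 10, 11],
   [0, 1, 2, 3, 4, 5, 11, 10, 6, 7, 8, 9],
   [0, 1, 2, 3, 4, 5, 7, 6, 9, 8, 11, 10],
   [0, 1, 2, 3, 4, 5, 6, 7, 11, 10, 9, 8]]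
set_option maxRecDepth 1000000 in
theorem leaves_ok :
    leavesOK 12 refBits (search candT 0 cov0 P0) certs = true := by
  decide +kernel

/-- Every Steiner system `S(5, 6, 12)` on `Fin 12` containing the three blocks of `P0` is isomorphic to the
reference system. -/
theorem iso_ref (B : Set (Finset (Fin 12))) (hB : IsSteinerSystem 5 6 B)
    (hP0 : ∀ p ∈ P0, ∃ b ∈ B, encF b = p) : SetSystemIso B (sysOf 12 refH) :=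
  setSystemIso_ref (by decide) tsT ksT refH candT refBits P0 certs tsT_eq ksT_eq candT_eq refH_ok
    refBits_eq cov0 cov0_eq leaves_ok B hB hP0

end Cfsg.Agent.Lib.Helper7.S5612
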