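import Mathlib
import Cfsg.Prelude.Def_Sporadic_a

/-!
# Bitmask encoding of subsets of `Fin n`, and basic facts on Steiner systems
-/

set_option autoImplicit false
set_option linter.unusedSectionVars false

namespace Cfsg.Agent.Lib.Helper7
open Cfsg

section Enc
variable {n : ℕ}

/-- The mask of a subset of `Fin n`. -/
def encF (s : Finset (Fin n)) : ℕ := Nat.ofBits (fun i : Fin n => decide (i ∈ s))

/-- The subset of `Fin n` encoded by a mask. -/
def decF (n : ℕ) (m : ℕ) : Finset (Fin n) := Finset.univ.filter fun i => m.testBit i = true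

theorem testBit_encF (s : Finset (Fin n)) (i : Fin n) : (encF s).testBit i = decide (i ∈ s) := by
  unfold encF
  rw [Nat.testBit_ofBits_lt _ _ i.isLt]

theorem testBit_encF_nat (s : Finset (Fin n)) {i : ℕ} (hi : i < n) :
    (encF s).testBit i = decide ((⟨i, hi⟩ : Fin n) ∈ s) :=
  testBit_encF s ⟨i, hi⟩

theorem encF_lt (s : Finset (Fin n)) : encF s < 2 ^ n := Nat.ofBits_lt_two_pow _

theorem testBit_encF_ge (s : Finset (Fin n)) {i : ℕ} (hi : n ≤ i) : (encF s).testBit i = false :=
  Nat.testBit_lt_two_pow (lt_of_lt_of_le (encF_lt s) (Nat.pow_le_pow_right (by decide) hi))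

theorem mem_decF {m : ℕ} {i : Fin n} : i ∈ decF n m ↔ m.testBit i = true := by
  simp [decF]

theorem decF_encF (s : Finset (Fin n)) : decF n (encF s) = s := by
  ext i
  rw [mem_decF, testBit_encF]
  simp

theorem encF_decF {m : ℕ} (hm : m < 2 ^ n) : encF (decF n m) = m := by
  apply Nat.eq_of_testBit_eq
  intro i
  by_cases hi : i < n
  · rw [testBit_encF_nat _ hi]
    simp [mem_decF]
  · have hi' : n ≤ i := by omega
    rw [testBit_encF_ge _ hi',
      Nat.testBit_lt_two_pow (lt_of_lt_of_le hm (Nat.pow_le_pow_right (by decide) hi'))]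

theorem encF_injective : Function.Injective (encF (n := n)) := by
  intro s s' h
  rw [← decF_encF s, ← decF_encF s', h]

/-- Submask relation. -/
def subM (a b : ℕ) : Bool := Nat.beq (Nat.land a b) a

theorem subM_encF (s s' : Finset (Fin n)) : subM (encF s) (encF s') = true ↔ s ⊆ s' := by
  unfold subM
  rw [Nat.beq_eq, Nat.land_eq]
  constructor
  · intro h i hi
    have := congrArg (fun m => m.testBit i) h
    simp only [Nat.testBit_and, testBit_encF] at this
    simpa [hi] using this
  · intro h
    apply Nat.eq_of_testBit_eq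
    intro i
    rw [Nat.testBit_and]
    by_cases hi : i < n
    · rw [testBit_encF_nat _ hi, testBit_encF_nat _ hi]
      by_cases hs : (⟨i, hi⟩ : Fin n) ∈ s
      · simp [hs, h hs]
      · simp [hs]
    · have hi' : n ≤ i := by omega
      rw [testBit_encF_ge _ hi']
      simp

/-- Number of one bits among the lowest `n` bits. -/
def popc (n m : ℕ) : ℕ := ((List.range n).filter fun i => m.testBit i).length

theorem card_eq_popc (s : Finset (Fin n)) : s.card = popc n (encF s) := by
  unfold popc
  rw [← Finset.card_map Fin.valEmbedding]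
  have h2 : s.map Fin.valEmbedding = (Finset.range n).filter fun i => (encF s).testBit i = true := by
    ext i
    simp only [Finset.mem_map, Fin.valEmbedding_apply, Finset.mem_filter, Finset.mem_range]
    constructor
    · rintro ⟨j, hj, rfl⟩
      refine ⟨j.isLt, ?_⟩
      rw [testBit_encF]; simpa using hj
    · rintro ⟨hi, hm⟩
      rw [testBit_encF_nat _ hi] at hm
      exact ⟨⟨i, hi⟩, by simpa using hm, rfl⟩
  rw [h2, ← List.toFinset_range, ← List.toFinset_filter,
    List.toFinset_card_of_nodup (List.nodup_range.filter _)]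

/-- All masks below `2^n` with `c` one bits. -/
def subsetsOfCard (n c : ℕ) : List ℕ := (List.range (2 ^ n)).filter fun m => popc n m == c

theorem encF_mem_subsetsOfCard (s : Finset (Fin n)) : encF s ∈ subsetsOfCard n s.card := by
  unfold subsetsOfCard
  rw [List.mem_filter, List.mem_range, beq_iff_eq]
  exact ⟨encF_lt s, (card_eq_popc s).symm⟩

end Enc

/-! ### Steiner systems -/

section Steiner
variable {α : Type*}

/-- The block through a `t`-subset. -/
theorem steiner_exists_block {t k : ℕ} {B : Set (Finset α)} (hB : IsSteinerSystem t k B)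
    {s : Finset α} (hs : s.card = t) : ∃ b ∈ B, s ⊆ b := by
  obtain ⟨b, hb, _⟩ := hB.2 s hs
  exact ⟨b, hb.1, hb.2⟩

theorem steiner_block_unique {t k : ℕ} {B : Set (Finset α)} (hB : IsSteinerSystem t k B)
    {s : Finset α} (hs : s.card = t) {b b' : Finset α} (hb : b ∈ B) (hb' : b' ∈ B) (hsb : s ⊆ b)
    (hsb' : s ⊆ b') : b = b' := by
  obtain ⟨c, _, hc⟩ := hB.2 s hs
  rw [hc b ⟨hb, hsb⟩, hc b' ⟨hb', hsb'⟩]

variable [DecidableEq α]

/-- A Steiner system contained in another one with the same parameters is equal to it. -/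
theorem steiner_eq_of_subset {t k : ℕ} (htk : t ≤ k) {B B' : Set (Finset α)}
    (hB : IsSteinerSystem t k B) (hB' : IsSteinerSystem t k B') (h : B ⊆ B') : B = B' := by
  apply Set.Subset.antisymm h
  intro b' hb'
  have hcard : t ≤ b'.card := by rw [hB'.1 b' hb']; exact htk
  obtain ⟨s, hsb', hs⟩ := Finset.exists_subset_card_eq hcard
  obtain ⟨b, hb, hsb⟩ := steiner_exists_block hB hs
  have : b = b' := steiner_block_unique hB' hs (h hb) hb' hsb hsb'
  rwa [← this]

/-- The image of a Steiner system under a bijection is a Steiner system. -/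
theorem steiner_image {β : Type*} [DecidableEq β] {t k : ℕ} {B : Set (Finset α)}
    (hB : IsSteinerSystem t k B) (e : α ≃ β) :
    IsSteinerSystem t k ((fun b => b.image e) '' B) := by
  constructor
  · rintro _ ⟨b, hb, rfl⟩
    rw [Finset.card_image_of_injective _ e.injective]
    exact hB.1 b hb
  · intro s hs
    have hs' : (s.image e.symm).card = t := by
      rw [Finset.card_image_of_injective _ e.symm.injective]; exact hs
    obtain ⟨b, hb, hbu⟩ := hB.2 _ hs'
    refine ⟨b.image e, ⟨⟨b, hb.1, rfl⟩, ?_⟩, ?_⟩
    · intro x hx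
      rw [Finset.mem_image]
      exact ⟨e.symm x, hb.2 (Finset.mem_image_of_mem _ hx), by simp⟩
    · rintro _ ⟨⟨c, hc, rfl⟩, hsc⟩
      have : c = b := by
        apply hbu c ⟨hc, ?_⟩
        intro y hy
        rw [Finset.mem_image] at hy
        obtain ⟨x, hx, rfl⟩ := hy
        have := hsc hx
        rw [Finset.mem_image] at this
        obtain ⟨z, hz, hzx⟩ := this
        have : z = e.symm x := by rw [← hzx]; simp
        rwa [← this]
      rw [this]

theorem setSystemIso_refl (B : Set (Finset α)) : SetSystemIso B B :=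
  ⟨Equiv.refl α, by simp⟩

theorem setSystemIso_symm {β : Type*} [DecidableEq β] {B : Set (Finset α)} {B' : Set (Finset β)}
    (h : SetSystemIso B B') : SetSystemIso B' B := by
  obtain ⟨e, he⟩ := h
  refine ⟨e.symm, ?_⟩
  rw [← he, Set.image_image]
  have : (fun x : Finset α => (x.image e).image e.symm) = id := by
    funext x
    rw [Finset.image_image]
    simp
  rw [this, Set.image_id]

theorem setSystemIso_trans {β γ : Type*} [DecidableEq β] [DecidableEq γ] {B : Set (Finset α)}
    {B' : Set (Finset β)} {B'' : Set (Finset γ)} (h : SetSystemIso B B')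
    (h' : SetSystemIso B' B'') : SetSystemIso B B'' := by
  obtain ⟨e, he⟩ := h
  obtain ⟨e', he'⟩ := h'
  refine ⟨e.trans e', ?_⟩
  rw [← he', ← he, Set.image_image]
  congr 1
  funext x
  rw [Finset.image_image]
  rfl

end Steiner

end Cfsg.Agent.Lib.Helper7
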