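import Cfsg.Agent.Lib.Helper7.SteinerDerived

/-!
# Extending an isomorphism of derived systems to the ambient point sets
-/

set_option autoImplicit false

namespace Cfsg.Agent.Lib.Helper7
open Cfsg

section
variable {α β : Type*} [DecidableEq α] [DecidableEq β]

/-- Extend an equivalence between the complements of two points to the whole types. -/
def extendNe (p : α) (q : β) (e₀ : {a : α // a ≠ p} ≃ {b : β // b ≠ q}) : α ≃ β where
  toFun a := if h : a = p then q else (e₀ ⟨a, h⟩ : β)
  invFun b := if h : b = q then p else (e₀.symm ⟨b, h⟩ : α)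
  left_inv a := by
    by_cases h : a = p
    · simp [h]
    · have h2 : (e₀ ⟨a, h⟩ : β) ≠ q := (e₀ ⟨a, h⟩).2
      simp [h, h2]
  right_inv b := by
    by_cases h : b = q
    · simp [h]
    · have h2 : (e₀.symm ⟨b, h⟩ : α) ≠ p := (e₀.symm ⟨b, h⟩).2
      simp [h, h2]

theorem extendNe_apply_self (p : α) (q : β) (e₀ : {a : α // a ≠ p} ≃ {b : β // b ≠ q}) :
    extendNe p q e₀ p = q := by
  simp [extendNe]

theorem extendNe_apply_ne (p : α) (q : β) (e₀ : {a : α // a ≠ p} ≃ {b : β // b ≠ q}) {a : α}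
    (h : a ≠ p) : extendNe p q e₀ a = (e₀ ⟨a, h⟩ : β) := by
  simp [extendNe, h]

/-- If the derived systems of `B` at `p` and of `B'` at `q` are isomorphic, then some bijection
mapping `p` to `q` carries the blocks of `B` through `p` onto the blocks of `B'` through `q`. -/
theorem exists_equiv_of_derived_iso {B : Set (Finset α)} {B' : Set (Finset β)} (p : α) (q : β)
    (h : SetSystemIso (derivedSys B p) (derivedSys B' q)) :
    ∃ e : α ≃ β, e p = q ∧ ∀ b' ∈ B', q ∈ b' → b' ∈ (fun b => b.image e) '' B := by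
  obtain ⟨e₀, he₀⟩ := h
  refine ⟨extendNe p q e₀, extendNe_apply_self p q e₀, ?_⟩
  intro b' hb' hqb'
  have hl' : Finset.subtype (fun a => a ≠ q) b' ∈ derivedSys B' q := ⟨b', hb', hqb', rfl⟩
  rw [← he₀] at hl'
  obtain ⟨l, ⟨b, hb, hpb, rfl⟩, hl⟩ := hl'
  refine ⟨b, hb, ?_⟩
  ext i
  simp only [Finset.mem_image]
  by_cases hi : i = q
  · subst hi
    exact ⟨fun _ => hqb', fun _ => ⟨p, hpb, extendNe_apply_self p _ e₀⟩⟩
  · have key : (⟨i, hi⟩ : {b : β // b ≠ q}) ∈ Finset.subtype (fun a => a ≠ q) b' ↔ i ∈ b' := by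
      rw [Finset.mem_subtype]
    rw [← key, ← hl]
    simp only [Finset.mem_image, Finset.mem_subtype]
    constructor
    · rintro ⟨a, hab, hai⟩
      have hap : a ≠ p := by
        rintro rfl
        rw [extendNe_apply_self] at hai
        exact hi hai.symm
      refine ⟨⟨a, hap⟩, hab, ?_⟩
      apply Subtype.ext
      rw [← extendNe_apply_ne p q e₀ hap]
      exact hai
    · rintro ⟨⟨a, hap⟩, hab, hai⟩
      refine ⟨a, hab, ?_⟩
      rw [extendNe_apply_ne p q e₀ hap, hai]

end

end Cfsg.Agent.Lib.Helper7
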