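import Cfsg.Agent.Lib.Helper7.SteinerSearch

/-!
# Certified isomorphisms of Steiner systems on `Fin n` to a reference system
-/

set_option autoImplicit false

namespace Cfsg.Agent.Lib.Helper7
open Cfsg

/-- Image of a mask under the map `i ↦ σ[i]`. -/
def permMask (σ : List ℕ) (n m : ℕ) : ℕ :=
  (List.range n).foldl (fun a i => if m.testBit i then a ||| 2 ^ (σ.getD i 0) else a) 0

theorem testBit_foldl_permMask (σ : List ℕ) (m : ℕ) (l : List ℕ) (a y : ℕ) :
    (l.foldl (fun a i => if m.testBit i then a ||| 2 ^ (σ.getD i 0) else a) a).testBit y = true ↔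
      a.testBit y = true ∨ ∃ i ∈ l, m.testBit i = true ∧ σ.getD i 0 = y := by
  induction l generalizing a with
  | nil => simp
  | cons i l ih =>
    rw [List.foldl_cons, ih]
    by_cases hm : m.testBit i = true
    · simp only [hm, if_true, Nat.testBit_or, Nat.testBit_two_pow, Bool.or_eq_true,
        decide_eq_true_eq, List.mem_cons, exists_eq_or_imp, true_and]
      tauto
    · simp only [hm, if_false, List.mem_cons, exists_eq_or_imp, false_and, false_or]
      simp

theorem testBit_permMask (σ : List ℕ) (n m y : ℕ) :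
    (permMask σ n m).testBit y = true ↔ ∃ i < n, m.testBit i = true ∧ σ.getD i 0 = y := by
  unfold permMask
  rw [testBit_foldl_permMask]
  simp

/-- `σ` is (the table of) a permutation of `{0, …, n-1}`. -/
def validPerm (σ : List ℕ) (n : ℕ) : Bool :=
  σ.length == n && σ.all (fun x => decide (x < n)) && decide σ.Nodup

section
variable {n : ℕ}

theorem validPerm_lt {σ : List ℕ} (h : validPerm σ n = true) (i : Fin n) : σ.getD i 0 < n := by
  simp only [validPerm, Bool.and_eq_true, beq_iff_eq, List.all_eq_true, decide_eq_true_eq] at h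
  obtain ⟨⟨hlen, hall⟩, _⟩ := h
  have hi : (i : ℕ) < σ.length := by rw [hlen]; exact i.isLt
  rw [List.getD_eq_getElem _ _ hi]
  exact hall _ (List.getElem_mem hi)

/-- The permutation of `Fin n` with table `σ`. -/
noncomputable def permOf (σ : List ℕ) (h : validPerm σ n = true) : Equiv.Perm (Fin n) :=
  Equiv.ofBijective (fun i => ⟨σ.getD i 0, validPerm_lt h i⟩) (by
    rw [← Finite.injective_iff_bijective]
    intro i j hij
    simp only [validPerm, Bool.and_eq_true, beq_iff_eq, List.all_eq_true, decide_eq_true_eq] at h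
    obtain ⟨⟨hlen, _⟩, hnd⟩ := h
    have hi : (i : ℕ) < σ.length := by rw [hlen]; exact i.isLt
    have hj : (j : ℕ) < σ.length := by rw [hlen]; exact j.isLt
    have h1 : σ.getD i 0 = σ.getD j 0 := by simpa using congrArg Fin.val hij
    rw [List.getD_eq_getElem _ _ hi, List.getD_eq_getElem _ _ hj] at h1
    exact Fin.ext ((hnd.getElem_inj_iff).mp h1))

theorem permOf_apply (σ : List ℕ) (h : validPerm σ n = true) (i : Fin n) :
    ((permOf σ h) i : ℕ) = σ.getD i 0 := rfl

theorem encF_image_permOf (σ : List ℕ) (h : validPerm σ n = true) (s : Finset (Fin n)) :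
    encF (s.image (permOf σ h)) = permMask σ n (encF s) := by
  apply Nat.eq_of_testBit_eq
  intro y
  apply Bool.eq_iff_iff.mpr
  rw [testBit_permMask]
  by_cases hy : y < n
  · rw [testBit_encF_nat _ hy, decide_eq_true_eq, Finset.mem_image]
    constructor
    · rintro ⟨i, hi, hiy⟩
      refine ⟨i, i.isLt, ?_, ?_⟩
      · rw [testBit_encF]; simpa using hi
      · rw [← permOf_apply σ h i, hiy]
    · rintro ⟨i, hi, hbit, hiy⟩
      rw [testBit_encF_nat _ hi, decide_eq_true_eq] at hbit
      exact ⟨⟨i, hi⟩, hbit, Fin.ext (by rw [permOf_apply]; exact hiy)⟩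
  · have hy' : n ≤ y := by omega
    rw [testBit_encF_ge _ hy']
    simp only [Bool.false_eq_true, false_iff, not_exists, not_and]
    intro i hi _ hiy
    have := validPerm_lt h ⟨i, hi⟩
    simp only at this
    omega

/-- The set system encoded by a list of masks. -/
def sysOf (n : ℕ) (H : List ℕ) : Set (Finset (Fin n)) := {s | encF s ∈ H}

/-- Check that the list `H` of masks is a Steiner system with parameters `t`, `k`. -/
def refOK (tsT ksT H : List ℕ) : Bool :=
  H.all (fun h => ksT.contains h) && tsT.all fun T => (H.filter fun h => subM T h).length == 1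

theorem isSteinerSystem_sysOf {t k : ℕ} (tsT ksT H : List ℕ) (hts : tsOK n t tsT = true)
    (hks : ksT = subsetsOfCard n k) (hok : refOK tsT ksT H = true) :
    IsSteinerSystem t k (sysOf n H) := by
  simp only [refOK, Bool.and_eq_true, List.all_eq_true, List.contains_iff_mem, beq_iff_eq] at hok
  obtain ⟨hk, huniq⟩ := hok
  constructor
  · intro b hb
    have h1 : encF b ∈ subsetsOfCard n k := by rw [← hks]; exact hk _ hb
    have := (mem_subsetsOfCard h1).2
    rwa [decF_encF] at this
  · intro s hs
    have hmem : encF s ∈ tsT := by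
      apply (tsOK_iff hts).2
      rw [← hs]; exact encF_mem_subsetsOfCard s
    have hlen := huniq _ hmem
    obtain ⟨h, hh⟩ := List.length_eq_one_iff.mp hlen
    have hhmem : h ∈ H.filter fun h => subM (encF s) h := by rw [hh]; exact List.mem_singleton_self h
    rw [List.mem_filter] at hhmem
    have hlt : h < 2 ^ n := by
      have h1 : h ∈ subsetsOfCard n k := by rw [← hks]; exact hk _ hhmem.1
      exact (mem_subsetsOfCard h1).1
    refine ⟨decF n h, ⟨?_, ?_⟩, ?_⟩
    · show encF (decF n h) ∈ H
      rw [encF_decF hlt]; exact hhmem.1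
    · rw [← subM_encF, encF_decF hlt]; exact hhmem.2
    · rintro b' ⟨hb', hsb'⟩
      have : encF b' ∈ H.filter fun h => subM (encF s) h := by
        rw [List.mem_filter]
        exact ⟨hb', (subM_encF s b').mpr hsb'⟩
      rw [hh, List.mem_singleton] at this
      rw [← this, decF_encF]

/-- The certificate check for one leaf. -/
def isoOK (n : ℕ) (refBits : ℕ) (L σ : List ℕ) : Bool :=
  validPerm σ n && L.all fun m => refBits.testBit (permMask σ n m)

/-- The certificate check for all leaves. -/
def leavesOK (n : ℕ) (refBits : ℕ) (leaves certs : List (List ℕ)) : Bool :=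
  leaves.length == certs.length && (List.zip leaves certs).all fun p => isoOK n refBits p.1 p.2

theorem exists_cert_of_leavesOK {refBits : ℕ} {leaves certs : List (List ℕ)}
    (h : leavesOK n refBits leaves certs = true) {L : List ℕ} (hL : L ∈ leaves) :
    ∃ σ, isoOK n refBits L σ = true := by
  simp only [leavesOK, Bool.and_eq_true, beq_iff_eq, List.all_eq_true] at h
  obtain ⟨hlen, hall⟩ := h
  obtain ⟨i, hi, rfl⟩ := List.getElem_of_mem hL
  have hi' : i < certs.length := by rw [← hlen]; exact hi
  refine ⟨certs[i], hall (leaves[i], certs[i]) ?_⟩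
  have hz : i < (List.zip leaves certs).length := by
    rw [List.length_zip]; omega
  have := List.getElem_mem hz
  rwa [List.getElem_zip] at this

/-- Main theorem: a Steiner system containing the blocks with masks in `P₀` is isomorphic to the
reference system, given the tables and the certificates. -/
theorem setSystemIso_ref {t k : ℕ} (htk : t ≤ k) (tsT ksT H : List ℕ) (candT : List (List Cand))
    (refBits : ℕ) (P₀ : List ℕ) (certs : List (List ℕ))
    (hts : tsOK n t tsT = true) (hks : ksT = subsetsOfCard n k)
    (hcand : candT = candsDef tsT ksT) (href : refOK tsT ksT H = true)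
    (hbits : refBits = setBits H 0)
    (cov₀ : ℕ) (hcov₀ : cov₀ = covOf tsT P₀)
    (hleaves : leavesOK n refBits (search candT 0 cov₀ P₀) certs = true)
    (B : Set (Finset (Fin n))) (hB : IsSteinerSystem t k B)
    (hP₀ : ∀ p ∈ P₀, ∃ b ∈ B, encF b = p) : SetSystemIso B (sysOf n H) := by
  obtain ⟨L, hL, hLB⟩ := search_sound_init B hB htk tsT ksT hts hks P₀ hP₀
  rw [← hcand, ← hcov₀] at hL
  obtain ⟨σ, hσ⟩ := exists_cert_of_leavesOK hleaves hL
  simp only [isoOK, Bool.and_eq_true, List.all_eq_true] at hσ
  obtain ⟨hvalid, hall⟩ := hσ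
  refine ⟨permOf σ hvalid, ?_⟩
  apply steiner_eq_of_subset htk (steiner_image hB _)
    (isSteinerSystem_sysOf tsT ksT H hts hks href)
  rintro _ ⟨b, hb, rfl⟩
  show encF (b.image (permOf σ hvalid)) ∈ H
  rw [encF_image_permOf]
  have := hall (encF b) ((hLB _).mpr ⟨b, hb, rfl⟩)
  rw [hbits, testBit_setBits] at this
  simpa using this

end

end Cfsg.Agent.Lib.Helper7
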