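import Cfsg.Agent.Lib.Helper7.SteinerEnc

/-!
# A verified exhaustive search for Steiner systems on `Fin n`

The `t`-subsets are listed (as masks) in `tsT`; the search goes through them in order, and for
every `t`-subset not yet covered it branches over all `k`-supersets compatible with the blocks
chosen so far.  `search_sound` says: every Steiner system containing the initial blocks is
(as a set of masks) one of the leaves returned by the search.
-/

set_option autoImplicit false

namespace Cfsg.Agent.Lib.Helper7
open Cfsg

/-- A candidate block: its mask and the mask (over the indices of the `t`-subsets) of the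
`t`-subsets it contains. -/
abbrev Cand := ℕ × ℕ

/-- Set the bits listed in `cl`. -/
def setBits (cl : List ℕ) (cov : ℕ) : ℕ := cl.foldl (fun a j => a ||| 2 ^ j) cov

theorem testBit_setBits (cl : List ℕ) (cov i : ℕ) :
    (setBits cl cov).testBit i = (cov.testBit i || decide (i ∈ cl)) := by
  unfold setBits
  induction cl generalizing cov with
  | nil => simp
  | cons a cl ih =>
    rw [List.foldl_cons, ih, Nat.testBit_or, Nat.testBit_two_pow]
    by_cases h : a = i
    · subst h; simp
    · have h' : ¬ i = a := fun h' => h h'.symm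
      simp [h, h']

/-- Bit test using only kernel-accelerated primitives. -/
def bitAt (cov j : ℕ) : Bool := Nat.beq (Nat.land (Nat.shiftRight cov j) 1) 1

theorem bitAt_eq (cov j : ℕ) : bitAt cov j = cov.testBit j := by
  unfold bitAt
  rw [Nat.land_eq, Nat.shiftRight_eq, Nat.and_one_is_mod, Nat.shiftRight_eq_div_pow,
    Nat.testBit_eq_decide_div_mod_eq]
  rcases Nat.mod_two_eq_zero_or_one (cov / 2 ^ j) with h | h <;> simp [h] <;> rfl

/-- Disjointness of two masks using only kernel-accelerated primitives. -/
def disjM (a b : ℕ) : Bool := Nat.beq (Nat.land a b) 0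

theorem disjM_iff (a b : ℕ) : disjM a b = true ↔ ∀ i, ¬ (a.testBit i = true ∧ b.testBit i = true) := by
  unfold disjM
  rw [Nat.beq_eq, Nat.land_eq]
  constructor
  · intro h i hi
    have := congrArg (fun m => m.testBit i) h
    simp only [Nat.testBit_and, hi.1, hi.2, Bool.and_self, Nat.zero_testBit] at this
    exact Bool.noConfusion this
  · intro h
    apply Nat.eq_of_testBit_eq
    intro i
    rw [Nat.testBit_and, Nat.zero_testBit]
    by_contra hcon
    rw [Bool.not_eq_false, Bool.and_eq_true] at hcon
    exact h i hcon

/-- The search. -/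
def search : List (List Cand) → ℕ → ℕ → List ℕ → List (List ℕ)
  | [], _, _, P => [P]
  | cs :: rest, j, cov, P =>
    match bitAt cov j with
    | true => search rest (Nat.succ j) cov P
    | false => cs.flatMap fun c =>
      match disjM c.2 cov with
      | true => search rest (Nat.succ j) (Nat.lor cov c.2) (c.1 :: P)
      | false => []

/-- The indices of the `t`-subsets contained in the mask `c`. -/
def clDef (tsT : List ℕ) (c : ℕ) : List ℕ :=
  (List.range tsT.length).filter fun j => subM (tsT.getD j 0) c

/-- The mask of the indices of the `t`-subsets contained in the mask `c`. -/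
def cmDef (tsT : List ℕ) (c : ℕ) : ℕ := setBits (clDef tsT c) 0

theorem testBit_cmDef (tsT : List ℕ) (c j : ℕ) :
    (cmDef tsT c).testBit j = true ↔ j < tsT.length ∧ subM (tsT.getD j 0) c = true := by
  unfold cmDef
  rw [testBit_setBits]
  simp [clDef, List.mem_filter, List.mem_range]

/-- The table of candidates. -/
def candsDef (tsT ksT : List ℕ) : List (List Cand) :=
  tsT.map fun T => (ksT.filter fun c => subM T c).map fun c => (c, cmDef tsT c)

/-- The table of `k`-subsets with their cover masks. -/
def cmTDef (tsT ksT : List ℕ) : List Cand := ksT.map fun c => (c, cmDef tsT c)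

/-- The table of candidates, from the table of cover masks. -/
def candsOfCm (tsT : List ℕ) (cmT : List Cand) : List (List Cand) :=
  tsT.map fun T => cmT.filter fun p => subM T p.1

theorem candsOfCm_cmTDef (tsT ksT : List ℕ) :
    candsOfCm tsT (cmTDef tsT ksT) = candsDef tsT ksT := by
  unfold candsOfCm cmTDef candsDef
  apply List.map_congr_left
  intro T _
  rw [List.filter_map]
  rfl

section Sound
variable {n t k : ℕ}

theorem mem_subsetsOfCard {c m : ℕ} (h : m ∈ subsetsOfCard n c) :
    m < 2 ^ n ∧ (decF n m).card = c := by
  unfold subsetsOfCard at h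
  rw [List.mem_filter, List.mem_range, beq_iff_eq] at h
  refine ⟨h.1, ?_⟩
  rw [card_eq_popc, encF_decF h.1]
  exact h.2

/-- `tsT` lists exactly the masks of the `t`-subsets (in any order). -/
def tsOK (n t : ℕ) (tsT : List ℕ) : Bool :=
  tsT.all (fun m => decide (m < 2 ^ n) && popc n m == t) &&
    Nat.beq (setBits tsT 0) (setBits (subsetsOfCard n t) 0)

theorem tsOK_iff {tsT : List ℕ} (h : tsOK n t tsT = true) :
    (∀ m ∈ tsT, m ∈ subsetsOfCard n t) ∧ ∀ m ∈ subsetsOfCard n t, m ∈ tsT := by
  simp only [tsOK, Bool.and_eq_true, List.all_eq_true, decide_eq_true_eq, beq_iff_eq,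
    Nat.beq_eq] at h
  refine ⟨fun m hm => ?_, fun m hm => ?_⟩
  · unfold subsetsOfCard
    rw [List.mem_filter, List.mem_range, beq_iff_eq]
    exact h.1 m hm
  · have h1 : (setBits (subsetsOfCard n t) 0).testBit m = true := by
      rw [testBit_setBits]; simp [hm]
    rw [← h.2, testBit_setBits] at h1
    simpa using h1

theorem search_sound (B : Set (Finset (Fin n))) (hB : IsSteinerSystem t k B) (htk : t ≤ k)
    (tsT ksT : List ℕ) (hts : tsOK n t tsT = true) (hks : ksT = subsetsOfCard n k) :
    ∀ (rest : List (List Cand)) (j cov : ℕ) (P : List ℕ),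
      rest = (candsDef tsT ksT).drop j →
      (∀ p ∈ P, ∃ b ∈ B, encF b = p) →
      (∀ j' < tsT.length, cov.testBit j' = true ↔ ∃ p ∈ P, subM (tsT.getD j' 0) p = true) →
      (∀ j' < j, j' < tsT.length → cov.testBit j' = true) →
      ∃ L ∈ search rest j cov P, ∀ m, m ∈ L ↔ ∃ b ∈ B, encF b = m := by
  have hlen : (candsDef tsT ksT).length = tsT.length := by simp [candsDef]
  -- facts about the table of `t`-subsets
  have hT : ∀ j' < tsT.length, tsT.getD j' 0 < 2 ^ n ∧ (decF n (tsT.getD j' 0)).card = t := by
    intro j' hj'
    apply mem_subsetsOfCard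
    apply (tsOK_iff hts).1
    rw [List.getD_eq_getElem _ _ hj']
    exact List.getElem_mem hj'
  -- uniqueness of blocks through the `j'`-th `t`-subset
  have huniq : ∀ j' < tsT.length, ∀ b ∈ B, ∀ b' ∈ B, subM (tsT.getD j' 0) (encF b) = true →
      subM (tsT.getD j' 0) (encF b') = true → b = b' := by
    intro j' hj' b hb b' hb' h1 h2
    obtain ⟨hlt, hcard⟩ := hT j' hj'
    rw [← encF_decF hlt, subM_encF] at h1 h2
    exact steiner_block_unique hB hcard hb hb' h1 h2
  intro rest
  induction rest with
  | nil =>
    intro j cov P hrest hP hcov hlow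
    have hj : tsT.length ≤ j := by
      have := congrArg List.length hrest
      rw [List.length_nil, List.length_drop, hlen] at this
      omega
    refine ⟨P, by simp [search], fun m => ⟨fun hm => hP m hm, ?_⟩⟩
    rintro ⟨b, hb, rfl⟩
    have hcard : t ≤ b.card := by rw [hB.1 b hb]; exact htk
    obtain ⟨T, hTb, hTc⟩ := Finset.exists_subset_card_eq hcard
    have hmem : encF T ∈ tsT := by
      apply (tsOK_iff hts).2
      rw [← hTc]; exact encF_mem_subsetsOfCard T
    obtain ⟨j', hj', hget⟩ := List.getElem_of_mem hmem
    have hget' : tsT.getD j' 0 = encF T := by rw [List.getD_eq_getElem _ _ hj', hget]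
    obtain ⟨p, hp, hsub⟩ := (hcov j' hj').mp (hlow j' (by omega) hj')
    obtain ⟨b', hb', rfl⟩ := hP p hp
    have : b' = b := by
      apply huniq j' hj' b' hb' b hb hsub
      rw [hget', subM_encF]; exact hTb
    rwa [← this]
  | cons cs rest' ih =>
    intro j cov P hrest hP hcov hlow
    have hj : j < tsT.length := by
      have := congrArg List.length hrest
      rw [List.length_cons, List.length_drop, hlen] at this
      omega
    have hj' : j < (candsDef tsT ksT).length := by rw [hlen]; exact hj
    have hdrop : (candsDef tsT ksT).drop j =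
        (candsDef tsT ksT)[j] :: (candsDef tsT ksT).drop (j + 1) := List.drop_eq_getElem_cons hj'
    rw [hdrop] at hrest
    have hcs : cs = (candsDef tsT ksT)[j] := (List.cons.inj hrest).1
    have hrest' : rest' = (candsDef tsT ksT).drop (j + 1) := (List.cons.inj hrest).2
    by_cases hbit : cov.testBit j = true
    · obtain ⟨L, hL, hLB⟩ := ih (j + 1) cov P hrest' hP hcov (by
        intro j'' hj'' hlt
        by_cases h : j'' < j
        · exact hlow j'' h hlt
        · have : j'' = j := by omega
          rw [this]; exact hbit)
      refine ⟨L, ?_, hLB⟩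
      have hb' : bitAt cov j = true := by rw [bitAt_eq]; exact hbit
      simp only [search, hb']
      exact hL
    · -- the block through the `j`-th `t`-subset
      obtain ⟨hlt, hcard⟩ := hT j hj
      obtain ⟨b, hb, hTb⟩ := steiner_exists_block hB hcard
      have hsubj : subM (tsT.getD j 0) (encF b) = true := by
        rw [← encF_decF hlt, subM_encF]; exact hTb
      have hbk : encF b ∈ ksT := by
        rw [hks, ← hB.1 b hb]; exact encF_mem_subsetsOfCard b
      have hcand : (encF b, cmDef tsT (encF b)) ∈ cs := by
        rw [hcs]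
        simp only [candsDef, List.getElem_map, List.mem_map, List.mem_filter]
        refine ⟨encF b, ⟨hbk, ?_⟩, rfl⟩
        rw [← List.getD_eq_getElem _ 0 hj]
        exact hsubj
      have hfree : disjM (cmDef tsT (encF b)) cov = true := by
        rw [disjM_iff]
        rintro j' ⟨h1, hcovj'⟩
        rw [testBit_cmDef] at h1
        obtain ⟨p, hp, hsub⟩ := (hcov j' h1.1).mp hcovj'
        obtain ⟨b', hb', rfl⟩ := hP p hp
        have : b' = b := huniq j' h1.1 b' hb' b hb hsub h1.2
        subst this
        exact hbit ((hcov j hj).mpr ⟨_, hp, hsubj⟩)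
      obtain ⟨L, hL, hLB⟩ := ih (j + 1) (Nat.lor cov (cmDef tsT (encF b))) (encF b :: P) hrest'
        (by
          intro p hp
          rw [List.mem_cons] at hp
          rcases hp with rfl | hp
          · exact ⟨b, hb, rfl⟩
          · exact hP p hp)
        (by
          intro j' hj'
          rw [Nat.lor_eq, Nat.testBit_or, Bool.or_eq_true, testBit_cmDef, hcov j' hj']
          constructor
          · rintro (⟨p, hp, hsub⟩ | ⟨_, hsub⟩)
            · exact ⟨p, List.mem_cons_of_mem _ hp, hsub⟩
            · exact ⟨encF b, List.mem_cons_self, hsub⟩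
          · rintro ⟨p, hp, hsub⟩
            rw [List.mem_cons] at hp
            rcases hp with rfl | hp
            · exact Or.inr ⟨hj', hsub⟩
            · exact Or.inl ⟨p, hp, hsub⟩)
        (by
          intro j'' hj'' hlt
          rw [Nat.lor_eq, Nat.testBit_or, Bool.or_eq_true, testBit_cmDef]
          by_cases h : j'' < j
          · exact Or.inl (hlow j'' h hlt)
          · have : j'' = j := by omega
            rw [this]; exact Or.inr ⟨hj, hsubj⟩)
      refine ⟨L, ?_, hLB⟩
      have hbit' : bitAt cov j = false := by rw [bitAt_eq]; simpa using hbit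
      simp only [search, hbit', List.mem_flatMap]
      refine ⟨(encF b, cmDef tsT (encF b)), hcand, ?_⟩
      simp only [hfree]
      exact hL

/-- The union of the cover masks of a list of blocks. -/
def covOf (tsT : List ℕ) (P : List ℕ) : ℕ := P.foldl (fun a p => a ||| cmDef tsT p) 0

theorem testBit_foldl_cmDef (tsT : List ℕ) (P : List ℕ) (a j : ℕ) :
    (P.foldl (fun a p => a ||| cmDef tsT p) a).testBit j = true ↔
      a.testBit j = true ∨ ∃ p ∈ P, (cmDef tsT p).testBit j = true := by
  induction P generalizing a with
  | nil => simp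
  | cons p P ih =>
    rw [List.foldl_cons, ih, Nat.testBit_or, Bool.or_eq_true]
    simp only [List.mem_cons, exists_eq_or_imp]
    tauto

/-- Soundness of the search started from a list `P₀` of blocks of the system. -/
theorem search_sound_init (B : Set (Finset (Fin n))) (hB : IsSteinerSystem t k B) (htk : t ≤ k)
    (tsT ksT : List ℕ) (hts : tsOK n t tsT = true) (hks : ksT = subsetsOfCard n k)
    (P₀ : List ℕ) (hP₀ : ∀ p ∈ P₀, ∃ b ∈ B, encF b = p) :
    ∃ L ∈ search (candsDef tsT ksT) 0 (covOf tsT P₀) P₀, ∀ m, m ∈ L ↔ ∃ b ∈ B, encF b = m := by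
  apply search_sound B hB htk tsT ksT hts hks _ 0 _ _ (by simp) hP₀
  · intro j' hj'
    unfold covOf
    rw [testBit_foldl_cmDef]
    simp only [Nat.zero_testBit, Bool.false_eq_true, false_or]
    constructor
    · rintro ⟨p, hp, h⟩
      exact ⟨p, hp, ((testBit_cmDef tsT p j').mp h).2⟩
    · rintro ⟨p, hp, h⟩
      exact ⟨p, hp, (testBit_cmDef tsT p j').mpr ⟨hj', h⟩⟩
  · intro j' hj'
    omega

end Sound

end Cfsg.Agent.Lib.Helper7
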