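import Cfsg.Agent.Lib.Helper7.SteinerIso

/-!
# The verified search, with an arbitrary (complete) list of candidate blocks

Variant of `SteinerSearch`/`SteinerIso` in which the list `ksT` of candidate blocks is not the list
of all `k`-subsets but any list containing (the masks of) all blocks of the system at hand, and
in which the list of `t`-subsets is checked by counting.
-/

set_option autoImplicit false

namespace Cfsg.Agent.Lib.Helper7
open Cfsg

/-- Strictly increasing lists. -/
def sortedLt : List ℕ → Bool
  | [] => true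
  | [_] => true
  | a :: b :: l => decide (a < b) && sortedLt (b :: l)

theorem pairwise_of_sortedLt : ∀ l : List ℕ, sortedLt l = true → l.Pairwise (· < ·)
  | [], _ => List.Pairwise.nil
  | [_], _ => List.pairwise_singleton _ _
  | a :: b :: l, h => by
    simp only [sortedLt, Bool.and_eq_true, decide_eq_true_eq] at h
    have ih := pairwise_of_sortedLt (b :: l) h.2
    rw [List.pairwise_cons]
    refine ⟨?_, ih⟩
    intro x hx
    rcases List.mem_cons.mp hx with rfl | hx
    · exact h.1
    · exact lt_trans h.1 ((List.pairwise_cons.mp ih).1 x hx)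

theorem nodup_of_sortedLt {l : List ℕ} (h : sortedLt l = true) : l.Nodup :=
  (pairwise_of_sortedLt l h).imp (fun h => Nat.ne_of_lt h)

section
variable {n t k : ℕ}

/-- `tsT` lists exactly the masks of the `t`-subsets: validity, no repetition, and the count. -/
def tsOK2 (n t : ℕ) (tsT : List ℕ) : Bool :=
  tsT.all (fun m => decide (m < 2 ^ n) && popc n m == t) && sortedLt tsT &&
    tsT.length == n.choose t

theorem tsOK2_valid {tsT : List ℕ} (h : tsOK2 n t tsT = true) :
    ∀ m ∈ tsT, m < 2 ^ n ∧ (decF n m).card = t := by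
  simp only [tsOK2, Bool.and_eq_true, List.all_eq_true, decide_eq_true_eq, beq_iff_eq] at h
  intro m hm
  obtain ⟨hlt, hp⟩ := h.1.1 m hm
  refine ⟨hlt, ?_⟩
  rw [card_eq_popc, encF_decF hlt]
  exact hp

theorem tsOK2_complete {tsT : List ℕ} (h : tsOK2 n t tsT = true) (s : Finset (Fin n))
    (hs : s.card = t) : encF s ∈ tsT := by
  have hvalid := tsOK2_valid h
  simp only [tsOK2, Bool.and_eq_true, List.all_eq_true, decide_eq_true_eq, beq_iff_eq] at h
  obtain ⟨⟨_, hsorted⟩, hlen⟩ := h
  have hnd := nodup_of_sortedLt hsorted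
  set F : Finset (Finset (Fin n)) := tsT.toFinset.image (decF n) with hF
  have hsub : F ⊆ Finset.powersetCard t Finset.univ := by
    intro x hx
    rw [hF, Finset.mem_image] at hx
    obtain ⟨m, hm, rfl⟩ := hx
    rw [Finset.mem_powersetCard]
    exact ⟨Finset.subset_univ _, (hvalid m (List.mem_toFinset.mp hm)).2⟩
  have hinj : Set.InjOn (decF n) (tsT.toFinset : Set ℕ) := by
    intro a ha b hb hab
    have ha' := (hvalid a (List.mem_toFinset.mp ha)).1
    have hb' := (hvalid b (List.mem_toFinset.mp hb)).1
    rw [← encF_decF ha', ← encF_decF hb', hab]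
  have hcard : F.card = (Finset.powersetCard t (Finset.univ : Finset (Fin n))).card := by
    rw [hF, Finset.card_image_of_injOn hinj, List.toFinset_card_of_nodup hnd, hlen,
      Finset.card_powersetCard, Finset.card_univ, Fintype.card_fin]
  have heq := Finset.eq_of_subset_of_card_le hsub (le_of_eq hcard.symm)
  have hsF : s ∈ F := by
    rw [heq, Finset.mem_powersetCard]
    exact ⟨Finset.subset_univ _, hs⟩
  rw [hF, Finset.mem_image] at hsF
  obtain ⟨m, hm, rfl⟩ := hsF
  rw [encF_decF (hvalid m (List.mem_toFinset.mp hm)).1]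
  exact List.mem_toFinset.mp hm

theorem search_sound2 (B : Set (Finset (Fin n))) (hB : IsSteinerSystem t k B) (htk : t ≤ k)
    (tsT ksT : List ℕ) (hT1 : ∀ m ∈ tsT, m < 2 ^ n ∧ (decF n m).card = t)
    (hT2 : ∀ s : Finset (Fin n), s.card = t → encF s ∈ tsT) (hall : ∀ b ∈ B, encF b ∈ ksT) :
    ∀ (rest : List (List Cand)) (j cov : ℕ) (P : List ℕ),
      rest = (candsDef tsT ksT).drop j →
      (∀ p ∈ P, ∃ b ∈ B, encF b = p) →
      (∀ j' < tsT.length, cov.testBit j' = true ↔ ∃ p ∈ P, subM (tsT.getD j' 0) p = true) →
      (∀ j' < j, j' < tsT.length → cov.testBit j' = true) →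
      ∃ L ∈ search rest j cov P, ∀ m, m ∈ L ↔ ∃ b ∈ B, encF b = m := by
  have hlen : (candsDef tsT ksT).length = tsT.length := by simp [candsDef]
  -- facts about the table of `t`-subsets
  have hT : ∀ j' < tsT.length, tsT.getD j' 0 < 2 ^ n ∧ (decF n (tsT.getD j' 0)).card = t := by
    intro j' hj'
    apply hT1
    rw [List.getD_eq_getElem _ _ hj']
    exact List.getElem_mem hj'
  -- uniqueness of blocks through the `j'`-th `t`-subset
  have huniq : ∀ j' < tsT.length, ∀ b ∈ B, ∀ b' ∈ B, subM (tsT.getD j' 0) (encF b) = true →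
      subM (tsT.getD j' 0) (encF b') = true → b = b' := by
    intro j' hj' b hb b' hb' h1 h2
    obtain ⟨hlt, hcard⟩ := hT j' hj'
    rw [← encF_decF hlt, subM_encF] at h1 h2
    exact steiner_block_unique hB hcard hb hb' h1 h2
  intro rest
  induction rest with
  | nil =>
    intro j cov P hrest hP hcov hlow
    have hj : tsT.length ≤ j := by
      have := congrArg List.length hrest
      rw [List.length_nil, List.length_drop, hlen] at this
      omega
    refine ⟨P, by simp [search], fun m => ⟨fun hm => hP m hm, ?_⟩⟩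
    rintro ⟨b, hb, rfl⟩
    have hcard : t ≤ b.card := by rw [hB.1 b hb]; exact htk
    obtain ⟨T, hTb, hTc⟩ := Finset.exists_subset_card_eq hcard
    have hmem : encF T ∈ tsT := hT2 T hTc
    obtain ⟨j', hj', hget⟩ := List.getElem_of_mem hmem
    have hget' : tsT.getD j' 0 = encF T := by rw [List.getD_eq_getElem _ _ hj', hget]
    obtain ⟨p, hp, hsub⟩ := (hcov j' hj').mp (hlow j' (by omega) hj')
    obtain ⟨b', hb', rfl⟩ := hP p hp
    have : b' = b := by
      apply huniq j' hj' b' hb' b hb hsub
      rw [hget', subM_encF]; exact hTb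
    rwa [← this]
  | cons cs rest' ih =>
    intro j cov P hrest hP hcov hlow
    have hj : j < tsT.length := by
      have := congrArg List.length hrest
      rw [List.length_cons, List.length_drop, hlen] at this
      omega
    have hj' : j < (candsDef tsT ksT).length := by rw [hlen]; exact hj
    have hdrop : (candsDef tsT ksT).drop j =
        (candsDef tsT ksT)[j] :: (candsDef tsT ksT).drop (j + 1) := List.drop_eq_getElem_cons hj'
    rw [hdrop] at hrest
    have hcs : cs = (candsDef tsT ksT)[j] := (List.cons.inj hrest).1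
    have hrest' : rest' = (candsDef tsT ksT).drop (j + 1) := (List.cons.inj hrest).2
    by_cases hbit : cov.testBit j = true
    · obtain ⟨L, hL, hLB⟩ := ih (j + 1) cov P hrest' hP hcov (by
        intro j'' hj'' hlt
        by_cases h : j'' < j
        · exact hlow j'' h hlt
        · have : j'' = j := by omega
          rw [this]; exact hbit)
      refine ⟨L, ?_, hLB⟩
      have hb' : bitAt cov j = true := by rw [bitAt_eq]; exact hbit
      simp only [search, hb']
      exact hL
    · -- the block through the `j`-th `t`-subset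
      obtain ⟨hlt, hcard⟩ := hT j hj
      obtain ⟨b, hb, hTb⟩ := steiner_exists_block hB hcard
      have hsubj : subM (tsT.getD j 0) (encF b) = true := by
        rw [← encF_decF hlt, subM_encF]; exact hTb
      have hbk : encF b ∈ ksT := hall b hb
      have hcand : (encF b, cmDef tsT (encF b)) ∈ cs := by
        rw [hcs]
        simp only [candsDef, List.getElem_map, List.mem_map, List.mem_filter]
        refine ⟨encF b, ⟨hbk, ?_⟩, rfl⟩
        rw [← List.getD_eq_getElem _ 0 hj]
        exact hsubj
      have hfree : disjM (cmDef tsT (encF b)) cov = true := by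
        rw [disjM_iff]
        rintro j' ⟨h1, hcovj'⟩
        rw [testBit_cmDef] at h1
        obtain ⟨p, hp, hsub⟩ := (hcov j' h1.1).mp hcovj'
        obtain ⟨b', hb', rfl⟩ := hP p hp
        have : b' = b := huniq j' h1.1 b' hb' b hb hsub h1.2
        subst this
        exact hbit ((hcov j hj).mpr ⟨_, hp, hsubj⟩)
      obtain ⟨L, hL, hLB⟩ := ih (j + 1) (Nat.lor cov (cmDef tsT (encF b))) (encF b :: P) hrest'
        (by
          intro p hp
          rw [List.mem_cons] at hp
          rcases hp with rfl | hp
          · exact ⟨b, hb, rfl⟩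
          · exact hP p hp)
        (by
          intro j' hj'
          rw [Nat.lor_eq, Nat.testBit_or, Bool.or_eq_true, testBit_cmDef, hcov j' hj']
          constructor
          · rintro (⟨p, hp, hsub⟩ | ⟨_, hsub⟩)
            · exact ⟨p, List.mem_cons_of_mem _ hp, hsub⟩
            · exact ⟨encF b, List.mem_cons_self, hsub⟩
          · rintro ⟨p, hp, hsub⟩
            rw [List.mem_cons] at hp
            rcases hp with rfl | hp
            · exact Or.inr ⟨hj', hsub⟩
            · exact Or.inl ⟨p, hp, hsub⟩)
        (by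
          intro j'' hj'' hlt
          rw [Nat.lor_eq, Nat.testBit_or, Bool.or_eq_true, testBit_cmDef]
          by_cases h : j'' < j
          · exact Or.inl (hlow j'' h hlt)
          · have : j'' = j := by omega
            rw [this]; exact Or.inr ⟨hj, hsubj⟩)
      refine ⟨L, ?_, hLB⟩
      have hbit' : bitAt cov j = false := by rw [bitAt_eq]; simpa using hbit
      simp only [search, hbit', List.mem_flatMap]
      refine ⟨(encF b, cmDef tsT (encF b)), hcand, ?_⟩
      simp only [hfree]
      exact hL

/-- Soundness of the search started from a list `P₀` of blocks of the system. -/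
theorem search_sound_init2 (B : Set (Finset (Fin n))) (hB : IsSteinerSystem t k B) (htk : t ≤ k)
    (tsT ksT : List ℕ) (hT1 : ∀ m ∈ tsT, m < 2 ^ n ∧ (decF n m).card = t)
    (hT2 : ∀ s : Finset (Fin n), s.card = t → encF s ∈ tsT) (hall : ∀ b ∈ B, encF b ∈ ksT)
    (P₀ : List ℕ) (hP₀ : ∀ p ∈ P₀, ∃ b ∈ B, encF b = p) :
    ∃ L ∈ search (candsDef tsT ksT) 0 (covOf tsT P₀) P₀, ∀ m, m ∈ L ↔ ∃ b ∈ B, encF b = m := by
  apply search_sound2 B hB htk tsT ksT hT1 hT2 hall _ 0 _ _ (by simp) hP₀
  · intro j' hj'
    unfold covOf
    rw [testBit_foldl_cmDef]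
    simp only [Nat.zero_testBit, Bool.false_eq_true, false_or]
    constructor
    · rintro ⟨p, hp, h⟩
      exact ⟨p, hp, ((testBit_cmDef tsT p j').mp h).2⟩
    · rintro ⟨p, hp, h⟩
      exact ⟨p, hp, (testBit_cmDef tsT p j').mpr ⟨hj', h⟩⟩
  · intro j' hj'
    omega

/-- Check that the list `H` of masks is a Steiner system with parameters `t`, `k`. -/
def refOK2 (n k : ℕ) (tsT H : List ℕ) : Bool :=
  H.all (fun h => decide (h < 2 ^ n) && popc n h == k) &&
    tsT.all fun T => (H.filter fun h => subM T h).length == 1

theorem isSteinerSystem_sysOf2 (tsT H : List ℕ)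
    (hT2 : ∀ s : Finset (Fin n), s.card = t → encF s ∈ tsT)
    (hok : refOK2 n k tsT H = true) : IsSteinerSystem t k (sysOf n H) := by
  simp only [refOK2, Bool.and_eq_true, List.all_eq_true, decide_eq_true_eq, beq_iff_eq] at hok
  obtain ⟨hk, huniq⟩ := hok
  constructor
  · intro b hb
    have h1 := (hk _ hb).2
    rw [card_eq_popc]
    exact h1
  · intro s hs
    have hmem : encF s ∈ tsT := hT2 s hs
    have hlen := huniq _ hmem
    obtain ⟨h, hh⟩ := List.length_eq_one_iff.mp hlen
    have hhmem : h ∈ H.filter fun h => subM (encF s) h := by rw [hh]; exact List.mem_singleton_self h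
    rw [List.mem_filter] at hhmem
    have hlt : h < 2 ^ n := (hk _ hhmem.1).1
    refine ⟨decF n h, ⟨?_, ?_⟩, ?_⟩
    · show encF (decF n h) ∈ H
      rw [encF_decF hlt]; exact hhmem.1
    · rw [← subM_encF, encF_decF hlt]; exact hhmem.2
    · rintro b' ⟨hb', hsb'⟩
      have : encF b' ∈ H.filter fun h => subM (encF s) h := by
        rw [List.mem_filter]
        exact ⟨hb', (subM_encF s b').mpr hsb'⟩
      rw [hh, List.mem_singleton] at this
      rw [← this, decF_encF]

/-- The certificate check for one leaf. -/
def isoOK2 (n : ℕ) (H L σ : List ℕ) : Bool :=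
  validPerm σ n && L.all fun m => H.contains (permMask σ n m)

/-- The certificate check for all leaves. -/
def leavesOK2 (n : ℕ) (H : List ℕ) (leaves certs : List (List ℕ)) : Bool :=
  leaves.length == certs.length && (List.zip leaves certs).all fun p => isoOK2 n H p.1 p.2

theorem exists_cert_of_leavesOK2 {H : List ℕ} {leaves certs : List (List ℕ)}
    (h : leavesOK2 n H leaves certs = true) {L : List ℕ} (hL : L ∈ leaves) :
    ∃ σ, isoOK2 n H L σ = true := by
  simp only [leavesOK2, Bool.and_eq_true, beq_iff_eq, List.all_eq_true] at h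
  obtain ⟨hlen, hall⟩ := h
  obtain ⟨i, hi, rfl⟩ := List.getElem_of_mem hL
  have hi' : i < certs.length := by rw [← hlen]; exact hi
  refine ⟨certs[i], hall (leaves[i], certs[i]) ?_⟩
  have hz : i < (List.zip leaves certs).length := by
    rw [List.length_zip]; omega
  have := List.getElem_mem hz
  rwa [List.getElem_zip] at this

/-- Main theorem: a Steiner system all of whose blocks are in `ksT` and containing the blocks with
masks in `P₀` is isomorphic to the reference system, given the tables and the certificates. -/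
theorem setSystemIso_ref2 (htk : t ≤ k) (tsT ksT H : List ℕ) (candT : List (List Cand))
    (P₀ : List ℕ) (certs : List (List ℕ))
    (hts : tsOK2 n t tsT = true)
    (hcand : candT = candsDef tsT ksT) (href : refOK2 n k tsT H = true)
    (cov₀ : ℕ) (hcov₀ : cov₀ = covOf tsT P₀)
    (hleaves : leavesOK2 n H (search candT 0 cov₀ P₀) certs = true)
    (B : Set (Finset (Fin n))) (hB : IsSteinerSystem t k B) (hall : ∀ b ∈ B, encF b ∈ ksT)
    (hP₀ : ∀ p ∈ P₀, ∃ b ∈ B, encF b = p) : SetSystemIso B (sysOf n H) := by
  obtain ⟨L, hL, hLB⟩ := search_sound_init2 B hB htk tsT ksT (tsOK2_valid hts)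
    (tsOK2_complete hts) hall P₀ hP₀
  rw [← hcand, ← hcov₀] at hL
  obtain ⟨σ, hσ⟩ := exists_cert_of_leavesOK2 hleaves hL
  simp only [isoOK2, Bool.and_eq_true, List.all_eq_true, List.contains_iff_mem] at hσ
  obtain ⟨hvalid, hall'⟩ := hσ
  refine ⟨permOf σ hvalid, ?_⟩
  apply steiner_eq_of_subset htk (steiner_image hB _)
    (isSteinerSystem_sysOf2 tsT H (tsOK2_complete hts) href)
  rintro _ ⟨b, hb, rfl⟩
  show encF (b.image (permOf σ hvalid)) ∈ H
  rw [encF_image_permOf]
  exact hall' (encF b) ((hLB _).mpr ⟨b, hb, rfl⟩)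

end

end Cfsg.Agent.Lib.Helper7
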