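import Cfsg.Agent.Lib.Helper7.SteinerSearch2

/-!
# The verified search without precomputed tables

The cover masks are computed by a single pass over the list of `t`-subsets, so that no table has
to be written out.
-/

set_option autoImplicit false

namespace Cfsg.Agent.Lib.Helper7
open Cfsg

/-- The cover mask of `c`, by one pass over (a tail of) the list of `t`-subsets. -/
def cmFold (c : ℕ) : List ℕ → ℕ → ℕ → ℕ
  | [], _, acc => acc
  | T :: l, j, acc => cmFold c l (Nat.succ j) (match subM T c with
      | true => Nat.lor acc (Nat.pow 2 j)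
      | false => acc)

theorem testBit_cmFold (c : ℕ) : ∀ (l : List ℕ) (j acc i : ℕ),
    (cmFold c l j acc).testBit i = true ↔
      acc.testBit i = true ∨ (j ≤ i ∧ i - j < l.length ∧ subM (l.getD (i - j) 0) c = true)
  | [], j, acc, i => by simp [cmFold]
  | T :: l, j, acc, i => by
    rw [cmFold, testBit_cmFold c l]
    have hacc : ∀ b : Bool, (match b with
        | true => Nat.lor acc (Nat.pow 2 j)
        | false => acc).testBit i = true ↔ acc.testBit i = true ∨ (b = true ∧ j = i) := by
      intro b
      cases b
      · simp
      · simp only [Nat.lor_eq, Nat.pow_eq, Nat.testBit_or, Nat.testBit_two_pow, Bool.or_eq_true,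
          decide_eq_true_eq, true_and]
    rw [hacc]
    constructor
    · rintro ((h | ⟨h1, h2⟩) | ⟨h1, h2, h3⟩)
      · exact Or.inl h
      · subst h2
        right
        refine ⟨le_refl _, by simp, ?_⟩
        simpa using h1
      · right
        have h4 : i - j = (i - Nat.succ j) + 1 := by omega
        refine ⟨by omega, by simp only [List.length_cons]; omega, ?_⟩
        rw [h4, List.getD_cons_succ]
        exact h3
    · rintro (h | ⟨h1, h2, h3⟩)
      · exact Or.inl (Or.inl h)
      · by_cases hij : j = i
        · subst hij
          left; right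
          refine ⟨?_, rfl⟩
          simpa using h3
        · right
          have h4 : i - j = (i - Nat.succ j) + 1 := by omega
          rw [h4, List.getD_cons_succ] at h3
          simp only [List.length_cons] at h2
          exact ⟨by omega, by omega, h3⟩

theorem cmFold_eq (tsT : List ℕ) (c : ℕ) : cmFold c tsT 0 0 = cmDef tsT c := by
  apply Nat.eq_of_testBit_eq
  intro i
  apply Bool.eq_iff_iff.mpr
  rw [testBit_cmFold, testBit_cmDef]
  simp

/-- The table of candidates, computed on the fly. -/
def candsFold (tsT ksT : List ℕ) : List (List Cand) :=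
  candsOfCm tsT (ksT.map fun c => (c, cmFold c tsT 0 0))

theorem candsFold_eq (tsT ksT : List ℕ) : candsFold tsT ksT = candsDef tsT ksT := by
  unfold candsFold
  rw [← candsOfCm_cmTDef]
  congr 1
  unfold cmTDef
  apply List.map_congr_left
  intro c _
  rw [cmFold_eq]

/-- The initial cover mask, computed with `cmFold`. -/
def covFold (tsT : List ℕ) (P : List ℕ) : ℕ := P.foldl (fun a p => Nat.lor a (cmFold p tsT 0 0)) 0

theorem covFold_eq (tsT P : List ℕ) : covFold tsT P = covOf tsT P := by
  unfold covFold covOf
  congr 1
  funext a p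
  rw [cmFold_eq]
  rfl

section
variable {n t k : ℕ}

/-- Main theorem, table-free form. -/
theorem setSystemIso_ref3 (htk : t ≤ k) (tsT ksT H : List ℕ) (P₀ : List ℕ)
    (certs : List (List ℕ)) (hts : tsOK2 n t tsT = true) (href : refOK2 n k tsT H = true)
    (hleaves : leavesOK2 n H (search (candsFold tsT ksT) 0 (covFold tsT P₀) P₀) certs = true)
    (B : Set (Finset (Fin n))) (hB : IsSteinerSystem t k B) (hall : ∀ b ∈ B, encF b ∈ ksT)
    (hP₀ : ∀ p ∈ P₀, ∃ b ∈ B, encF b = p) : SetSystemIso B (sysOf n H) :=
  setSystemIso_ref2 htk tsT ksT H (candsFold tsT ksT) P₀ certs hts (candsFold_eq tsT ksT) href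
    (covFold tsT P₀) (covFold_eq tsT P₀) hleaves B hB hall hP₀

end

end Cfsg.Agent.Lib.Helper7
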