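import Cfsg.Agent.Lib.Helper7.Steiner3622Cands
import Cfsg.Agent.Lib.Helper7.SteinerExtend
import Cfsg.Agent.S5626

/-!
# Uniqueness of the Steiner system `S(3, 6, 22)`
-/

set_option autoImplicit false

namespace Cfsg.Agent.Lib.Helper7
open Cfsg

theorem S3622.ref_steiner : IsSteinerSystem 3 6 (sysOf 22 S3622.refH) :=
  isSteinerSystem_sysOf2 S3622.tsT S3622.refH (tsOK2_complete S3622.tsT_ok) S3622.refH_ok

theorem S3622.p0_lt {p : ℕ} (hp : p ∈ S3622.P0) : p < 2 ^ 22 ∧ p.testBit 21 = true := by
  have h3 := S3622.p0_ok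
  simp only [S3622.p0OK, List.all_eq_true, Bool.and_eq_true, decide_eq_true_eq] at h3
  exact h3 p hp

/-- A Steiner system `S(3, 6, 22)` on `Fin 22` containing the blocks of `P0` is isomorphic to the
reference system. -/
theorem S3622.iso_ref (B : Set (Finset (Fin 22))) (hB : IsSteinerSystem 3 6 B)
    (hP0 : ∀ p ∈ S3622.P0, decF 22 p ∈ B) : SetSystemIso B (sysOf 22 S3622.refH) :=
  setSystemIso_ref3 (by norm_num) S3622.tsT S3622.ksT S3622.refH S3622.P0 S3622.certs
    S3622.tsT_ok S3622.refH_ok S3622.leaves_ok B hB (S3622.cands_complete hB hP0)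
    (fun p hp => ⟨decF 22 p, hP0 p hp, encF_decF (S3622.p0_lt hp).1⟩)

theorem card_subtype_ne_of_card {α : Type*} [Fintype α] [DecidableEq α] {n : ℕ}
    (hα : Fintype.card α = n + 1) (p : α) : Fintype.card {a : α // a ≠ p} = n := by
  rw [Fintype.card_subtype, Finset.filter_ne' Finset.univ p,
    Finset.card_erase_of_mem (Finset.mem_univ p), Finset.card_univ, hα]
  rfl

/-- Every `S(3, 6, 22)` is isomorphic to the reference system on `Fin 22`. -/
theorem steiner_3622_iso_ref {α : Type*} [Fintype α] [DecidableEq α] (hα : Fintype.card α = 22)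
    {B : Set (Finset α)} (hB : IsSteinerSystem 3 6 B) : SetSystemIso B (sysOf 22 S3622.refH) := by
  have hne : Nonempty α := Fintype.card_pos_iff.mp (by omega)
  obtain ⟨p⟩ := hne
  have hD : IsSteinerSystem 2 5 (derivedSys B p) := derived_steiner hB p
  have hDref : IsSteinerSystem 2 5 (derivedSys (sysOf 22 S3622.refH) (21 : Fin 22)) :=
    derived_steiner S3622.ref_steiner 21
  have hc1 : Fintype.card {a : α // a ≠ p} = 21 := card_subtype_ne_of_card hα p
  have hc2 : Fintype.card {a : Fin 22 // a ≠ 21} = 21 := by decide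
  have iso0 := Cfsg.Agent.S5626.result hc1 hc2 hD hDref
  obtain ⟨e, _, he⟩ := exists_equiv_of_derived_iso p (21 : Fin 22) iso0
  have h1 : SetSystemIso B ((fun b => b.image e) '' B) := ⟨e, rfl⟩
  refine setSystemIso_trans h1 (S3622.iso_ref _ (steiner_image hB e) ?_)
  intro m hm
  have href := S3622.p0_ref
  simp only [List.all_eq_true, List.contains_iff_mem] at href
  apply he
  · show encF (decF 22 m) ∈ S3622.refH
    rw [encF_decF (S3622.p0_lt hm).1]
    exact href m hm
  · rw [mem_decF]
    exact (S3622.p0_lt hm).2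

/-- Uniqueness of `S(3, 6, 22)` (this is statement S0410). -/
theorem steiner_3622_unique {α β : Type*} [Fintype α] [DecidableEq α] [Fintype β] [DecidableEq β]
    (hα : Fintype.card α = 22) (hβ : Fintype.card β = 22) {B : Set (Finset α)} {B' : Set (Finset β)}
    (hB : IsSteinerSystem 3 6 B) (hB' : IsSteinerSystem 3 6 B') : SetSystemIso B B' :=
  setSystemIso_trans (steiner_3622_iso_ref hα hB) (setSystemIso_symm (steiner_3622_iso_ref hβ hB'))

end Cfsg.Agent.Lib.Helper7
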