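import Cfsg.Agent.Lib.Helper7.TblSub

/-!
# A linear-time lower bound for the order of a subgroup given by tables

Products `d * n` of elements with known tables are encoded as numbers, read off at the positions listed in `l`;
if the codes increase strictly along a list of pairs, the products are pairwise distinct.
-/

set_option autoImplicit false

namespace Cfsg.Agent.Lib.Helper7.Tbl
open Cfsg Cfsg.Agent.Lib.Helper7 Cfsg.Agent.Lib.Helper7.SylowPair

variable {H : Subgroup (Equiv.Perm GolayPt)}

/-- Numeric code of the entries, at the positions `l`, of the product of two tables. -/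
def codeMul (l d n : List ℕ) : ℕ := l.foldl (fun acc i => acc * 32 + d.getD (n.getD i 0) 0) 0

theorem foldl_code_congr (f g : ℕ → ℕ) :
    ∀ (l : List ℕ) (acc : ℕ), (∀ i ∈ l, f i = g i) →
      l.foldl (fun acc i => acc * 32 + f i) acc = l.foldl (fun acc i => acc * 32 + g i) acc := by
  intro l
  induction l with
  | nil => intro acc _; rfl
  | cons i l ih =>
    intro acc h
    rw [List.foldl_cons, List.foldl_cons, h i List.mem_cons_self]
    exact ih _ fun j hj => h j (List.mem_cons_of_mem _ hj)

theorem codeMul_congr {l : List ℕ} (hl : ∀ i ∈ l, i < 24) {d n d' n' : List ℕ}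
    (h : teq (compT d n) (compT d' n') = true) : codeMul l d n = codeMul l d' n' := by
  unfold codeMul
  apply foldl_code_congr
  intro i hi
  have h1 := teq_spec h i (hl i hi)
  rwa [getD_compT _ _ (hl i hi), getD_compT _ _ (hl i hi)] at h1

/-- The list increases strictly. -/
def incrB : List ℕ → Bool
  | [] => true
  | [_] => true
  | a :: b :: l => decide (a < b) && incrB (b :: l)

theorem pairwise_of_incrB : ∀ l : List ℕ, incrB l = true → l.Pairwise (· < ·) := by
  intro l
  induction l with
  | nil => intro _; exact List.Pairwise.nil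
  | cons a l ih =>
    cases l with
    | nil => intro _; exact List.pairwise_singleton _ _
    | cons b l =>
      intro h
      simp only [incrB, Bool.and_eq_true, decide_eq_true_eq] at h
      have h2 := ih h.2
      have h3 := List.pairwise_cons.mp h2
      rw [List.pairwise_cons]
      refine ⟨?_, h2⟩
      intro x hx
      rcases List.mem_cons.mp hx with rfl | hx'
      · exact h.1
      · exact lt_trans h.1 (h3.1 x hx')

theorem exists_of_getD {S : Subgroup ↥H} {L : List (List ℕ)}
    (hL : ∀ t ∈ L, ∃ x ∈ S, MatchS x t) (i : ℕ) : ∃ x ∈ S, MatchS x (L.getD i idT) := by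
  rw [List.getD_eq_getElem?_getD]
  cases hk : L[i]? with
  | none => exact ⟨1, S.one_mem, by simpa using matchS_one⟩
  | some t =>
    simp only [Option.getD_some]
    exact hL t (List.mem_of_getElem? hk)

/-- Lower bound for the order of a subgroup `S`: the tables in `DL` and `NL` belong to elements of `S`, and the
codes of the products indexed by `pairs` increase strictly. -/
theorem card_ge_of_incr_pairs [Finite ↥H] (S : Subgroup ↥H) (l : List ℕ) (hl : ∀ i ∈ l, i < 24)
    (DL NL : List (List ℕ)) (hD : ∀ d ∈ DL, ∃ x ∈ S, MatchS x d)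
    (hN : ∀ n ∈ NL, ∃ x ∈ S, MatchS x n) (pairs : List (ℕ × ℕ))
    (hd : incrB (pairs.map fun p => codeMul l (DL.getD p.1 idT) (NL.getD p.2 idT)) = true) :
    pairs.length ≤ Nat.card ↥S := by
  classical
  have key : ∀ p : ℕ × ℕ, ∃ x ∈ S, MatchS x (compT (DL.getD p.1 idT) (NL.getD p.2 idT)) := by
    intro p
    obtain ⟨x, hx, hxm⟩ := exists_of_getD hD p.1
    obtain ⟨y, hy, hym⟩ := exists_of_getD hN p.2
    exact ⟨x * y, S.mul_mem hx hy, matchS_mul hxm hym⟩
  choose g hgS hgm using key
  have hp := pairwise_of_incrB _ hd
  rw [List.pairwise_map] at hp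
  have hnd : (pairs.map g).Nodup := by
    rw [List.Nodup, List.pairwise_map]
    refine hp.imp ?_
    intro p q hpq he
    have h1 := hgm p
    have h2 := hgm q
    rw [he] at h1
    have := codeMul_congr hl (teq_of_matchS h1 h2)
    omega
  have hsub : ((pairs.map g).toFinset : Set ↥H) ⊆ (S : Set ↥H) := by
    intro x hx
    rw [Finset.mem_coe, List.mem_toFinset, List.mem_map] at hx
    obtain ⟨p, _, rfl⟩ := hx
    exact hgS p
  have h1 := Set.ncard_le_ncard hsub (Set.toFinite _)
  rw [Set.ncard_coe_finset, List.toFinset_card_of_nodup hnd, List.length_map] at h1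
  rw [← Nat.card_coe_set_eq] at h1
  exact h1

/-- The tables of the words `pcw gens k`, `k < M`, belong to elements of a subgroup containing `gens`. -/
theorem exists_of_mem_pcwT {S : Subgroup ↥H} {gens : List ↥H} {gensT : List (List ℕ)}
    (h : List.Forall₂ MatchS gens gensT) (hS : ∀ g ∈ gens, g ∈ S) (M : ℕ) :
    ∀ t ∈ (List.range M).map (pcwT gensT), ∃ x ∈ S, MatchS x t := by
  intro t ht
  obtain ⟨k, _, rfl⟩ := List.mem_map.mp ht
  have h1 := pcw_mem_closure gens k
  have h2 : Subgroup.closure {x | x ∈ gens} ≤ S := by
    rw [Subgroup.closure_le]; exact fun x hx => hS x hx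
  exact ⟨pcw gens k, h2 h1, matchS_pcw h k⟩

end Cfsg.Agent.Lib.Helper7.Tbl
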