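import Cfsg.Agent.Lib.Helper7.M22NormData
import Cfsg.Agent.Lib.Helper7.SylowPair

/-!
# Tables for elements of a subgroup of `Perm GolayPt`

Word identities, closures and orders of subgroups of `↥H`, `H ≤ Perm GolayPt`, from lookup tables.
-/

set_option autoImplicit false

namespace Cfsg.Agent.Lib.Helper7.Tbl
open Cfsg Cfsg.Agent.Lib.Helper7 Cfsg.Agent.Lib.Helper7.SylowPair

variable {H : Subgroup (Equiv.Perm GolayPt)}

/-- `t` is the table of the element `x` of the subgroup `H`. -/
def MatchS (x : ↥H) (t : List ℕ) : Prop := Matches (x : Equiv.Perm GolayPt) t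

/-- Equality of the first 24 entries of two tables. -/
def teq (t u : List ℕ) : Bool := (List.range 24).all fun i => t.getD i 0 == u.getD i 0

theorem teq_spec {t u : List ℕ} (h : teq t u = true) : ∀ i < 24, t.getD i 0 = u.getD i 0 := by
  intro i hi
  simp only [teq, List.all_eq_true, List.mem_range, beq_iff_eq] at h
  exact h i hi

theorem teq_of_forall {t u : List ℕ} (h : ∀ i < 24, t.getD i 0 = u.getD i 0) : teq t u = true := by
  simp only [teq, List.all_eq_true, List.mem_range, beq_iff_eq]
  exact h

theorem teq_false_spec {t u : List ℕ} (h : teq t u = false) : ∃ i < 24, t.getD i 0 ≠ u.getD i 0 := by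
  by_contra hcon
  push Not at hcon
  rw [teq_of_forall hcon] at h
  exact absurd h (by decide)

theorem matchS_one : MatchS (1 : ↥H) idT := matches_one

theorem matchS_mul {x y : ↥H} {t u : List ℕ} (hx : MatchS x t) (hy : MatchS y u) :
    MatchS (x * y) (compT t u) := matches_mul hx hy

theorem matchS_pow {x : ↥H} {t : List ℕ} (hx : MatchS x t) (k : ℕ) : MatchS (x ^ k) (powTb t k) := by
  unfold MatchS
  rw [Subgroup.coe_pow]
  exact matches_powTb hx k

theorem eq_of_matchS {x y : ↥H} {t u : List ℕ} (hx : MatchS x t) (hy : MatchS y u)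
    (h : teq t u = true) : x = y :=
  Subtype.ext (eq_of_matches hx hy (teq_spec h))

theorem ne_of_matchS {x y : ↥H} {t u : List ℕ} (hx : MatchS x t) (hy : MatchS y u)
    (h : teq t u = false) : x ≠ y := by
  obtain ⟨i, hi, hne⟩ := teq_false_spec h
  intro he
  exact ne_of_matches hx hy hi hne (congrArg Subtype.val he)

theorem teq_of_matchS {x : ↥H} {t u : List ℕ} (hx : MatchS x t) (hy : MatchS x u) :
    teq t u = true := by
  apply teq_of_forall
  intro i hi
  have h1 := hx (pt i)
  have h2 := hy (pt i)
  rw [idx_pt hi] at h1 h2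
  rw [← h1, ← h2]

/-! ### Polycyclic words -/

/-- The table of the polycyclic word `pcw gens n`. -/
def pcwT : List (List ℕ) → ℕ → List ℕ
  | [], _ => idT
  | g :: rest, n => compT (pcwT rest (n / 2)) (if n % 2 = 1 then g else idT)

theorem matchS_pcw {gens : List ↥H} {gensT : List (List ℕ)} (h : List.Forall₂ MatchS gens gensT)
    (n : ℕ) : MatchS (pcw gens n) (pcwT gensT n) := by
  induction h generalizing n with
  | nil => exact matchS_one
  | cons hab _ ih =>
    simp only [pcw, pcwT]
    refine matchS_mul (ih _) ?_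
    split_ifs
    · exact hab
    · exact matchS_one

/-- The tables of the words with indices in `ks` are pairwise distinct. -/
def distinctT (gensT : List (List ℕ)) : List ℕ → Bool
  | [] => true
  | k :: ks => (ks.all fun j => !teq (pcwT gensT k) (pcwT gensT j)) && distinctT gensT ks

theorem pcw_injOn_of_distinctT {gens : List ↥H} {gensT : List (List ℕ)}
    (h : List.Forall₂ MatchS gens gensT) :
    ∀ ks : List ℕ, distinctT gensT ks = true → (ks.map (pcw gens)).Nodup := by
  intro ks
  induction ks with
  | nil => intro _; exact List.nodup_nil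
  | cons k ks ih =>
    intro hd
    simp only [distinctT, Bool.and_eq_true, List.all_eq_true, Bool.not_eq_true'] at hd
    rw [List.map_cons, List.nodup_cons]
    refine ⟨?_, ih hd.2⟩
    intro hmem
    rw [List.mem_map] at hmem
    obtain ⟨j, hj, hjk⟩ := hmem
    exact ne_of_matchS (matchS_pcw h k) (matchS_pcw h j) (hd.1 j hj) hjk.symm

/-- Lower bound for the order of a subgroup containing the generators. -/
theorem card_ge_of_distinctT [Finite ↥H] (S : Subgroup ↥H) {gens : List ↥H} {gensT : List (List ℕ)}
    (h : List.Forall₂ MatchS gens gensT) (hS : ∀ g ∈ gens, g ∈ S) (ks : List ℕ)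
    (hd : distinctT gensT ks = true) : ks.length ≤ Nat.card ↥S := by
  classical
  have hnd := pcw_injOn_of_distinctT h ks hd
  have hmem : ∀ x ∈ ks.map (pcw gens), x ∈ S := by
    intro x hx
    rw [List.mem_map] at hx
    obtain ⟨k, _, rfl⟩ := hx
    have h1 := pcw_mem_closure gens k
    have h2 : Subgroup.closure {x | x ∈ gens} ≤ S := by
      rw [Subgroup.closure_le]; exact fun x hx => hS x hx
    exact h2 h1
  have hsub : ((ks.map (pcw gens)).toFinset : Set ↥H) ⊆ (S : Set ↥H) := by
    intro x hx
    rw [Finset.mem_coe, List.mem_toFinset] at hx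
    exact hmem x hx
  have h1 := Set.ncard_le_ncard hsub (Set.toFinite _)
  rw [Set.ncard_coe_finset, List.toFinset_card_of_nodup hnd, List.length_map] at h1
  rw [← Nat.card_coe_set_eq] at h1
  exact h1

/-! ### Closures -/

theorem exists_tbl_of_mem {gens : List ↥H} {gensT : List (List ℕ)}
    (h : List.Forall₂ MatchS gens gensT) {s : ↥H} (hs : s ∈ gens) : ∃ g ∈ gensT, MatchS s g := by
  induction h with
  | nil => simp at hs
  | cons hab _ ih2 =>
    rcases List.mem_cons.mp hs with rfl | hs'
    · exact ⟨_, List.mem_cons_self, hab⟩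
    · obtain ⟨g, hg, hsg⟩ := ih2 hs'
      exact ⟨g, List.mem_cons_of_mem _ hg, hsg⟩

/-- All elements of the closure of `gens` have their table in the list `LT`. -/
theorem tbl_of_mem_closure [Finite ↥H] {gens : List ↥H} {gensT : List (List ℕ)}
    (h : List.Forall₂ MatchS gens gensT) (LT : List (List ℕ)) (h1 : idT ∈ LT)
    (hcl : ∀ g ∈ gensT, ∀ t ∈ LT, compT g t ∈ LT) :
    ∀ x ∈ Subgroup.closure {x | x ∈ gens}, ∃ t ∈ LT, MatchS x t := by
  intro x hx
  have hx' : x ∈ Submonoid.closure {x | x ∈ gens} := by
    rw [← Subgroup.closure_toSubmonoid_of_finite]; exact hx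
  clear hx
  induction hx' using Submonoid.closure_induction_left with
  | one => exact ⟨idT, h1, matchS_one⟩
  | mul_left s hs y _ ih =>
    obtain ⟨t, ht, hyt⟩ := ih
    have := exists_tbl_of_mem h hs
    obtain ⟨g, hg, hsg⟩ := this
    exact ⟨compT g t, hcl g hg t ht, matchS_mul hsg hyt⟩

/-- Bool version of the closure condition. -/
def closedT (gensT LT : List (List ℕ)) : Bool :=
  LT.contains idT && gensT.all fun g => LT.all fun t => LT.contains (compT g t)

theorem tbl_of_mem_closure' [Finite ↥H] {gens : List ↥H} {gensT : List (List ℕ)}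
    (h : List.Forall₂ MatchS gens gensT) (LT : List (List ℕ)) (hc : closedT gensT LT = true) :
    ∀ x ∈ Subgroup.closure {x | x ∈ gens}, ∃ t ∈ LT, MatchS x t := by
  simp only [closedT, Bool.and_eq_true, List.all_eq_true, List.contains_iff_mem] at hc
  exact tbl_of_mem_closure h LT hc.1 hc.2

/-- Upper bound for the order of a subgroup whose elements have their tables in `LT`. -/
theorem card_le_of_tbls [Finite ↥H] (S : Subgroup ↥H) (LT : List (List ℕ))
    (h : ∀ x ∈ S, ∃ t ∈ LT, MatchS x t) : Nat.card ↥S ≤ LT.length := by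
  classical
  have key : ∀ x : ↥S, ∃ i : Fin LT.length, MatchS (x : ↥H) (LT.get i) := by
    intro x
    obtain ⟨t, ht, hxt⟩ := h x x.2
    obtain ⟨i, hi⟩ := List.get_of_mem ht
    exact ⟨i, by rw [hi]; exact hxt⟩
  choose f hf using key
  have hinj : Function.Injective f := by
    intro x y hxy
    apply Subtype.ext
    have h1 := hf x
    have h2 := hf y
    rw [hxy] at h1
    exact eq_of_matchS h1 h2 (teq_of_forall fun _ _ => rfl)
  have := Nat.card_le_card_of_injective f hinj
  rwa [Nat.card_fin] at this

/-- Conjugation by `g` preserves the closure of `gens` as soon as it maps the generators into it. -/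
theorem conj_mem_closure {G : Type*} [Group G] {S : Set G} {g : G}
    (h : ∀ s ∈ S, g * s * g⁻¹ ∈ Subgroup.closure S) :
    ∀ x ∈ Subgroup.closure S, g * x * g⁻¹ ∈ Subgroup.closure S := by
  intro x hx
  have hle : Subgroup.closure S ≤ (Subgroup.closure S).comap (MulAut.conj g).toMonoidHom := by
    rw [Subgroup.closure_le]
    intro s hs
    rw [SetLike.mem_coe, Subgroup.mem_comap]
    simpa [MulAut.conj_apply] using h s hs
  have := hle hx
  rw [Subgroup.mem_comap] at this
  simpa [MulAut.conj_apply] using this

/-- `g` conjugates every generator to a word: Bool check on tables. -/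
def normT (gT : List ℕ) (gensT : List (List ℕ)) (M : ℕ) : Bool :=
  gensT.all fun s => (List.range M).any fun k => teq (compT gT s) (compT (pcwT gensT k) gT)

theorem conj_mem_of_normT [Finite ↥H] {gens : List ↥H} {gensT : List (List ℕ)}
    (h : List.Forall₂ MatchS gens gensT) {g : ↥H} {gT : List ℕ} (hg : MatchS g gT) (M : ℕ)
    (hn : normT gT gensT M = true) :
    ∀ x ∈ Subgroup.closure {x | x ∈ gens}, g * x * g⁻¹ ∈ Subgroup.closure {x | x ∈ gens} := by
  apply conj_mem_closure
  intro s hs
  have := exists_tbl_of_mem h hs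
  obtain ⟨sT, hsT, hss⟩ := this
  simp only [normT, List.all_eq_true, List.any_eq_true, List.mem_range] at hn
  obtain ⟨k, _, hk⟩ := hn sT hsT
  have e : g * s = pcw gens k * g :=
    eq_of_matchS (matchS_mul hg hss) (matchS_mul (matchS_pcw h k) hg) hk
  have : g * s * g⁻¹ = pcw gens k := by rw [e]; group
  rw [this]
  exact pcw_mem_closure gens k

end Cfsg.Agent.Lib.Helper7.Tbl
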