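/-
helper7, project ASCHU / sub-sheet U92 (helper99): the hypothesis `hnorm` of U92-[R9-NORM] / [CORE],
i.e. ASCHU-[GU32-NORM] in matrix form and for helper99's copies of `X3`, `Y3`, `R3set`.
-/
import Mathlib
import Cfsg.Agent.Lib.Helper70.AschU.Form
import Cfsg.Agent.Lib.Helper99.U92.Defs
import Cfsg.Agent.Lib.Helper7.AschUGU32Norm

set_option autoImplicit false

namespace Cfsg.Agent.Lib.Helper7.GU32

open Cfsg Cfsg.Agent.Lib.Helper70.AschU
open scoped Matrix MatrixGroups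

variable {F : Type*} [Field F] [Fintype F] {σ : F ≃+* F}

theorem R3set_eq (ω : F) : Cfsg.Agent.Lib.Helper99.U92.R3set ω = Cfsg.Agent.Lib.Helper70.AschU.R3set ω := rfl

/-- `hnorm` of helper99's U92 sub-sheet: unitary `3 × 3` matrices over the field with four elements normalise `R3set`. -/
theorem hnorm_U92 (hσ : UCtx σ 2) (ω : F) (hω : ω ^ 2 + ω + 1 = 0) :
    ∀ a : GL (Fin 3) F, Cfsg.Agent.Lib.Helper99.U92.IsU σ (a : Matrix (Fin 3) (Fin 3) F) →
      ∀ m ∈ Cfsg.Agent.Lib.Helper99.U92.R3set ω,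
        (a : Matrix (Fin 3) (Fin 3) F) * m * ((a⁻¹ : GL (Fin 3) F) : Matrix (Fin 3) (Fin 3) F) ∈
          Cfsg.Agent.Lib.Helper99.U92.R3set ω := by
  intro a ha m hm
  have hg : a ∈ GU 3 F 2 := (mem_GU_iff_matrix hσ a).mpr ha
  rw [R3set_eq] at hm ⊢
  exact conj_mem_R3set hσ.card ω hω a hg m hm

end Cfsg.Agent.Lib.Helper7.GU32
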